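import Mathlib.AlgebraicGeometry.IdealSheaf.Subscheme
import Mathlib.AlgebraicGeometry.Properties
import Mathlib.AlgebraicGeometry.Morphisms.ClosedImmersion
import Mathlib.AlgebraicGeometry.Morphisms.Immersion

set_option autoImplicit false
universe u

namespace Groth.Agent.Lib.Helper19

open AlgebraicGeometry CategoryTheory

/-- The closed subscheme cut out by `I` is reduced iff all `I(U)` are radical ideals. -/
theorem isReduced_subscheme_iff {X : Scheme.{u}} (I : X.IdealSheafData) :
    IsReduced I.subscheme ↔ ∀ U : X.affineOpens, (I.ideal U).IsRadical := by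
  rw [IsReduced.iff_of_openCover _ I.subschemeCover.openCover]
  change (∀ U : X.affineOpens, IsReduced (Spec (.of (Γ(X, U) ⧸ I.ideal U)))) ↔ _
  refine forall_congr' fun U => ?_
  rw [affine_isReduced_iff, Ideal.isRadical_iff_quotient_reduced]

/-- The reduced induced closed subscheme structure on a closed subset is reduced. -/
theorem isReduced_subscheme_vanishingIdeal {X : Scheme.{u}} (Z : TopologicalSpace.Closeds X) :
    IsReduced (Scheme.IdealSheafData.vanishingIdeal Z).subscheme := by
  rw [isReduced_subscheme_iff]
  intro U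
  rw [Scheme.IdealSheafData.vanishingIdeal_ideal]
  exact PrimeSpectrum.isRadical_vanishingIdeal _

/-- A morphism from a reduced scheme whose set-theoretic image lies in a closed subscheme factors
through it. -/
theorem exists_lift_of_isReduced_of_range_subset
    {X Y Z : Scheme.{u}} [IsReduced X] (f : X ⟶ Y) (j : Z ⟶ Y) [IsClosedImmersion j]
    (h : Set.range f ⊆ Set.range j) :
    ∃ g : X ⟶ Z, g ≫ j = f := by
  refine ⟨IsClosedImmersion.lift j f ?_, IsClosedImmersion.lift_fac _ _ _⟩
  refine Scheme.IdealSheafData.le_ofIdeals_iff.mpr fun U s hs ↦ ?_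
  have hs' : (j.app U).hom s = 0 := RingHom.mem_ker.mp (j.ideal_ker_le U hs)
  rw [RingHom.mem_ker, ← basicOpen_eq_bot_iff, ← Scheme.preimage_basicOpen]
  ext x
  simp only [TopologicalSpace.Opens.coe_bot, Set.mem_empty_iff_false, iff_false]
  intro hx
  obtain ⟨z, hz⟩ := h ⟨x, rfl⟩
  have hz' : z ∈ j ⁻¹ᵁ Y.basicOpen s := by
    change j z ∈ Y.basicOpen s
    rw [hz]; exact hx
  rw [Scheme.preimage_basicOpen, hs', Scheme.basicOpen_zero] at hz'
  exact hz'

/-- An immersion with dense range into a reduced scheme is an open immersion. -/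
theorem isOpenImmersion_of_isImmersion_of_denseRange {Z W : Scheme.{u}} (j : Z ⟶ W)
    [IsImmersion j] [IsReduced W] (hd : DenseRange j) : IsOpenImmersion j := by
  have hcob : coborder (Set.range j) = Set.range j := by
    rw [coborder_eq_union_closure_compl, hd.closure_eq]
    simp
  have : Surjective j.liftCoborder := by
    constructor
    rintro ⟨p, hp⟩
    have hp' : p ∈ Set.range j := by
      rw [← hcob]; exact hp
    obtain ⟨z, rfl⟩ := hp'
    refine ⟨z, j.coborderRange.ι.isOpenEmbedding.injective ?_⟩
    rw [← Scheme.Hom.comp_apply, j.liftCoborder_ι]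
    rfl
  have : IsIso j.liftCoborder := isIso_of_isClosedImmersion_of_surjective _
  rw [← j.liftCoborder_ι]
  infer_instance

end Groth.Agent.Lib.Helper19
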