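import Groth.Agent.Lib.Helper28.TensCx2

/-!
# K-flatness and extension of scalars

For `φ : R →+* R'`, `L` a complex of `R'`-modules and `K` a complex of `R`-modules, we compare
(degreewise, additively and compatibly with the differentials) the complexes
`(L restricted to R) ⊗_R K` and `L ⊗_{R'} (R' ⊗_R K)`, and deduce that extension of scalars
preserves K-flat complexes.
-/

set_option autoImplicit false
universe u
open CategoryTheory CategoryTheory.Limits Category MonoidalCategory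
open ChangeOfRings

namespace Groth.Agent.Helper19.KFlatExt

open Groth.Agent.Lib.Helper28

variable {R R' : Type u} [CommRing R] [CommRing R'] (φ : R →+* R')

section Cmp

variable (N : ModuleCat.{u} R') (M : ModuleCat.{u} R)

/-- `s ⊗ y` in `R' ⊗_R M`. -/
noncomputable def et (s : R') (y : M) : (ModuleCat.extendScalars φ).obj M := s ⊗ₜ[R,φ] y

variable {M} in
lemma et_add (s : R') (y₁ y₂ : M) : et φ M s (y₁ + y₂) = et φ M s y₁ + et φ M s y₂ :=
  TensorProduct.tmul_add _ _ _

variable {M} in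
lemma add_et (s₁ s₂ : R') (y : M) : et φ M (s₁ + s₂) y = et φ M s₁ y + et φ M s₂ y :=
  TensorProduct.add_tmul _ _ _

variable {M} in
lemma smul_et (s s' : R') (y : M) : s • et φ M s' y = et φ M (s * s') y :=
  ModuleCat.ExtendScalars.smul_tmul φ s s' y

variable {M} in
lemma et_smul (a : R) (s : R') (y : M) : et φ M s (a • y) = et φ M (φ a * s) y := by
  letI : Module R R' := Module.compHom _ φ
  show s ⊗ₜ[R] (a • y) = (a • s) ⊗ₜ[R] y
  rw [TensorProduct.tmul_smul, TensorProduct.smul_tmul']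

variable {N} in
/-- `x ⊗ w` in `N ⊗_{R'} (R' ⊗_R M)`. -/
noncomputable def tm (x : N) (w : (ModuleCat.extendScalars φ).obj M) :
    (N ⊗ (ModuleCat.extendScalars φ).obj M : ModuleCat R') := x ⊗ₜ[R'] w

variable {N M} in
lemma tm_add (x : N) (w₁ w₂ : (ModuleCat.extendScalars φ).obj M) :
    tm φ M x (w₁ + w₂) = tm φ M x w₁ + tm φ M x w₂ := TensorProduct.tmul_add _ _ _

variable {N M} in
lemma add_tm (x₁ x₂ : N) (w : (ModuleCat.extendScalars φ).obj M) :
    tm φ M (x₁ + x₂) w = tm φ M x₁ w + tm φ M x₂ w := TensorProduct.add_tmul _ _ _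

variable {N M} in
lemma smul_tm (s : R') (x : N) (w : (ModuleCat.extendScalars φ).obj M) :
    tm φ M (s • x) w = s • tm φ M x w := (TensorProduct.smul_tmul' s x w).symm

variable {N M} in
lemma tm_smul (s : R') (x : N) (w : (ModuleCat.extendScalars φ).obj M) :
    tm φ M x (s • w) = s • tm φ M x w := TensorProduct.tmul_smul s x w

/-- the comparison map `N|_R ⊗_R M ⟶ (N ⊗_{R'} (R' ⊗_R M))|_R`, `x ⊗ y ↦ x ⊗ (1 ⊗ y)`. -/
noncomputable def cmp : (ModuleCat.restrictScalars φ).obj N ⊗ M ⟶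
    (ModuleCat.restrictScalars φ).obj (N ⊗ (ModuleCat.extendScalars φ).obj M) :=
  ModuleCat.MonoidalCategory.tensorLift
    (fun (x : (ModuleCat.restrictScalars φ).obj N) (y : M) =>
      ((tm φ M (x : N) (et φ M 1 y) :
        (N ⊗ (ModuleCat.extendScalars φ).obj M : ModuleCat R')) :
          (ModuleCat.restrictScalars φ).obj (N ⊗ (ModuleCat.extendScalars φ).obj M)))
    (fun x₁ x₂ y => add_tm φ (x₁ : N) (x₂ : N) _)
    (fun a x y => smul_tm φ (φ a) (x : N) _)
    (fun x y₁ y₂ => by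
      rw [et_add]
      exact tm_add φ (x : N) _ _)
    (fun a x y => by
      rw [et_smul, ← smul_et]
      exact tm_smul φ (φ a) (x : N) _)

lemma cmp_tmul (x : N) (y : M) :
    (cmp φ N M).hom (((x : (ModuleCat.restrictScalars φ).obj N) ⊗ₜ[R] y :
      ((ModuleCat.restrictScalars φ).obj N ⊗ M : ModuleCat R))) =
      tm φ M x (et φ M 1 y) := rfl

set_option maxHeartbeats 400000 in
lemma cmp_bijective : Function.Bijective (cmp φ N M).hom := by
  letI : Algebra R R' := φ.toAlgebra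
  letI : Module R N := Module.compHom N φ
  haveI : IsScalarTower R R' N :=
    ⟨fun a s x => by show (φ a * s) • x = φ a • s • x; rw [mul_smul]⟩
  let e := TensorProduct.AlgebraTensorModule.cancelBaseChange R R' R' N M
  have h : ∀ z : TensorProduct R N M, (cmp φ N M).hom z = e.symm z := by
    intro z
    induction z using TensorProduct.induction_on with
    | zero => exact (map_zero (cmp φ N M).hom).trans (map_zero e.symm).symm
    | tmul x y => rfl
    | add z₁ z₂ h₁ h₂ =>
      exact (map_add (cmp φ N M).hom z₁ z₂).trans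
        ((congrArg₂ (· + ·) h₁ h₂).trans (map_add e.symm z₁ z₂).symm)
  constructor
  · intro z₁ z₂ hz
    exact e.symm.injective ((h z₁).symm.trans (hz.trans (h z₂)))
  · intro w
    obtain ⟨z, hz⟩ := e.symm.surjective w
    exact ⟨z, (h z).trans hz⟩

end Cmp

section Nat

variable {N N' : ModuleCat.{u} R'} {M M' : ModuleCat.{u} R}

lemma whiskerRight_cmp (g : N ⟶ N') (M : ModuleCat.{u} R) :
    ((ModuleCat.restrictScalars φ).map g ▷ M) ≫ cmp φ N' M =
      cmp φ N M ≫ (ModuleCat.restrictScalars φ).map (g ▷ (ModuleCat.extendScalars φ).obj M) := by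
  apply ModuleCat.MonoidalCategory.tensor_ext
  intro x y
  rfl

lemma whiskerLeft_cmp (N : ModuleCat.{u} R') (h : M ⟶ M') :
    ((ModuleCat.restrictScalars φ).obj N ◁ h) ≫ cmp φ N M' =
      cmp φ N M ≫ (ModuleCat.restrictScalars φ).map (N ◁ (ModuleCat.extendScalars φ).map h) := by
  apply ModuleCat.MonoidalCategory.tensor_ext
  intro x y
  rfl

end Nat

section Cx

variable (L : DRing.Cx R') (K : DRing.Cx R)

/-- the extension of scalars of a complex. -/
noncomputable abbrev extCx : DRing.Cx R' :=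
  ((ModuleCat.extendScalars φ).mapHomologicalComplex (ComplexShape.up ℤ)).obj K

/-- the restriction of scalars of a complex. -/
noncomputable abbrev resCx : DRing.Cx R :=
  ((ModuleCat.restrictScalars φ).mapHomologicalComplex (ComplexShape.up ℤ)).obj L

/-- the comparison map on the `(p, q)` summands. -/
noncomputable def cmpX (p q : ℤ) : (resCx φ L).X p ⊗ K.X q ⟶
    (ModuleCat.restrictScalars φ).obj (L.X p ⊗ (extCx φ K).X q) :=
  cmp φ (L.X p) (K.X q)

lemma cmpX_bijective (p q : ℤ) : Function.Bijective (cmpX φ L K p q).hom :=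
  cmp_bijective φ (L.X p) (K.X q)

lemma d_whiskerRight_cmpX (p p' q : ℤ) :
    ((resCx φ L).d p p' ▷ K.X q) ≫ cmpX φ L K p' q =
      cmpX φ L K p q ≫ (ModuleCat.restrictScalars φ).map (L.d p p' ▷ (extCx φ K).X q) :=
  whiskerRight_cmp φ (L.d p p') (K.X q)

lemma whiskerLeft_d_cmpX (p q q' : ℤ) :
    ((resCx φ L).X p ◁ K.d q q') ≫ cmpX φ L K p q' =
      cmpX φ L K p q ≫ (ModuleCat.restrictScalars φ).map (L.X p ◁ (extCx φ K).d q q') :=
  whiskerLeft_cmp φ (L.X p) (K.d q q')

/-- the comparison map `(L|_R ⊗_R K)^n ⟶ ((L ⊗_{R'} (R' ⊗_R K))^n)|_R`. -/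
noncomputable def θ (n : ℤ) : (resCx φ L ⊗ K).X n ⟶
    (ModuleCat.restrictScalars φ).obj ((L ⊗ extCx φ K).X n) :=
  HomologicalComplex.mapBifunctorDesc (fun p q h =>
    cmpX φ L K p q ≫ (ModuleCat.restrictScalars φ).map (TensCx.ι L (extCx φ K) p q n h))

lemma ι_θ (p q n : ℤ) (h : p + q = n) :
    TensCx.ι (resCx φ L) K p q n h ≫ θ φ L K n =
      cmpX φ L K p q ≫
        (ModuleCat.restrictScalars φ).map (TensCx.ι L (extCx φ K) p q n h) := by
  dsimp only [TensCx.ι, θ]
  erw [HomologicalComplex.ι_mapBifunctorDesc]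

lemma θ_d (n n' : ℤ) (hn' : n + 1 = n') :
    θ φ L K n ≫ (ModuleCat.restrictScalars φ).map ((L ⊗ extCx φ K).d n n') =
      (resCx φ L ⊗ K).d n n' ≫ θ φ L K n' := by
  apply TensCx.hom_ext
  intro p q hpq
  rw [← assoc, ι_θ, assoc, ← Functor.map_comp,
    TensCx.ι_d L (extCx φ K) p (p + 1) q (q + 1) n n' hpq hn' rfl rfl,
    ← assoc, TensCx.ι_d (resCx φ L) K p (p + 1) q (q + 1) n n' hpq hn' rfl rfl]
  rw [Functor.map_add, Preadditive.comp_add, Preadditive.add_comp]
  congr 1
  · rw [assoc, ι_θ, Functor.map_comp, ← assoc, ← assoc, d_whiskerRight_cmpX]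
  · rw [Functor.map_units_smul, Linear.comp_units_smul, Linear.units_smul_comp]
    congr 1
    rw [assoc, ι_θ, Functor.map_comp, ← assoc, ← assoc, whiskerLeft_d_cmpX]

lemma θ_proj (p q n : ℤ) (h : p + q = n) :
    θ φ L K n ≫ (ModuleCat.restrictScalars φ).map (TensCx.proj L (extCx φ K) p q n h) =
      TensCx.proj (resCx φ L) K p q n h ≫ cmpX φ L K p q := by
  apply TensCx.hom_ext
  intro p' q' h'
  rw [← assoc, ι_θ, assoc, ← Functor.map_comp, ← assoc]
  by_cases hp : p' = p
  · subst hp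
    obtain rfl : q' = q := by omega
    rw [TensCx.ι_proj_self, TensCx.ι_proj_self, CategoryTheory.Functor.map_id, comp_id, id_comp]
  · rw [TensCx.ι_proj_ne L (extCx φ K) p' q' p q n h' h hp,
      TensCx.ι_proj_ne (resCx φ L) K p' q' p q n h' h hp, Functor.map_zero, comp_zero, zero_comp]

lemma θ_ι_apply (p q n : ℤ) (h : p + q = n) (x : ↑((resCx φ L).X p ⊗ K.X q)) :
    (θ φ L K n).hom ((TensCx.ι (resCx φ L) K p q n h).hom x) =
      (TensCx.ι L (extCx φ K) p q n h).hom ((cmpX φ L K p q).hom x) :=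
  congr_arg (fun f => f.hom x) (ι_θ φ L K p q n h)

lemma proj_θ_apply (p q n : ℤ) (h : p + q = n) (x : ↑((resCx φ L ⊗ K).X n)) :
    (TensCx.proj L (extCx φ K) p q n h).hom ((θ φ L K n).hom x) =
      (cmpX φ L K p q).hom ((TensCx.proj (resCx φ L) K p q n h).hom x) :=
  congr_arg (fun f => f.hom x) (θ_proj φ L K p q n h)

lemma d_θ_apply (n n' : ℤ) (hn' : n + 1 = n') (x : ↑((resCx φ L ⊗ K).X n)) :
    ((L ⊗ extCx φ K).d n n').hom ((θ φ L K n).hom x) =
      (θ φ L K n').hom (((resCx φ L ⊗ K).d n n').hom x) :=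
  congr_arg (fun f => f.hom x) (θ_d φ L K n n' hn')

lemma θ_injective (n : ℤ) : Function.Injective (θ φ L K n).hom := by
  rw [injective_iff_map_eq_zero]
  intro x hx
  apply TensCx.eq_zero_of_proj_eq_zero
  intro p
  apply (cmpX_bijective φ L K p (n - p)).1
  rw [map_zero, ← proj_θ_apply, hx]
  exact map_zero (TensCx.proj L (extCx φ K) p (n - p) n (by omega)).hom

lemma θ_surjective (n : ℤ) (z : ↑((L ⊗ extCx φ K).X n)) :
    ∃ x : ↑((resCx φ L ⊗ K).X n), (θ φ L K n).hom x = z := by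
  obtain ⟨s, _, hz⟩ := TensCx.exists_finset_sum L (extCx φ K) n z
  choose b hb using fun p => (cmpX_bijective φ L K p (n - p)).2
    ((TensCx.proj L (extCx φ K) p (n - p) n (by omega)).hom z)
  refine ⟨∑ p ∈ s, (TensCx.ι (resCx φ L) K p (n - p) n (by omega)).hom (b p), ?_⟩
  rw [map_sum]
  conv_rhs => rw [hz]
  refine Finset.sum_congr rfl (fun p _ => ?_)
  rw [θ_ι_apply, hb]

lemma resCx_exactAt (hL : ∀ i, L.ExactAt i) (i : ℤ) : (resCx φ L).ExactAt i := by
  have h := hL i
  rw [HomologicalComplex.exactAt_iff' _ (i - 1) i (i + 1) (by simp) (by simp),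
    ShortComplex.moduleCat_exact_iff] at h ⊢
  intro x hx
  obtain ⟨w, hw⟩ := h x hx
  exact ⟨w, hw⟩

/-- **Extension of scalars preserves K-flat complexes.** -/
theorem exactAt_tensor_extCx
    (hK : ∀ L₀ : DRing.Cx R, (∀ i, L₀.ExactAt i) → ∀ i, (L₀ ⊗ K).ExactAt i)
    (hL : ∀ i, L.ExactAt i) (n : ℤ) : (L ⊗ extCx φ K).ExactAt n := by
  have h₀ := hK (resCx φ L) (resCx_exactAt φ L hL) n
  rw [HomologicalComplex.exactAt_iff' _ (n - 1) n (n + 1) (by simp) (by simp),
    ShortComplex.moduleCat_exact_iff] at h₀ ⊢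
  intro z hz
  obtain ⟨x, rfl⟩ := θ_surjective φ L K n z
  have hx : ((resCx φ L ⊗ K).d n (n + 1)).hom x = 0 := by
    apply θ_injective φ L K (n + 1)
    rw [← d_θ_apply φ L K n (n + 1) rfl, map_zero]
    exact hz
  obtain ⟨w, hw⟩ := h₀ x hx
  refine ⟨(θ φ L K (n - 1)).hom w, ?_⟩
  have := d_θ_apply φ L K (n - 1) n (by omega) w
  exact this.trans (congrArg (θ φ L K n).hom hw)

end Cx

end Groth.Agent.Helper19.KFlatExt
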