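import Mathlib

/-!
# Quasi-homeomorphisms and equivalences of sheaf categories (helper19)

Namespace `Groth.Agent.Helper19.QuasiHomeo`.  For `f : X₀ ⟶ X` continuous:

* `pullbackStalkIso` : `(f^* G)_x ≅ G_{f x}` (naturally), from uniqueness of adjoints and the
  skyscraper adjunction;
* `injective_of_isEquivalence`, `surjective_of_isEquivalence` : if `f^*` is an equivalence on
  `A`-valued sheaves and `A` has test sheaves, then `U ↦ f⁻¹ U` is bijective on opens;
* `testSheafType`, `testSheafAb` : test sheaves for `Type u` and `AddCommGrpCat`;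
* `pushforward_isEquivalence` : if `U ↦ f⁻¹ U` is bijective then `f_*` is an equivalence.
-/

set_option autoImplicit false
set_option linter.unusedSectionVars false
universe u
open CategoryTheory CategoryTheory.Limits TopologicalSpace Opposite

namespace Groth.Agent.Helper19.QuasiHomeo


variable {A : Type (u+1)} [Category.{u} A] {FA : A → A → Type*} {CA : A → Type u}
  [∀ X Y, FunLike (FA X Y) (CA X) (CA Y)] [ConcreteCategory.{u} A FA]
  [HasColimits A] [HasLimits A] [PreservesFilteredColimits (forget A)]
  [PreservesLimits (forget A)] [(forget A).ReflectsIsomorphisms]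

variable {X₀ X : TopCat.{u}} (f : X₀ ⟶ X)

open Classical in
/-- pushforward of a skyscraper sheaf is a skyscraper sheaf -/
noncomputable def skyPush (x₀ : X₀) :
    skyscraperSheafFunctor (C := A) x₀ ⋙ TopCat.Sheaf.pushforward A f ≅
      skyscraperSheafFunctor (C := A) (f x₀) :=
  Iso.refl _

/-- the stalk functor on sheaves -/
noncomputable abbrev Sx {Y : TopCat.{u}} (y : Y) : Y.Sheaf A ⥤ A :=
  TopCat.Sheaf.forget A Y ⋙ TopCat.Presheaf.stalkFunctor A y

open Classical in
/-- stalks of the pullback sheaf -/
noncomputable def pullbackStalkIso (x₀ : X₀) :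
    TopCat.Sheaf.pullback A f ⋙ Sx x₀ ≅ Sx (A := A) (f x₀) :=
  Adjunction.leftAdjointUniq
    ((TopCat.Sheaf.pullbackPushforwardAdjunction A f).comp (stalkSkyscraperSheafAdjunction x₀))
    ((stalkSkyscraperSheafAdjunction (C := A) (f x₀)).ofNatIsoRight (skyPush f x₀).symm)

/-- Lemma S: if `f^*` is an equivalence then stalks of `G'` and of `f_* G'` agree. -/
theorem nonempty_stalk_iso [(TopCat.Sheaf.pullback A f).IsEquivalence] (G' : X₀.Sheaf A)
    (x₀ : X₀) :
    Nonempty (G'.presheaf.stalk x₀ ≅ ((TopCat.Sheaf.pushforward A f).obj G').presheaf.stalk (f x₀)) := by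
  have adj := TopCat.Sheaf.pullbackPushforwardAdjunction A f
  have : (TopCat.Sheaf.pushforward A f).IsEquivalence :=
    adj.isEquivalence_right_of_isEquivalence_left
  have hε : IsIso (adj.counit.app G') := inferInstance
  let e1 : (Sx x₀).obj ((TopCat.Sheaf.pullback A f).obj ((TopCat.Sheaf.pushforward A f).obj G')) ≅
      (Sx x₀).obj G' := (Sx x₀).mapIso (asIso (adj.counit.app G'))
  let e2 := (pullbackStalkIso f x₀).app ((TopCat.Sheaf.pushforward A f).obj G')
  exact ⟨e1.symm ≪≫ e2⟩

/-- A test sheaf for an open `W` of `Y`: sections over opens inside `W` are unique, and there are two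
global sections which agree exactly on the opens inside `W`. -/
structure TestSheaf {Y : TopCat.{u}} (W : Opens Y) (H : Y.Sheaf A) where
  sub : ∀ W' : Opens Y, W' ≤ W → Subsingleton (ToType (H.1.obj (op W')))
  α : ToType (H.1.obj (op ⊤))
  β : ToType (H.1.obj (op ⊤))
  le_of_eq : ∀ W' : Opens Y, H.1.map (homOfLE (le_top : W' ≤ ⊤)).op α =
    H.1.map (homOfLE (le_top : W' ≤ ⊤)).op β → W' ≤ W

theorem TestSheaf.subsingleton_stalk {Y : TopCat.{u}} {W : Opens Y} {H : Y.Sheaf A}
    (T : TestSheaf W H) (y : Y) (hy : y ∈ W) : Subsingleton (ToType (H.presheaf.stalk y)) := by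
  constructor
  intro a b
  obtain ⟨U, hU, hyU, s, rfl⟩ := TopCat.Presheaf.exists_le_germ_eq H.1 a hy
  obtain ⟨V, hV, hyV, t, rfl⟩ := TopCat.Presheaf.exists_le_germ_eq H.1 b hy
  refine TopCat.Presheaf.germ_ext H.1 (U ⊓ V) ⟨hyU, hyV⟩ (homOfLE inf_le_left)
    (homOfLE inf_le_right) ?_
  have := T.sub (U ⊓ V) (inf_le_left.trans hU)
  exact Subsingleton.elim _ _

variable (hT : ∀ (Y : TopCat.{u}) (W : Opens Y), ∃ H : Y.Sheaf A, Nonempty (TestSheaf W H))

include hT in
theorem injective_of_isEquivalence [(TopCat.Sheaf.pullback A f).IsEquivalence] :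
    Function.Injective (fun U : Opens X => (Opens.map f).obj U) := by
  have adj := TopCat.Sheaf.pullbackPushforwardAdjunction A f
  have : (TopCat.Sheaf.pushforward A f).IsEquivalence :=
    adj.isEquivalence_right_of_isEquivalence_left
  have key : ∀ U V : Opens X, (Opens.map f).obj U = (Opens.map f).obj V → U ≤ V := by
    intro U V hUV
    obtain ⟨H, ⟨T⟩⟩ := hT X V
    obtain ⟨G', ⟨φ⟩⟩ := Functor.EssSurj.mem_essImage (F := TopCat.Sheaf.pushforward A f) H
    apply T.le_of_eq U
    have h1 : Subsingleton (ToType (H.1.obj (op (U ⊓ V)))) := T.sub _ inf_le_right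
    have h2 : (Opens.map f).obj (U ⊓ V) = (Opens.map f).obj U := by
      ext x
      constructor
      · intro hx
        exact hx.1
      · intro hx
        have hx' : x ∈ (Opens.map f).obj V := hUV ▸ hx
        exact ⟨hx, hx'⟩
    -- bijections
    have b1 : ∀ W : Opens X, Function.Bijective
        ((((TopCat.Sheaf.forget A X).mapIso φ).app (op W)).hom) := fun W =>
      ConcreteCategory.bijective_of_isIso _
    have h3 : Subsingleton (ToType (G'.1.obj (op ((Opens.map f).obj (U ⊓ V))))) :=
      ((Equiv.ofBijective _ (b1 (U ⊓ V))).subsingleton_congr).mpr h1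
    rw [h2] at h3
    have h4 : Subsingleton (ToType (H.1.obj (op U))) :=
      ((Equiv.ofBijective _ (b1 U)).subsingleton_congr).mp h3
    exact Subsingleton.elim _ _
  intro U V hUV
  exact le_antisymm (key U V hUV) (key V U hUV.symm)

include hT in
theorem surjective_of_isEquivalence [(TopCat.Sheaf.pullback A f).IsEquivalence] :
    Function.Surjective (fun U : Opens X => (Opens.map f).obj U) := by
  intro W
  obtain ⟨H, ⟨T⟩⟩ := hT X₀ W
  -- for each point of `W` a neighbourhood of its image with preimage inside `W`
  have key : ∀ x₀ : X₀, x₀ ∈ W → ∃ V : Opens X, f x₀ ∈ V ∧ (Opens.map f).obj V ≤ W := by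
    intro x₀ hx₀
    have hsub := T.subsingleton_stalk x₀ hx₀
    obtain ⟨e⟩ := nonempty_stalk_iso f H x₀
    have hsub' : Subsingleton
        (ToType (((TopCat.Sheaf.pushforward A f).obj H).presheaf.stalk (f x₀))) :=
      ((Equiv.ofBijective _ (ConcreteCategory.bijective_of_isIso e.hom)).subsingleton_congr).mp hsub
    -- the two sections over `⊤`
    let P := ((TopCat.Sheaf.pushforward A f).obj H).1
    let α' : ToType (P.obj (op ⊤)) := H.1.map (homOfLE (le_top : (Opens.map f).obj ⊤ ≤ ⊤)).op T.α
    let β' : ToType (P.obj (op ⊤)) := H.1.map (homOfLE (le_top : (Opens.map f).obj ⊤ ≤ ⊤)).op T.β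
    have htop : f x₀ ∈ (⊤ : Opens X) := trivial
    have hg : TopCat.Presheaf.germ P ⊤ (f x₀) htop α' = TopCat.Presheaf.germ P ⊤ (f x₀) htop β' :=
      Subsingleton.elim _ _
    obtain ⟨V, hxV, i1, i2, hV⟩ := TopCat.Presheaf.germ_eq P (f x₀) htop htop α' β' hg
    refine ⟨V, hxV, T.le_of_eq _ ?_⟩
    have e1 : ∀ γ : ToType (H.1.obj (op ⊤)),
        P.map i1.op (H.1.map (homOfLE (le_top : (Opens.map f).obj ⊤ ≤ ⊤)).op γ) =
        H.1.map (homOfLE (le_top : (Opens.map f).obj V ≤ ⊤)).op γ := by
      intro γ
      change H.1.map ((Opens.map f).map i1).op _ = _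
      rw [← ConcreteCategory.comp_apply, ← H.1.map_comp]
      rfl
    have e2 : i2 = i1 := Subsingleton.elim _ _
    rw [e2] at hV
    rw [← e1 T.α, ← e1 T.β]
    exact hV
  choose V hV1 hV2 using key
  refine ⟨⨆ (x₀ : W), V x₀.1 x₀.2, ?_⟩
  apply le_antisymm
  · intro x hx
    obtain ⟨x₀, hx₀⟩ := Opens.mem_iSup.mp (show f x ∈ ⨆ (x₀ : W), V x₀.1 x₀.2 from hx)
    exact hV2 x₀.1 x₀.2 hx₀
  · intro x hx
    exact Opens.mem_iSup.mpr ⟨⟨x, hx⟩, hV1 x hx⟩


section Types

variable {Y : TopCat.{u}} (W : Opens Y)

/-- the closed complement as a space -/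
abbrev Cpl : TopCat.{u} := TopCat.of ↥((W : Set Y)ᶜ)

/-- inclusion of the complement -/
def incl : Cpl W ⟶ Y := TopCat.ofHom ⟨Subtype.val, continuous_subtype_val⟩

/-- the sheaf of all `T₀`-valued functions on the complement of `W`, pushed forward to `Y` -/
noncomputable def funSheaf (T₀ : Type u) : Y.Sheaf (Type u) :=
  (TopCat.Sheaf.pushforward (Type u) (incl W)).obj (TopCat.sheafToType (Cpl W) T₀)

noncomputable def testSheafType : TestSheaf W (funSheaf W (ULift.{u} Bool)) where
  sub W' hW' := by
    have : IsEmpty ((Opens.map (incl W)).obj W') := by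
      constructor
      rintro ⟨c, hc⟩
      exact c.2 (hW' hc)
    change Subsingleton (((Opens.map (incl W)).obj W') → ULift.{u} Bool)
    infer_instance
  α := fun _ => ⟨true⟩
  β := fun _ => ⟨false⟩
  le_of_eq W' h := by
    intro y hy
    by_contra hyW
    let c : ((Opens.map (incl W)).obj W') := ⟨⟨y, hyW⟩, hy⟩
    have := congrFun h c
    exact Bool.noConfusion (congrArg ULift.down this)

end Types

section Ab

variable {Y : TopCat.{u}} (W : Opens Y)

/-- the presheaf of all `ℤ`-valued functions on the complement of `W`, as abelian groups -/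
noncomputable def funPresheafAb : Y.Presheaf AddCommGrpCat.{u} where
  obj W' := AddCommGrpCat.of (((Opens.map (incl W)).obj W'.unop) → ULift.{u} ℤ)
  map {W' W''} i := AddCommGrpCat.ofHom
    { toFun := fun g x => g ⟨x.1, ((Opens.map (incl W)).map i.unop).le x.2⟩
      map_zero' := rfl
      map_add' := fun _ _ => rfl }

theorem funPresheafAb_isSheaf : (funPresheafAb W).IsSheaf := by
  rw [TopCat.Presheaf.isSheaf_iff_isSheaf_comp (forget AddCommGrpCat.{u})]
  refine TopCat.Presheaf.isSheaf_of_iso ?_ (funSheaf W (ULift.{u} ℤ)).2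
  exact NatIso.ofComponents (fun _ => Iso.refl _) (fun _ => rfl)

/-- the sheaf of all `ℤ`-valued functions on the complement of `W` -/
noncomputable def funSheafAb : Y.Sheaf AddCommGrpCat.{u} := ⟨funPresheafAb W, funPresheafAb_isSheaf W⟩

noncomputable def testSheafAb : TestSheaf W (funSheafAb W) where
  sub W' hW' := by
    have : IsEmpty ((Opens.map (incl W)).obj W') := by
      constructor
      rintro ⟨c, hc⟩
      exact c.2 (hW' hc)
    change Subsingleton (((Opens.map (incl W)).obj W') → ULift.{u} ℤ)
    infer_instance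
  α := fun _ => ⟨1⟩
  β := fun _ => ⟨0⟩
  le_of_eq W' h := by
    intro y hy
    by_contra hyW
    let c : ((Opens.map (incl W)).obj W') := ⟨⟨y, hyW⟩, hy⟩
    have := congrFun h c
    exact one_ne_zero (congrArg ULift.down this)

end Ab




section Cocont

variable {Y Z : TopCat.{u}} (φ : Opens Y ≃o Opens Z)

/-- an order isomorphism of frames of opens is cocontinuous -/
theorem isCocontinuous_of_orderIso :
    (φ.monotone.functor).IsCocontinuous (Opens.grothendieckTopology Y)
      (Opens.grothendieckTopology Z) where
  cover_lift := by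
    intro U S hS
    -- the sup of the pulled back sieve
    let U' : Opens Y := ⨆ (V : {V : Opens Y // ∃ h : V ≤ U, S.arrows
      (φ.monotone.functor.map (homOfLE h))}), V.1
    have hU' : φ U' = φ U := by
      apply le_antisymm
      · apply φ.monotone
        exact iSup_le (fun V => V.2.1)
      · intro z hz
        obtain ⟨W, g, hg, hzW⟩ := hS z hz
        have hle : φ.symm W ≤ U := by
          rw [← φ.le_iff_le, φ.apply_symm_apply]
          exact g.le
        have hmem : S.arrows (φ.monotone.functor.map (homOfLE hle)) := by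
          have e1 : φ.monotone.functor.obj (φ.symm W) = W := φ.apply_symm_apply W
          have : S.arrows (eqToHom e1 ≫ g) := S.downward_closed hg _
          convert this using 0
          have : (φ.monotone.functor.map (homOfLE hle)) = eqToHom e1 ≫ g := Subsingleton.elim _ _
          rw [this]
        have : φ (φ.symm W) ≤ φ U' := by
          apply φ.monotone
          exact le_iSup (fun (V : {V : Opens Y // ∃ h : V ≤ U, S.arrows
            (φ.monotone.functor.map (homOfLE h))}) => V.1) ⟨φ.symm W, hle, hmem⟩
        rw [φ.apply_symm_apply] at this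
        exact this hzW
    have hUU : U' = U := φ.injective hU'
    intro y hy
    rw [← hUU] at hy
    obtain ⟨⟨V, hVU, hV⟩, hyV⟩ := Opens.mem_iSup.mp hy
    exact ⟨V, homOfLE hVU, hV, hyV⟩

end Cocont

section Equiv

variable {X₀ X : TopCat.{u}} (f : X₀ ⟶ X)
  (hf : Function.Bijective (fun U : Opens X => (Opens.map f).obj U))

/-- the order isomorphism of opens induced by a quasi-homeomorphism -/
noncomputable def opensOrderIso : Opens X ≃o Opens X₀ where
  toEquiv := Equiv.ofBijective _ hf
  map_rel_iff' := by
    intro U V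
    constructor
    · intro h
      have h1 : (Opens.map f).obj (U ⊓ V) = (Opens.map f).obj U := by
        apply le_antisymm
        · exact (Opens.map f).monotone inf_le_left
        · intro x hx
          exact ⟨hx, h hx⟩
      have h2 : U ⊓ V = U := hf.1 h1
      exact h2 ▸ inf_le_right
    · intro h
      exact (Opens.map f).monotone h

theorem opensOrderIso_apply (U : Opens X) : opensOrderIso f hf U = (Opens.map f).obj U := rfl

/-- the equivalence of categories of opens -/
noncomputable def opensEquivalence : Opens X ≌ Opens X₀ where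
  functor := Opens.map f
  inverse := (opensOrderIso f hf).symm.monotone.functor
  unitIso := NatIso.ofComponents (fun U => eqToIso
    (((opensOrderIso f hf).symm_apply_apply U).symm)) (fun _ => Subsingleton.elim _ _)
  counitIso := NatIso.ofComponents (fun U => eqToIso
    ((opensOrderIso f hf).apply_symm_apply U)) (fun _ => Subsingleton.elim _ _)
  functor_unitIso_comp _ := Subsingleton.elim _ _

variable (A : Type (u+1)) [Category.{u} A]

include hf in
theorem pushforward_isEquivalence : (TopCat.Sheaf.pushforward A f).IsEquivalence := by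
  let e := opensEquivalence f hf
  have : e.functor.IsCocontinuous (Opens.grothendieckTopology X) (Opens.grothendieckTopology X₀) := by
    have : e.functor = (opensOrderIso f hf).monotone.functor := rfl
    rw [this]
    exact isCocontinuous_of_orderIso _
  have : e.inverse.IsCocontinuous (Opens.grothendieckTopology X₀) (Opens.grothendieckTopology X) :=
    isCocontinuous_of_orderIso _
  have : e.inverse.IsDenseSubsite (Opens.grothendieckTopology X₀) (Opens.grothendieckTopology X) :=
    Equivalence.isDenseSubsite_inverse_of_isCocontinuous _ _ e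
  have : TopCat.Sheaf.pushforward A f =
      (e.sheafCongr (Opens.grothendieckTopology X) (Opens.grothendieckTopology X₀) A).inverse := rfl
  rw [this]
  exact (e.sheafCongr (Opens.grothendieckTopology X) (Opens.grothendieckTopology X₀) A).isEquivalence_inverse

end Equiv

end Groth.Agent.Helper19.QuasiHomeo
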