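import Mathlib
import Groth.Prelude.Def_LocCohZ
import Groth.Prelude.Def_CohPull
import Groth.Agent.Lib.Helper19.QuasiHomeo
import Groth.Agent.Lib.Helper38.ShCl

/-!
# `i_*` is left adjoint to `i⁻¹ Γ_Z` for a closed subset (helper19)

Namespace `Groth.Agent.Helper19.ClosedAdj`.
-/

set_option autoImplicit false
universe u
open CategoryTheory CategoryTheory.Limits TopologicalSpace Opposite

namespace Groth.Agent.Helper19.ClosedAdj

open Groth.Agent.Helper19.QuasiHomeo

variable {X : TopCat.{u}} (U : Opens X)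

/-- the adjunction for the open inclusion -/
noncomputable abbrev adjJ :=
  TopCat.Sheaf.pullbackPushforwardAdjunction AddCommGrpCat.{u} (CohCx.incl U)

/-- the adjunction for the closed inclusion -/
noncomputable abbrev adjI :=
  TopCat.Sheaf.pullbackPushforwardAdjunction AddCommGrpCat.{u} (CohCx.inclCompl U)

theorem isClosedEmbedding_inclCompl : Topology.IsClosedEmbedding (CohCx.inclCompl U) :=
  (isClosed_compl_iff.mpr U.isOpen).isClosedEmbedding_subtypeVal

instance full_push : (TopCat.Sheaf.pushforward AddCommGrpCat.{u} (CohCx.inclCompl U)).Full :=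
  Groth.Agent.Lib.Helper38.ShCl.full_pushforward _ (isClosedEmbedding_inclCompl U)

instance faithful_push :
    (TopCat.Sheaf.pushforward AddCommGrpCat.{u} (CohCx.inclCompl U)).Faithful :=
  Groth.Agent.Lib.Helper38.ShCl.faithful_pushforward _ (isClosedEmbedding_inclCompl U)

set_option pp.universes true in
instance isIso_counit : IsIso (adjI U).counit :=
  Adjunction.counit_isIso_of_R_fully_faithful _

/-- a sheaf has zero stalks on `U` -/
def ZeroOn (F : CohTop.Ab X) : Prop :=
  ∀ x ∈ U, IsZero ((Sx (A := AddCommGrpCat.{u}) x).obj F)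

theorem subsingleton_of_eq_bot {Y : TopCat.{u}} (G : CohTop.Ab Y) {W : Opens Y} (h : W = ⊥) :
    Subsingleton (G.obj.obj (op W)) := by
  have hT : IsTerminal (G.obj.obj (op W)) := TopCat.Sheaf.isTerminalOfEqEmpty G h
  have hZ : IsZero (G.obj.obj (op W)) := by
    have h0 : IsZero (⊤_ AddCommGrpCat.{u}) := (isZero_zero _).of_iso
      (terminalIsTerminal.uniqueUpToIso HasZeroObject.zeroIsTerminal)
    exact h0.of_iso (hT.uniqueUpToIso terminalIsTerminal)
  exact AddCommGrpCat.subsingleton_of_isZero hZ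

/-- a sheaf of abelian groups all of whose stalks vanish is zero -/
theorem isZero_of_stalks {Y : TopCat.{u}} (F : CohTop.Ab Y)
    (h : ∀ y : Y, IsZero ((Sx (A := AddCommGrpCat.{u}) y).obj F)) : IsZero F := by
  have hsub : ∀ V : Opens Y, Subsingleton (F.obj.obj (op V)) := by
    intro V
    refine ⟨fun s t => ?_⟩
    apply TopCat.Presheaf.section_ext F V s t
    intro y hy
    have : Subsingleton ↑((TopCat.Sheaf.presheaf F).stalk y) :=
      AddCommGrpCat.subsingleton_of_isZero (h y)
    exact Subsingleton.elim _ _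
  rw [IsZero.iff_id_eq_zero]
  apply ObjectProperty.hom_ext
  ext V : 2
  have := hsub V.unop
  apply AddCommGrpCat.hom_ext
  ext s
  exact Subsingleton.elim _ _

/-- the pushforward from the closed complement has zero stalks on `U` -/
theorem zeroOn_push (G : CohTop.Ab (TopCat.of ((U : Set X)ᶜ : Set X))) :
    ZeroOn U ((CohTop.push (CohCx.inclCompl U)).obj G) := by
  intro x hx
  set P := (CohTop.push (CohCx.inclCompl U)).obj G with hP
  have hsub : Subsingleton ↑((TopCat.Sheaf.presheaf P).stalk x) := by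
    have hz : ∀ t : ↑((TopCat.Sheaf.presheaf P).stalk x), t = 0 := by
      intro t
      obtain ⟨V, hxV, s, rfl⟩ := TopCat.Presheaf.exists_germ_eq (TopCat.Sheaf.presheaf P) t
      have hle : V ⊓ U ≤ V := inf_le_left
      have hxVU : x ∈ V ⊓ U := ⟨hxV, hx⟩
      rw [← TopCat.Presheaf.germ_res_apply (TopCat.Sheaf.presheaf P) (homOfLE hle) x hxVU s]
      have hbot : (Opens.map (CohCx.inclCompl U)).obj (V ⊓ U) = ⊥ := by
        ext z
        simp only [Opens.coe_bot, Set.mem_empty_iff_false, iff_false]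
        rintro ⟨-, hzU⟩
        exact z.2 hzU
      have hss : Subsingleton (P.obj.obj (op (V ⊓ U))) := subsingleton_of_eq_bot G hbot
      rw [Subsingleton.elim ((TopCat.Sheaf.presheaf P).map (homOfLE hle).op s) 0, map_zero]
    exact ⟨fun a b => (hz a).trans (hz b).symm⟩
  exact @AddCommGrpCat.isZero_of_subsingleton ((TopCat.Sheaf.presheaf P).stalk x) hsub

theorem additive_push {Y X : TopCat.{u}} (f : Y ⟶ X) : (CohTop.push f).Additive := inferInstance

/-- the pullback of a sheaf with zero stalks on the image is zero -/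
theorem isZero_pull {Y X : TopCat.{u}} (f : Y ⟶ X) (F : CohTop.Ab X)
    (hF : ∀ y : Y, IsZero ((Sx (A := AddCommGrpCat.{u}) (f y)).obj F)) :
    IsZero ((CohTop.pull f).obj F) := by
  apply isZero_of_stalks
  intro y
  exact (hF y).of_iso ((pullbackStalkIso (A := AddCommGrpCat.{u}) f y).app F)

/-- the target of the unit vanishes when `F` has zero stalks on the image -/
theorem isZero_push_pull {Y X : TopCat.{u}} (f : Y ⟶ X) (F : CohTop.Ab X)
    (hF : ∀ y : Y, IsZero ((Sx (A := AddCommGrpCat.{u}) (f y)).obj F)) :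
    IsZero ((CohTop.push f).obj ((CohTop.pull f).obj F)) := by
  have := additive_push f
  exact Functor.map_isZero _ (isZero_pull f F hF)

/-- morphisms from a sheaf with zero stalks on `U` are killed by the unit for `j` -/
theorem comp_unitJ_eq_zero {F' F : CohTop.Ab X} (hF' : ZeroOn U F') (φ : F' ⟶ F) :
    φ ≫ (adjJ U).unit.app F =
      (0 : F' ⟶ (CohTop.pull (CohCx.incl U) ⋙ CohTop.push (CohCx.incl U)).obj F) := by
  have h0 := isZero_push_pull (CohCx.incl U) F' (fun y => hF' _ y.2)
  have h2 : φ ≫ (adjJ U).unit.app F = (adjJ U).unit.app F' ≫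
      (CohTop.pull (CohCx.incl U) ⋙ CohTop.push (CohCx.incl U)).map φ :=
    (adjJ U).unit.naturality φ
  have h1 : (adjJ U).unit.app F' =
      (0 : F' ⟶ (CohTop.pull (CohCx.incl U) ⋙ CohTop.push (CohCx.incl U)).obj F') :=
    h0.eq_of_tgt _ _
  exact h2.trans ((congrArg
    (fun t => t ≫ (CohTop.pull (CohCx.incl U) ⋙ CohTop.push (CohCx.incl U)).map φ) h1).trans
      zero_comp)

section Typed

variable {Y : TopCat.{u}} (f : Y ⟶ X)

/-- the unit, typed in `CohTop.Ab` -/
noncomputable def eta (F : CohTop.Ab X) : F ⟶ (CohTop.push f).obj ((CohTop.pull f).obj F) :=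
  (TopCat.Sheaf.pullbackPushforwardAdjunction AddCommGrpCat.{u} f).unit.app F

/-- the counit, typed in `CohTop.Ab` -/
noncomputable def eps (G : CohTop.Ab Y) : (CohTop.pull f).obj ((CohTop.push f).obj G) ⟶ G :=
  (TopCat.Sheaf.pullbackPushforwardAdjunction AddCommGrpCat.{u} f).counit.app G

theorem eta_naturality {F F' : CohTop.Ab X} (φ : F ⟶ F') :
    φ ≫ eta f F' = eta f F ≫ (CohTop.push f).map ((CohTop.pull f).map φ) :=
  (TopCat.Sheaf.pullbackPushforwardAdjunction AddCommGrpCat.{u} f).unit.naturality φ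

theorem eps_naturality {G G' : CohTop.Ab Y} (ψ : G ⟶ G') :
    (CohTop.pull f).map ((CohTop.push f).map ψ) ≫ eps f G' = eps f G ≫ ψ :=
  (TopCat.Sheaf.pullbackPushforwardAdjunction AddCommGrpCat.{u} f).counit.naturality ψ

theorem left_triangle (F : CohTop.Ab X) :
    (CohTop.pull f).map (eta f F) ≫ eps f ((CohTop.pull f).obj F) = 𝟙 _ :=
  (TopCat.Sheaf.pullbackPushforwardAdjunction AddCommGrpCat.{u} f).left_triangle_components F

theorem right_triangle (G : CohTop.Ab Y) :
    eta f ((CohTop.push f).obj G) ≫ (CohTop.push f).map (eps f G) = 𝟙 _ :=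
  (TopCat.Sheaf.pullbackPushforwardAdjunction AddCommGrpCat.{u} f).right_triangle_components G

end Typed

/-- the inclusion `Γ_Z F ⟶ F` -/
noncomputable def iotaZ (F : CohTop.Ab X) : (LocCohZ.sectSuppF U).obj F ⟶ F :=
  kernel.ι (eta (CohCx.incl U) F)

instance (F : CohTop.Ab X) : Mono (iotaZ U F) := by
  unfold iotaZ; exact equalizer.ι_mono

theorem iotaZ_eta (F : CohTop.Ab X) : iotaZ U F ≫ eta (CohCx.incl U) F = 0 :=
  kernel.condition (eta (CohCx.incl U) F)

theorem pull_iotaZ_eq_zero (F : CohTop.Ab X) :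
    (CohTop.pull (CohCx.incl U)).map (iotaZ U F) = 0 := by
  have hadd := CohPull.additive_pull (CohCx.incl U)
  have h3 : (CohTop.pull (CohCx.incl U)).map (iotaZ U F) ≫
      (CohTop.pull (CohCx.incl U)).map (eta (CohCx.incl U) F) = 0 := by
    rw [← Functor.map_comp, iotaZ_eta, Functor.map_zero]
  have h4 := congrArg (fun t => t ≫ eps (CohCx.incl U) ((CohTop.pull (CohCx.incl U)).obj F)) h3
  simp only [Category.assoc, zero_comp] at h4
  rw [left_triangle, Category.comp_id] at h4
  exact h4

theorem Sx_map_zero {Y : TopCat.{u}} (y : Y) (F G : CohTop.Ab Y) :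
    (Sx (A := AddCommGrpCat.{u}) y).map (0 : F ⟶ G) = 0 := by
  have : (Sx (A := AddCommGrpCat.{u}) y).IsLeftAdjoint := inferInstance
  have : (Sx (A := AddCommGrpCat.{u}) y).PreservesZeroMorphisms :=
    Functor.preservesZeroMorphisms_of_isLeftAdjoint _
  exact Functor.map_zero _ _ _

theorem Sx_map_mono {Y : TopCat.{u}} (y : Y) {F G : CohTop.Ab Y} (φ : F ⟶ G) [Mono φ] :
    Mono ((Sx (A := AddCommGrpCat.{u}) y).map φ) := by
  have hpm : (Sx (A := AddCommGrpCat.{u}) y).PreservesMonomorphisms :=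
    TopCat.Presheaf.stalkFunctor_preserves_mono y
  have hφ : @Mono (TopCat.Sheaf AddCommGrpCat.{u} Y) _ F G φ := ‹Mono φ›
  exact hpm.preserves φ

/-- `Γ_Z F` has zero stalks on `U` -/
theorem zeroOn_sectSupp (F : CohTop.Ab X) : ZeroOn U ((LocCohZ.sectSuppF U).obj F) := by
  intro x hx
  let y : (TopCat.of U) := ⟨x, hx⟩
  have hnat := (pullbackStalkIso (A := AddCommGrpCat.{u}) (CohCx.incl U) y).hom.naturality
    (iotaZ U F)
  have hz : (Sx (A := AddCommGrpCat.{u}) x).map (iotaZ U F) = 0 := by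
    have h1 : (Sx (A := AddCommGrpCat.{u}) y).map ((CohTop.pull (CohCx.incl U)).map (iotaZ U F))
        = 0 := by
      rw [pull_iotaZ_eq_zero]
      exact Sx_map_zero y _ _
    have h2 : (pullbackStalkIso (A := AddCommGrpCat.{u}) (CohCx.incl U) y).hom.app
        ((LocCohZ.sectSuppF U).obj F) ≫ (Sx (A := AddCommGrpCat.{u}) x).map (iotaZ U F) = 0 := by
      refine hnat.symm.trans ?_
      change (Sx (A := AddCommGrpCat.{u}) y).map ((CohTop.pull (CohCx.incl U)).map (iotaZ U F))
        ≫ _ = 0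
      rw [h1, zero_comp]
    have hiso : IsIso ((pullbackStalkIso (A := AddCommGrpCat.{u}) (CohCx.incl U) y).hom.app
        ((LocCohZ.sectSuppF U).obj F)) :=
      ⟨(pullbackStalkIso (A := AddCommGrpCat.{u}) (CohCx.incl U) y).inv.app _,
        (pullbackStalkIso (A := AddCommGrpCat.{u}) (CohCx.incl U) y).hom_inv_id_app _,
        (pullbackStalkIso (A := AddCommGrpCat.{u}) (CohCx.incl U) y).inv_hom_id_app _⟩
    have hepi : Epi ((pullbackStalkIso (A := AddCommGrpCat.{u}) (CohCx.incl U) y).hom.app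
        ((LocCohZ.sectSuppF U).obj F)) := inferInstance
    exact (cancel_epi _).mp (h2.trans comp_zero.symm)
  have hmono : Mono ((Sx (A := AddCommGrpCat.{u}) x).map (iotaZ U F)) := Sx_map_mono x _
  exact IsZero.of_mono_eq_zero _ hz

instance isIso_eps (G : CohTop.Ab (TopCat.of ((U : Set X)ᶜ : Set X))) :
    IsIso (eps (CohCx.inclCompl U) G) := by
  unfold eps
  exact @NatIso.isIso_app_of_isIso _ _ _ _ _ _ (adjI U).counit (isIso_counit U) G

theorem isIso_pull_eta (F : CohTop.Ab X) :
    IsIso ((CohTop.pull (CohCx.inclCompl U)).map (eta (CohCx.inclCompl U) F)) := by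
  have h := left_triangle (CohCx.inclCompl U) F
  have : (CohTop.pull (CohCx.inclCompl U)).map (eta (CohCx.inclCompl U) F) =
      inv (eps (CohCx.inclCompl U) ((CohTop.pull (CohCx.inclCompl U)).obj F)) := by
    rw [← cancel_mono (eps (CohCx.inclCompl U) ((CohTop.pull (CohCx.inclCompl U)).obj F)), h,
      IsIso.inv_hom_id]
  rw [this]
  infer_instance

/-- the unit for `i` is an isomorphism on sheaves with zero stalks on `U` -/
theorem isIso_eta_of_zeroOn (F : CohTop.Ab X) (hF : ZeroOn U F) :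
    IsIso (eta (CohCx.inclCompl U) F) := by
  have hall : ∀ x : X, IsIso ((TopCat.Presheaf.stalkFunctor AddCommGrpCat.{u} x).map
      (eta (CohCx.inclCompl U) F).1) := by
    intro x
    by_cases hx : x ∈ U
    · have h1 := hF x hx
      have h2 := zeroOn_push U ((CohTop.pull (CohCx.inclCompl U)).obj F) x hx
      exact ⟨0, h1.eq_of_src _ _, h2.eq_of_src _ _⟩
    · let z : TopCat.of ((U : Set X)ᶜ : Set X) := ⟨x, hx⟩
      have hnat := (pullbackStalkIso (A := AddCommGrpCat.{u}) (CohCx.inclCompl U) z).hom.naturality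
        (eta (CohCx.inclCompl U) F)
      have hI : IsIso ((Sx (A := AddCommGrpCat.{u}) z).map
          ((CohTop.pull (CohCx.inclCompl U)).map (eta (CohCx.inclCompl U) F))) := by
        have h0 := isIso_pull_eta U F
        exact @Functor.map_isIso _ _ _ _ _ _ (Sx (A := AddCommGrpCat.{u}) z) _ h0
      have e1 : IsIso ((pullbackStalkIso (A := AddCommGrpCat.{u}) (CohCx.inclCompl U) z).hom.app F) :=
        ⟨(pullbackStalkIso (A := AddCommGrpCat.{u}) (CohCx.inclCompl U) z).inv.app _,
          (pullbackStalkIso (A := AddCommGrpCat.{u}) (CohCx.inclCompl U) z).hom_inv_id_app _,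
          (pullbackStalkIso (A := AddCommGrpCat.{u}) (CohCx.inclCompl U) z).inv_hom_id_app _⟩
      have e2 : IsIso ((pullbackStalkIso (A := AddCommGrpCat.{u}) (CohCx.inclCompl U) z).hom.app
          ((CohTop.push (CohCx.inclCompl U)).obj ((CohTop.pull (CohCx.inclCompl U)).obj F))) :=
        ⟨(pullbackStalkIso (A := AddCommGrpCat.{u}) (CohCx.inclCompl U) z).inv.app _,
          (pullbackStalkIso (A := AddCommGrpCat.{u}) (CohCx.inclCompl U) z).hom_inv_id_app _,
          (pullbackStalkIso (A := AddCommGrpCat.{u}) (CohCx.inclCompl U) z).inv_hom_id_app _⟩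
      have e3 : IsIso ((pullbackStalkIso (A := AddCommGrpCat.{u}) (CohCx.inclCompl U) z).hom.app F ≫
          (Sx (A := AddCommGrpCat.{u}) x).map (eta (CohCx.inclCompl U) F)) := by
        have e4 : IsIso ((Sx (A := AddCommGrpCat.{u}) z).map
          ((CohTop.pull (CohCx.inclCompl U)).map (eta (CohCx.inclCompl U) F)) ≫
          (pullbackStalkIso (A := AddCommGrpCat.{u}) (CohCx.inclCompl U) z).hom.app
          ((CohTop.push (CohCx.inclCompl U)).obj ((CohTop.pull (CohCx.inclCompl U)).obj F))) :=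
          IsIso.comp_isIso
        exact hnat ▸ e4
      exact @IsIso.of_isIso_comp_left _ _ _ _ _
        ((pullbackStalkIso (A := AddCommGrpCat.{u}) (CohCx.inclCompl U) z).hom.app F)
        ((Sx (A := AddCommGrpCat.{u}) x).map (eta (CohCx.inclCompl U) F)) e1 e3
  exact TopCat.Presheaf.isIso_of_stalkFunctor_map_iso _

/-- lift of a morphism from a sheaf with zero stalks on `U` to `Γ_Z F` -/
noncomputable def liftZ {F' F : CohTop.Ab X} (hF' : ZeroOn U F') (φ : F' ⟶ F) :
    F' ⟶ (LocCohZ.sectSuppF U).obj F :=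
  kernel.lift (eta (CohCx.incl U) F) φ (comp_unitJ_eq_zero U hF' φ)

theorem liftZ_iotaZ {F' F : CohTop.Ab X} (hF' : ZeroOn U F') (φ : F' ⟶ F) :
    liftZ U hF' φ ≫ iotaZ U F = φ :=
  kernel.lift_ι _ _ _

theorem sectSuppF_map_iotaZ {F F' : CohTop.Ab X} (h : F ⟶ F') :
    (LocCohZ.sectSuppF U).map h ≫ iotaZ U F' = iotaZ U F ≫ h :=
  kernel.lift_ι _ _ _

theorem liftZ_comp {F' F F'' : CohTop.Ab X} (hF' : ZeroOn U F') (φ : F' ⟶ F) (h : F ⟶ F'') :
    liftZ U hF' (φ ≫ h) = liftZ U hF' φ ≫ (LocCohZ.sectSuppF U).map h := by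
  rw [← cancel_mono (iotaZ U F''), liftZ_iotaZ, Category.assoc, sectSuppF_map_iotaZ,
    ← Category.assoc, liftZ_iotaZ]

/-- the right adjoint `F ↦ i⁻¹ Γ_Z F` -/
noncomputable abbrev RZ : CohTop.Ab X ⥤ CohTop.Ab (TopCat.of ((U : Set X)ᶜ : Set X)) :=
  LocCohZ.sectSuppF U ⋙ CohTop.pull (CohCx.inclCompl U)

/-- the unit `Γ_Z F ⟶ i_* i⁻¹ Γ_Z F` as an isomorphism -/
noncomputable def etaIso (F : CohTop.Ab X) :
    (LocCohZ.sectSuppF U).obj F ≅ (CohTop.push (CohCx.inclCompl U)).obj ((RZ U).obj F) :=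
  @asIso _ _ _ _ (eta (CohCx.inclCompl U) ((LocCohZ.sectSuppF U).obj F))
    (isIso_eta_of_zeroOn U _ (zeroOn_sectSupp U F))

theorem etaIso_hom (F : CohTop.Ab X) :
    (etaIso U F).hom = eta (CohCx.inclCompl U) ((LocCohZ.sectSuppF U).obj F) := rfl

theorem full_push' : (CohTop.push (CohCx.inclCompl U)).Full := full_push U

theorem faithful_push' : (CohTop.push (CohCx.inclCompl U)).Faithful := faithful_push U

/-- the hom-set bijection -/
noncomputable def homEquiv (G : CohTop.Ab (TopCat.of ((U : Set X)ᶜ : Set X))) (F : CohTop.Ab X) :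
    ((CohTop.push (CohCx.inclCompl U)).obj G ⟶ F) ≃ (G ⟶ (RZ U).obj F) :=
  haveI := full_push' U
  haveI := faithful_push' U
  { toFun := fun φ => (CohTop.push (CohCx.inclCompl U)).preimage
      (liftZ U (zeroOn_push U G) φ ≫ (etaIso U F).hom)
    invFun := fun ψ => (CohTop.push (CohCx.inclCompl U)).map ψ ≫ (etaIso U F).inv ≫ iotaZ U F
    left_inv := fun φ => by
      beta_reduce
      rw [Functor.map_preimage, Category.assoc, Iso.hom_inv_id_assoc, liftZ_iotaZ]
    right_inv := fun ψ => by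
      beta_reduce
      apply (CohTop.push (CohCx.inclCompl U)).map_injective
      rw [Functor.map_preimage, ← cancel_mono (etaIso U F).inv, Category.assoc, Iso.hom_inv_id,
        Category.comp_id, ← cancel_mono (iotaZ U F), liftZ_iotaZ, Category.assoc] }

theorem homEquiv_symm_apply (G : CohTop.Ab (TopCat.of ((U : Set X)ᶜ : Set X))) (F : CohTop.Ab X)
    (ψ : G ⟶ (RZ U).obj F) :
    (homEquiv U G F).symm ψ =
      (CohTop.push (CohCx.inclCompl U)).map ψ ≫ (etaIso U F).inv ≫ iotaZ U F := rfl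

theorem push_map_homEquiv (G : CohTop.Ab (TopCat.of ((U : Set X)ᶜ : Set X))) (F : CohTop.Ab X)
    (φ : (CohTop.push (CohCx.inclCompl U)).obj G ⟶ F) :
    (CohTop.push (CohCx.inclCompl U)).map (homEquiv U G F φ) =
      liftZ U (zeroOn_push U G) φ ≫ (etaIso U F).hom := by
  have := full_push' U
  have := faithful_push' U
  exact Functor.map_preimage _ _

/-- **`i_*` is left adjoint to `i⁻¹ Γ_Z`.** -/
noncomputable def adjunction :
    CohTop.push (CohCx.inclCompl U) ⊣ LocCohZ.sectSuppF U ⋙ CohTop.pull (CohCx.inclCompl U) :=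
  Adjunction.mkOfHomEquiv
    { homEquiv := homEquiv U
      homEquiv_naturality_left_symm := by
        intro G' G F g ψ
        rw [homEquiv_symm_apply, homEquiv_symm_apply, Functor.map_comp, Category.assoc]
      homEquiv_naturality_right := by
        intro G F F' φ h
        have := faithful_push' U
        apply (CohTop.push (CohCx.inclCompl U)).map_injective
        rw [Functor.map_comp, push_map_homEquiv, push_map_homEquiv, liftZ_comp, Category.assoc,
          Category.assoc, etaIso_hom, etaIso_hom, eta_naturality]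
        rfl }

end Groth.Agent.Helper19.ClosedAdj
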