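import Mathlib
import Groth.Agent.Lib.Helper19.ClosedAdj

/-!
# Pushforward of abelian sheaves along a closed embedding (helper19)

Namespace `Groth.Agent.Helper19.ClosedEmb`: for a closed embedding `i : Z ⟶ X`, `i_*` is fully
faithful and exact on abelian sheaves, its essential image consists of the sheaves with zero stalks
outside `i(Z)`, and `i⁻¹ i_* ≅ 𝟭`.
-/

set_option autoImplicit false
universe u
open CategoryTheory CategoryTheory.Limits TopologicalSpace Opposite

namespace Groth.Agent.Helper19.ClosedEmb

open Groth.Agent.Helper19.QuasiHomeo Groth.Agent.Helper19.ClosedAdj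

variable {Z X : TopCat.{u}} (i : Z ⟶ X) (hi : Topology.IsClosedEmbedding i)

include hi in
theorem full_push : (CohTop.push i).Full :=
  Groth.Agent.Lib.Helper38.ShCl.full_pushforward i hi

include hi in
theorem faithful_push : (CohTop.push i).Faithful :=
  Groth.Agent.Lib.Helper38.ShCl.faithful_pushforward i hi

include hi in
theorem isIso_counit :
    IsIso (TopCat.Sheaf.pullbackPushforwardAdjunction AddCommGrpCat.{u} i).counit := by
  have : (TopCat.Sheaf.pushforward AddCommGrpCat.{u} i).Full :=
    Groth.Agent.Lib.Helper38.ShCl.full_pushforward i hi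
  have : (TopCat.Sheaf.pushforward AddCommGrpCat.{u} i).Faithful :=
    Groth.Agent.Lib.Helper38.ShCl.faithful_pushforward i hi
  exact Adjunction.counit_isIso_of_R_fully_faithful _

include hi in
theorem isIso_eps (G : CohTop.Ab Z) : IsIso (eps i G) := by
  unfold eps
  exact @NatIso.isIso_app_of_isIso _ _ _ _ _ _
    (TopCat.Sheaf.pullbackPushforwardAdjunction AddCommGrpCat.{u} i).counit (isIso_counit i hi) G

include hi in
/-- the pushforward has zero stalks outside the image -/
theorem isZero_stalk_push (G : CohTop.Ab Z) (x : X) (hx : x ∉ Set.range i) :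
    IsZero ((Sx (A := AddCommGrpCat.{u}) x).obj ((CohTop.push i).obj G)) := by
  set P := (CohTop.push i).obj G with hP
  let U : Opens X := ⟨(Set.range i)ᶜ, hi.isClosed_range.isOpen_compl⟩
  have hxU : x ∈ U := hx
  have hsub : Subsingleton ↑((TopCat.Sheaf.presheaf P).stalk x) := by
    have hz : ∀ t : ↑((TopCat.Sheaf.presheaf P).stalk x), t = 0 := by
      intro t
      obtain ⟨V, hxV, s, rfl⟩ := TopCat.Presheaf.exists_germ_eq (TopCat.Sheaf.presheaf P) t
      have hle : V ⊓ U ≤ V := inf_le_left
      have hxVU : x ∈ V ⊓ U := ⟨hxV, hxU⟩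
      rw [← TopCat.Presheaf.germ_res_apply (TopCat.Sheaf.presheaf P) (homOfLE hle) x hxVU s]
      have hbot : (Opens.map i).obj (V ⊓ U) = ⊥ := by
        ext z
        simp only [Opens.coe_bot, Set.mem_empty_iff_false, iff_false]
        rintro ⟨-, hzU⟩
        exact hzU ⟨z, rfl⟩
      have hss : Subsingleton (P.obj.obj (op (V ⊓ U))) := subsingleton_of_eq_bot G hbot
      rw [Subsingleton.elim ((TopCat.Sheaf.presheaf P).map (homOfLE hle).op s) 0, map_zero]
    exact ⟨fun a b => (hz a).trans (hz b).symm⟩
  exact @AddCommGrpCat.isZero_of_subsingleton ((TopCat.Sheaf.presheaf P).stalk x) hsub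

include hi in
theorem isIso_pull_eta (F : CohTop.Ab X) : IsIso ((CohTop.pull i).map (eta i F)) := by
  have h := left_triangle i F
  have := isIso_eps i hi ((CohTop.pull i).obj F)
  have : (CohTop.pull i).map (eta i F) = inv (eps i ((CohTop.pull i).obj F)) := by
    rw [← cancel_mono (eps i ((CohTop.pull i).obj F)), h, IsIso.inv_hom_id]
  rw [this]
  infer_instance

theorem isIso_app_hom (z : Z) (F : CohTop.Ab X) :
    IsIso ((pullbackStalkIso (A := AddCommGrpCat.{u}) i z).hom.app F) :=
  ⟨(pullbackStalkIso (A := AddCommGrpCat.{u}) i z).inv.app _,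
    (pullbackStalkIso (A := AddCommGrpCat.{u}) i z).hom_inv_id_app _,
    (pullbackStalkIso (A := AddCommGrpCat.{u}) i z).inv_hom_id_app _⟩

include hi in
/-- the unit is an isomorphism on sheaves with zero stalks outside the image -/
theorem isIso_eta_of_isZero (F : CohTop.Ab X)
    (hF : ∀ x : X, x ∉ Set.range i → IsZero ((Sx (A := AddCommGrpCat.{u}) x).obj F)) :
    IsIso (eta i F) := by
  have hall : ∀ x : X, IsIso ((TopCat.Presheaf.stalkFunctor AddCommGrpCat.{u} x).map
      (eta i F).1) := by
    intro x
    by_cases hx : x ∈ Set.range i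
    · obtain ⟨z, rfl⟩ := hx
      have hnat := (pullbackStalkIso (A := AddCommGrpCat.{u}) i z).hom.naturality (eta i F)
      have hI : IsIso ((Sx (A := AddCommGrpCat.{u}) z).map ((CohTop.pull i).map (eta i F))) := by
        have h0 := isIso_pull_eta i hi F
        exact @Functor.map_isIso _ _ _ _ _ _ (Sx (A := AddCommGrpCat.{u}) z) _ h0
      have e1 := isIso_app_hom i z F
      have e2 := isIso_app_hom i z ((CohTop.push i).obj ((CohTop.pull i).obj F))
      have e3 : IsIso ((pullbackStalkIso (A := AddCommGrpCat.{u}) i z).hom.app F ≫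
          (Sx (A := AddCommGrpCat.{u}) (i z)).map (eta i F)) := by
        have e4 : IsIso ((Sx (A := AddCommGrpCat.{u}) z).map ((CohTop.pull i).map (eta i F)) ≫
          (pullbackStalkIso (A := AddCommGrpCat.{u}) i z).hom.app
          ((CohTop.push i).obj ((CohTop.pull i).obj F))) := IsIso.comp_isIso
        exact hnat ▸ e4
      exact @IsIso.of_isIso_comp_left _ _ _ _ _
        ((pullbackStalkIso (A := AddCommGrpCat.{u}) i z).hom.app F)
        ((Sx (A := AddCommGrpCat.{u}) (i z)).map (eta i F)) e1 e3
    · have h1 := hF x hx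
      have h2 := isZero_stalk_push i hi ((CohTop.pull i).obj F) x hx
      exact ⟨0, h1.eq_of_src _ _, h2.eq_of_src _ _⟩
  exact TopCat.Presheaf.isIso_of_stalkFunctor_map_iso _

include hi in
/-- the essential image of `i_*` -/
theorem essImage_iff (F : CohTop.Ab X) :
    (CohTop.push i).essImage F ↔
      ∀ x : X, x ∉ Set.range i → IsZero (CohTop.stalk F x) := by
  constructor
  · rintro ⟨G, ⟨e⟩⟩ x hx
    exact (isZero_stalk_push i hi G x hx).of_iso ((Sx (A := AddCommGrpCat.{u}) x).mapIso e.symm)
  · intro hF
    have := isIso_eta_of_isZero i hi F hF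
    exact ⟨(CohTop.pull i).obj F, ⟨(asIso (eta i F)).symm⟩⟩

section Epi

variable {Y : TopCat.{u}}

theorem Sx_isLeftAdjoint (y : Y) : (Sx (A := AddCommGrpCat.{u}) y).IsLeftAdjoint := inferInstance

theorem Sx_map_epi (y : Y) {F G : CohTop.Ab Y} (φ : F ⟶ G) [Epi φ] :
    Epi ((Sx (A := AddCommGrpCat.{u}) y).map φ) := by
  have := Sx_isLeftAdjoint y
  have hpe : (Sx (A := AddCommGrpCat.{u}) y).PreservesEpimorphisms := inferInstance
  have hφ : @Epi (TopCat.Sheaf AddCommGrpCat.{u} Y) _ F G φ := ‹Epi φ›
  exact hpe.preserves φ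

/-- a morphism of abelian sheaves which is an epimorphism on all stalks is an epimorphism -/
theorem epi_of_stalk_epi {F G : CohTop.Ab Y} (ψ : F ⟶ G)
    (h : ∀ y : Y, Epi ((Sx (A := AddCommGrpCat.{u}) y).map ψ)) : Epi ψ := by
  apply Preadditive.epi_of_isZero_cokernel
  apply isZero_of_stalks
  intro y
  have := Sx_isLeftAdjoint y
  have hpz : (Sx (A := AddCommGrpCat.{u}) y).PreservesZeroMorphisms :=
    Functor.preservesZeroMorphisms_of_isLeftAdjoint _
  have hc : PreservesColimitsOfSize.{0, 0} (Sx (A := AddCommGrpCat.{u}) y) :=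
    (Adjunction.ofIsLeftAdjoint (Sx (A := AddCommGrpCat.{u}) y)).leftAdjoint_preservesColimits
  have hpc : PreservesColimit (parallelPair ψ 0) (Sx (A := AddCommGrpCat.{u}) y) :=
    hc.preservesColimitsOfShape.preservesColimit
  have := h y
  exact (isZero_cokernel_of_epi ((Sx (A := AddCommGrpCat.{u}) y).map ψ)).of_iso
    (PreservesCokernel.iso (Sx (A := AddCommGrpCat.{u}) y) ψ)

end Epi

include hi in
/-- `i_*` preserves epimorphisms -/
theorem epi_push_map {G G' : CohTop.Ab Z} (φ : G ⟶ G') [Epi φ] :
    Epi ((CohTop.push i).map φ) := by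
  apply epi_of_stalk_epi
  intro x
  by_cases hx : x ∈ Set.range i
  · obtain ⟨z, rfl⟩ := hx
    have hnat := (pullbackStalkIso (A := AddCommGrpCat.{u}) i z).hom.naturality
      ((CohTop.push i).map φ)
    have hε := eps_naturality i φ
    have i1 := isIso_eps i hi G
    have i2 := isIso_eps i hi G'
    have h1 : Epi ((CohTop.pull i).map ((CohTop.push i).map φ)) := by
      have : (CohTop.pull i).map ((CohTop.push i).map φ) = eps i G ≫ φ ≫ inv (eps i G') := by
        rw [← Category.assoc, ← hε, Category.assoc, IsIso.hom_inv_id, Category.comp_id]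
      rw [this]
      infer_instance
    have h2 : Epi ((Sx (A := AddCommGrpCat.{u}) z).map
        ((CohTop.pull i).map ((CohTop.push i).map φ))) := Sx_map_epi z _
    have e1 := isIso_app_hom i z ((CohTop.push i).obj G)
    have e2 := isIso_app_hom i z ((CohTop.push i).obj G')
    have h3 : Epi ((pullbackStalkIso (A := AddCommGrpCat.{u}) i z).hom.app ((CohTop.push i).obj G) ≫
        (Sx (A := AddCommGrpCat.{u}) (i z)).map ((CohTop.push i).map φ)) := by
      have h4 : Epi ((Sx (A := AddCommGrpCat.{u}) z).map
          ((CohTop.pull i).map ((CohTop.push i).map φ)) ≫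
          (pullbackStalkIso (A := AddCommGrpCat.{u}) i z).hom.app ((CohTop.push i).obj G')) :=
        epi_comp _ _
      exact hnat ▸ h4
    exact @epi_of_epi _ _ _ _ _
      ((pullbackStalkIso (A := AddCommGrpCat.{u}) i z).hom.app ((CohTop.push i).obj G))
      ((Sx (A := AddCommGrpCat.{u}) (i z)).map ((CohTop.push i).map φ)) h3
  · have h2 := isZero_stalk_push i hi G' x hx
    exact ⟨fun g h _ => h2.eq_of_src g h⟩

include hi in
/-- `i_*` is right exact -/
theorem preservesFiniteColimits_push : PreservesFiniteColimits (CohTop.push i) := by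
  have hadd := additive_push i
  have hR : PreservesLimitsOfSize.{0, 0} (CohTop.push i) :=
    (TopCat.Sheaf.pullbackPushforwardAdjunction AddCommGrpCat.{u} i).rightAdjoint_preservesLimits
  have hfl : PreservesFiniteLimits (CohTop.push i) :=
    PreservesLimitsOfSize.preservesFiniteLimits _
  rw [Functor.preservesFiniteColimits_iff_forall_exact_map_and_epi]
  intro S hS
  have hex := (Functor.preservesFiniteLimits_iff_forall_exact_map_and_mono (CohTop.push i)).mp
    hfl S hS
  have := hS.epi_g
  exact ⟨hex.1, epi_push_map i hi S.g⟩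

end Groth.Agent.Helper19.ClosedEmb
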