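import Mathlib
import Groth.Agent.Lib.Helper19.ClosedEmb
import Groth.Agent.Lib.Helper30.ModSAFT

/-!
# Pushforward along a closed embedding preserves colimits (helper19)

Namespace `Groth.Agent.Helper19.ClosedColim`.
* `preservesColimitsOfShape_of_stalks`: a functor between categories of abelian sheaves preserves
  colimits of a given shape as soon as all its compositions with stalk functors do.
* `preservesColimits_push`: for a closed embedding `i`, `i_*` on abelian sheaves preserves colimits.
* `isLeftAdjoint_pushforward_of_isClosedImmersion`: for a closed immersion of schemes `i`, the functor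
  `i_*` on `O`-modules is a left adjoint.
-/

set_option autoImplicit false
universe u
open CategoryTheory CategoryTheory.Limits TopologicalSpace Opposite

namespace Groth.Agent.Helper19.ClosedColim

open Groth.Agent.Helper19.QuasiHomeo Groth.Agent.Helper19.ClosedAdj Groth.Agent.Helper19.ClosedEmb

section General

variable {Z X : TopCat.{u}}

theorem preservesColimitsOfShape_of_stalks {J : Type u} [SmallCategory J]
    (G : CohTop.Ab Z ⥤ CohTop.Ab X)
    (h : ∀ x : X, PreservesColimitsOfShape J (G ⋙ Sx (A := AddCommGrpCat.{u}) x)) :
    PreservesColimitsOfShape J G := by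
  constructor
  intro K
  constructor
  intro c hc
  constructor
  let c₀ := colimit.cocone (K ⋙ G)
  let d : c₀.pt ⟶ (G.mapCocone c).pt := colimit.desc (K ⋙ G) (G.mapCocone c)
  have hall : ∀ x : X, IsIso ((TopCat.Presheaf.stalkFunctor AddCommGrpCat.{u} x).map d.1) := by
    intro x
    have h1 : IsColimit ((Sx (A := AddCommGrpCat.{u}) x).mapCocone c₀) :=
      isColimitOfPreserves _ (colimit.isColimit _)
    have h2 : IsColimit ((G ⋙ Sx (A := AddCommGrpCat.{u}) x).mapCocone c) :=
      isColimitOfPreserves _ hc
    have e : (Sx (A := AddCommGrpCat.{u}) x).map d =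
        (h1.coconePointUniqueUpToIso
          (t := (Sx (A := AddCommGrpCat.{u}) x).mapCocone (G.mapCocone c)) h2).hom := by
      apply h1.hom_ext
      intro j
      rw [IsColimit.comp_coconePointUniqueUpToIso_hom]
      simp only [Functor.mapCocone_ι_app, ← Functor.map_comp]
      congr 1
      exact colimit.ι_desc _ _
    change IsIso ((Sx (A := AddCommGrpCat.{u}) x).map d)
    rw [e]
    infer_instance
  have hd : IsIso ((colimit.isColimit (K ⋙ G)).desc (G.mapCocone c)) :=
    TopCat.Presheaf.isIso_of_stalkFunctor_map_iso d
  exact IsColimit.ofPointIso (colimit.isColimit (K ⋙ G))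

end General

section Closed

variable {Z X : TopCat.{u}} (i : Z ⟶ X) (hi : Topology.IsClosedEmbedding i)

include hi in
/-- stalks of `i_* G` at points of the image -/
noncomputable def pushStalkIso (z : Z) :
    CohTop.push i ⋙ Sx (A := AddCommGrpCat.{u}) (i z) ≅ Sx (A := AddCommGrpCat.{u}) z :=
  haveI := isIso_counit i hi
  Functor.isoWhiskerLeft (CohTop.push i) (pullbackStalkIso (A := AddCommGrpCat.{u}) i z).symm ≪≫
    (Functor.associator _ _ _).symm ≪≫
    Functor.isoWhiskerRight
      (asIso (TopCat.Sheaf.pullbackPushforwardAdjunction AddCommGrpCat.{u} i).counit) (Sx z) ≪≫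
    Functor.leftUnitor _

theorem preservesColimitsOfShape_of_isZero {C D : Type*} [Category C] [Category D]
    {J : Type*} [Category J] (G : C ⥤ D) (h : ∀ c : C, IsZero (G.obj c)) :
    PreservesColimitsOfShape J G := by
  constructor
  intro K
  constructor
  intro c hc
  exact ⟨{ desc := fun s => (h c.pt).to_ s.pt
           fac := fun s j => (h (K.obj j)).eq_of_src _ _
           uniq := fun s m _ => (h c.pt).eq_of_src _ _ }⟩

include hi in
theorem preservesColimitsOfShape_push {J : Type u} [SmallCategory J] :
    PreservesColimitsOfShape J (CohTop.push i) := by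
  apply preservesColimitsOfShape_of_stalks
  intro x
  by_cases hx : x ∈ Set.range i
  · obtain ⟨z, rfl⟩ := hx
    have h0 : PreservesColimitsOfShape J (Sx (A := AddCommGrpCat.{u}) z) := by
      have := Sx_isLeftAdjoint (Y := Z) z
      infer_instance
    have h0' : PreservesColimitsOfShape J
        (Sx (A := AddCommGrpCat.{u}) z : CohTop.Ab Z ⥤ AddCommGrpCat.{u}) := h0
    exact @preservesColimitsOfShape_of_natIso _ _ _ _ _ _ _ _ (pushStalkIso i hi z).symm h0'
  · exact preservesColimitsOfShape_of_isZero _ (fun G => isZero_stalk_push i hi G x hx)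

include hi in
theorem preservesColimits_push : PreservesColimitsOfSize.{u, u} (CohTop.push i) :=
  ⟨fun {_} _ => preservesColimitsOfShape_push i hi⟩

end Closed

section Scheme

open AlgebraicGeometry Groth.Agent.Lib.Helper30.ModSAFT

theorem preservesColimits_pushforward_of_isClosedImmersion {Z X : Scheme.{u}} (i : Z ⟶ X)
    [IsClosedImmersion i] :
    PreservesColimitsOfSize.{u, u} (Scheme.Modules.pushforward i) := by
  have h1 : PreservesColimitsOfSize.{u, u} (CohTop.push i.base) :=
    preservesColimits_push i.base i.isClosedEmbedding
  have h1' : PreservesColimitsOfSize.{u, u}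
      ((Opens.map i.base).sheafPushforwardContinuous AddCommGrpCat.{u}
        (Opens.grothendieckTopology X) (Opens.grothendieckTopology Z)) := h1
  have h2 : PreservesColimitsOfSize.{u, u}
      (SheafOfModules.pushforward.{u} i.toRingCatSheafHom ⋙
        SheafOfModules.toSheaf.{u} X.ringCatSheaf) :=
    preservesColimits_of_natIso (pushforwardCompToSheaf i.toRingCatSheafHom).symm
  exact preservesColimits_of_reflects_of_preserves
    (SheafOfModules.pushforward.{u} i.toRingCatSheafHom)
    (SheafOfModules.toSheaf.{u} X.ringCatSheaf)

theorem isLeftAdjoint_pushforward_of_isClosedImmersion {Z X : Scheme.{u}} (i : Z ⟶ X)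
    [IsClosedImmersion i] : (Scheme.Modules.pushforward i).IsLeftAdjoint := by
  have h := preservesColimits_pushforward_of_isClosedImmersion i
  exact @isLeftAdjoint_of_preservesColimits _ _ _ Z.ringCatSheaf _ _
    (SheafOfModules.pushforward.{u} i.toRingCatSheafHom) h

end Scheme

end Groth.Agent.Helper19.ClosedColim
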