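import Mathlib
import Groth.Prelude.Def_DerSch
import Groth.Agent.Lib.Helper28.PullbackStalk
import Groth.Agent.Lib.Helper45.EpiStalk
import Groth.Agent.Lib.Helper49.StalkNbhd2

/-!
# Descent of properties of morphisms of `O`-modules along flat (jointly surjective) families

For `g : Y' ⟶ Y` flat and `v : A ⟶ B` in `Y.Modules`, the stalk of `g^* v` at `y'` is the base change of
the stalk of `v` at `g y'` along the faithfully flat local homomorphism `O_{Y,g y'} → O_{Y',y'}`
(helper28's `pullbackStalkIso`).  Hence injectivity / surjectivity / bijectivity / vanishing of stalk maps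
passes up and down, and `Mono`, `Epi`, `IsIso`, `= 0` descend along jointly surjective flat families.
-/

set_option autoImplicit false
universe u
open CategoryTheory CategoryTheory.Limits AlgebraicGeometry Opposite TopologicalSpace

noncomputable section

namespace Groth.Agent.Helper19.FpqcModDesc

open Groth.Agent.Lib.Helper28.SkyMod Groth.Agent.Lib.Helper49

variable {Y' Y : Scheme.{u}} (g : Y' ⟶ Y) {A B : Y.Modules} (v : A ⟶ B) (y' : Y')

lemma stalkFunctor_map_coe {X : Scheme.{u}} {M N : X.Modules} (φ : M ⟶ N) (x : X) :
    ⇑((DerSch.stalkFunctor X x).map φ).hom = ⇑(stalkMap φ x).hom := rfl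

/-- the stalk of `g^* v` is conjugate to the base change of the stalk of `v`. -/
lemma stalk_pullback_map :
    (DerSch.stalkFunctor Y' y').map ((Scheme.Modules.pullback g).map v) =
      (pullbackStalkIso g y').hom.app A ≫
        (ModuleCat.extendScalars (g.stalkMap y').hom).map
          ((DerSch.stalkFunctor Y (g.base y')).map v) ≫ (pullbackStalkIso g y').inv.app B := by
  have hnat := (pullbackStalkIso g y').hom.naturality v
  simp only [Functor.comp_map] at hnat
  rw [← Category.assoc, ← hnat, Category.assoc, Iso.hom_inv_id_app, Category.comp_id]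

section Algebra

variable {R S : Type u} [CommRing R] [CommRing S] (f : R →+* S) {M N : ModuleCat.{u} R} (φ : M ⟶ N)

lemma extendScalars_injective_of_flat (hf : f.Flat) (h : Function.Injective φ.hom) :
    Function.Injective ((ModuleCat.extendScalars f).map φ).hom := by
  letI := f.toAlgebra
  have : Module.Flat R S := hf
  exact Module.Flat.lTensor_preserves_injective_linearMap (M := S) φ.hom h

lemma injective_of_extendScalars (hf : f.FaithfullyFlat)
    (h : Function.Injective ((ModuleCat.extendScalars f).map φ).hom) : Function.Injective φ.hom := by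
  letI := f.toAlgebra
  have : Module.FaithfullyFlat R S := hf
  exact (Module.FaithfullyFlat.lTensor_injective_iff_injective R S φ.hom).mp h

lemma surjective_of_extendScalars (hf : f.FaithfullyFlat)
    (h : Function.Surjective ((ModuleCat.extendScalars f).map φ).hom) :
    Function.Surjective φ.hom := by
  letI := f.toAlgebra
  have : Module.FaithfullyFlat R S := hf
  exact (Module.FaithfullyFlat.lTensor_surjective_iff_surjective R S φ.hom).mp h

lemma eq_zero_of_extendScalars (hf : f.FaithfullyFlat)
    (h : (ModuleCat.extendScalars f).map φ = 0) : φ = 0 := by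
  letI := f.toAlgebra
  have : Module.FaithfullyFlat R S := hf
  have h1 : LinearMap.lTensor S φ.hom = 0 := by
    apply LinearMap.ext
    intro x
    exact congrArg (fun k => (ModuleCat.Hom.hom k) x) h
  have h2 := (Module.FaithfullyFlat.zero_iff_lTensor_zero R S φ.hom).mpr h1
  exact ModuleCat.hom_ext h2

end Algebra

lemma faithfullyFlat_stalkMap [Flat g] : (g.stalkMap y').hom.FaithfullyFlat := by
  algebraize [(g.stalkMap y').hom]
  exact @Module.FaithfullyFlat.of_flat_of_isLocalHom _ _ _ _ _ _ _
      (Flat.stalkMap g y') (g.toLRSHom.prop y')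

section Stalk

variable [Flat g]

lemma stalk_pullback_injective_iff :
    Function.Injective (stalkMap ((Scheme.Modules.pullback g).map v) y').hom ↔
      Function.Injective (stalkMap v (g.base y')).hom := by
  change Function.Injective
      ((DerSch.stalkFunctor Y' y').map ((Scheme.Modules.pullback g).map v)).hom ↔
    Function.Injective ((DerSch.stalkFunctor Y (g.base y')).map v).hom
  rw [stalk_pullback_map]
  have h1 : Function.Bijective ((pullbackStalkIso g y').hom.app A).hom :=
    ConcreteCategory.bijective_of_isIso _
  have h2 : Function.Bijective ((pullbackStalkIso g y').inv.app B).hom :=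
    ConcreteCategory.bijective_of_isIso _
  rw [ModuleCat.hom_comp, ModuleCat.hom_comp, LinearMap.coe_comp, LinearMap.coe_comp,
    Function.Injective.of_comp_iff' _ h1, Function.Injective.of_comp_iff h2.1]
  exact ⟨injective_of_extendScalars _ _ (faithfullyFlat_stalkMap g y'),
    extendScalars_injective_of_flat _ _ (Flat.stalkMap g y')⟩

lemma stalk_pullback_surjective_imp
    (h : Function.Surjective (stalkMap ((Scheme.Modules.pullback g).map v) y').hom) :
      Function.Surjective (stalkMap v (g.base y')).hom := by
  change Function.Surjective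
      ((DerSch.stalkFunctor Y' y').map ((Scheme.Modules.pullback g).map v)).hom at h
  change Function.Surjective ((DerSch.stalkFunctor Y (g.base y')).map v).hom
  rw [stalk_pullback_map] at h
  have h1 : Function.Bijective ((pullbackStalkIso g y').hom.app A).hom :=
    ConcreteCategory.bijective_of_isIso _
  have h2 : Function.Bijective ((pullbackStalkIso g y').inv.app B).hom :=
    ConcreteCategory.bijective_of_isIso _
  rw [ModuleCat.hom_comp, ModuleCat.hom_comp, LinearMap.coe_comp, LinearMap.coe_comp,
    Function.Surjective.of_comp_iff _ h1.2, Function.Surjective.of_comp_iff' h2] at h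
  exact surjective_of_extendScalars _ _ (faithfullyFlat_stalkMap g y') h

lemma stalk_pullback_eq_zero_imp
    (h : (DerSch.stalkFunctor Y' y').map ((Scheme.Modules.pullback g).map v) = 0) :
      (DerSch.stalkFunctor Y (g.base y')).map v = 0 := by
  rw [stalk_pullback_map] at h
  apply eq_zero_of_extendScalars _ _ (faithfullyFlat_stalkMap g y')
  have h3 := congrArg (fun k => (pullbackStalkIso g y').inv.app A ≫ k ≫
    (pullbackStalkIso g y').hom.app B) h
  simpa using h3

end Stalk

section Global

/-- flat pullback preserves monomorphisms of `O`-modules. -/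
theorem mono_pullback_of_flat [Flat g] [Mono v] : Mono ((Scheme.Modules.pullback g).map v) := by
  apply mono_of_stalkMap_injective
  intro y'
  rw [stalk_pullback_injective_iff]
  exact stalkMap_injective_of_mono v _

variable {ι : Type*} {Z : ι → Scheme.{u}} (k : ∀ i, Z i ⟶ Y) [∀ i, Flat (k i)]
  (hs : ∀ y : Y, ∃ (i : ι) (z : Z i), (k i).base z = y)

include hs

theorem mono_of_forall_pullback (h : ∀ i, Mono ((Scheme.Modules.pullback (k i)).map v)) :
    Mono v := by
  apply mono_of_stalkMap_injective
  intro y
  obtain ⟨i, z, rfl⟩ := hs y
  rw [← stalk_pullback_injective_iff]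
  have := h i
  exact stalkMap_injective_of_mono _ _

theorem epi_of_forall_pullback (h : ∀ i, Epi ((Scheme.Modules.pullback (k i)).map v)) :
    Epi v := by
  apply Groth.Agent.Lib.Helper45.epi_of_stalkMap_surjective
  intro y
  obtain ⟨i, z, rfl⟩ := hs y
  apply stalk_pullback_surjective_imp
  have := h i
  exact Groth.Agent.Lib.Helper45.stalkMap_surjective_of_epi _ _

theorem isIso_of_forall_pullback (h : ∀ i, IsIso ((Scheme.Modules.pullback (k i)).map v)) :
    IsIso v := by
  apply isIso_of_stalkMap_bijective
  intro y
  obtain ⟨i, z, rfl⟩ := hs y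
  have := h i
  have hb := stalkMap_bijective_of_isIso ((Scheme.Modules.pullback (k i)).map v) z
  exact ⟨(stalk_pullback_injective_iff (k i) v z).mp hb.1,
    stalk_pullback_surjective_imp (k i) v z hb.2⟩

theorem eq_zero_of_forall_pullback (h : ∀ i, (Scheme.Modules.pullback (k i)).map v = 0) :
    v = 0 := by
  apply Scheme.Modules.hom_ext
  intro U
  apply ConcreteCategory.hom_ext
  intro s
  apply TopCat.Presheaf.section_ext (toSheafAb B) U
  intro y hy
  obtain ⟨i, z, rfl⟩ := hs y
  have h1 : (DerSch.stalkFunctor Y ((k i).base z)).map v = 0 := by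
    apply stalk_pullback_eq_zero_imp
    rw [h i, Functor.map_zero]
  have h2 := DerSch.stalkFunctor_map_germ ((k i).base z) v U hy s
  rw [h1] at h2
  change B.presheaf.germ U ((k i).base z) hy (v.app U s) = B.presheaf.germ U ((k i).base z) hy 0
  rw [← h2, map_zero]
  rfl

end Global

end Groth.Agent.Helper19.FpqcModDesc
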