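import Mathlib
import Groth.Prelude.Def_AnPts

/-!
# ℂ-points with the complex topology: foundations (helper19)

Namespace `Groth.Agent.Helper19.AnPts`.

* `ev_res` : evaluation is compatible with restriction.
* `isOpenEmbedding_map_of_isOpenImmersion` : an open immersion over ℂ induces an open embedding on
  ℂ-points (no finiteness hypothesis).
* `range_map_of_isOpenImmersion` : its range is `pt ⁻¹' (range f)`.
-/

set_option autoImplicit false

open AlgebraicGeometry CategoryTheory TopologicalSpace Opposite Topology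

namespace Groth.Agent.Helper19.AnPts

open An

variable {X Y : Scheme.{0}} [X.Over SC] [Y.Over SC]

/-- evaluation is compatible with restriction of sections. -/
theorem ev_res (x : Pts X) {V' V : X.Opens} (i : V' ⟶ V) (h' : x.pt ∈ V') (g : Γ(X, V)) :
    x.ev V' h' (X.presheaf.map i.op g) = x.ev V (i.le h') g := by
  unfold Pts.ev
  congr 1
  have := Scheme.Hom.map_appLE x.1 (Pts.top_le_preimage x h') i.op
  exact congrArg (fun φ => φ.hom g) this

/-- transport of the open in `basicSet`. -/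
theorem ev_congr (x : Pts X) {V V' : X.Opens} (e : V = V') (h : x.pt ∈ V) (g : Γ(X, V')) :
    x.ev V h (X.presheaf.map (eqToHom e).op g) = x.ev V' (e ▸ h) g :=
  ev_res x (eqToHom e) h g

/-! ### evaluation as a ring homomorphism -/

/-- evaluation at a ℂ-point as a ring homomorphism. -/
noncomputable def evHom (x : Pts X) (U : X.Opens) (h : x.pt ∈ U) : Γ(X, U) →+* ℂ :=
  (Scheme.ΓSpecIso (CommRingCat.of ℂ)).hom.hom.comp (x.1.appLE U ⊤ (Pts.top_le_preimage x h)).hom

theorem evHom_apply (x : Pts X) (U : X.Opens) (h : x.pt ∈ U) (g : Γ(X, U)) :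
    evHom x U h g = x.ev U h g := rfl

theorem ev_add (x : Pts X) (U : X.Opens) (h : x.pt ∈ U) (g g' : Γ(X, U)) :
    x.ev U h (g + g') = x.ev U h g + x.ev U h g' := map_add (evHom x U h) g g'

theorem ev_mul (x : Pts X) (U : X.Opens) (h : x.pt ∈ U) (g g' : Γ(X, U)) :
    x.ev U h (g * g') = x.ev U h g * x.ev U h g' := map_mul (evHom x U h) g g'

theorem ev_pow (x : Pts X) (U : X.Opens) (h : x.pt ∈ U) (g : Γ(X, U)) (n : ℕ) :
    x.ev U h (g ^ n) = x.ev U h g ^ n := map_pow (evHom x U h) g n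

theorem ev_one (x : Pts X) (U : X.Opens) (h : x.pt ∈ U) :
    x.ev U h (1 : Γ(X, U)) = 1 := map_one (evHom x U h)

theorem ev_zero (x : Pts X) (U : X.Opens) (h : x.pt ∈ U) :
    x.ev U h (0 : Γ(X, U)) = 0 := map_zero (evHom x U h)

/-- evaluation of constants -/
theorem evTop_strHom (x : Pts X) (c : ℂ) : x.evTop (strHom X c) = c := by
  have h1 : (X ↘ SC).appTop ≫ x.1.appLE ⊤ ⊤ (Pts.top_le_preimage x (Opens.mem_top _)) =
      (x.1 ≫ (X ↘ SC)).appTop := by
    rw [Scheme.Hom.comp_appTop]
    congr 1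
  have h2 : (x.1 ≫ (X ↘ SC)).appTop = 𝟙 _ := by
    rw [x.2]; rfl
  have h3 : x.1.appLE ⊤ ⊤ (Pts.top_le_preimage x (Opens.mem_top _))
      ((X ↘ SC).appTop ((Scheme.ΓSpecIso (CommRingCat.of ℂ)).inv c)) =
      (Scheme.ΓSpecIso (CommRingCat.of ℂ)).inv c := by
    have := congrArg (fun φ => φ.hom ((Scheme.ΓSpecIso (CommRingCat.of ℂ)).inv c)) (h1.trans h2)
    exact this
  change (Scheme.ΓSpecIso (CommRingCat.of ℂ)).hom (x.1.appLE ⊤ ⊤ _
      ((X ↘ SC).appTop ((Scheme.ΓSpecIso (CommRingCat.of ℂ)).inv c))) = c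
  rw [h3]
  exact Iso.inv_hom_id_apply (Scheme.ΓSpecIso (CommRingCat.of ℂ)) c

/-- a ℂ-point lies in a basic open iff the function does not vanish there. -/
theorem mem_basicOpen_iff (x : Pts X) (U : X.Opens) (h : x.pt ∈ U) (g : Γ(X, U)) :
    x.pt ∈ X.basicOpen g ↔ x.ev U h g ≠ 0 := by
  have h1 : x.1 ⁻¹ᵁ X.basicOpen g = SC.basicOpen (x.1.appLE U ⊤ (Pts.top_le_preimage x h) g) := by
    rw [Scheme.Hom.appLE, CommRingCat.comp_apply, Scheme.basicOpen_res, ← Scheme.preimage_basicOpen,
      top_inf_eq]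
  have h2 : x.pt ∈ X.basicOpen g ↔ cpt ∈ x.1 ⁻¹ᵁ X.basicOpen g := Iff.rfl
  rw [h2, h1, basicOpen_eq_of_affine']
  change ¬ (x.ev U h g ∈ (cpt : PrimeSpectrum ℂ).asIdeal) ↔ _
  have h3 : (cpt : PrimeSpectrum ℂ).asIdeal = ⊥ := by
    have := Ideal.eq_bot_or_top (cpt : PrimeSpectrum ℂ).asIdeal
    rcases this with h | h
    · exact h
    · exact absurd h (cpt : PrimeSpectrum ℂ).isPrime.ne_top
  rw [h3, Ideal.mem_bot]

/-! ### the affine case: the topology is induced by global functions -/

section Affine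

/-- On an affine scheme, a local section is, near a given ℂ-point, a fraction of global sections. -/
theorem exists_fraction [IsAffine X] (x : Pts X) (U : X.Opens) (h : x.pt ∈ U) (f : Γ(X, U)) :
    ∃ (g a : Γ(X, ⊤)) (n : ℕ) (hgU : X.basicOpen g ≤ U), x.pt ∈ X.basicOpen g ∧
      X.presheaf.map (homOfLE hgU).op f *
        (X.presheaf.map (homOfLE (X.basicOpen_le g)).op g) ^ n =
        X.presheaf.map (homOfLE (X.basicOpen_le g)).op a := by
  obtain ⟨g, hgU, hxg⟩ := (isAffineOpen_top X).exists_basicOpen_le (V := U) ⟨x.pt, h⟩ trivial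
  haveI := (isAffineOpen_top X).isLocalization_basicOpen g
  obtain ⟨n, a, hna⟩ := IsLocalization.Away.surj g (X.presheaf.map (homOfLE hgU).op f)
  exact ⟨g, a, n, hgU, hxg, hna⟩

/-- the evaluation map to `ℂ ^ Γ(X, ⊤)`. -/
noncomputable def evAll (X : Scheme.{0}) [X.Over SC] (x : Pts X) : Γ(X, ⊤) → ℂ := fun a => x.evTop a

theorem continuous_evTop (a : Γ(X, ⊤)) : Continuous (fun x : Pts X => x.evTop a) := by
  rw [continuous_def]
  intro W hW
  have : (fun x : Pts X => x.evTop a) ⁻¹' W = Pts.basicSet ⊤ a W := by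
    ext x
    constructor
    · intro hx
      exact ⟨Opens.mem_top _, hx⟩
    · rintro ⟨_, hx⟩
      exact hx
  rw [this]
  exact Pts.isOpen_basicSet _ _ hW

theorem continuous_evAll : Continuous (evAll X) :=
  continuous_pi (fun a => continuous_evTop a)

theorem isInducing_evAll [IsAffine X] : IsInducing (evAll X) := by
  constructor
  apply le_antisymm
  · exact continuous_evAll.le_induced
  · apply le_generateFrom
    rintro _ ⟨U, f, W, hW, rfl⟩
    refine (@isOpen_iff_forall_mem_open _ (TopologicalSpace.induced (evAll X) _) _).mpr ?_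
    rintro x ⟨hxU, hxW⟩
    obtain ⟨g, a, n, hgU, hxg, hfrac⟩ := exists_fraction x U hxU f
    -- the open set of `ℂ ^ Γ(X, ⊤)`
    let S : Set (Γ(X, ⊤) → ℂ) := {φ | φ g ≠ 0}
    let q : (Γ(X, ⊤) → ℂ) → ℂ := fun φ => φ a / (φ g) ^ n
    have hS : IsOpen S := isOpen_ne_fun (continuous_apply g) continuous_const
    have hq : ContinuousOn q S := by
      apply ContinuousOn.div (continuous_apply a).continuousOn
        ((continuous_apply g).pow n).continuousOn
      intro φ hφ
      exact pow_ne_zero n hφ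
    have hO : IsOpen (S ∩ q ⁻¹' W) := hq.isOpen_inter_preimage hS hW
    -- the key computation
    have key : ∀ y : Pts X, evAll X y ∈ S → ∃ hyU : y.pt ∈ U, y.ev U hyU f = q (evAll X y) := by
      intro y hy
      have hyg : y.pt ∈ X.basicOpen g := (mem_basicOpen_iff y ⊤ (Opens.mem_top _) g).mpr hy
      refine ⟨hgU hyg, ?_⟩
      have h1 := congrArg (y.ev (X.basicOpen g) hyg) hfrac
      rw [ev_mul, ev_pow, ev_res y (homOfLE hgU) hyg f, ev_res y (homOfLE (X.basicOpen_le g)) hyg g,
        ev_res y (homOfLE (X.basicOpen_le g)) hyg a] at h1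
      have hne : (y.ev ⊤ (Opens.mem_top _) g) ^ n ≠ 0 := pow_ne_zero n hy
      change y.ev U _ f = y.evTop a / (y.evTop g) ^ n
      rw [eq_div_iff hne]
      exact h1
    refine ⟨evAll X ⁻¹' (S ∩ q ⁻¹' W), ?_, ⟨_, hO, rfl⟩, ?_⟩
    · rintro y ⟨hyS, hyW⟩
      obtain ⟨hyU, hy⟩ := key y hyS
      refine ⟨hyU, ?_⟩
      rw [hy]
      exact hyW
    · have hxS : evAll X x ∈ S := (mem_basicOpen_iff x ⊤ (Opens.mem_top _) g).mp hxg
      obtain ⟨_, hx⟩ := key x hxS
      refine ⟨hxS, ?_⟩
      change q (evAll X x) ∈ W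
      rw [← hx]
      exact hxW

/-- on an affine scheme a ℂ-point is determined by its values on global functions. -/
theorem evAll_injective [IsAffine X] : Function.Injective (evAll X) := by
  intro x y hxy
  apply Subtype.ext
  apply ext_of_isAffine
  apply CommRingCat.hom_ext
  ext a
  have h1 : x.evTop a = y.evTop a := congrFun hxy a
  have h2 := congrArg (Scheme.ΓSpecIso (CommRingCat.of ℂ)).inv h1
  simp only [Pts.evTop, Pts.ev, Iso.hom_inv_id_apply] at h2
  exact h2

end Affine

section OpenImmersion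

variable (f : X ⟶ Y) [f.IsOver SC] [IsOpenImmersion f]

omit [IsOpenImmersion f] in
theorem map_injective_of_mono [Mono f] : Function.Injective (Pts.map f) := by
  intro x y hxy
  apply Subtype.ext
  have := congrArg Subtype.val hxy
  simp only [Pts.map_val] at this
  exact (cancel_mono f).mp this

theorem range_map_of_isOpenImmersion :
    Set.range (Pts.map f) = Pts.pt ⁻¹' (Set.range f) := by
  ext y
  constructor
  · rintro ⟨x, rfl⟩
    rw [Set.mem_preimage, Pts.pt_map]
    exact Set.mem_range_self _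
  · intro hy
    have hrange : Set.range y.1 ⊆ Set.range f := by
      rintro _ ⟨p, rfl⟩
      rw [eq_cpt p]
      exact hy
    refine ⟨⟨IsOpenImmersion.lift f y.1 hrange, ?_⟩, ?_⟩
    · rw [← comp_over f SC, ← Category.assoc, IsOpenImmersion.lift_fac]
      exact y.2
    · apply Subtype.ext
      simp only [Pts.map_val]
      exact IsOpenImmersion.lift_fac _ _ _

theorem preimage_basicSet_image (V : X.Opens) (g : Γ(X, V)) (W : Set ℂ) :
    Pts.map f ⁻¹' Pts.basicSet (f ''ᵁ V) ((f.appIso V).inv g) W = Pts.basicSet V g W := by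
  rw [Pts.preimage_basicSet]
  have h1 : f.app (f ''ᵁ V) ((f.appIso V).inv g) =
      X.presheaf.map (eqToHom (f.preimage_image_eq V)).op g := by
    have := Scheme.Hom.appIso_inv_app f V
    exact congrArg (fun φ => φ.hom g) this
  rw [h1]
  ext x
  constructor
  · rintro ⟨h, hv⟩
    have h' : x.pt ∈ V := by rw [f.preimage_image_eq V] at h; exact h
    refine ⟨h', ?_⟩
    rw [ev_congr x (f.preimage_image_eq V) h g] at hv
    exact hv
  · rintro ⟨h, hv⟩
    have h' : x.pt ∈ f ⁻¹ᵁ f ''ᵁ V := by rw [f.preimage_image_eq V]; exact h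
    refine ⟨h', ?_⟩
    rw [ev_congr x (f.preimage_image_eq V) h' g]
    exact hv

theorem isInducing_map_of_isOpenImmersion : IsInducing (Pts.map f) := by
  constructor
  apply le_antisymm
  · exact (Pts.continuous_map f).le_induced
  · apply le_generateFrom
    rintro _ ⟨V, g, W, hW, rfl⟩
    rw [← preimage_basicSet_image f V g W]
    exact isOpen_induced (Pts.isOpen_basicSet _ _ hW)

theorem isOpenEmbedding_map_of_isOpenImmersion : IsOpenEmbedding (Pts.map f) := by
  refine ⟨⟨isInducing_map_of_isOpenImmersion f, map_injective_of_mono f⟩, ?_⟩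
  rw [range_map_of_isOpenImmersion]
  exact Pts.isOpen_preimage_pt f.opensRange

end OpenImmersion

end Groth.Agent.Helper19.AnPts
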