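import Mathlib
import Groth.Prelude.Def_AnPts
import Groth.Agent.Lib.Helper19.AnPts

/-!
# ℂ-points of affine schemes (helper19)

Namespace `Groth.Agent.Helper19.AnPts`.

* `exists_pt_of_ringHom` : for affine `X`, a ring hom `Γ(X, ⊤) →+* ℂ` which is a retraction of
  `strHom X` is evaluation at a unique ℂ-point.
* `isClosedEmbedding_of_generators` : generators of `Γ(X, ⊤)` give a closed embedding into `ℂ^ι`.
-/

set_option autoImplicit false

open AlgebraicGeometry CategoryTheory TopologicalSpace Opposite Topology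

namespace Groth.Agent.Helper19.AnPts

open An

variable {X Y : Scheme.{0}} [X.Over SC] [Y.Over SC]

/-- the ℂ-point of an affine scheme attached to a ℂ-algebra retraction `Γ(X, ⊤) → ℂ`. -/
theorem exists_pt_of_ringHom [IsAffine X] (φ : Γ(X, ⊤) →+* ℂ) (hφ : ∀ c, φ (strHom X c) = c) :
    ∃ x : Pts X, ∀ a, x.evTop a = φ a := by
  let x₀ : SC ⟶ X := Spec.map (CommRingCat.ofHom φ) ≫ X.isoSpec.inv
  have hinv : X.isoSpec.inv.appTop = (Scheme.ΓSpecIso Γ(X, ⊤)).inv := by
    have h1 : X.toSpecΓ.appTop ≫ X.isoSpec.inv.appTop = 𝟙 _ := by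
      rw [← Scheme.Hom.comp_appTop, Scheme.isoSpec_inv_toSpecΓ]
      rfl
    rw [Scheme.toSpecΓ_appTop] at h1
    exact (Iso.hom_comp_eq_id _).mp h1
  have happ : x₀.appTop = CommRingCat.ofHom φ ≫ (Scheme.ΓSpecIso (CommRingCat.of ℂ)).inv := by
    rw [Scheme.Hom.comp_appTop, hinv, Scheme.ΓSpecIso_inv_naturality]
    rfl
  have hx₀ : x₀ ≫ (X ↘ SC) = 𝟙 SC := by
    apply ext_of_isAffine
    rw [Scheme.Hom.comp_appTop, happ]
    apply CommRingCat.hom_ext
    ext t
    have h1 := hφ ((Scheme.ΓSpecIso (CommRingCat.of ℂ)).hom t)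
    have h2 : strHom X ((Scheme.ΓSpecIso (CommRingCat.of ℂ)).hom t) = (X ↘ SC).appTop t := by
      change (X ↘ SC).appTop ((Scheme.ΓSpecIso (CommRingCat.of ℂ)).inv
        ((Scheme.ΓSpecIso (CommRingCat.of ℂ)).hom t)) = _
      rw [Iso.hom_inv_id_apply]
    rw [h2] at h1
    change (Scheme.ΓSpecIso (CommRingCat.of ℂ)).inv (φ ((X ↘ SC).appTop t)) = t
    rw [h1, Iso.hom_inv_id_apply]
  refine ⟨⟨x₀, hx₀⟩, fun a => ?_⟩
  change (Scheme.ΓSpecIso (CommRingCat.of ℂ)).hom (x₀.appTop a) = φ a
  rw [happ]
  change (Scheme.ΓSpecIso (CommRingCat.of ℂ)).hom ((Scheme.ΓSpecIso (CommRingCat.of ℂ)).inv (φ a)) = φ a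
  rw [Iso.inv_hom_id_apply]

/-- evaluation at a ℂ-point as a ring hom on global sections. -/
noncomputable def evTopHom (x : Pts X) : Γ(X, ⊤) →+* ℂ := evHom x ⊤ (Opens.mem_top _)

theorem evTopHom_apply (x : Pts X) (a : Γ(X, ⊤)) : evTopHom x a = x.evTop a := rfl

section Generators

variable {ι : Type} (s : ι → Γ(X, ⊤))

/-- the key formula: evaluating a polynomial in the sections `s` at a ℂ-point. -/
theorem evTop_eval₂ (x : Pts X) (P : MvPolynomial ι ℂ) :
    x.evTop (MvPolynomial.eval₂Hom (strHom X) s P) =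
      MvPolynomial.eval (fun i => x.evTop (s i)) P := by
  have : (evTopHom x).comp (MvPolynomial.eval₂Hom (strHom X) s) =
      MvPolynomial.eval (fun i => x.evTop (s i)) := by
    apply MvPolynomial.ringHom_ext
    · intro c
      simp only [RingHom.comp_apply, MvPolynomial.eval₂Hom_C, MvPolynomial.eval_C]
      exact evTop_strHom x c
    · intro i
      simp only [RingHom.comp_apply, MvPolynomial.eval₂Hom_X', MvPolynomial.eval_X]
      rfl
  exact congrArg (fun ψ => ψ P) this

variable (hs : Function.Surjective (MvPolynomial.eval₂Hom (strHom X) s))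
include hs

theorem isInducing_of_generators [IsAffine X] :
    IsInducing (fun (x : Pts X) (i : ι) => x.evTop (s i)) := by
  set G : Pts X → (ι → ℂ) := fun x i => x.evTop (s i) with hG
  have hGc : Continuous G := continuous_pi (fun i => continuous_evTop (s i))
  constructor
  apply le_antisymm
  · exact hGc.le_induced
  · rw [(isInducing_evAll (X := X)).eq_induced]
    -- show `evAll X` is continuous for the topology induced by `G`
    refine (continuous_iff_le_induced (t₁ := TopologicalSpace.induced G _)).mp ?_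
    refine @continuous_pi _ _ _ (TopologicalSpace.induced G _) _ _ (fun a => ?_)
    obtain ⟨P, rfl⟩ := hs a
    have : (fun x : Pts X => evAll X x (MvPolynomial.eval₂Hom (strHom X) s P)) =
        (fun z : ι → ℂ => MvPolynomial.eval z P) ∘ G := by
      funext x
      exact evTop_eval₂ s x P
    rw [this]
    exact @Continuous.comp _ _ _ (TopologicalSpace.induced G _) _ _ _ _
      (MvPolynomial.continuous_eval P) continuous_induced_dom

theorem injective_of_generators [IsAffine X] :
    Function.Injective (fun (x : Pts X) (i : ι) => x.evTop (s i)) := by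
  intro x y hxy
  apply evAll_injective
  funext a
  obtain ⟨P, rfl⟩ := hs a
  change x.evTop _ = y.evTop _
  rw [evTop_eval₂, evTop_eval₂]
  exact congrArg (fun z => MvPolynomial.eval z P) hxy

theorem range_of_generators [IsAffine X] :
    Set.range (fun (x : Pts X) (i : ι) => x.evTop (s i)) =
      ⋂ P ∈ RingHom.ker (MvPolynomial.eval₂Hom (strHom X) s),
        {z : ι → ℂ | MvPolynomial.eval z P = 0} := by
  ext z
  simp only [Set.mem_range, Set.mem_iInter, Set.mem_ofPred_eq]
  constructor
  · rintro ⟨x, rfl⟩ P hP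
    rw [← evTop_eval₂ s x P, RingHom.mem_ker.mp hP]
    exact ev_zero x ⊤ _
  · intro hz
    let g : {g : MvPolynomial ι ℂ →+* ℂ //
        RingHom.ker (MvPolynomial.eval₂Hom (strHom X) s) ≤ RingHom.ker g} :=
      ⟨MvPolynomial.eval z, fun P hP => RingHom.mem_ker.mpr (hz P hP)⟩
    let φ : Γ(X, ⊤) →+* ℂ := (MvPolynomial.eval₂Hom (strHom X) s).liftOfSurjective hs g
    have hφ : ∀ P, φ (MvPolynomial.eval₂Hom (strHom X) s P) = MvPolynomial.eval z P :=
      fun P => RingHom.liftOfSurjective_comp_apply _ hs g P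
    have hφc : ∀ c, φ (strHom X c) = c := by
      intro c
      have := hφ (MvPolynomial.C c)
      rwa [MvPolynomial.eval₂Hom_C, MvPolynomial.eval_C] at this
    obtain ⟨x, hx⟩ := exists_pt_of_ringHom φ hφc
    refine ⟨x, ?_⟩
    funext i
    rw [hx]
    have := hφ (MvPolynomial.X i)
    rwa [MvPolynomial.eval₂Hom_X', MvPolynomial.eval_X] at this

theorem isClosedEmbedding_of_generators [IsAffine X] :
    IsClosedEmbedding (fun (x : Pts X) (i : ι) => x.evTop (s i)) := by
  refine ⟨⟨isInducing_of_generators s hs, injective_of_generators s hs⟩, ?_⟩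
  rw [range_of_generators s hs]
  refine isClosed_biInter (fun P _ => ?_)
  exact isClosed_eq (MvPolynomial.continuous_eval P) continuous_const

omit hs in
theorem isHomeomorph_of_generators_bijective [IsAffine X]
    (hs : Function.Bijective (MvPolynomial.eval₂Hom (strHom X) s)) :
    IsHomeomorph (fun (x : Pts X) (i : ι) => x.evTop (s i)) := by
  rw [isHomeomorph_iff_isEmbedding_surjective]
  refine ⟨(isClosedEmbedding_of_generators s hs.2).isEmbedding, ?_⟩
  rw [← Set.range_eq_univ, range_of_generators s hs.2]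
  have hker : RingHom.ker (MvPolynomial.eval₂Hom (strHom X) s) = ⊥ :=
    (RingHom.injective_iff_ker_eq_bot _).mp hs.1
  rw [hker]
  ext z
  simp only [Set.mem_iInter, Set.mem_ofPred_eq, Set.mem_univ, iff_true]
  intro P hP
  rw [(Submodule.mem_bot _).mp hP, map_zero]

end Generators

section AffineSpace

open AlgebraicGeometry.AffineSpace in
/-- the coordinate functions generate the functions on affine space, bijectively. -/
theorem affineSpace_bijective (n : Type) :
    Function.Bijective (MvPolynomial.eval₂Hom (strHom (𝔸(n; SC))) (AffineSpace.coord SC)) := by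
  -- the Mathlib isomorphism
  have h1 := AffineSpace.isoOfIsAffine_hom_appTop (n := n) (S := SC)
  have hiso : IsIso (CommRingCat.ofHom
      (MvPolynomial.eval₂Hom ((𝔸(n; SC) ↘ SC).appTop).hom (AffineSpace.coord SC))) := by
    have h2 : CommRingCat.ofHom
        (MvPolynomial.eval₂Hom ((𝔸(n; SC) ↘ SC).appTop).hom (AffineSpace.coord SC)) =
        (Scheme.ΓSpecIso _).inv ≫ (AffineSpace.isoOfIsAffine n SC).hom.appTop := by
      rw [h1, Iso.inv_hom_id_assoc]
    rw [h2]
    have : IsIso (AffineSpace.isoOfIsAffine n SC).hom.appTop :=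
      inferInstanceAs (IsIso (Scheme.Γ.map (AffineSpace.isoOfIsAffine n SC).hom.op))
    infer_instance
  have hbij : Function.Bijective
      (MvPolynomial.eval₂Hom ((𝔸(n; SC) ↘ SC).appTop).hom (AffineSpace.coord SC)) :=
    (ConcreteCategory.isIso_iff_bijective _).mp hiso
  -- compare with the map over `ℂ`
  have hcomp : MvPolynomial.eval₂Hom (strHom (𝔸(n; SC))) (AffineSpace.coord SC) =
      (MvPolynomial.eval₂Hom ((𝔸(n; SC) ↘ SC).appTop).hom (AffineSpace.coord SC)).comp
        (MvPolynomial.map (Scheme.ΓSpecIso (CommRingCat.of ℂ)).inv.hom) := by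
    apply MvPolynomial.ringHom_ext
    · intro c
      simp only [RingHom.comp_apply, MvPolynomial.eval₂Hom_C, MvPolynomial.map_C]
      rfl
    · intro i
      simp only [RingHom.comp_apply, MvPolynomial.eval₂Hom_X', MvPolynomial.map_X]
  rw [hcomp]
  have hbij2 : Function.Bijective
      (MvPolynomial.map (σ := n) (Scheme.ΓSpecIso (CommRingCat.of ℂ)).inv.hom) := by
    have hb : Function.Bijective (Scheme.ΓSpecIso (CommRingCat.of ℂ)).inv.hom :=
      (ConcreteCategory.isIso_iff_bijective (Scheme.ΓSpecIso (CommRingCat.of ℂ)).inv).mp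
        inferInstance
    exact ⟨MvPolynomial.map_injective _ hb.1, MvPolynomial.map_surjective _ hb.2⟩
  exact hbij.comp hbij2

theorem affineSpace_isHomeomorph (n : Type) :
    IsHomeomorph (fun (x : Pts (𝔸(n; SC))) (i : n) => x.evTop (AffineSpace.coord SC i)) :=
  isHomeomorph_of_generators_bijective _ (affineSpace_bijective n)

end AffineSpace

end Groth.Agent.Helper19.AnPts
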