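import Mathlib
import Groth.Prelude.Def_AnPts
import Groth.Agent.Lib.Helper19.AnAffine

/-!
# ℂ-points of schemes locally of finite type over ℂ (helper19)

Namespace `Groth.Agent.Helper19.AnPts`.
-/

set_option autoImplicit false

open AlgebraicGeometry CategoryTheory TopologicalSpace Opposite Topology

namespace Groth.Agent.Helper19.AnPts

open An

variable {X Y : Scheme.{0}} [X.Over SC] [Y.Over SC]

theorem bijective_ΓSpecIso_inv :
    Function.Bijective (Scheme.ΓSpecIso (CommRingCat.of ℂ)).inv.hom :=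
  (ConcreteCategory.isIso_iff_bijective (Scheme.ΓSpecIso (CommRingCat.of ℂ)).inv).mp inferInstance

theorem finiteType_strHom [IsAffine X] [LocallyOfFiniteType (X ↘ SC)] :
    (strHom X).FiniteType := by
  have h1 : ((X ↘ SC).appLE ⊤ ⊤ le_top).hom.FiniteType :=
    LocallyOfFiniteType.finiteType_appLE (X ↘ SC) (isAffineOpen_top SC) (isAffineOpen_top X) _
  have h2 : (X ↘ SC).appLE ⊤ ⊤ le_top = (X ↘ SC).appTop := by
    change (X ↘ SC).app ⊤ ≫ X.presheaf.map (𝟙 _) = (X ↘ SC).app ⊤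
    rw [X.presheaf.map_id, Category.comp_id]
  rw [h2] at h1
  exact h1.comp (RingHom.FiniteType.of_surjective _ bijective_ΓSpecIso_inv.2)

theorem exists_generators [IsAffine X] [LocallyOfFiniteType (X ↘ SC)] :
    ∃ (n : ℕ) (s : Fin n → Γ(X, ⊤)),
      Function.Surjective (MvPolynomial.eval₂Hom (strHom X) s) := by
  have h := finiteType_strHom (X := X)
  letI : Algebra ℂ Γ(X, ⊤) := (strHom X).toAlgebra
  obtain ⟨n, f, hf⟩ := Algebra.FiniteType.iff_quotient_mvPolynomial''.mp h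
  refine ⟨n, fun i => f (MvPolynomial.X i), ?_⟩
  have : MvPolynomial.eval₂Hom (strHom X) (fun i => f (MvPolynomial.X i)) = (f : _ →+* _) := by
    apply MvPolynomial.ringHom_ext
    · intro c
      rw [MvPolynomial.eval₂Hom_C]
      exact (f.commutes c).symm
    · intro i
      rw [MvPolynomial.eval₂Hom_X']
      rfl
  rw [this]
  exact hf

theorem locallyCompactSpace_of_isAffine [IsAffine X] [LocallyOfFiniteType (X ↘ SC)] :
    LocallyCompactSpace (Pts X) := by
  obtain ⟨n, s, hs⟩ := exists_generators (X := X)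
  exact (isClosedEmbedding_of_generators s hs).locallyCompactSpace

/-- every ℂ-point lies in the image of the ℂ-points of an affine open. -/
theorem exists_affine_lift (x : Pts X) :
    ∃ (U : X.Opens) (_ : IsAffineOpen U) (y : Pts U.toScheme), Pts.map U.ι y = x := by
  obtain ⟨_, ⟨U', hU, rfl⟩, hxU, -⟩ :=
    (X.isBasis_affineOpens).exists_subset_of_mem_open (Set.mem_univ x.pt) isOpen_univ
  obtain ⟨U, rfl⟩ : ∃ U : X.Opens, U = U' := ⟨U', rfl⟩
  have hmem : x ∈ Set.range (Pts.map U.ι) := by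
    rw [range_map_of_isOpenImmersion]
    change x.pt ∈ Set.range U.ι
    rw [Scheme.Opens.range_ι]
    exact hxU
  obtain ⟨y, hy⟩ := hmem
  exact ⟨U, hU, y, hy⟩

theorem locallyCompactSpace [LocallyOfFiniteType (X ↘ SC)] : LocallyCompactSpace (Pts X) := by
  constructor
  intro x n hn
  obtain ⟨U, hU, y, rfl⟩ := exists_affine_lift x
  have : IsAffine U.toScheme := hU
  have : LocallyOfFiniteType (U.toScheme ↘ SC) := by
    rw [← Scheme.Opens.ι_comp_over]
    infer_instance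
  have := locallyCompactSpace_of_isAffine (X := U.toScheme)
  have hemb := isOpenEmbedding_map_of_isOpenImmersion U.ι
  have hn' : Pts.map U.ι ⁻¹' n ∈ 𝓝 y := hemb.continuous.continuousAt hn
  obtain ⟨s, hs, hsn, hsc⟩ := local_compact_nhds hn'
  refine ⟨Pts.map U.ι '' s, hemb.image_mem_nhds.mpr hs, ?_, hsc.image hemb.continuous⟩
  rintro _ ⟨z, hz, rfl⟩
  exact hsn hz

/-- Nullstellensatz: a maximal ideal of the coordinate ring of an affine scheme of finite type
over ℂ is the kernel of the evaluation at a ℂ-point. -/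
theorem exists_pt_of_isMaximal [IsAffine X] [LocallyOfFiniteType (X ↘ SC)]
    (m : Ideal Γ(X, ⊤)) [hm : m.IsMaximal] :
    ∃ x : Pts X, ∀ a, x.evTop a = 0 ↔ a ∈ m := by
  have h := finiteType_strHom (X := X)
  letI : Algebra ℂ Γ(X, ⊤) := (strHom X).toAlgebra
  have hft : Algebra.FiniteType ℂ Γ(X, ⊤) := h
  letI : Field (Γ(X, ⊤) ⧸ m) := Ideal.Quotient.field m
  have hft' : Algebra.FiniteType ℂ (Γ(X, ⊤) ⧸ m) :=
    hft.of_surjective (Ideal.Quotient.mkₐ ℂ m) (Ideal.Quotient.mkₐ_surjective ℂ m)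
  have hfin : Module.Finite ℂ (Γ(X, ⊤) ⧸ m) := finite_of_finite_type_of_isJacobsonRing ℂ _
  have hint : Algebra.IsIntegral ℂ (Γ(X, ⊤) ⧸ m) := inferInstance
  have hbij : Function.Bijective (algebraMap ℂ (Γ(X, ⊤) ⧸ m)) :=
    IsAlgClosed.algebraMap_bijective_of_isIntegral
  let e : ℂ ≃+* (Γ(X, ⊤) ⧸ m) := RingEquiv.ofBijective (algebraMap ℂ (Γ(X, ⊤) ⧸ m)) hbij
  let φ : Γ(X, ⊤) →+* ℂ := (e.symm : (Γ(X, ⊤) ⧸ m) →+* ℂ).comp (Ideal.Quotient.mk m)
  have hφ : ∀ c, φ (strHom X c) = c := by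
    intro c
    change e.symm (Ideal.Quotient.mk m (algebraMap ℂ Γ(X, ⊤) c)) = c
    rw [RingEquiv.symm_apply_eq]
    rfl
  obtain ⟨x, hx⟩ := exists_pt_of_ringHom φ hφ
  refine ⟨x, fun a => ?_⟩
  rw [hx a]
  change e.symm (Ideal.Quotient.mk m a) = 0 ↔ _
  rw [map_eq_zero_iff _ e.symm.injective, Ideal.Quotient.eq_zero_iff_mem]

theorem nonempty_pts_of_isAffine [IsAffine X] [LocallyOfFiniteType (X ↘ SC)] [Nonempty X] :
    Nonempty (Pts X) := by
  haveI : Nonempty (⊤ : X.Opens) := ⟨⟨Classical.arbitrary X, trivial⟩⟩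
  haveI : Nontrivial Γ(X, ⊤) := Scheme.component_nontrivial X ⊤
  obtain ⟨m, hm⟩ := Ideal.exists_maximal Γ(X, ⊤)
  obtain ⟨x, -⟩ := exists_pt_of_isMaximal m
  exact ⟨x⟩

theorem nonempty_iff_nonempty_pts [LocallyOfFiniteType (X ↘ SC)] :
    Nonempty X ↔ Nonempty (Pts X) := by
  constructor
  · rintro ⟨p⟩
    obtain ⟨_, ⟨U', hU, rfl⟩, hxU, -⟩ :=
      (X.isBasis_affineOpens).exists_subset_of_mem_open (Set.mem_univ p) isOpen_univ
    obtain ⟨U, rfl⟩ : ∃ U : X.Opens, U = U' := ⟨U', rfl⟩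
    have : IsAffine U.toScheme := hU
    have : LocallyOfFiniteType (U.toScheme ↘ SC) := by
      rw [← Scheme.Opens.ι_comp_over]
      infer_instance
    haveI : Nonempty U.toScheme := ⟨⟨p, hxU⟩⟩
    obtain ⟨y⟩ := nonempty_pts_of_isAffine (X := U.toScheme)
    exact ⟨Pts.map U.ι y⟩
  · rintro ⟨x⟩
    exact ⟨x.pt⟩

end Groth.Agent.Helper19.AnPts
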