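import Mathlib
import Groth.Prelude.Def_AnPts
import Groth.Agent.Lib.Helper19.AnAffine

/-!
# ℂ-points and (closed) immersions (helper19)

Namespace `Groth.Agent.Helper19.AnPts`.

* `isClosedEmbedding_of_local` : a topological gluing lemma for closed embeddings.
* `isClosedEmbedding_map_of_isClosedImmersion` : a closed immersion over ℂ induces a closed
  embedding of spaces of ℂ-points (no finiteness hypotheses).
-/

set_option autoImplicit false

open AlgebraicGeometry CategoryTheory TopologicalSpace Opposite Topology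

namespace Groth.Agent.Helper19.AnPts

open An

section Top

/-- Gluing closed embeddings along an open cover of the target. -/
theorem isClosedEmbedding_of_local {A B : Type*} [TopologicalSpace A] [TopologicalSpace B]
    (F : A → B) (hF : Continuous F) {ι : Type*}
    (A' B' : ι → Type*) [∀ i, TopologicalSpace (A' i)] [∀ i, TopologicalSpace (B' i)]
    (a : ∀ i, A' i → A) (b : ∀ i, B' i → B) (g : ∀ i, A' i → B' i)
    (ha : ∀ i, Continuous (a i))
    (hb : ∀ i, IsOpenEmbedding (b i))
    (hcov : ∀ y : B, ∃ i, y ∈ Set.range (b i))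
    (hpre : ∀ i, F ⁻¹' (Set.range (b i)) ⊆ Set.range (a i))
    (hcomm : ∀ i z, F (a i z) = b i (g i z))
    (hg : ∀ i, IsClosedEmbedding (g i)) : IsClosedEmbedding F := by
  have hemb : IsEmbedding F := by
    refine isEmbedding_of_iSup_eq_top_of_preimage_subset_range F hF
      (fun i => ⟨Set.range (b i), (hb i).isOpen_range⟩) ?_ A' a ha hpre ?_
    · rintro _ ⟨x, rfl⟩
      obtain ⟨i, hi⟩ := hcov (F x)
      exact Opens.mem_iSup.mpr ⟨i, hi⟩
    · intro i
      have : F ∘ a i = b i ∘ g i := funext (hcomm i)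
      rw [this]
      exact (hb i).isEmbedding.comp (hg i).isEmbedding
  refine ⟨hemb, ?_⟩
  rw [← isOpen_compl_iff, isOpen_iff_forall_mem_open]
  intro y hy
  obtain ⟨i, w, rfl⟩ := hcov y
  refine ⟨b i '' (Set.range (g i))ᶜ, ?_, (hb i).isOpenMap _ (hg i).isClosed_range.isOpen_compl,
    ⟨w, ?_, rfl⟩⟩
  · rintro _ ⟨w', hw', rfl⟩ ⟨x, hx⟩
    have hx' : x ∈ F ⁻¹' Set.range (b i) := ⟨w', hx.symm⟩
    obtain ⟨z, rfl⟩ := hpre i hx'
    rw [hcomm i z] at hx
    exact hw' ⟨z, (hb i).injective hx⟩
  · rintro ⟨z, rfl⟩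
    exact hy ⟨a i z, hcomm i z⟩

end Top

variable {X Y : Scheme.{0}} [X.Over SC] [Y.Over SC] (f : X ⟶ Y) [f.IsOver SC]

theorem evTop_map (x : Pts X) (b : Γ(Y, ⊤)) :
    (Pts.map f x).evTop b = x.evTop (f.appTop b) :=
  Pts.ev_map f x ⊤ (Opens.mem_top _) b

theorem strHom_comp (c : ℂ) : f.appTop (strHom Y c) = strHom X c := by
  have h : (X ↘ SC).appTop = (Y ↘ SC).appTop ≫ f.appTop := by
    rw [← Scheme.Hom.comp_appTop, comp_over f SC]
  change f.appTop ((Y ↘ SC).appTop ((Scheme.ΓSpecIso (CommRingCat.of ℂ)).inv c)) =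
    (X ↘ SC).appTop ((Scheme.ΓSpecIso (CommRingCat.of ℂ)).inv c)
  rw [h]
  rfl

section AffineTarget

variable [IsAffine Y] [IsClosedImmersion f]

theorem isInducing_map_of_isAffine : IsInducing (Pts.map f) := by
  obtain ⟨hX, hsurj⟩ := IsClosedImmersion.isAffine_surjective_of_isAffine f
  constructor
  apply le_antisymm
  · exact (Pts.continuous_map f).le_induced
  · rw [(isInducing_evAll (X := X)).eq_induced]
    refine (continuous_iff_le_induced (t₁ := TopologicalSpace.induced (Pts.map f) _)).mp ?_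
    refine @continuous_pi _ _ _ (TopologicalSpace.induced (Pts.map f) _) _ _ (fun a => ?_)
    obtain ⟨b, rfl⟩ := hsurj a
    have : (fun x : Pts X => evAll X x (f.appTop b)) =
        (fun y : Pts Y => y.evTop b) ∘ Pts.map f := by
      funext x
      exact (evTop_map f x b).symm
    rw [this]
    exact @Continuous.comp _ _ _ (TopologicalSpace.induced (Pts.map f) _) _ _ _ _
      (continuous_evTop b) continuous_induced_dom

theorem range_map_of_isAffine :
    Set.range (Pts.map f) = ⋂ b ∈ RingHom.ker f.appTop.hom, {y : Pts Y | y.evTop b = 0} := by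
  obtain ⟨hX, hsurj⟩ := IsClosedImmersion.isAffine_surjective_of_isAffine f
  ext y
  simp only [Set.mem_range, Set.mem_iInter, Set.mem_ofPred_eq]
  constructor
  · rintro ⟨x, rfl⟩ b hb
    rw [evTop_map]
    have : f.appTop b = 0 := RingHom.mem_ker.mp hb
    rw [this]
    exact ev_zero x ⊤ _
  · intro hy
    let g : {g : Γ(Y, ⊤) →+* ℂ // RingHom.ker f.appTop.hom ≤ RingHom.ker g} :=
      ⟨evTopHom y, fun b hb => RingHom.mem_ker.mpr (hy b hb)⟩
    let φ : Γ(X, ⊤) →+* ℂ := f.appTop.hom.liftOfSurjective hsurj g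
    have hφ : ∀ b, φ (f.appTop b) = y.evTop b :=
      fun b => RingHom.liftOfSurjective_comp_apply _ hsurj g b
    have hφc : ∀ c, φ (strHom X c) = c := by
      intro c
      rw [← strHom_comp f c, hφ]
      exact evTop_strHom y c
    obtain ⟨x, hx⟩ := exists_pt_of_ringHom φ hφc
    refine ⟨x, ?_⟩
    apply evAll_injective
    funext b
    change (Pts.map f x).evTop b = y.evTop b
    rw [evTop_map, hx, hφ]

theorem isClosedEmbedding_map_of_isAffine : IsClosedEmbedding (Pts.map f) := by
  haveI : Mono f := inferInstance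
  refine ⟨⟨isInducing_map_of_isAffine f, map_injective_of_mono f⟩, ?_⟩
  rw [range_map_of_isAffine]
  refine isClosed_biInter (fun b _ => ?_)
  exact isClosed_eq (continuous_evTop b) continuous_const

end AffineTarget

instance morphismRestrict_isOver (V : Y.Opens) : (f ∣_ V).IsOver SC :=
  ⟨by
    rw [← Scheme.Opens.ι_comp_over, ← Category.assoc, morphismRestrict_ι, Category.assoc,
      comp_over f SC, Scheme.Opens.ι_comp_over]⟩

theorem map_ι_comp (V : Y.Opens) (z : Pts (f ⁻¹ᵁ V).toScheme) :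
    Pts.map f (Pts.map (f ⁻¹ᵁ V).ι z) = Pts.map V.ι (Pts.map (f ∣_ V) z) := by
  apply Subtype.ext
  simp only [Pts.map_val, Category.assoc, morphismRestrict_ι]

theorem range_map_ι (U : X.Opens) : Set.range (Pts.map U.ι) = Pts.pt ⁻¹' (U : Set X) := by
  rw [range_map_of_isOpenImmersion, Scheme.Opens.range_ι]

theorem preimage_range_map_ι (V : Y.Opens) :
    Pts.map f ⁻¹' Set.range (Pts.map V.ι) = Set.range (Pts.map (f ⁻¹ᵁ V).ι) := by
  rw [range_map_ι, range_map_ι]
  ext x
  simp only [Set.mem_preimage, Pts.pt_map]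
  rfl

theorem exists_affine_lift' (x : Pts X) :
    ∃ (U : X.affineOpens), x ∈ Set.range (Pts.map U.1.ι) := by
  obtain ⟨_, ⟨U', hU, rfl⟩, hxU, -⟩ :=
    (X.isBasis_affineOpens).exists_subset_of_mem_open (Set.mem_univ x.pt) isOpen_univ
  refine ⟨⟨U', hU⟩, ?_⟩
  rw [range_map_ι]
  exact hxU

theorem isClosedEmbedding_map_of_isClosedImmersion [IsClosedImmersion f] :
    IsClosedEmbedding (Pts.map f) := by
  refine isClosedEmbedding_of_local (Pts.map f) (Pts.continuous_map f) (ι := Y.affineOpens)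
    (fun V => Pts (f ⁻¹ᵁ V.1).toScheme) (fun V => Pts V.1.toScheme)
    (fun V => Pts.map (f ⁻¹ᵁ V.1).ι) (fun V => Pts.map V.1.ι) (fun V => Pts.map (f ∣_ V.1))
    (fun V => Pts.continuous_map _) (fun V => isOpenEmbedding_map_of_isOpenImmersion _)
    (fun y => exists_affine_lift' y) (fun V => (preimage_range_map_ι f V.1).le)
    (fun V z => map_ι_comp f V.1 z) (fun V => ?_)
  haveI : IsAffine V.1.toScheme := V.2
  exact isClosedEmbedding_map_of_isAffine (f ∣_ V.1)

instance liftCoborder_isOver [IsImmersion f] : f.liftCoborder.IsOver SC :=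
  ⟨by
    rw [← Scheme.Opens.ι_comp_over, ← Category.assoc, Scheme.Hom.liftCoborder_ι, comp_over f SC]⟩

theorem map_liftCoborder [IsImmersion f] (x : Pts X) :
    Pts.map f.coborderRange.ι (Pts.map f.liftCoborder x) = Pts.map f x := by
  apply Subtype.ext
  simp only [Pts.map_val, Category.assoc, Scheme.Hom.liftCoborder_ι]

theorem isEmbedding_map_of_isImmersion [IsImmersion f] :
    IsEmbedding (Pts.map f) ∧ IsLocallyClosed (Set.range (Pts.map f)) := by
  have h1 := isClosedEmbedding_map_of_isClosedImmersion f.liftCoborder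
  have h2 := isOpenEmbedding_map_of_isOpenImmersion f.coborderRange.ι
  have hcomp : Pts.map f = Pts.map f.coborderRange.ι ∘ Pts.map f.liftCoborder :=
    funext fun x => (map_liftCoborder f x).symm
  rw [hcomp]
  refine ⟨h2.isEmbedding.comp h1.isEmbedding, ?_⟩
  rw [Set.range_comp]
  exact h1.isClosed_range.isLocallyClosed.image h2.isInducing h2.isOpen_range.isLocallyClosed

end Groth.Agent.Helper19.AnPts
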