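import Mathlib

/-!
# Finitely generated algebras over `ℂ` with countably many points are Artinian (helper19)

Namespace `Groth.Agent.Helper19.CountablePts`.
-/

set_option autoImplicit false

namespace Groth.Agent.Helper19.CountablePts

variable {k : Type*} [Field k] [IsAlgClosed k] {A : Type*} [CommRing A] [Algebra k A]
  [Algebra.FiniteType k A]

/-- Nullstellensatz: every maximal ideal of a finitely generated algebra over an algebraically
closed field is the kernel of a `k`-point. -/
theorem exists_algHom_ker_eq (Q : Ideal A) [hQ : Q.IsMaximal] :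
    ∃ ψ : A →ₐ[k] k, RingHom.ker ψ = Q := by
  letI : Field (A ⧸ Q) := Ideal.Quotient.field Q
  have hft' : Algebra.FiniteType k (A ⧸ Q) :=
    Algebra.FiniteType.of_surjective (Ideal.Quotient.mkₐ k Q) (Ideal.Quotient.mkₐ_surjective k Q)
  have hfin : Module.Finite k (A ⧸ Q) := finite_of_finite_type_of_isJacobsonRing k _
  have hint : Algebra.IsIntegral k (A ⧸ Q) := inferInstance
  have hbij : Function.Bijective (algebraMap k (A ⧸ Q)) :=
    IsAlgClosed.algebraMap_bijective_of_isIntegral
  let e : k ≃ₐ[k] (A ⧸ Q) := AlgEquiv.ofBijective (Algebra.ofId k (A ⧸ Q)) hbij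
  refine ⟨(e.symm : (A ⧸ Q) →ₐ[k] k).comp (Ideal.Quotient.mkₐ k Q), ?_⟩
  ext a
  rw [RingHom.mem_ker]
  change e.symm (Ideal.Quotient.mk Q a) = 0 ↔ _
  rw [map_eq_zero_iff _ e.symm.injective, Ideal.Quotient.eq_zero_iff_mem]

/-- a finitely generated algebra over an uncountable algebraically closed field with countably
many points is Artinian. -/
theorem isArtinianRing_of_countable [Uncountable k] [Countable (A →ₐ[k] k)] :
    IsArtinianRing A := by
  rcases subsingleton_or_nontrivial A with hsub | hnt
  · infer_instance
  obtain ⟨s, g, hinj, hfin⟩ := exists_finite_inj_algHom_of_fg k A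
  letI algg : Algebra (MvPolynomial (Fin s) k) A := g.toRingHom.toAlgebra
  haveI : IsScalarTower k (MvPolynomial (Fin s) k) A :=
    IsScalarTower.of_algebraMap_eq (fun c => (g.commutes c).symm)
  haveI hmf : Module.Finite (MvPolynomial (Fin s) k) A := hfin
  rcases Nat.eq_zero_or_pos s with rfl | hs
  · -- `s = 0`: finite over `k`
    haveI : Module.Finite k (MvPolynomial (Fin 0) k) :=
      Module.Finite.equiv (MvPolynomial.isEmptyAlgEquiv k (Fin 0)).symm.toLinearEquiv
    haveI : Module.Finite k A := Module.Finite.trans (MvPolynomial (Fin 0) k) A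
    exact IsArtinianRing.of_finite k A
  · -- `s > 0`: uncountably many points
    exfalso
    have key : ∀ c : k, ∃ ψ : A →ₐ[k] k, ψ (g (MvPolynomial.X ⟨0, hs⟩)) = c := by
      intro c
      let e : MvPolynomial (Fin s) k →ₐ[k] k := MvPolynomial.aeval (fun _ => c)
      have he : Function.Surjective e := fun z => ⟨MvPolynomial.C z, by simp [e]⟩
      haveI : (RingHom.ker e.toRingHom).IsMaximal := RingHom.ker_isMaximal_of_surjective _ he
      have hker : RingHom.ker (algebraMap (MvPolynomial (Fin s) k) A) ≤
          RingHom.ker e.toRingHom := by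
        have : RingHom.ker (algebraMap (MvPolynomial (Fin s) k) A) = ⊥ :=
          (RingHom.injective_iff_ker_eq_bot _).mp hinj
        rw [this]
        exact bot_le
      obtain ⟨Q, hQ, hQc⟩ := Ideal.exists_ideal_over_maximal_of_isIntegral
        (S := A) (RingHom.ker e.toRingHom) hker
      obtain ⟨ψ, hψ⟩ := exists_algHom_ker_eq (k := k) Q
      refine ⟨ψ, ?_⟩
      have hmem : (MvPolynomial.X ⟨0, hs⟩ - MvPolynomial.C c : MvPolynomial (Fin s) k) ∈
          RingHom.ker e.toRingHom := by
        rw [RingHom.mem_ker]
        simp [e]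
      rw [← hQc, Ideal.mem_comap, ← hψ, RingHom.mem_ker] at hmem
      have h6 : algebraMap (MvPolynomial (Fin s) k) A
          (MvPolynomial.X ⟨0, hs⟩ - MvPolynomial.C c) =
          g (MvPolynomial.X ⟨0, hs⟩) - algebraMap k A c := by
        change g (MvPolynomial.X ⟨0, hs⟩ - MvPolynomial.C c) = _
        rw [map_sub]
        congr 1
        exact g.commutes c
      rw [h6] at hmem
      have h7 : ψ (g (MvPolynomial.X ⟨0, hs⟩)) - ψ (algebraMap k A c) = 0 := by
        rw [← map_sub]
        exact hmem
      rw [ψ.commutes, sub_eq_zero] at h7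
      exact h7
    choose ψc hψc using key
    have hinj' : Function.Injective ψc := by
      intro c c' hcc
      rw [← hψc c, ← hψc c', hcc]
    haveI : Countable k := hinj'.countable
    exact not_countable (α := k) inferInstance

end Groth.Agent.Helper19.CountablePts
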