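import Mathlib
import Groth.Prelude.Def_AnPts
import Groth.Agent.Lib.Helper19.AnFT
import Groth.Agent.Lib.Helper19.AnImm
import Groth.Agent.Lib.Helper19.CountablePoints

/-!
# ℂ-points: injectivity of `pt`, discreteness (helper19)

Namespace `Groth.Agent.Helper19.AnPts`.
-/

set_option autoImplicit false

open AlgebraicGeometry CategoryTheory TopologicalSpace Opposite Topology

namespace Groth.Agent.Helper19.AnPts

open An

variable {X Y : Scheme.{0}} [X.Over SC] [Y.Over SC]

theorem evTop_sub (x : Pts X) (a b : Γ(X, ⊤)) : x.evTop (a - b) = x.evTop a - x.evTop b :=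
  map_sub (evTopHom x) a b

/-- a ℂ-point of an affine scheme is determined by its underlying point. -/
theorem pt_injective_of_isAffine [IsAffine X] : Function.Injective (Pts.pt : Pts X → X) := by
  intro x y hxy
  apply evAll_injective
  funext a
  change x.evTop a = y.evTop a
  set c := x.evTop a with hc
  have h1 : x.evTop (a - strHom X c) = 0 := by
    rw [evTop_sub, evTop_strHom, sub_self]
  have h2 : ¬ x.pt ∈ X.basicOpen (a - strHom X c) := by
    rw [mem_basicOpen_iff x ⊤ (Opens.mem_top _)]
    exact not_not.mpr h1
  rw [hxy, mem_basicOpen_iff y ⊤ (Opens.mem_top _), not_not] at h2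
  have h3 : y.evTop (a - strHom X c) = 0 := h2
  rw [evTop_sub, evTop_strHom, sub_eq_zero] at h3
  exact h3.symm

/-- a ℂ-point is determined by its underlying point. -/
theorem pt_injective : Function.Injective (Pts.pt : Pts X → X) := by
  intro x y hxy
  obtain ⟨U, hU⟩ := exists_affine_lift' x
  have hy : y ∈ Set.range (Pts.map U.1.ι) := by
    rw [range_map_ι] at hU ⊢
    change y.pt ∈ (U.1 : Set X)
    rw [← hxy]
    exact hU
  obtain ⟨x', rfl⟩ := hU
  obtain ⟨y', rfl⟩ := hy
  haveI : IsAffine U.1.toScheme := U.2
  congr 1
  apply pt_injective_of_isAffine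
  rw [Pts.pt_map, Pts.pt_map] at hxy
  exact Subtype.ext hxy

/-- An affine scheme of finite type over ℂ with countably many ℂ-points has an Artinian
coordinate ring (Noether normalisation + lying over + Nullstellensatz). -/
theorem isArtinianRing_of_countable_pts [IsAffine X] [LocallyOfFiniteType (X ↘ SC)]
    [Countable (Pts X)] : IsArtinianRing Γ(X, ⊤) := by
  have h := finiteType_strHom (X := X)
  letI alg : Algebra ℂ Γ(X, ⊤) := (strHom X).toAlgebra
  haveI hft : Algebra.FiniteType ℂ Γ(X, ⊤) := h
  have key : ∀ ψ : Γ(X, ⊤) →ₐ[ℂ] ℂ, ∃ x : Pts X, ∀ a, x.evTop a = ψ a := fun ψ =>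
    exists_pt_of_ringHom ψ.toRingHom (fun c => ψ.commutes c)
  choose xψ hxψ using key
  have hinj : Function.Injective xψ := by
    intro ψ ψ' h
    ext a
    rw [← hxψ ψ a, ← hxψ ψ' a, h]
  haveI : Countable (Γ(X, ⊤) →ₐ[ℂ] ℂ) := hinj.countable
  haveI : Uncountable ℂ := ⟨fun hc => not_countable_complex (Set.countable_univ_iff.mpr hc)⟩
  exact CountablePts.isArtinianRing_of_countable (k := ℂ)

theorem locallyOfFiniteType_opens [LocallyOfFiniteType (X ↘ SC)] (U : X.Opens) :
    LocallyOfFiniteType (U.toScheme ↘ SC) := by
  rw [← Scheme.Opens.ι_comp_over]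
  infer_instance

/-- S4187: the underlying space is discrete iff the space of ℂ-points is discrete. -/
theorem discreteTopology_iff [LocallyOfFiniteType (X ↘ SC)] :
    DiscreteTopology X ↔ DiscreteTopology (Pts X) := by
  constructor
  · intro h
    rw [discreteTopology_iff_isOpen_singleton]
    intro x
    have : ({x} : Set (Pts X)) = Pts.pt ⁻¹' {x.pt} := by
      ext y
      simp only [Set.mem_singleton_iff, Set.mem_preimage]
      exact ⟨fun h => h ▸ rfl, fun h => pt_injective h⟩
    rw [this]
    exact (isOpen_discrete _).preimage Pts.continuous_pt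
  · intro h
    haveI : IsLocallyArtinian X := by
      constructor
      intro U
      haveI : IsAffine U.1.toScheme := U.2
      haveI := locallyOfFiniteType_opens U.1
      have hemb := isOpenEmbedding_map_of_isOpenImmersion U.1.ι
      haveI : DiscreteTopology (Pts U.1.toScheme) := hemb.isEmbedding.discreteTopology
      obtain ⟨n, s, hs⟩ := exists_generators (X := U.1.toScheme)
      have hce := isClosedEmbedding_of_generators s hs
      haveI : SecondCountableTopology (Pts U.1.toScheme) :=
        hce.isEmbedding.secondCountableTopology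
      haveI : Countable (Pts U.1.toScheme) :=
        TopologicalSpace.separableSpace_iff_countable.mp inferInstance
      have hart := isArtinianRing_of_countable_pts (X := U.1.toScheme)
      exact U.1.topIso.commRingCatIsoToRingEquiv.isArtinianRing
    infer_instance

end Groth.Agent.Helper19.AnPts
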