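import Mathlib
import Groth.Prelude.Def_AnPts
import Groth.Agent.Lib.Helper19.AnDiscrete

/-!
# ℂ-points: closed points, fibre products on points, injectivity (helper19)

Namespace `Groth.Agent.Helper19.AnPts`.
-/

set_option autoImplicit false

open AlgebraicGeometry CategoryTheory TopologicalSpace Opposite Topology Limits

namespace Groth.Agent.Helper19.AnPts

open An

variable {X Y : Scheme.{0}} [X.Over SC] [Y.Over SC]

/-- the prime ideal of a point of an affine scheme. -/
noncomputable def primeOf [IsAffine X] (z : X) : PrimeSpectrum Γ(X, ⊤) := X.isoSpec.hom z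

omit [X.Over SC] in
/-- membership in the prime ideal of a point of an affine scheme. -/
theorem mem_asIdeal_primeOf_iff [IsAffine X] (z : X) (a : Γ(X, ⊤)) :
    a ∈ (primeOf z).asIdeal ↔ z ∉ X.basicOpen a := by
  rw [← Scheme.map_PrimeSpectrum_basicOpen_of_affine]
  change _ ↔ ¬ (primeOf z ∈ PrimeSpectrum.basicOpen a)
  rw [PrimeSpectrum.mem_basicOpen, not_not]

omit [X.Over SC] in
theorem primeOf_injective [IsAffine X] : Function.Injective (primeOf : X → _) :=
  (X.isoSpec.hom.homeomorph).injective

/-- Nullstellensatz: closed points of an affine scheme of finite type over ℂ are ℂ-points. -/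
theorem exists_pt_eq_of_isClosed_of_isAffine [IsAffine X] [LocallyOfFiniteType (X ↘ SC)]
    (p : X) (hp : IsClosed ({p} : Set X)) : ∃ x : Pts X, x.pt = p := by
  have hq : IsClosed ({primeOf p} : Set (PrimeSpectrum Γ(X, ⊤))) := by
    have := (X.isoSpec.hom.homeomorph).isClosed_image.mpr hp
    rw [Set.image_singleton] at this
    exact this
  haveI hmax : (primeOf p).asIdeal.IsMaximal :=
    (PrimeSpectrum.isClosed_singleton_iff_isMaximal _).mp hq
  obtain ⟨x, hx⟩ := exists_pt_of_isMaximal (primeOf p).asIdeal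
  refine ⟨x, ?_⟩
  apply primeOf_injective
  apply PrimeSpectrum.ext
  ext a
  rw [mem_asIdeal_primeOf_iff, mem_basicOpen_iff x ⊤ (Opens.mem_top _), not_not, hx]

/-- Nullstellensatz: closed points of a scheme locally of finite type over ℂ are ℂ-points. -/
theorem exists_pt_eq_of_isClosed [LocallyOfFiniteType (X ↘ SC)]
    (p : X) (hp : IsClosed ({p} : Set X)) : ∃ x : Pts X, x.pt = p := by
  obtain ⟨_, ⟨U', hU, rfl⟩, hpU, -⟩ :=
    (X.isBasis_affineOpens).exists_subset_of_mem_open (Set.mem_univ p) isOpen_univ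
  obtain ⟨U, rfl⟩ : ∃ U : X.Opens, U = U' := ⟨U', rfl⟩
  haveI : IsAffine U.toScheme := hU
  haveI := locallyOfFiniteType_opens U
  have hp' : IsClosed ({⟨p, hpU⟩} : Set U.toScheme) := by
    have h1 : ({⟨p, hpU⟩} : Set U.toScheme) = U.ι ⁻¹' {p} := by
      ext z
      simp only [Set.mem_singleton_iff, Set.mem_preimage]
      exact ⟨fun h => h ▸ rfl, fun h => Subtype.ext h⟩
    rw [h1]
    exact hp.preimage U.ι.continuous
  obtain ⟨x, hx⟩ := exists_pt_eq_of_isClosed_of_isAffine (X := U.toScheme) ⟨p, hpU⟩ hp'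
  refine ⟨Pts.map U.ι x, ?_⟩
  rw [Pts.pt_map, hx]
  rfl

section Pullback

variable {S : Scheme.{0}} [S.Over SC] (f : X ⟶ S) (g : Y ⟶ S) [f.IsOver SC] [g.IsOver SC]

/-- the ℂ-point of a fibre product given by a compatible pair of ℂ-points. -/
noncomputable def pullbackPt (x : Pts X) (y : Pts Y) (h : Pts.map f x = Pts.map g y) :
    Pts (pullback f g) :=
  ⟨pullback.lift x.1 y.1 (congrArg Subtype.val h), by
    change pullback.lift _ _ _ ≫ (pullback.fst f g ≫ X ↘ SC) = 𝟙 _
    rw [pullback.lift_fst_assoc]
    exact x.2⟩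

theorem map_fst_pullbackPt (x : Pts X) (y : Pts Y) (h : Pts.map f x = Pts.map g y) :
    Pts.map (pullback.fst f g) (pullbackPt f g x y h) = x :=
  Subtype.ext (pullback.lift_fst _ _ _)

theorem map_snd_pullbackPt (x : Pts X) (y : Pts Y) (h : Pts.map f x = Pts.map g y) :
    Pts.map (pullback.snd f g) (pullbackPt f g x y h) = y :=
  Subtype.ext (pullback.lift_snd _ _ _)

theorem pullback_pts_ext (z w : Pts (pullback f g))
    (h1 : Pts.map (pullback.fst f g) z = Pts.map (pullback.fst f g) w)
    (h2 : Pts.map (pullback.snd f g) z = Pts.map (pullback.snd f g) w) : z = w :=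
  Subtype.ext (pullback.hom_ext (congrArg Subtype.val h1) (congrArg Subtype.val h2))

end Pullback

section Injective

variable (f : X ⟶ Y) [f.IsOver SC]

theorem locallyOfFiniteType_of_over [LocallyOfFiniteType (X ↘ SC)] : LocallyOfFiniteType f := by
  haveI : LocallyOfFiniteType (f ≫ Y ↘ SC) := by
    rw [comp_over f SC]
    infer_instance
  exact locallyOfFiniteType_of_comp f (Y ↘ SC)

instance diagonal_isOver : (pullback.diagonal f).IsOver SC :=
  ⟨by
    change pullback.diagonal f ≫ (pullback.fst f f ≫ X ↘ SC) = X ↘ SC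
    rw [pullback.diagonal_fst_assoc]⟩

theorem locallyOfFiniteType_pullback {S : Scheme.{0}} [S.Over SC] (f : X ⟶ S) (g : Y ⟶ S)
    [f.IsOver SC] [g.IsOver SC] [LocallyOfFiniteType (X ↘ SC)] [LocallyOfFiniteType (Y ↘ SC)] :
    LocallyOfFiniteType (pullback f g ↘ SC) := by
  haveI := locallyOfFiniteType_of_over g
  change LocallyOfFiniteType (pullback.fst f g ≫ X ↘ SC)
  infer_instance

/-- S4194 -/
theorem injective_iff_map_injective [LocallyOfFiniteType (X ↘ SC)]
    [LocallyOfFiniteType (Y ↘ SC)] :
    Function.Injective f.base ↔ Function.Injective (Pts.map f) := by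
  constructor
  · intro hf x y hxy
    apply pt_injective
    apply hf
    have := congrArg Pts.pt hxy
    rwa [Pts.pt_map, Pts.pt_map] at this
  · intro hmap p q hpq
    by_contra hne
    obtain ⟨z, hz1, hz2⟩ := Scheme.Pullback.exists_preimage_pullback (f := f) (g := f) p q hpq
    have hz : z ∉ Set.range (pullback.diagonal f) := by
      rintro ⟨w, rfl⟩
      have h1 : pullback.fst f f (pullback.diagonal f w) = w := by
        rw [← Scheme.Hom.comp_apply, pullback.diagonal_fst]
        rfl
      have h2 : pullback.snd f f (pullback.diagonal f w) = w := by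
        rw [← Scheme.Hom.comp_apply, pullback.diagonal_snd]
        rfl
      exact hne (by rw [← hz1, ← hz2, h1, h2])
    haveI := locallyOfFiniteType_pullback f f
    haveI : JacobsonSpace ↥(pullback f f) :=
      LocallyOfFiniteType.jacobsonSpace (pullback f f ↘ SC)
    obtain ⟨U, C, hU, hC, hUC⟩ := (pullback.diagonal f).isLocallyClosed_range
    -- a closed point outside the diagonal
    have hex : ∃ z' : ↑(pullback f f), IsClosed ({z'} : Set ↑(pullback f f)) ∧
        z' ∉ Set.range (pullback.diagonal f) := by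
      by_cases hzU : z ∈ U
      · have hzC : z ∉ C := fun hzC => hz (hUC ▸ ⟨hzU, hzC⟩)
        obtain ⟨z', hz'1, hz'2⟩ := nonempty_inter_closedPoints (Z := Cᶜ) ⟨z, hzC⟩
          hC.isOpen_compl.isLocallyClosed
        exact ⟨z', hz'2, fun h => hz'1 (hUC ▸ h).2⟩
      · obtain ⟨z', hz'1, hz'2⟩ := nonempty_inter_closedPoints (Z := Uᶜ) ⟨z, hzU⟩
          hU.isClosed_compl.isLocallyClosed
        exact ⟨z', hz'2, fun h => hz'1 (hUC ▸ h).1⟩
    obtain ⟨z', hz'c, hz'⟩ := hex
    obtain ⟨w, hw⟩ := exists_pt_eq_of_isClosed z' hz'c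
    have hxy := hmap (Pts.map_pullback_condition f f w)
    have hw' : w = Pts.map (pullback.diagonal f) (Pts.map (pullback.fst f f) w) := by
      apply pullback_pts_ext f f
      · apply Subtype.ext
        simp only [Pts.map_val, Category.assoc, pullback.diagonal_fst, Category.comp_id]
      · rw [← hxy]
        apply Subtype.ext
        simp only [Pts.map_val, Category.assoc, pullback.diagonal_snd, Category.comp_id]
    apply hz'
    rw [← hw, hw', Pts.pt_map]
    exact Set.mem_range_self _

end Injective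

end Groth.Agent.Helper19.AnPts
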