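import Mathlib
import Groth.Prelude.Def_AnPts
import Groth.Agent.Lib.Helper19.AnClosedPts

/-!
# ℂ-points: surjectivity (helper19)

Namespace `Groth.Agent.Helper19.AnPts`.
-/

set_option autoImplicit false

open AlgebraicGeometry CategoryTheory TopologicalSpace Opposite Topology Limits

namespace Groth.Agent.Helper19.AnPts

open An

section Top

variable {W : Type*} [TopologicalSpace W]

/-- a nonempty constructible set contains a nonempty locally closed subset. -/
theorem exists_isLocallyClosed_subset_of_isConstructible {s : Set W} (hs : IsConstructible s) :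
    s.Nonempty → ∃ Z ⊆ s, Z.Nonempty ∧ IsLocallyClosed Z := by
  induction s, hs using BooleanSubalgebra.closure_sdiff_sup_induction with
  | isSublattice =>
    exact ⟨fun s hs t ht ↦ ⟨hs.1.union ht.1, hs.2.union ht.2⟩,
      fun s hs t ht ↦ ⟨hs.1.inter ht.1, hs.2.inter_isOpen ht.2 ht.1⟩⟩
  | bot_mem => exact ⟨isOpen_empty, .empty⟩
  | top_mem => exact ⟨isOpen_univ, .univ⟩
  | sdiff U hU V hV =>
    intro hne
    exact ⟨U \ V, subset_rfl, hne, hU.1.isLocallyClosed.inter hV.1.isClosed_compl.isLocallyClosed⟩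
  | sup s _ t _ hs' ht' =>
    rintro ⟨x, hx | hx⟩
    · obtain ⟨Z, hZ, h1, h2⟩ := hs' ⟨x, hx⟩
      exact ⟨Z, hZ.trans Set.subset_union_left, h1, h2⟩
    · obtain ⟨Z, hZ, h1, h2⟩ := ht' ⟨x, hx⟩
      exact ⟨Z, hZ.trans Set.subset_union_right, h1, h2⟩

/-- a nonempty locally constructible subset of a Jacobson space contains a closed point. -/
theorem exists_isClosed_singleton_mem_of_isLocallyConstructible [JacobsonSpace W] {T : Set W}
    (hT : IsLocallyConstructible T) (hne : T.Nonempty) : ∃ y ∈ T, IsClosed ({y} : Set W) := by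
  obtain ⟨q, hq⟩ := hne
  obtain ⟨U, hUq, hUo, hc⟩ := hT q
  obtain ⟨Z, hZs, hZne, hZlc⟩ := exists_isLocallyClosed_subset_of_isConstructible hc
    ⟨⟨q, mem_of_mem_nhds hUq⟩, hq⟩
  have hlc : IsLocallyClosed (Subtype.val '' Z : Set W) :=
    hZlc.image IsInducing.subtypeVal (by rw [Subtype.range_coe]; exact hUo.isLocallyClosed)
  obtain ⟨y, ⟨z, hz, rfl⟩, hy⟩ := nonempty_inter_closedPoints (hZne.image _) hlc
  exact ⟨z, hZs hz, hy⟩

theorem isLocallyConstructible_compl {T : Set W} (hT : IsLocallyConstructible T) :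
    IsLocallyConstructible Tᶜ := by
  intro x
  obtain ⟨U, hUx, hUo, hc⟩ := hT x
  exact ⟨U, hUx, hUo, hc.compl⟩

end Top

variable {X Y : Scheme.{0}} [X.Over SC] [Y.Over SC]

instance isLocallyNoetherian_of_locallyOfFiniteType [LocallyOfFiniteType (X ↘ SC)] :
    IsLocallyNoetherian X :=
  LocallyOfFiniteType.isLocallyNoetherian (X ↘ SC)

instance jacobsonSpace_of_locallyOfFiniteType [LocallyOfFiniteType (X ↘ SC)] :
    JacobsonSpace X :=
  LocallyOfFiniteType.jacobsonSpace (X ↘ SC)

section Surjective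

variable (f : X ⟶ Y) [f.IsOver SC]

/-- the ℂ-points of the fibre: if the fibre over a ℂ-point is nonempty, the point is hit. -/
theorem exists_map_eq_of_mem_range [LocallyOfFiniteType (X ↘ SC)] (y : Pts Y)
    (hy : y.pt ∈ Set.range f) : ∃ x : Pts X, Pts.map f x = y := by
  obtain ⟨p, hp⟩ := hy
  letI inst : SC.Over SC := ⟨𝟙 SC⟩
  haveI : y.1.IsOver SC := ⟨y.2⟩
  obtain ⟨z, -, -⟩ := Scheme.Pullback.exists_preimage_pullback (f := f) (g := y.1) p cpt hp
  haveI : LocallyOfFiniteType (SC ↘ SC) := by
    change LocallyOfFiniteType (𝟙 SC)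
    infer_instance
  haveI hF : LocallyOfFiniteType (pullback y.1 f ↘ SC) := locallyOfFiniteType_pullback y.1 f
  obtain ⟨w⟩ := (nonempty_iff_nonempty_pts (X := pullback y.1 f)).mp
    ⟨(pullbackSymmetry f y.1).hom z⟩
  refine ⟨Pts.map (pullback.snd y.1 f) w, ?_⟩
  apply Subtype.ext
  have h1 : w.1 ≫ pullback.fst y.1 f = 𝟙 SC := by
    have := w.2
    change w.1 ≫ (pullback.fst y.1 f ≫ 𝟙 SC) = 𝟙 SC at this
    rwa [Category.comp_id] at this
  simp only [Pts.map_val, Category.assoc]
  rw [← pullback.condition, ← Category.assoc, h1, Category.id_comp]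

/-- S4198 -/
theorem surjective_iff_map_surjective [LocallyOfFiniteType (X ↘ SC)]
    [LocallyOfFiniteType (Y ↘ SC)] [QuasiCompact f] :
    Function.Surjective f.base ↔ Function.Surjective (Pts.map f) := by
  constructor
  · intro hf y
    exact exists_map_eq_of_mem_range f y (hf y.pt)
  · intro hmap
    by_contra hns
    have hne : (Set.range f)ᶜ.Nonempty := by
      by_contra h
      rw [Set.not_nonempty_iff_eq_empty, Set.compl_empty_iff] at h
      exact hns (Set.range_eq_univ.mp h)
    haveI := locallyOfFiniteType_of_over f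
    have hlc : IsLocallyConstructible (Set.range f) := by
      rw [← Set.image_univ]
      exact f.isLocallyConstructible_image IsLocallyConstructible.univ
    obtain ⟨q, hq, hqc⟩ := exists_isClosed_singleton_mem_of_isLocallyConstructible
      (isLocallyConstructible_compl hlc) hne
    obtain ⟨y, rfl⟩ := exists_pt_eq_of_isClosed q hqc
    obtain ⟨x, rfl⟩ := hmap y
    apply hq
    rw [Pts.pt_map]
    exact Set.mem_range_self _

end Surjective

end Groth.Agent.Helper19.AnPts
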