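import Mathlib
import Groth.Agent.Lib.Helper19.CountablePoints

/-!
# Finite maps to affine space are open on ℂ-points (helper19)

Namespace `Groth.Agent.Helper19.FiniteOpen`.

For a domain `B`, finite and injective over `A₀ = ℂ[t₁, …, t_d]`, the set of `ℂ`-points of `B`
(as a subset of the product space `B → ℂ`) maps openly onto `ℂ^d`.  Consequence: for `h ≠ 0` the
locus `h ≠ 0` is dense in the `ℂ`-points of any finitely generated `ℂ`-domain.
-/

set_option autoImplicit false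

open Polynomial Topology Filter

namespace Groth.Agent.Helper19.FiniteOpen

/-- a monic complex polynomial of positive degree has a root `c` with `|c|^n ≤ |p(0)|`. -/
theorem exists_root_pow_le (p : ℂ[X]) (hm : p.Monic) (hd : 0 < p.natDegree) :
    ∃ c, p.IsRoot c ∧ ‖c‖ ^ p.natDegree ≤ ‖p.coeff 0‖ := by
  have hs : p.Splits := IsAlgClosed.splits p
  have hcard : p.natDegree = Multiset.card p.roots := hs.natDegree_eq_card_roots
  have hne : p.roots.toFinset.Nonempty := by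
    rw [Multiset.toFinset_nonempty]
    intro h0
    rw [h0, Multiset.card_zero] at hcard
    omega
  obtain ⟨c₀, hc₀, hmin⟩ := Finset.exists_min_image p.roots.toFinset (fun c => ‖c‖₊) hne
  rw [Multiset.mem_toFinset] at hc₀
  refine ⟨c₀, (mem_roots hm.ne_zero).mp hc₀, ?_⟩
  have h1 : ‖c₀‖₊ ^ Multiset.card (p.roots.map (fun c => ‖c‖₊)) ≤
      (p.roots.map (fun c => ‖c‖₊)).prod := by
    apply Multiset.pow_card_le_prod
    intro x hx
    obtain ⟨c, hc, rfl⟩ := Multiset.mem_map.mp hx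
    exact hmin c (Multiset.mem_toFinset.mpr hc)
  rw [Multiset.card_map, ← hcard] at h1
  have h2 : (p.roots.map (fun c => ‖c‖₊)).prod = ‖p.roots.prod‖₊ :=
    (map_multiset_prod (nnnormHom : ℂ →*₀ NNReal) p.roots).symm
  have h3 : ‖p.coeff 0‖₊ = ‖p.roots.prod‖₊ := by
    rw [hs.coeff_zero_eq_prod_roots_of_monic hm, nnnorm_mul, nnnorm_pow, nnnorm_neg, nnnorm_one,
      one_pow, one_mul]
  rw [h2, ← h3] at h1
  exact_mod_cast h1

section Pts

variable (B : Type*) [CommRing B] [Algebra ℂ B]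

/-- the set of `ℂ`-points of `B` inside the product space `B → ℂ`. -/
def pts : Set (B → ℂ) := Set.range (fun ψ : B →ₐ[ℂ] ℂ => (ψ : B → ℂ))

theorem isClosed_pts : IsClosed (pts B) := by
  have h : pts B = ({φ | φ 1 = 1} ∩ (⋂ a, ⋂ b, {φ | φ (a + b) = φ a + φ b}) ∩
      (⋂ a, ⋂ b, {φ | φ (a * b) = φ a * φ b}) ∩
      (⋂ c : ℂ, {φ | φ (algebraMap ℂ B c) = c}) : Set (B → ℂ)) := by
    ext φ
    simp only [pts, Set.mem_range, Set.mem_inter_iff, Set.mem_ofPred_eq, Set.mem_iInter]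
    constructor
    · rintro ⟨ψ, rfl⟩
      exact ⟨⟨⟨map_one ψ, fun a b => map_add ψ a b⟩, fun a b => map_mul ψ a b⟩,
        fun c => ψ.commutes c⟩
    · rintro ⟨⟨⟨h1, hadd⟩, hmul⟩, hc⟩
      refine ⟨{ toFun := φ
                map_one' := h1
                map_mul' := hmul
                map_zero' := by
                  have := hc 0
                  rwa [map_zero] at this
                map_add' := hadd
                commutes' := hc }, rfl⟩
  rw [h]
  refine ((IsClosed.inter ?_ ?_).inter ?_).inter ?_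
  · exact isClosed_eq (continuous_apply _) continuous_const
  · exact isClosed_iInter fun a => isClosed_iInter fun b =>
      isClosed_eq (continuous_apply (a + b)) ((continuous_apply a).add (continuous_apply b))
  · exact isClosed_iInter fun a => isClosed_iInter fun b =>
      isClosed_eq (continuous_apply (a * b)) ((continuous_apply a).mul (continuous_apply b))
  · exact isClosed_iInter fun c => isClosed_eq (continuous_apply _) continuous_const

variable {B}

/-- two `ℂ`-points with comparable kernels are equal. -/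
theorem algHom_eq_of_ker_le {R : Type*} [CommRing R] [Algebra ℂ R] (φ₁ φ₂ : R →ₐ[ℂ] ℂ)
    (h : RingHom.ker φ₁ ≤ RingHom.ker φ₂) : φ₁ = φ₂ := by
  ext r
  have h1 : r - algebraMap ℂ R (φ₁ r) ∈ RingHom.ker φ₁ := by
    rw [RingHom.mem_ker, map_sub, φ₁.commutes]
    exact sub_self _
  have h2 := h h1
  rw [RingHom.mem_ker, map_sub, φ₂.commutes, sub_eq_zero] at h2
  exact h2.symm

end Pts

section Finite

variable (d : ℕ) {B : Type*} [CommRing B] [Algebra ℂ B]
  [Algebra (MvPolynomial (Fin d) ℂ) B] [IsScalarTower ℂ (MvPolynomial (Fin d) ℂ) B]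

/-- the projection of (all functions, in particular) `ℂ`-points to `ℂ^d`. -/
noncomputable def proj (φ : B → ℂ) : Fin d → ℂ :=
  fun i => φ (algebraMap (MvPolynomial (Fin d) ℂ) B (MvPolynomial.X i))

omit [Algebra ℂ B] [IsScalarTower ℂ (MvPolynomial (Fin d) ℂ) B] in
theorem continuous_proj : Continuous (proj d : (B → ℂ) → Fin d → ℂ) :=
  continuous_pi (fun _ => continuous_apply _)

theorem algHom_algebraMap (ψ : B →ₐ[ℂ] ℂ) (a : MvPolynomial (Fin d) ℂ) :
    ψ (algebraMap (MvPolynomial (Fin d) ℂ) B a) = MvPolynomial.eval (proj d ψ) a := by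
  have h : ψ.comp (IsScalarTower.toAlgHom ℂ (MvPolynomial (Fin d) ℂ) B) =
      MvPolynomial.aeval (proj d ψ) := by
    apply MvPolynomial.algHom_ext
    intro i
    simp [proj]
  have := congrArg (fun χ => χ a) h
  simpa [MvPolynomial.coe_aeval_eq_eval] using this

variable [IsDomain B] [Module.Finite (MvPolynomial (Fin d) ℂ) B]
  [FaithfulSMul (MvPolynomial (Fin d) ℂ) B]

/-- lifting roots of the specialised minimal polynomial to `ℂ`-points. -/
theorem exists_algHom_of_root (b : B) (t : Fin d → ℂ) (c : ℂ)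
    (hc : ((minpoly (MvPolynomial (Fin d) ℂ) b).map (MvPolynomial.eval t)).IsRoot c) :
    ∃ ψ : B →ₐ[ℂ] ℂ, proj d ψ = t ∧ ψ b = c := by
  have hb : IsIntegral (MvPolynomial (Fin d) ℂ) b := Algebra.IsIntegral.isIntegral b
  letI algR : Algebra (MvPolynomial (Fin d) ℂ)[X] B :=
    (aeval b : (MvPolynomial (Fin d) ℂ)[X] →ₐ[MvPolynomial (Fin d) ℂ] B).toRingHom.toAlgebra
  have halg : ∀ r : (MvPolynomial (Fin d) ℂ)[X],
      algebraMap (MvPolynomial (Fin d) ℂ)[X] B r = aeval b r := fun r => rfl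
  haveI : IsScalarTower (MvPolynomial (Fin d) ℂ) (MvPolynomial (Fin d) ℂ)[X] B :=
    IsScalarTower.of_algebraMap_eq (fun a => by
      rw [halg, Polynomial.algebraMap_apply, aeval_C]; rfl)
  haveI : Algebra.IsIntegral (MvPolynomial (Fin d) ℂ)[X] B :=
    Algebra.IsIntegral.tower_top (R := MvPolynomial (Fin d) ℂ)
  let χ : (MvPolynomial (Fin d) ℂ)[X] →+* ℂ := Polynomial.eval₂RingHom (MvPolynomial.eval t) c
  have hχC : ∀ z : ℂ, χ (C (MvPolynomial.C z)) = z := by
    intro z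
    simp [χ]
  haveI : (RingHom.ker χ).IsMaximal :=
    RingHom.ker_isMaximal_of_surjective χ (fun z => ⟨C (MvPolynomial.C z), hχC z⟩)
  have hker : RingHom.ker (algebraMap (MvPolynomial (Fin d) ℂ)[X] B) ≤ RingHom.ker χ := by
    have h1 : RingHom.ker (algebraMap (MvPolynomial (Fin d) ℂ)[X] B) =
        Ideal.span {minpoly (MvPolynomial (Fin d) ℂ) b} := minpoly.ker_eval hb
    rw [h1, Ideal.span_le, Set.singleton_subset_iff, SetLike.mem_coe, RingHom.mem_ker]
    change Polynomial.eval₂ (MvPolynomial.eval t) c (minpoly (MvPolynomial (Fin d) ℂ) b) = 0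
    rw [← Polynomial.eval_map]
    exact hc
  obtain ⟨Q, hQ, hQc⟩ := Ideal.exists_ideal_over_maximal_of_isIntegral (S := B)
    (RingHom.ker χ) hker
  haveI : Algebra.FiniteType ℂ B :=
    Algebra.FiniteType.trans (inferInstance : Algebra.FiniteType ℂ (MvPolynomial (Fin d) ℂ))
      (inferInstance : Algebra.FiniteType (MvPolynomial (Fin d) ℂ) B)
  obtain ⟨ψ, hψ⟩ := CountablePts.exists_algHom_ker_eq (k := ℂ) Q
  have key : ∀ r : (MvPolynomial (Fin d) ℂ)[X], ψ (aeval b r) = χ r := by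
    intro r
    have h1 : r - C (MvPolynomial.C (χ r)) ∈ RingHom.ker χ := by
      rw [RingHom.mem_ker, map_sub, hχC, sub_self]
    rw [← hQc, Ideal.mem_comap, ← hψ, RingHom.mem_ker, halg, map_sub, map_sub, sub_eq_zero] at h1
    rw [h1, aeval_C, ← MvPolynomial.algebraMap_eq, ← IsScalarTower.algebraMap_apply, ψ.commutes]
    rfl
  refine ⟨ψ, ?_, ?_⟩
  · funext i
    have := key (C (MvPolynomial.X i))
    rw [aeval_C] at this
    rw [proj, this]
    simp [χ]
  · have := key X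
    rw [aeval_X] at this
    rw [this]
    simp [χ]

omit [IsDomain B] [Module.Finite (MvPolynomial (Fin d) ℂ) B]
  [FaithfulSMul (MvPolynomial (Fin d) ℂ) B] in
/-- the value of a `ℂ`-point at `b` is a root of the specialised minimal polynomial. -/
theorem isRoot_map_minpoly (ψ : B →ₐ[ℂ] ℂ) (b : B) :
    ((minpoly (MvPolynomial (Fin d) ℂ) b).map (MvPolynomial.eval (proj d ψ))).IsRoot (ψ b) := by
  have h0 : aeval b (minpoly (MvPolynomial (Fin d) ℂ) b) = 0 := minpoly.aeval _ b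
  have h1 : (ψ : B →+* ℂ).comp (algebraMap (MvPolynomial (Fin d) ℂ) B) =
      MvPolynomial.eval (proj d ψ) := RingHom.ext fun a => algHom_algebraMap d ψ a
  rw [Polynomial.IsRoot, Polynomial.eval_map, ← h1]
  have h2 := Polynomial.hom_eval₂ (minpoly (MvPolynomial (Fin d) ℂ) b)
    (algebraMap (MvPolynomial (Fin d) ℂ) B) (ψ : B →+* ℂ) b
  rw [← Polynomial.aeval_def, h0, map_zero] at h2
  exact h2.symm

/-- a bound for the values of `ℂ`-points over a compact set. -/
theorem exists_bound (b : B) (K : Set (Fin d → ℂ)) (hK : IsCompact K) :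
    ∃ C : ℝ, ∀ ψ : B →ₐ[ℂ] ℂ, proj d ψ ∈ K → ‖ψ b‖ ≤ C := by
  have hb : IsIntegral (MvPolynomial (Fin d) ℂ) b := Algebra.IsIntegral.isIntegral b
  set P := minpoly (MvPolynomial (Fin d) ℂ) b with hP
  have hmon : P.Monic := minpoly.monic hb
  have hbd : ∀ i : ℕ, ∃ Ci : ℝ, ∀ t ∈ K, ‖MvPolynomial.eval t (P.coeff i)‖ ≤ Ci := fun i =>
    hK.exists_bound_of_continuousOn (MvPolynomial.continuous_eval (P.coeff i)).continuousOn
  choose Cf hCf using hbd
  refine ⟨(∑ i ∈ Finset.range P.natDegree, Cf i) + 1, fun ψ hψ => ?_⟩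
  set Pt := P.map (MvPolynomial.eval (proj d ψ)) with hPt
  have hmon' : Pt.Monic := hmon.map _
  have hroot : Pt.IsRoot (ψ b) := isRoot_map_minpoly d ψ b
  have h1 := Polynomial.IsRoot.norm_lt_cauchyBound hmon'.ne_zero hroot
  have hdeg : Pt.natDegree = P.natDegree := hmon.natDegree_map _
  have h2 : (Pt.cauchyBound : ℝ) ≤ (∑ i ∈ Finset.range P.natDegree, Cf i) + 1 := by
    unfold Polynomial.cauchyBound
    rw [hmon'.leadingCoeff, nnnorm_one, div_one, hdeg]
    push_cast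
    gcongr
    have hnn : ∀ i ∈ Finset.range P.natDegree, ‖Pt.coeff i‖₊ ≤
        ∑ j ∈ Finset.range P.natDegree, ‖Pt.coeff j‖₊ := fun i hi =>
      Finset.single_le_sum (f := fun j => ‖Pt.coeff j‖₊) (fun _ _ => zero_le) hi
    have h3 : (Finset.range P.natDegree).sup (fun i => ‖Pt.coeff i‖₊) ≤
        ∑ j ∈ Finset.range P.natDegree, ‖Pt.coeff j‖₊ := Finset.sup_le hnn
    have h4 : ((∑ j ∈ Finset.range P.natDegree, ‖Pt.coeff j‖₊ : NNReal) : ℝ) ≤
        ∑ i ∈ Finset.range P.natDegree, Cf i := by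
      push_cast
      apply Finset.sum_le_sum
      intro i _
      rw [hPt, Polynomial.coeff_map]
      exact hCf i _ hψ
    exact (NNReal.coe_le_coe.mpr h3).trans h4
  have h5 : ‖ψ b‖ < (Pt.cauchyBound : ℝ) := by exact_mod_cast h1
  exact (h5.trans_le h2).le

/-- properness: the `ℂ`-points over a compact set form a compact set. -/
theorem isCompact_pts_inter_preimage (K : Set (Fin d → ℂ)) (hK : IsCompact K) :
    IsCompact (pts B ∩ proj d ⁻¹' K) := by
  have hbd := fun b : B => exists_bound d b K hK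
  choose Cf hCf using hbd
  have hcomp : IsCompact (Set.pi Set.univ (fun b : B => Metric.closedBall (0 : ℂ) (Cf b))) :=
    isCompact_univ_pi (fun b => isCompact_closedBall 0 (Cf b))
  refine hcomp.of_isClosed_subset ((isClosed_pts B).inter (hK.isClosed.preimage
    (continuous_proj d))) ?_
  rintro _ ⟨⟨ψ, rfl⟩, hψ⟩ b _
  rw [mem_closedBall_zero_iff]
  exact hCf b ψ hψ

/-- an element vanishing at `ψ₀` and at no other `ℂ`-point of the same fibre. -/
theorem exists_separating (ψ₀ : B →ₐ[ℂ] ℂ) :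
    ∃ b : B, ψ₀ b = 0 ∧ ∀ ψ : B →ₐ[ℂ] ℂ, proj d ψ = proj d ψ₀ → ψ b = 0 → ψ = ψ₀ := by
  classical
  set I₀ : Ideal (MvPolynomial (Fin d) ℂ) :=
    (RingHom.ker (ψ₀ : B →+* ℂ)).comap (algebraMap (MvPolynomial (Fin d) ℂ) B) with hI₀
  have hfin : (I₀.primesOver B).Finite := Algebra.QuasiFinite.finite_primesOver I₀
  set s : Finset (Ideal B) := hfin.toFinset.erase (RingHom.ker (ψ₀ : B →+* ℂ)) with hs
  have hprime : ∀ i ∈ s, i ≠ (⊥ : Ideal B) → i ≠ (⊥ : Ideal B) → i.IsPrime := by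
    intro i hi _ _
    have := (Finset.mem_erase.mp hi).2
    rw [Set.Finite.mem_toFinset] at this
    exact this.1
  have hmax₀ : (RingHom.ker (ψ₀ : B →+* ℂ)).IsMaximal :=
    RingHom.ker_isMaximal_of_surjective _ (fun z => ⟨algebraMap ℂ B z, ψ₀.commutes z⟩)
  have hnot : ¬ ((RingHom.ker (ψ₀ : B →+* ℂ) : Set B) ⊆ ⋃ i ∈ (↑s : Set (Ideal B)), (i : Set B)) := by
    intro hsub
    obtain ⟨i, hi, hle⟩ := (Ideal.subset_union_prime (f := fun i : Ideal B => i) ⊥ ⊥ hprime).mp hsub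
    have hi' := Finset.mem_erase.mp hi
    have hip : i.IsPrime := by
      have := hi'.2
      rw [Set.Finite.mem_toFinset] at this
      exact this.1
    exact hi'.1 (hmax₀.eq_of_le hip.ne_top hle).symm
  rw [Set.not_subset] at hnot
  obtain ⟨b, hb₀, hb⟩ := hnot
  refine ⟨b, RingHom.mem_ker.mp hb₀, fun ψ hψ hψb => ?_⟩
  by_contra hne
  apply hb
  have hmaxψ : (RingHom.ker (ψ : B →+* ℂ)).IsMaximal :=
    RingHom.ker_isMaximal_of_surjective _ (fun z => ⟨algebraMap ℂ B z, ψ.commutes z⟩)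
  have hmem : RingHom.ker (ψ : B →+* ℂ) ∈ s := by
    rw [hs, Finset.mem_erase, Set.Finite.mem_toFinset]
    refine ⟨fun heq => hne (algHom_eq_of_ker_le ψ ψ₀ heq.le), hmaxψ.isPrime, ?_⟩
    rw [Ideal.liesOver_iff, Ideal.under, hI₀]
    ext a
    simp only [Ideal.mem_comap, RingHom.mem_ker]
    change ψ₀ (algebraMap _ B a) = 0 ↔ ψ (algebraMap _ B a) = 0
    rw [algHom_algebraMap, algHom_algebraMap, hψ]
  exact Set.mem_biUnion hmem (RingHom.mem_ker.mpr hψb)

/-- the open mapping property of a finite map from an integral variety to affine space. -/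
theorem image_mem_nhds (ψ₀ : B →ₐ[ℂ] ℂ) (N : Set (B → ℂ)) (hN : N ∈ 𝓝 (ψ₀ : B → ℂ)) :
    proj d '' (N ∩ pts B) ∈ 𝓝 (proj d (ψ₀ : B → ℂ)) := by
  obtain ⟨b, hb₀, hbsep⟩ := exists_separating d ψ₀
  have hbint : IsIntegral (MvPolynomial (Fin d) ℂ) b := Algebra.IsIntegral.isIntegral b
  set P := minpoly (MvPolynomial (Fin d) ℂ) b with hP
  have hmon : P.Monic := minpoly.monic hbint
  have hdeg : 0 < P.natDegree := minpoly.natDegree_pos hbint
  set t₀ := proj d (ψ₀ : B → ℂ) with ht₀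
  -- for every `t` a point over `t` at which `b` is small
  have hex : ∀ t : Fin d → ℂ, ∃ ψ : B →ₐ[ℂ] ℂ, proj d ψ = t ∧
      ‖ψ b‖ ^ P.natDegree ≤ ‖MvPolynomial.eval t (P.coeff 0)‖ := by
    intro t
    have hmon' : (P.map (MvPolynomial.eval t)).Monic := hmon.map _
    have hdeg' : 0 < (P.map (MvPolynomial.eval t)).natDegree := by
      rw [hmon.natDegree_map]
      exact hdeg
    obtain ⟨c, hc, hcle⟩ := exists_root_pow_le _ hmon' hdeg'
    obtain ⟨ψ, hψt, hψb⟩ := exists_algHom_of_root d b t c hc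
    refine ⟨ψ, hψt, ?_⟩
    rw [hψb]
    rw [hmon.natDegree_map, Polynomial.coeff_map] at hcle
    exact hcle
  choose Ψ hΨt hΨb using hex
  by_contra hcon
  -- an ultrafilter converging to `t₀` avoiding the image
  have hne : (𝓝 t₀ ⊓ 𝓟 (proj d '' (N ∩ pts B))ᶜ).NeBot := by
    rw [← Filter.frequently_mem_iff_neBot]
    intro hev
    apply hcon
    filter_upwards [hev] with t ht
    exact not_not.mp ht
  let 𝒰 : Ultrafilter (Fin d → ℂ) := @Ultrafilter.of _ _ hne
  have h𝒰 : (𝒰 : Filter (Fin d → ℂ)) ≤ 𝓝 t₀ ⊓ 𝓟 (proj d '' (N ∩ pts B))ᶜ :=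
    @Ultrafilter.of_le _ _ hne
  have h𝒰nhds : (𝒰 : Filter (Fin d → ℂ)) ≤ 𝓝 t₀ := h𝒰.trans inf_le_left
  have h𝒰compl : (proj d '' (N ∩ pts B))ᶜ ∈ (𝒰 : Filter (Fin d → ℂ)) :=
    h𝒰 (Filter.mem_inf_of_right (Filter.mem_principal_self _))
  -- push forward to points
  let 𝒱 : Ultrafilter (B → ℂ) := 𝒰.map (fun t => (Ψ t : B → ℂ))
  have hK : IsCompact (pts B ∩ proj d ⁻¹' Metric.closedBall t₀ 1) :=
    isCompact_pts_inter_preimage d _ (isCompact_closedBall t₀ 1)
  have h𝒱K : (𝒱 : Filter (B → ℂ)) ≤ 𝓟 (pts B ∩ proj d ⁻¹' Metric.closedBall t₀ 1) := by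
    rw [Filter.le_principal_iff]
    change _ ∈ Filter.map _ (𝒰 : Filter (Fin d → ℂ))
    rw [Filter.mem_map]
    filter_upwards [h𝒰nhds (Metric.closedBall_mem_nhds t₀ one_pos)] with t ht
    refine ⟨⟨Ψ t, rfl⟩, ?_⟩
    change proj d (Ψ t : B → ℂ) ∈ Metric.closedBall t₀ 1
    rw [hΨt]
    exact ht
  obtain ⟨φ, ⟨⟨ψl, rfl⟩, -⟩, hφ⟩ := hK.ultrafilter_le_nhds 𝒱 h𝒱K
  -- the limit lies over `t₀`
  have htend : Filter.Tendsto (fun t => (Ψ t : B → ℂ)) 𝒰 (𝓝 (ψl : B → ℂ)) := hφ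
  have h1 : proj d (ψl : B → ℂ) = t₀ := by
    have ha : Filter.Tendsto (fun t => proj d (Ψ t : B → ℂ)) 𝒰 (𝓝 (proj d (ψl : B → ℂ))) :=
      ((continuous_proj d).tendsto _).comp htend
    have hb : Filter.Tendsto (fun t => proj d (Ψ t : B → ℂ)) 𝒰 (𝓝 t₀) := by
      have : (fun t => proj d (Ψ t : B → ℂ)) = id := funext hΨt
      rw [this]
      exact h𝒰nhds
    exact tendsto_nhds_unique ha hb
  -- the limit kills `b`
  have h2 : ψl b = 0 := by
    have ha : Filter.Tendsto (fun t => (Ψ t : B → ℂ) b) 𝒰 (𝓝 (ψl b)) :=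
      ((continuous_apply b).tendsto _).comp htend
    have hc0 : MvPolynomial.eval t₀ (P.coeff 0) = 0 := by
      have hr := isRoot_map_minpoly d ψ₀ b
      rw [hb₀, Polynomial.IsRoot, ← Polynomial.coeff_zero_eq_eval_zero,
        Polynomial.coeff_map] at hr
      exact hr
    have hcoef : Filter.Tendsto (fun t => ‖MvPolynomial.eval t (P.coeff 0)‖) 𝒰 (𝓝 0) := by
      have := ((MvPolynomial.continuous_eval (P.coeff 0)).norm.tendsto t₀).mono_left h𝒰nhds
      rwa [hc0, norm_zero] at this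
    have hpow : Filter.Tendsto (fun t => ‖(Ψ t : B → ℂ) b‖ ^ P.natDegree) 𝒰 (𝓝 0) :=
      squeeze_zero (fun t => by positivity) (fun t => hΨb t) hcoef
    have hpow' : Filter.Tendsto (fun t => ‖(Ψ t : B → ℂ) b‖ ^ P.natDegree) 𝒰
        (𝓝 (‖ψl b‖ ^ P.natDegree)) := (ha.norm).pow _
    have := tendsto_nhds_unique hpow' hpow
    have h3 : ‖ψl b‖ = 0 := by
      rcases pow_eq_zero_iff (n := P.natDegree) (by omega) |>.mp this with h
      exact h
    exact norm_eq_zero.mp h3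
  have h3 : ψl = ψ₀ := hbsep ψl h1 h2
  -- contradiction
  rw [h3] at htend
  have h4 : ∀ᶠ t in (𝒰 : Filter (Fin d → ℂ)), (Ψ t : B → ℂ) ∈ N := htend hN
  obtain ⟨t, htN, htc⟩ := (h4.and h𝒰compl).exists
  exact htc ⟨(Ψ t : B → ℂ), ⟨htN, ⟨Ψ t, rfl⟩⟩, hΨt t⟩

omit [Algebra ℂ B] [Algebra (MvPolynomial (Fin d) ℂ) B]
  [IsScalarTower ℂ (MvPolynomial (Fin d) ℂ) B] [IsDomain B]
  [Module.Finite (MvPolynomial (Fin d) ℂ) B] [FaithfulSMul (MvPolynomial (Fin d) ℂ) B] in
/-- a nonzero polynomial does not vanish identically near any point. -/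
theorem exists_eval_ne_zero_of_mem_nhds (a : MvPolynomial (Fin d) ℂ) (ha : a ≠ 0)
    (t₀ : Fin d → ℂ) (W : Set (Fin d → ℂ)) (hW : W ∈ 𝓝 t₀) :
    ∃ t ∈ W, MvPolynomial.eval t a ≠ 0 := by
  by_contra hcon
  push Not at hcon
  obtain ⟨ε, hε, hball⟩ := Metric.mem_nhds_iff.mp hW
  apply ha
  apply MvPolynomial.funext_set (fun i => Metric.ball (t₀ i) ε)
    (fun i => infinite_of_mem_nhds (t₀ i) (Metric.ball_mem_nhds _ hε))
  intro x hx
  rw [map_zero]
  apply hcon
  apply hball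
  rw [ball_pi _ hε]
  exact hx

/-- a nonzero element of `B` divides a nonzero element of the polynomial ring. -/
theorem exists_ne_zero_algebraMap_eq_mul (h : B) (hh : h ≠ 0) :
    ∃ a : MvPolynomial (Fin d) ℂ, a ≠ 0 ∧ ∃ b' : B,
      algebraMap (MvPolynomial (Fin d) ℂ) B a = h * b' := by
  have hb : IsIntegral (MvPolynomial (Fin d) ℂ) h := Algebra.IsIntegral.isIntegral h
  set P := minpoly (MvPolynomial (Fin d) ℂ) h with hP
  have hP0 : P ≠ 0 := minpoly.ne_zero hb
  have hdec : P.divX * X + C (P.coeff 0) = P := Polynomial.divX_mul_X_add P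
  have haev : aeval h P = 0 := minpoly.aeval _ h
  refine ⟨P.coeff 0, ?_, -(aeval h P.divX), ?_⟩
  · intro h0
    rw [h0, map_zero, add_zero] at hdec
    have h1 : aeval h P.divX * h = 0 := by
      rw [← hdec, map_mul, aeval_X] at haev
      exact haev
    have h2 : aeval h P.divX = 0 := (mul_eq_zero.mp h1).resolve_right hh
    have h3 : P ∣ P.divX := minpoly.isIntegrallyClosed_dvd hb h2
    have h4 : P.divX ≠ 0 := by
      intro h4
      rw [h4, zero_mul] at hdec
      exact hP0 hdec.symm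
    have h5 := Polynomial.degree_le_of_dvd h3 h4
    exact absurd (Polynomial.degree_divX_lt hP0) (not_lt.mpr h5)
  · have h1 : aeval h (P.divX * X + C (P.coeff 0)) = 0 := by rw [hdec]; exact haev
    rw [map_add, map_mul, aeval_X, aeval_C] at h1
    rw [mul_neg, mul_comm, eq_neg_iff_add_eq_zero, add_comm]
    exact h1

include d in
/-- density of the nonvanishing locus, finite case. -/
theorem exists_pt_ne_zero_finite (h : B) (hh : h ≠ 0) (ψ₀ : B →ₐ[ℂ] ℂ) (N : Set (B → ℂ))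
    (hN : N ∈ 𝓝 (ψ₀ : B → ℂ)) : ∃ ψ : B →ₐ[ℂ] ℂ, (ψ : B → ℂ) ∈ N ∧ ψ h ≠ 0 := by
  obtain ⟨a, ha, b', hab⟩ := exists_ne_zero_algebraMap_eq_mul d h hh
  have hW := image_mem_nhds d ψ₀ N hN
  obtain ⟨t, ⟨φ, ⟨hφN, ⟨ψ, rfl⟩⟩, rfl⟩, hta⟩ := exists_eval_ne_zero_of_mem_nhds d a ha _ _ hW
  refine ⟨ψ, hφN, fun h0 => hta ?_⟩
  rw [← algHom_algebraMap, hab, map_mul, h0, zero_mul]

end Finite

/-- **Density of nonvanishing loci**: in the space of `ℂ`-points of a finitely generated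
`ℂ`-domain (topology of pointwise convergence), every neighbourhood of a point contains a point
where a given nonzero function does not vanish. -/
theorem exists_pt_ne_zero {B : Type*} [CommRing B] [IsDomain B] [Algebra ℂ B]
    [Algebra.FiniteType ℂ B] (h : B) (hh : h ≠ 0) (ψ₀ : B →ₐ[ℂ] ℂ) (N : Set (B → ℂ))
    (hN : N ∈ 𝓝 (ψ₀ : B → ℂ)) : ∃ ψ : B →ₐ[ℂ] ℂ, (ψ : B → ℂ) ∈ N ∧ ψ h ≠ 0 := by
  obtain ⟨s, g, hinj, hfin⟩ := exists_finite_inj_algHom_of_fg ℂ B
  letI : Algebra (MvPolynomial (Fin s) ℂ) B := g.toRingHom.toAlgebra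
  haveI : IsScalarTower ℂ (MvPolynomial (Fin s) ℂ) B :=
    IsScalarTower.of_algebraMap_eq (fun c => (g.commutes c).symm)
  haveI : Module.Finite (MvPolynomial (Fin s) ℂ) B := hfin
  haveI : FaithfulSMul (MvPolynomial (Fin s) ℂ) B :=
    (faithfulSMul_iff_algebraMap_injective _ _).mpr hinj
  exact exists_pt_ne_zero_finite s h hh ψ₀ N hN

end Groth.Agent.Helper19.FiniteOpen
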