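import Mathlib
import Groth.Prelude.Def_AnPts
import Groth.Agent.Lib.Helper19.AnSurj
import Groth.Agent.Lib.Helper19.FiniteOpenMap

/-!
# Density of constructible sets in the complex topology (helper19)

Namespace `Groth.Agent.Helper19.AnPts`.

Main result `mem_closure_preimage_pt`: for `X` locally of finite type over ℂ and `T ⊆ X` locally
constructible, a ℂ-point lying in the Zariski closure of `T` lies in the closure (complex
topology) of the set of ℂ-points lying in `T`.
-/

set_option autoImplicit false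

open AlgebraicGeometry CategoryTheory TopologicalSpace Opposite Topology Limits

namespace Groth.Agent.Helper19.AnPts

open An

section Top

variable {W : Type*} [TopologicalSpace W]

/-- In a Noetherian quasi-sober space, a point in the closure of a locally closed set `U ∩ Z` is a
specialisation of a point of `U ∩ Z`. -/
theorem exists_specializes_of_mem_closure [NoetherianSpace W] [QuasiSober W]
    {U Z : Set W} (hU : IsOpen U) (hZ : IsClosed Z) {w : W} (hw : w ∈ closure (U ∩ Z)) :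
    ∃ y ∈ U ∩ Z, y ⤳ w := by
  obtain ⟨S, hSfin, hSc, hSirr, hS⟩ :=
    NoetherianSpace.exists_finite_set_isClosed_irreducible (isClosed_closure (s := U ∩ Z))
  set S' : Set (Set W) := {C ∈ S | (C ∩ (U ∩ Z)).Nonempty} with hS'
  have hS'fin : S'.Finite := hSfin.subset (fun C hC => hC.1)
  have hT : U ∩ Z ⊆ ⋃₀ S' := by
    intro z hz
    have hz' : z ∈ ⋃₀ S := hS ▸ subset_closure hz
    obtain ⟨C, hC, hzC⟩ := hz'
    exact ⟨C, ⟨hC, ⟨z, hzC, hz⟩⟩, hzC⟩
  have hclosed : IsClosed (⋃₀ S') := by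
    rw [Set.sUnion_eq_biUnion]
    exact hS'fin.isClosed_biUnion (fun C hC => hSc C hC.1)
  have hcl : closure (U ∩ Z) ⊆ ⋃₀ S' := closure_minimal hT hclosed
  obtain ⟨C, ⟨hC, ⟨z, hzC, hzU, hzZ⟩⟩, hwC⟩ := hcl hw
  have hgen := (hSirr C hC).isGenericPoint_genericPoint (hSc C hC)
  set y := (hSirr C hC).genericPoint with hy
  refine ⟨y, ⟨?_, ?_⟩, hgen.specializes hwC⟩
  · exact (hgen.specializes hzC).mem_open hU hzU
  · have hCsub : C ⊆ closure (U ∩ Z) := by
      rw [hS]
      exact Set.subset_sUnion_of_mem hC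
    exact (closure_minimal Set.inter_subset_right hZ) (hCsub hgen.mem)

end Top

variable {X : Scheme.{0}} [X.Over SC]

/-- density along a prime: points of `V(p)` near a given point of `V(p)` where `h ∉ p` does not
vanish. -/
theorem exists_pt_mem_nhds_of_prime [IsAffine X] [LocallyOfFiniteType (X ↘ SC)]
    (p : Ideal Γ(X, ⊤)) [p.IsPrime] (h : Γ(X, ⊤)) (hh : h ∉ p) (x : Pts X)
    (hx : ∀ a ∈ p, x.evTop a = 0) (N : Set (Pts X)) (hN : N ∈ 𝓝 x) :
    ∃ x' ∈ N, (∀ a ∈ p, x'.evTop a = 0) ∧ x'.evTop h ≠ 0 := by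
  letI alg : Algebra ℂ Γ(X, ⊤) := (strHom X).toAlgebra
  have hft : Algebra.FiniteType ℂ Γ(X, ⊤) := finiteType_strHom (X := X)
  haveI : Algebra.FiniteType ℂ (Γ(X, ⊤) ⧸ p) :=
    hft.of_surjective (Ideal.Quotient.mkₐ ℂ p) (Ideal.Quotient.mkₐ_surjective ℂ p)
  let ev₀ : Γ(X, ⊤) →ₐ[ℂ] ℂ := { evTopHom x with commutes' := fun c => evTop_strHom x c }
  have hev₀ : ∀ a, ev₀ a = x.evTop a := fun a => rfl
  let ψ₀ : (Γ(X, ⊤) ⧸ p) →ₐ[ℂ] ℂ := Ideal.Quotient.liftₐ p ev₀ (fun a ha => hx a ha)
  have hψ₀ : ∀ a, ψ₀ (Ideal.Quotient.mk p a) = x.evTop a := fun a => rfl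
  obtain ⟨O, hO, hxO, hON⟩ : ∃ O : Set (Γ(X, ⊤) → ℂ), IsOpen O ∧ evAll X x ∈ O ∧
      evAll X ⁻¹' O ⊆ N := by
    rw [(isInducing_evAll (X := X)).nhds_eq_comap] at hN
    obtain ⟨O', hO', hsub⟩ := Filter.mem_comap.mp hN
    obtain ⟨O, hOO', hO, hxO⟩ := mem_nhds_iff.mp hO'
    exact ⟨O, hO, hxO, (Set.preimage_mono hOO').trans hsub⟩
  let q : ((Γ(X, ⊤) ⧸ p) → ℂ) → (Γ(X, ⊤) → ℂ) := fun φ a => φ (Ideal.Quotient.mk p a)
  have hq : Continuous q := continuous_pi (fun a => continuous_apply _)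
  have hqψ₀ : q ψ₀ = evAll X x := funext fun a => hψ₀ a
  have hN' : q ⁻¹' O ∈ 𝓝 (ψ₀ : (Γ(X, ⊤) ⧸ p) → ℂ) :=
    (hO.preimage hq).mem_nhds (by rw [Set.mem_preimage, hqψ₀]; exact hxO)
  have hh' : Ideal.Quotient.mk p h ≠ 0 := by
    rwa [Ne, Ideal.Quotient.eq_zero_iff_mem]
  obtain ⟨ψ, hψO, hψh⟩ := FiniteOpen.exists_pt_ne_zero (Ideal.Quotient.mk p h) hh' ψ₀ _ hN'
  obtain ⟨x', hx'⟩ := exists_pt_of_ringHom ((ψ : (Γ(X, ⊤) ⧸ p) →+* ℂ).comp (Ideal.Quotient.mk p))
    (fun c => ψ.commutes c)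
  refine ⟨x', hON ?_, ?_, ?_⟩
  · change evAll X x' ∈ O
    have : evAll X x' = q ψ := funext hx'
    rw [this]
    exact hψO
  · intro a ha
    rw [hx']
    change ψ (Ideal.Quotient.mk p a) = 0
    rw [Ideal.Quotient.eq_zero_iff_mem.mpr ha, map_zero]
  · rw [hx']
    exact hψh

/-- density for locally closed subsets of affine schemes. -/
theorem mem_closure_of_isAffine_inter [IsAffine X] [LocallyOfFiniteType (X ↘ SC)]
    {U Z : Set X} (hU : IsOpen U) (hZ : IsClosed Z) (x : Pts X) (hx : x.pt ∈ closure (U ∩ Z)) :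
    x ∈ closure (Pts.pt ⁻¹' (U ∩ Z)) := by
  haveI : IsNoetherian X := { }
  obtain ⟨y, ⟨hyU, hyZ⟩, hyx⟩ := exists_specializes_of_mem_closure hU hZ hx
  rw [mem_closure_iff_nhds]
  intro N hN
  have hbasis : ∀ (U : Opens X) (x : X), x ∈ U → ∃ U' ∈ Set.range (X.basicOpen (U := ⊤)),
      x ∈ U' ∧ U' ≤ U := fun U x hx => Opens.isBasis_iff_nbhd.mp (isBasis_basicOpen X) hx
  obtain ⟨_, ⟨h, rfl⟩, hyh, hhU⟩ := hbasis ⟨U, hU⟩ y hyU
  have hhp : h ∉ (primeOf y).asIdeal := by
    rw [mem_asIdeal_primeOf_iff, not_not]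
    exact hyh
  have hpx : ∀ a ∈ (primeOf y).asIdeal, x.evTop a = 0 := by
    intro a ha
    have h1 : x.pt ∉ X.basicOpen a := fun hmem =>
      (mem_asIdeal_primeOf_iff y a).mp ha (hyx.mem_open (X.basicOpen a).2 hmem)
    rwa [mem_basicOpen_iff x ⊤ (Opens.mem_top _), not_not] at h1
  obtain ⟨x', hx'N, hx'p, hx'h⟩ :=
    exists_pt_mem_nhds_of_prime (primeOf y).asIdeal h hhp x hpx N hN
  refine ⟨x', hx'N, ?_, ?_⟩
  · apply hhU
    exact (mem_basicOpen_iff x' ⊤ (Opens.mem_top _) h).mpr hx'h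
  · have hspec : y ⤳ x'.pt := by
      rw [specializes_iff_forall_open]
      intro s hs hx's
      obtain ⟨_, ⟨a, rfl⟩, hx'a, has⟩ := hbasis ⟨s, hs⟩ x'.pt hx's
      apply has
      have h1 : x'.evTop a ≠ 0 := (mem_basicOpen_iff x' ⊤ (Opens.mem_top _) a).mp hx'a
      have h2 : a ∉ (primeOf y).asIdeal := fun ha => h1 (hx'p a ha)
      rw [mem_asIdeal_primeOf_iff, not_not] at h2
      exact h2
    exact hspec.mem_closed hZ hyZ

/-- density for constructible subsets of affine schemes. -/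
theorem mem_closure_of_isAffine_isConstructible [IsAffine X] [LocallyOfFiniteType (X ↘ SC)]
    {T : Set X} (hT : IsConstructible T) :
    ∀ x : Pts X, x.pt ∈ closure T → x ∈ closure (Pts.pt ⁻¹' T) := by
  induction T, hT using BooleanSubalgebra.closure_sdiff_sup_induction with
  | isSublattice =>
    exact ⟨fun s hs t ht ↦ ⟨hs.1.union ht.1, hs.2.union ht.2⟩,
      fun s hs t ht ↦ ⟨hs.1.inter ht.1, hs.2.inter_isOpen ht.2 ht.1⟩⟩
  | bot_mem => exact ⟨isOpen_empty, .empty⟩
  | top_mem => exact ⟨isOpen_univ, .univ⟩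
  | sdiff U hU V hV =>
    intro x hx
    rw [Set.sdiff_eq] at hx ⊢
    exact mem_closure_of_isAffine_inter hU.1 hV.1.isClosed_compl x hx
  | sup s _ t _ hs' ht' =>
    intro x hx
    change x.pt ∈ closure (s ∪ t) at hx
    change x ∈ closure (Pts.pt ⁻¹' (s ∪ t))
    rw [closure_union] at hx
    rw [Set.preimage_union, closure_union]
    rcases hx with hx | hx
    · exact Or.inl (hs' x hx)
    · exact Or.inr (ht' x hx)

/-- **Density theorem**: for `X` locally of finite type over ℂ and `T ⊆ X` locally constructible,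
a ℂ-point in the Zariski closure of `T` is in the closure (complex topology) of `T(ℂ)`. -/
theorem mem_closure_preimage_pt [LocallyOfFiniteType (X ↘ SC)] {T : Set X}
    (hT : IsLocallyConstructible T) (x : Pts X) (hx : x.pt ∈ closure T) :
    x ∈ closure (Pts.pt ⁻¹' T) := by
  obtain ⟨U, ⟨x', rfl⟩⟩ := exists_affine_lift' x
  haveI : IsAffine U.1.toScheme := U.2
  haveI := locallyOfFiniteType_opens U.1
  have hTU : IsConstructible (U.1.ι ⁻¹' T) :=
    (hT.preimage_of_isOpenEmbedding U.1.ι.isOpenEmbedding).isConstructible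
  have hx' : x'.pt ∈ closure (U.1.ι ⁻¹' T) := by
    rw [← U.1.ι.isOpenEmbedding.isOpenMap.preimage_closure_eq_closure_preimage U.1.ι.continuous,
      Set.mem_preimage, ← Pts.pt_map]
    exact hx
  have h1 := mem_closure_of_isAffine_isConstructible hTU x' hx'
  have h2 : Pts.map U.1.ι x' ∈ closure (Pts.map U.1.ι '' (Pts.pt ⁻¹' (U.1.ι ⁻¹' T))) :=
    image_closure_subset_closure_image (Pts.continuous_map _) (Set.mem_image_of_mem _ h1)
  refine closure_mono ?_ h2
  rintro _ ⟨z, hz, rfl⟩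
  rw [Set.mem_preimage, Pts.pt_map]
  exact hz

/-- closed subsets of locally Noetherian schemes are locally constructible. -/
theorem isLocallyConstructible_of_isClosed {X : Scheme.{0}} [IsLocallyNoetherian X] {Z : Set X}
    (hZ : IsClosed Z) : IsLocallyConstructible Z := by
  intro x
  obtain ⟨_, ⟨U, hU, rfl⟩, hxU, -⟩ :=
    (X.isBasis_affineOpens).exists_subset_of_mem_open (Set.mem_univ x) isOpen_univ
  refine ⟨U, U.2.mem_nhds hxU, U.2, ?_⟩
  haveI : IsNoetherianRing Γ(X, U) := IsLocallyNoetherian.component_noetherian ⟨U, hU⟩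
  have hNS : NoetherianSpace U := noetherianSpace_of_isAffineOpen U hU
  have hopen : IsOpen (Subtype.val ⁻¹' Z : Set (U : Set X))ᶜ :=
    (hZ.preimage continuous_subtype_val).isOpen_compl
  have hretro : IsRetrocompact (Subtype.val ⁻¹' Z : Set (U : Set X))ᶜ :=
    fun K _ _ => @NoetherianSpace.isCompact _ _ hNS _
  exact (hretro.isConstructible hopen).of_compl

/-- S4188 -/
theorem preimage_closure_eq [LocallyOfFiniteType (X ↘ SC)] {T : Set X}
    (hT : IsLocallyConstructible T) :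
    (Pts.pt ⁻¹' closure T : Set (Pts X)) = closure (Pts.pt ⁻¹' T) := by
  apply Set.Subset.antisymm
  · intro x hx
    exact mem_closure_preimage_pt hT x hx
  · exact Pts.continuous_pt.closure_preimage_subset T

/-- a locally constructible set without ℂ-points is empty. -/
theorem eq_empty_of_preimage_pt_eq_empty [LocallyOfFiniteType (X ↘ SC)] {D : Set X}
    (hD : IsLocallyConstructible D) (h : (Pts.pt ⁻¹' D : Set (Pts X)) = ∅) : D = ∅ := by
  by_contra hne
  obtain ⟨q, hqD, hqc⟩ := exists_isClosed_singleton_mem_of_isLocallyConstructible hD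
    (Set.nonempty_iff_ne_empty.mpr hne)
  obtain ⟨y, rfl⟩ := exists_pt_eq_of_isClosed q hqc
  have : y ∈ (Pts.pt ⁻¹' D : Set (Pts X)) := hqD
  rw [h] at this
  exact this

/-- S4189 -/
theorem isOpen_iff_isOpen_preimage_pt [LocallyOfFiniteType (X ↘ SC)] {T : Set X}
    (hT : IsLocallyConstructible T) :
    IsOpen T ↔ IsOpen (Pts.pt ⁻¹' T : Set (Pts X)) := by
  constructor
  · intro h
    exact h.preimage Pts.continuous_pt
  · intro h
    have hC : IsLocallyConstructible Tᶜ := isLocallyConstructible_compl hT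
    have h1 : (Pts.pt ⁻¹' closure Tᶜ : Set (Pts X)) = Pts.pt ⁻¹' Tᶜ := by
      rw [preimage_closure_eq hC, Set.preimage_compl]
      exact h.isClosed_compl.closure_eq
    have hD : IsLocallyConstructible (closure Tᶜ ∩ T) :=
      (isLocallyConstructible_of_isClosed isClosed_closure).inter hT
    have hempty : closure Tᶜ ∩ T = ∅ := by
      apply eq_empty_of_preimage_pt_eq_empty hD
      rw [Set.preimage_inter, h1, Set.preimage_compl]
      exact Set.compl_inter_self _
    rw [← isClosed_compl_iff, ← closure_subset_iff_isClosed]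
    intro z hz
    by_contra hzT
    have : z ∈ closure Tᶜ ∩ T := ⟨hz, not_not.mp hzT⟩
    rw [hempty] at this
    exact this

/-- S4190 -/
theorem dense_iff_dense_preimage_pt [LocallyOfFiniteType (X ↘ SC)] {T : Set X}
    (hT : IsLocallyConstructible T) :
    Dense T ↔ Dense (Pts.pt ⁻¹' T : Set (Pts X)) := by
  rw [dense_iff_closure_eq, dense_iff_closure_eq, ← preimage_closure_eq hT]
  constructor
  · intro h
    rw [h, Set.preimage_univ]
  · intro h
    have hD : IsLocallyConstructible (closure T)ᶜ :=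
      isLocallyConstructible_compl (isLocallyConstructible_of_isClosed isClosed_closure)
    have := eq_empty_of_preimage_pt_eq_empty hD (by rw [Set.preimage_compl, h, Set.compl_univ])
    rwa [Set.compl_empty_iff] at this

/-- S4199 -/
theorem denseRange_iff_denseRange_map {Y : Scheme.{0}} [Y.Over SC] [LocallyOfFiniteType (X ↘ SC)]
    [LocallyOfFiniteType (Y ↘ SC)] (f : X ⟶ Y) [f.IsOver SC] [QuasiCompact f] :
    DenseRange f.base ↔ DenseRange (Pts.map f) := by
  haveI := locallyOfFiniteType_of_over f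
  have hlc : IsLocallyConstructible (Set.range f) := by
    rw [← Set.image_univ]
    exact f.isLocallyConstructible_image IsLocallyConstructible.univ
  have hrange : (Pts.pt ⁻¹' Set.range f : Set (Pts Y)) = Set.range (Pts.map f) := by
    ext y
    constructor
    · intro hy
      exact exists_map_eq_of_mem_range f y hy
    · rintro ⟨x, rfl⟩
      rw [Set.mem_preimage, Pts.pt_map]
      exact Set.mem_range_self _
  change Dense (Set.range f) ↔ Dense (Set.range (Pts.map f))
  rw [← hrange]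
  exact dense_iff_dense_preimage_pt hlc

end Groth.Agent.Helper19.AnPts
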