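import Mathlib

/-!
# Integral ring maps induce proper maps on ℂ-valued points (helper19)

Pure Mathlib. Namespace `Groth.Agent.Helper19.IntegralProper`.
-/

set_option autoImplicit false

open Polynomial Topology Filter

namespace Groth.Agent.Helper19.IntegralProper

/-- A root of a monic complex polynomial is bounded by the sum of the norms of the lower
coefficients plus one. -/
theorem norm_le_of_isRoot (q : ℂ[X]) (hq : q.Monic) (t : ℂ) (ht : q.IsRoot t) :
    ‖t‖ ≤ (∑ i ∈ Finset.range q.natDegree, ‖q.coeff i‖) + 1 := by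
  have h1 := Polynomial.IsRoot.norm_lt_cauchyBound hq.ne_zero ht
  have h2 : (q.cauchyBound : ℝ) ≤ (∑ i ∈ Finset.range q.natDegree, ‖q.coeff i‖) + 1 := by
    unfold Polynomial.cauchyBound
    rw [hq.leadingCoeff, nnnorm_one, div_one]
    push_cast
    gcongr
    have hnn : ∀ i ∈ Finset.range q.natDegree, ‖q.coeff i‖₊ ≤
        ∑ j ∈ Finset.range q.natDegree, ‖q.coeff j‖₊ := fun i hi =>
      Finset.single_le_sum (f := fun j => ‖q.coeff j‖₊) (fun _ _ => zero_le) hi
    have h3 : (Finset.range q.natDegree).sup (fun i => ‖q.coeff i‖₊) ≤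
        ∑ j ∈ Finset.range q.natDegree, ‖q.coeff j‖₊ := Finset.sup_le hnn
    have h4 := NNReal.coe_le_coe.mpr h3
    push_cast at h4
    exact h4
  have h5 : ‖t‖ < (q.cauchyBound : ℝ) := by exact_mod_cast h1
  exact (h5.trans_le h2).le

section

variable {A B : Type*} [CommRing A] [CommRing B] [Algebra A B] [Algebra.IsIntegral A B]
  {TA TB : Type*} [TopologicalSpace TA] [TopologicalSpace TB]
  {eA : TA → A →+* ℂ} {eB : TB → B →+* ℂ} {r : TB → TA}

theorem norm_le_of_integral (ψ : B →+* ℂ) (b : B) (p : A[X]) (hp : p.Monic)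
    (hpb : eval₂ (algebraMap A B) b p = 0) :
    ‖ψ b‖ ≤ (∑ i ∈ Finset.range p.natDegree, ‖ψ (algebraMap A B (p.coeff i))‖) + 1 := by
  set q := p.map (ψ.comp (algebraMap A B)) with hq
  have hmon : q.Monic := hp.map _
  have hroot : q.IsRoot (ψ b) := by
    rw [IsRoot.def, hq, eval_map, ← hom_eval₂, hpb, map_zero]
  have hdeg : q.natDegree = p.natDegree := hp.natDegree_map _
  have := norm_le_of_isRoot q hmon (ψ b) hroot
  rw [hdeg] at this
  simpa [hq, coeff_map] using this

theorem isProperMap_of_integral (hA : IsInducing (fun x a => eA x a))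
    (hB : IsInducing (fun y b => eB y b))
    (hr : ∀ y, eA (r y) = (eB y).comp (algebraMap A B))
    (hsurj : ∀ x (ψ : B →+* ℂ), ψ.comp (algebraMap A B) = eA x → ∃ y, eB y = ψ ∧ r y = x) :
    IsProperMap r := by
  have hcont : Continuous r := by
    rw [hA.continuous_iff]
    refine continuous_pi fun a => ?_
    have : (fun y => ((fun x a => eA x a) ∘ r) y a) = fun y => eB y (algebraMap A B a) := by
      funext y
      simp only [Function.comp_apply, hr]
      rfl
    rw [this]
    exact (continuous_apply (algebraMap A B a)).comp hB.continuous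
  rw [isProperMap_iff_ultrafilter]
  refine ⟨hcont, fun 𝒰 x₀ h𝒰 => ?_⟩
  -- convergence of the `A`-coordinates
  have hAconv : ∀ a : A, Tendsto (fun y => eB y (algebraMap A B a)) 𝒰 (𝓝 (eA x₀ a)) := by
    intro a
    have h1 : Tendsto (fun x => eA x a) (𝓝 x₀) (𝓝 (eA x₀ a)) :=
      ((continuous_apply a).comp hA.continuous).tendsto x₀
    have h2 := h1.comp h𝒰
    refine h2.congr fun y => ?_
    simp only [Function.comp_apply, hr]
    rfl
  -- each coordinate converges
  have hconv : ∀ b : B, ∃ c : ℂ, Tendsto (fun y => eB y b) 𝒰 (𝓝 c) := by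
    intro b
    obtain ⟨p, hp, hpb⟩ := Algebra.IsIntegral.isIntegral (R := A) b
    set C : ℝ := (∑ i ∈ Finset.range p.natDegree, (‖eA x₀ (p.coeff i)‖ + 1)) + 1 with hC
    have hev : ∀ᶠ y in (𝒰 : Filter TB), ‖eB y b‖ ≤ C := by
      have h1 : ∀ i ∈ Finset.range p.natDegree, ∀ᶠ y in (𝒰 : Filter TB),
          ‖eB y (algebraMap A B (p.coeff i))‖ ≤ ‖eA x₀ (p.coeff i)‖ + 1 := by
        intro i _
        have h2 := (hAconv (p.coeff i)).norm
        exact h2.eventually (Iic_mem_nhds (lt_add_one _))
      have h3 := (Filter.eventually_all_finset _).mpr h1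
      filter_upwards [h3] with y hy
      refine (norm_le_of_integral (eB y) b p hp hpb).trans ?_
      rw [hC]
      gcongr with i hi
      exact hy i hi
    have hsub : ((𝒰.map (fun y => eB y b) : Ultrafilter ℂ) : Filter ℂ) ≤
        𝓟 (Metric.closedBall (0 : ℂ) C) := by
      rw [le_principal_iff]
      change (fun y => eB y b) ⁻¹' Metric.closedBall 0 C ∈ (𝒰 : Filter TB)
      filter_upwards [hev] with y hy
      simpa using hy
    obtain ⟨c, -, hc⟩ := (isCompact_closedBall (0 : ℂ) C).ultrafilter_le_nhds _ hsub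
    exact ⟨c, hc⟩
  choose c hc using hconv
  -- the limit is a ring hom
  have huniq : ∀ {g : TB → ℂ} {z z' : ℂ}, Tendsto g 𝒰 (𝓝 z) → Tendsto g 𝒰 (𝓝 z') → z = z' :=
    fun h1 h2 => tendsto_nhds_unique h1 h2
  let ψ₀ : B →+* ℂ :=
    { toFun := c
      map_one' := huniq (hc 1) (by simp only [map_one]; exact tendsto_const_nhds)
      map_mul' := fun b b' => huniq (hc (b * b')) (by
        simp only [map_mul]
        exact (hc b).mul (hc b'))
      map_zero' := huniq (hc 0) (by simp only [map_zero]; exact tendsto_const_nhds)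
      map_add' := fun b b' => huniq (hc (b + b')) (by
        simp only [map_add]
        exact (hc b).add (hc b')) }
  have hψ₀ : ψ₀.comp (algebraMap A B) = eA x₀ := by
    ext a
    exact huniq (hc (algebraMap A B a)) (hAconv a)
  obtain ⟨y₀, hy₀, hry₀⟩ := hsurj x₀ ψ₀ hψ₀
  refine ⟨y₀, hry₀, ?_⟩
  rw [hB.nhds_eq_comap, ← Filter.map_le_iff_le_comap]
  change Tendsto (fun y b => eB y b) 𝒰 (𝓝 fun b => eB y₀ b)
  rw [tendsto_pi_nhds]
  intro b
  rw [hy₀]
  exact hc b

end

end Groth.Agent.Helper19.IntegralProper
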