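import Mathlib

/-!
# Holomorphic functions of polynomial growth are polynomials (helper19)

Pure Mathlib. Namespace `Groth.Agent.Helper19.PolyGrowth`.

* `exists_polynomial_of_growth`: a function holomorphic off a finite subset of `ℂ` and bounded by
  `A (1 + |z|)^N` is (off that set) a polynomial of degree `≤ N`.
-/

set_option autoImplicit false

open Polynomial Topology Filter Set

namespace Groth.Agent.Helper19.PolyGrowth

/-- the extension of a function across finitely many removable singularities. -/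
theorem exists_entire_extension (S : Finset ℂ) (g : ℂ → ℂ)
    (hd : ∀ z ∉ S, DifferentiableAt ℂ g z)
    (hb : ∀ s ∈ S, ∃ r > 0, ∃ C : ℝ, ∀ z ∈ Metric.ball s r, z ∉ S → ‖g z‖ ≤ C) :
    ∃ G : ℂ → ℂ, Differentiable ℂ G ∧ ∀ z ∉ S, G z = g z := by
  classical
  refine ⟨fun z => limUnder (𝓝[≠] z) g, ?_, ?_⟩
  · have hoff : ∀ z ∉ S, limUnder (𝓝[≠] z) g = g z := by
      intro z hz
      have h1 : Tendsto g (𝓝[≠] z) (𝓝 (g z)) :=
        (hd z hz).continuousAt.tendsto.mono_left nhdsWithin_le_nhds
      exact h1.limUnder_eq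
    have hopen : IsOpen ((S : Set ℂ)ᶜ) := S.finite_toSet.isClosed.isOpen_compl
    intro z
    by_cases hz : z ∈ S
    · -- a ball around `z` meeting `S` only in `z`
      obtain ⟨r, hr, C, hC⟩ := hb z hz
      have hfin : ((S.erase z : Finset ℂ) : Set ℂ)ᶜ ∈ 𝓝 z := by
        apply (S.erase z).finite_toSet.isClosed.isOpen_compl.mem_nhds
        simp
      obtain ⟨r', hr', hsub⟩ := Metric.mem_nhds_iff.mp hfin
      set ρ := min r r' with hρ
      have hρ0 : 0 < ρ := lt_min hr hr'
      have hball : ∀ w ∈ Metric.ball z ρ, w ≠ z → w ∉ S := by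
        intro w hw hwz hwS
        have : w ∈ ((S.erase z : Finset ℂ) : Set ℂ)ᶜ :=
          hsub (Metric.ball_subset_ball (min_le_right _ _) hw)
        apply this
        simp [hwz, hwS]
      have h1 : DifferentiableOn ℂ g (Metric.ball z ρ \ {z}) := by
        intro w hw
        exact (hd w (hball w hw.1 hw.2)).differentiableWithinAt
      have h2 : BddAbove (norm ∘ g '' (Metric.ball z ρ \ {z})) := by
        refine ⟨C, ?_⟩
        rintro _ ⟨w, hw, rfl⟩
        exact hC w (Metric.ball_subset_ball (min_le_left _ _) hw.1) (hball w hw.1 hw.2)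
      have h3 := Complex.differentiableOn_update_limUnder_of_bddAbove
        (Metric.ball_mem_nhds z hρ0) h1 h2
      have h4 : EqOn (fun z => limUnder (𝓝[≠] z) g)
          (Function.update g z (limUnder (𝓝[≠] z) g)) (Metric.ball z ρ) := by
        intro w hw
        by_cases hwz : w = z
        · subst hwz
          simp
        · simp only [Function.update_of_ne hwz]
          exact hoff w (hball w hw hwz)
      exact ((h3.congr h4).differentiableAt (Metric.ball_mem_nhds z hρ0))
    · have h4 : (fun z => limUnder (𝓝[≠] z) g) =ᶠ[𝓝 z] g := by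
        filter_upwards [hopen.mem_nhds hz] with w hw
        exact hoff w hw
      exact (h4.differentiableAt_iff).mpr (hd z hz)
  · intro z hz
    have h1 : Tendsto g (𝓝[≠] z) (𝓝 (g z)) :=
      (hd z hz).continuousAt.tendsto.mono_left nhdsWithin_le_nhds
    exact h1.limUnder_eq

/-- an entire function of polynomial growth is a polynomial. -/
theorem exists_polynomial_of_entire (G : ℂ → ℂ) (hG : Differentiable ℂ G) (A : ℝ) (N : ℕ)
    (hb : ∀ z, ‖G z‖ ≤ A * (1 + ‖z‖) ^ N) :
    ∃ p : ℂ[X], p.natDegree ≤ N ∧ ∀ z, G z = p.eval z := by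
  have hA : 0 ≤ A := by
    have := (norm_nonneg _).trans (hb 0)
    simpa using this
  -- higher Taylor coefficients vanish
  have hvan : ∀ k, N < k → iteratedDeriv k G 0 = 0 := by
    intro k hk
    rw [← norm_eq_zero]
    apply le_antisymm _ (norm_nonneg _)
    have hlim : Tendsto (fun R : ℝ => (k.factorial * A * 2 ^ N : ℝ) / R) atTop (𝓝 0) :=
      tendsto_const_nhds.div_atTop tendsto_id
    apply ge_of_tendsto hlim
    filter_upwards [eventually_ge_atTop (1 : ℝ)] with R hR
    have hR0 : 0 < R := lt_of_lt_of_le one_pos hR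
    have h1 := Complex.norm_iteratedDeriv_le_of_forall_mem_sphere_norm_le (c := 0) (R := R)
      (C := A * (1 + R) ^ N) (f := G) k hR0 hG.diffContOnCl (fun z hz => by
        have hz' : ‖z‖ = R := by simpa using hz
        have := hb z
        rwa [hz'] at this)
    refine h1.trans ?_
    rw [div_le_div_iff₀ (pow_pos hR0 k) hR0]
    have h2 : (1 + R) ^ N ≤ (2 * R) ^ N := by
      apply pow_le_pow_left₀ (by positivity)
      linarith
    have h3 : R ^ (N + 1) ≤ R ^ k := pow_le_pow_right₀ hR hk
    calc (k.factorial : ℝ) * (A * (1 + R) ^ N) * R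
        ≤ k.factorial * (A * (2 * R) ^ N) * R := by gcongr
      _ = k.factorial * A * 2 ^ N * R ^ (N + 1) := by rw [mul_pow]; ring
      _ ≤ k.factorial * A * 2 ^ N * R ^ k := by gcongr
  refine ⟨∑ k ∈ Finset.range (N + 1), C ((k.factorial : ℂ)⁻¹ * iteratedDeriv k G 0) * X ^ k,
    ?_, ?_⟩
  · apply natDegree_sum_le_of_forall_le
    intro k hk
    exact (natDegree_C_mul_X_pow_le _ _).trans (Nat.lt_succ_iff.mp (Finset.mem_range.mp hk))
  · intro z
    have h1 := Complex.hasSum_taylorSeries_of_entire hG 0 z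
    have h2 : HasSum (fun n : ℕ => ((n.factorial : ℂ))⁻¹ • (z - 0) ^ n • iteratedDeriv n G 0)
        (∑ k ∈ Finset.range (N + 1),
          ((k.factorial : ℂ))⁻¹ • (z - 0) ^ k • iteratedDeriv k G 0) := by
      apply hasSum_sum_of_ne_finset_zero
      intro k hk
      rw [Finset.mem_range, not_lt] at hk
      rw [hvan k hk, smul_zero, smul_zero]
    rw [h1.unique h2, eval_finsetSum]
    apply Finset.sum_congr rfl
    intro k _
    simp only [sub_zero, smul_eq_mul, eval_mul, eval_C, eval_pow, eval_X]
    ring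

/-- **Polynomial growth**: a function holomorphic off a finite set `S` and bounded there by
`A (1 + |z|)^N` agrees off `S` with a polynomial of degree `≤ N`, which satisfies the same
bound everywhere. -/
theorem exists_polynomial_of_growth (S : Finset ℂ) (g : ℂ → ℂ) (A : ℝ) (N : ℕ)
    (hd : ∀ z ∉ S, DifferentiableAt ℂ g z)
    (hb : ∀ z ∉ S, ‖g z‖ ≤ A * (1 + ‖z‖) ^ N) :
    ∃ p : ℂ[X], p.natDegree ≤ N ∧ (∀ z ∉ S, g z = p.eval z) ∧
      ∀ z, ‖p.eval z‖ ≤ A * (1 + ‖z‖) ^ N := by
  classical
  obtain ⟨G, hG, hGg⟩ := exists_entire_extension S g hd (by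
    intro s _
    refine ⟨1, one_pos, |A| * (1 + (‖s‖ + 1)) ^ N, ?_⟩
    intro z hz hzS
    refine (hb z hzS).trans ?_
    have h1 : ‖z‖ ≤ ‖s‖ + 1 := by
      have : ‖z - s‖ < 1 := by simpa [dist_eq_norm] using hz
      calc ‖z‖ = ‖s + (z - s)‖ := by ring_nf
        _ ≤ ‖s‖ + ‖z - s‖ := norm_add_le _ _
        _ ≤ ‖s‖ + 1 := by linarith
    calc A * (1 + ‖z‖) ^ N ≤ |A| * (1 + ‖z‖) ^ N := by
          gcongr
          exact le_abs_self A
      _ ≤ |A| * (1 + (‖s‖ + 1)) ^ N := by gcongr)
  -- the bound holds everywhere by density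
  have hdense : Dense ((S : Set ℂ)ᶜ) := S.countable_toSet.dense_compl ℂ
  have hclosed : IsClosed {z : ℂ | ‖G z‖ ≤ A * (1 + ‖z‖) ^ N} :=
    isClosed_le hG.continuous.norm (by fun_prop)
  have hall : ∀ z, ‖G z‖ ≤ A * (1 + ‖z‖) ^ N := by
    intro z
    have h1 : (S : Set ℂ)ᶜ ⊆ {z : ℂ | ‖G z‖ ≤ A * (1 + ‖z‖) ^ N} := by
      intro w hw
      have hw' : w ∉ S := hw
      change ‖G w‖ ≤ _
      rw [hGg w hw']
      exact hb w hw'
    exact (closure_minimal h1 hclosed) (hdense z)
  obtain ⟨p, hp, hpe⟩ := exists_polynomial_of_entire G hG A N hall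
  refine ⟨p, hp, fun z hz => ?_, fun z => ?_⟩
  · rw [← hpe, hGg z hz]
  · rw [← hpe]
    exact hall z


/-- a nonzero polynomial does not vanish identically near any point. -/
theorem exists_eval_ne_zero_of_mem_nhds {d : ℕ} (a : MvPolynomial (Fin d) ℂ) (ha : a ≠ 0)
    (t₀ : Fin d → ℂ) (W : Set (Fin d → ℂ)) (hW : W ∈ 𝓝 t₀) :
    ∃ t ∈ W, MvPolynomial.eval t a ≠ 0 := by
  by_contra hcon
  push Not at hcon
  obtain ⟨ε, hε, hball⟩ := Metric.mem_nhds_iff.mp hW
  apply ha
  apply MvPolynomial.funext_set (fun i => Metric.ball (t₀ i) ε)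
    (fun i => infinite_of_mem_nhds (t₀ i) (Metric.ball_mem_nhds _ hε))
  intro x hx
  rw [map_zero]
  apply hcon
  apply hball
  rw [ball_pi _ hε]
  exact hx

/-- coefficients of a polynomial of small degree in terms of its values at nodes. -/
theorem coeff_eq_sum_lagrange {ι : Type*} [DecidableEq ι] (s : Finset ι) (v : ι → ℂ)
    (hv : Set.InjOn v s) (q : ℂ[X]) (hq : q.degree < s.card) (k : ℕ) :
    q.coeff k = ∑ i ∈ s, q.eval (v i) * (Lagrange.basis s v i).coeff k := by
  conv_lhs => rw [Lagrange.eq_interpolate hv hq]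
  rw [Lagrange.interpolate_apply, finsetSum_coeff]
  apply Finset.sum_congr rfl
  intro i _
  rw [coeff_C_mul]

theorem differentiableAt_cons_left {n : ℕ} (s : Fin n → ℂ) (y : ℂ) :
    DifferentiableAt ℂ (fun y : ℂ => (Fin.cons y s : Fin (n + 1) → ℂ)) y := by
  rw [differentiableAt_pi]
  intro i
  refine Fin.cases ?_ (fun j => ?_) i
  · simp only [Fin.cons_zero]
    exact differentiableAt_id
  · simp only [Fin.cons_succ]
    exact differentiableAt_const _

theorem differentiableAt_cons_right {n : ℕ} (s : Fin n → ℂ) (y : ℂ) :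
    DifferentiableAt ℂ (fun s : Fin n → ℂ => (Fin.cons y s : Fin (n + 1) → ℂ)) s := by
  rw [differentiableAt_pi]
  intro i
  refine Fin.cases ?_ (fun j => ?_) i
  · simp only [Fin.cons_zero]
    exact differentiableAt_const _
  · simp only [Fin.cons_succ]
    exact differentiableAt_apply j s

theorem norm_cons_le {n : ℕ} (s : Fin n → ℂ) (y : ℂ) :
    ‖(Fin.cons y s : Fin (n + 1) → ℂ)‖ ≤ ‖y‖ + ‖s‖ := by
  rw [pi_norm_le_iff_of_nonneg (by positivity)]
  intro i
  refine Fin.cases ?_ (fun j => ?_) i
  · simp only [Fin.cons_zero]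
    linarith [norm_nonneg s]
  · simp only [Fin.cons_succ]
    linarith [norm_le_pi_norm s j, norm_nonneg y]


/-- **Polynomial growth in several variables**: a function holomorphic on the complement of a
hypersurface `h = 0` in `ℂⁿ` and of polynomial growth there is a polynomial. -/
theorem exists_mvPolynomial_of_growth (n : ℕ) : ∀ (h : MvPolynomial (Fin n) ℂ), h ≠ 0 →
    ∀ (g : (Fin n → ℂ) → ℂ),
    (∀ t, MvPolynomial.eval t h ≠ 0 → DifferentiableAt ℂ g t) →
    (∃ (A : ℝ) (N : ℕ), ∀ t, MvPolynomial.eval t h ≠ 0 → ‖g t‖ ≤ A * (1 + ‖t‖) ^ N) →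
    ∃ Q : MvPolynomial (Fin n) ℂ, ∀ t, MvPolynomial.eval t h ≠ 0 →
      g t = MvPolynomial.eval t Q := by
  classical
  induction n with
  | zero =>
    intro h _ g _ _
    refine ⟨MvPolynomial.C (g 0), fun t _ => ?_⟩
    rw [MvPolynomial.eval_C, Subsingleton.elim t 0]
  | succ n ih =>
    intro h hh g hd hgb
    obtain ⟨A₀, N, hb₀⟩ := hgb
    -- make the constant nonnegative
    set A := |A₀| with hA
    have hA0 : 0 ≤ A := abs_nonneg _
    have hb : ∀ t, MvPolynomial.eval t h ≠ 0 → ‖g t‖ ≤ A * (1 + ‖t‖) ^ N := by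
      intro t ht
      refine (hb₀ t ht).trans ?_
      gcongr
      exact le_abs_self _
    set H := MvPolynomial.finSuccEquiv ℂ n h with hH
    have hH0 : H ≠ 0 := by
      rw [hH, Ne, EmbeddingLike.map_eq_zero_iff]
      exact hh
    set h₀ := H.leadingCoeff with hh₀
    have hh₀0 : h₀ ≠ 0 := leadingCoeff_ne_zero.mpr hH0
    have hkey : ∀ (s : Fin n → ℂ) (y : ℂ),
        MvPolynomial.eval (Fin.cons y s : Fin (n + 1) → ℂ) h =
          (H.map (MvPolynomial.eval s)).eval y := fun s y =>
      MvPolynomial.eval_eq_eval_mv_eval' s y h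
    have hHs : ∀ s : Fin n → ℂ, MvPolynomial.eval s h₀ ≠ 0 → H.map (MvPolynomial.eval s) ≠ 0 := by
      intro s hs h0
      apply hs
      have := congrArg (fun q => q.coeff H.natDegree) h0
      simpa [coeff_map] using this
    -- one-variable statement
    have hone : ∀ s : Fin n → ℂ, MvPolynomial.eval s h₀ ≠ 0 → ∃ p : ℂ[X], p.natDegree ≤ N ∧
        (∀ y, MvPolynomial.eval (Fin.cons y s : Fin (n + 1) → ℂ) h ≠ 0 →
          g (Fin.cons y s) = p.eval y) ∧
        ∀ y, ‖p.eval y‖ ≤ A * (1 + ‖s‖) ^ N * (1 + ‖y‖) ^ N := by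
      intro s hs
      obtain ⟨p, hp1, hp2, hp3⟩ := exists_polynomial_of_growth
        (H.map (MvPolynomial.eval s)).roots.toFinset (fun y => g (Fin.cons y s))
        (A * (1 + ‖s‖) ^ N) N (by
          intro y hy
          have hy' : MvPolynomial.eval (Fin.cons y s : Fin (n + 1) → ℂ) h ≠ 0 := by
            rw [hkey]
            intro h0
            apply hy
            rw [Multiset.mem_toFinset, mem_roots (hHs s hs)]
            exact h0
          exact (hd _ hy').comp y (differentiableAt_cons_left s y)) (by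
          intro y hy
          have hy' : MvPolynomial.eval (Fin.cons y s : Fin (n + 1) → ℂ) h ≠ 0 := by
            rw [hkey]
            intro h0
            apply hy
            rw [Multiset.mem_toFinset, mem_roots (hHs s hs)]
            exact h0
          refine (hb _ hy').trans ?_
          have h1 : 1 + ‖(Fin.cons y s : Fin (n + 1) → ℂ)‖ ≤ (1 + ‖s‖) * (1 + ‖y‖) := by
            have := norm_cons_le s y
            nlinarith [norm_nonneg s, norm_nonneg y]
          calc A * (1 + ‖(Fin.cons y s : Fin (n + 1) → ℂ)‖) ^ N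
              ≤ A * ((1 + ‖s‖) * (1 + ‖y‖)) ^ N := by gcongr
            _ = A * (1 + ‖s‖) ^ N * (1 + ‖y‖) ^ N := by rw [mul_pow]; ring)
      refine ⟨p, hp1, fun y hy => hp2 y ?_, hp3⟩
      rw [Multiset.mem_toFinset, mem_roots (hHs s hs), IsRoot.def, ← hkey]
      exact hy
    choose! p hp1 hp2 hp3 using hone
    -- the coefficient functions
    have hcoef : ∀ k : ℕ, ∃ Q : MvPolynomial (Fin n) ℂ, ∀ s, MvPolynomial.eval s h₀ ≠ 0 →
        (p s).coeff k = MvPolynomial.eval s Q := by
      intro k
      apply ih h₀ hh₀0 (fun s => (p s).coeff k)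
      · -- holomorphy
        intro s₀ hs₀
        have hinf : ((H.map (MvPolynomial.eval s₀)).roots.toFinset : Set ℂ)ᶜ.Infinite :=
          Set.infinite_of_finite_compl (by
            rw [compl_compl]
            exact Finset.finite_toSet _)
        obtain ⟨T, hT, hTc⟩ := hinf.exists_subset_card_eq (N + 1)
        have hTne : ∀ w ∈ T, MvPolynomial.eval (Fin.cons w s₀ : Fin (n + 1) → ℂ) h ≠ 0 := by
          intro w hw
          rw [hkey]
          intro h0
          have := hT hw
          apply this
          simp only [Finset.mem_coe, Multiset.mem_toFinset]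
          rw [mem_roots (hHs s₀ hs₀)]
          exact h0
        -- near `s₀` all nodes stay good
        have hev : ∀ᶠ s in 𝓝 s₀, MvPolynomial.eval s h₀ ≠ 0 ∧
            ∀ w ∈ T, MvPolynomial.eval (Fin.cons w s : Fin (n + 1) → ℂ) h ≠ 0 := by
          apply Filter.Eventually.and
          · exact (MvPolynomial.continuous_eval h₀).continuousAt.eventually_ne hs₀
          · rw [Filter.eventually_all_finset]
            intro w hw
            have hc : Continuous (fun s : Fin n → ℂ =>
                MvPolynomial.eval (Fin.cons w s : Fin (n + 1) → ℂ) h) :=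
              (MvPolynomial.continuous_eval h).comp
                (continuous_pi (fun i => by
                  refine Fin.cases ?_ (fun j => ?_) i
                  · simp only [Fin.cons_zero]; exact continuous_const
                  · simp only [Fin.cons_succ]; exact continuous_apply j))
            exact hc.continuousAt.eventually_ne (hTne w hw)
        have heq : (fun s => (p s).coeff k) =ᶠ[𝓝 s₀] fun s =>
            ∑ w ∈ T, g (Fin.cons w s) * (Lagrange.basis T id w).coeff k := by
          filter_upwards [hev] with s hs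
          have hdeg : (p s).degree < T.card := by
            rw [hTc]
            exact lt_of_le_of_lt degree_le_natDegree
              (by exact_mod_cast Nat.lt_succ_of_le (hp1 s hs.1))
          rw [coeff_eq_sum_lagrange T id (Set.injOn_id _) (p s) hdeg k]
          apply Finset.sum_congr rfl
          intro w hw
          rw [id, ← hp2 s hs.1 w (hs.2 w hw)]
        rw [heq.differentiableAt_iff]
        apply DifferentiableAt.fun_sum
        intro w hw
        apply DifferentiableAt.mul_const
        exact (hd _ (hTne w hw)).comp s₀ (differentiableAt_cons_right s₀ w)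
      · -- growth
        refine ⟨A * ∑ j ∈ Finset.range (N + 1), (1 + ‖(j : ℂ)‖) ^ N *
          ‖(Lagrange.basis (Finset.range (N + 1)) (fun j : ℕ => (j : ℂ)) j).coeff k‖, N, ?_⟩
        intro s hs
        have hdeg : (p s).degree < (Finset.range (N + 1)).card := by
          rw [Finset.card_range]
          exact lt_of_le_of_lt degree_le_natDegree
            (by exact_mod_cast Nat.lt_succ_of_le (hp1 s hs))
        change ‖(p s).coeff k‖ ≤ _
        rw [coeff_eq_sum_lagrange (Finset.range (N + 1)) (fun j : ℕ => (j : ℂ))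
          (fun a _ b _ hab => Nat.cast_injective hab) (p s) hdeg k]
        refine (norm_sum_le _ _).trans ?_
        rw [Finset.mul_sum, Finset.sum_mul]
        apply Finset.sum_le_sum
        intro j _
        rw [norm_mul]
        calc ‖(p s).eval (j : ℂ)‖ * ‖(Lagrange.basis (Finset.range (N + 1))
              (fun j : ℕ => (j : ℂ)) j).coeff k‖
            ≤ (A * (1 + ‖s‖) ^ N * (1 + ‖(j : ℂ)‖) ^ N) * ‖(Lagrange.basis (Finset.range (N + 1))
              (fun j : ℕ => (j : ℂ)) j).coeff k‖ := by
              gcongr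
              exact hp3 s hs _
          _ = _ := by ring
    choose Qk hQk using hcoef
    set Q : MvPolynomial (Fin (n + 1)) ℂ := (MvPolynomial.finSuccEquiv ℂ n).symm
      (∑ k ∈ Finset.range (N + 1), C (Qk k) * X ^ k) with hQ
    -- agreement on the good set
    have hgood : ∀ (s : Fin n → ℂ) (y : ℂ), MvPolynomial.eval s h₀ ≠ 0 →
        MvPolynomial.eval (Fin.cons y s : Fin (n + 1) → ℂ) h ≠ 0 →
        g (Fin.cons y s) = MvPolynomial.eval (Fin.cons y s : Fin (n + 1) → ℂ) Q := by
      intro s y hs hy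
      rw [MvPolynomial.eval_eq_eval_mv_eval', hQ, AlgEquiv.apply_symm_apply, hp2 s hs y hy,
        eval_eq_sum_range' (Nat.lt_succ_of_le (hp1 s hs)), Polynomial.map_sum, eval_finsetSum]
      apply Finset.sum_congr rfl
      intro k _
      rw [Polynomial.map_mul, Polynomial.map_pow, map_X, map_C, eval_mul, eval_C, eval_pow,
        eval_X, hQk k s hs]
    -- extension by density
    refine ⟨Q, fun t₀ ht₀ => ?_⟩
    by_contra hne
    have hcont : ContinuousAt (fun t => g t - MvPolynomial.eval t Q) t₀ :=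
      (hd t₀ ht₀).continuousAt.sub (MvPolynomial.continuous_eval Q).continuousAt
    have hW : {t | g t - MvPolynomial.eval t Q ≠ 0} ∈ 𝓝 t₀ :=
      hcont.eventually_ne (sub_ne_zero.mpr hne)
    have hprod : h * MvPolynomial.rename Fin.succ h₀ ≠ 0 :=
      mul_ne_zero hh ((map_ne_zero_iff _ (MvPolynomial.rename_injective _
        (Fin.succ_injective n))).mpr hh₀0)
    obtain ⟨t, htW, ht⟩ := exists_eval_ne_zero_of_mem_nhds _ hprod t₀ _ hW
    rw [map_mul, MvPolynomial.eval_rename] at ht
    have ht1 : MvPolynomial.eval t h ≠ 0 := left_ne_zero_of_mul ht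
    have ht2 : MvPolynomial.eval (Fin.tail t) h₀ ≠ 0 := right_ne_zero_of_mul ht
    apply htW
    have hcons : (Fin.cons (t 0) (Fin.tail t) : Fin (n + 1) → ℂ) = t := Fin.cons_self_tail t
    have := hgood (Fin.tail t) (t 0) ht2 (by rw [hcons]; exact ht1)
    rw [hcons] at this
    rw [this, sub_self]

end Groth.Agent.Helper19.PolyGrowth
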