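import Mathlib

/-!
# A primitive element and its denominators for a finite extension of domains (helper19)

Pure Mathlib. Namespace `Groth.Agent.Helper19.PrimElt`.
-/

set_option autoImplicit false

open Polynomial IntermediateField
open scoped nonZeroDivisors

namespace Groth.Agent.Helper19.PrimElt

attribute [local instance] FractionRing.liftAlgebra FractionRing.isScalarTower_liftAlgebra

variable {R B : Type*} [CommRing R] [IsDomain R] [CommRing B] [IsDomain B] [Algebra R B]
  [FaithfulSMul R B]

/-- clearing denominators in a polynomial expression. -/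
theorem exists_mul_eq_aeval_of_fraction (f : B) (x : B)
    (hx : ∃ qK : (FractionRing R)[X],
      aeval (algebraMap B (FractionRing B) f) qK = algebraMap B (FractionRing B) x) :
    ∃ (δ : R) (q : R[X]), δ ≠ 0 ∧ algebraMap R B δ * x = aeval f q := by
  obtain ⟨qK, hqK⟩ := hx
  obtain ⟨δ, hδ, hq⟩ := IsLocalization.integerNormalization_spec R⁰ qK
  refine ⟨δ, IsLocalization.integerNormalization R⁰ qK, nonZeroDivisors.ne_zero hδ, ?_⟩
  apply IsFractionRing.injective B (FractionRing B)
  have h1 := congrArg (aeval (algebraMap B (FractionRing B) f)) hq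
  rw [aeval_map_algebraMap, aeval_algebraMap_apply] at h1
  have h2 : aeval (algebraMap B (FractionRing B) f) (δ • qK) =
      algebraMap R (FractionRing B) δ * algebraMap B (FractionRing B) x := by
    rw [Algebra.smul_def, map_mul, hqK, Polynomial.algebraMap_apply, aeval_C,
      ← IsScalarTower.algebraMap_apply]
  rw [h1, h2, map_mul, ← IsScalarTower.algebraMap_apply]


variable (R B) [Module.Finite R B]

/-- a primitive element lying in `B`. -/
theorem exists_primitive_in [CharZero R] :
    ∃ f : B, ∀ y : FractionRing B, ∃ qK : (FractionRing R)[X],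
      aeval (algebraMap B (FractionRing B) f) qK = y := by
  have : Module.IsTorsionFree R B := Module.isTorsionFree_iff_faithfulSMul.mpr inferInstance
  obtain ⟨α, hα⟩ := Field.exists_primitive_element (FractionRing R) (FractionRing B)
  have : Algebra.IsAlgebraic R B := Algebra.IsIntegral.isAlgebraic
  obtain ⟨⟨f, ⟨s, hs⟩⟩, hfs⟩ := IsLocalization.surj (Algebra.algebraMapSubmonoid B R⁰) α
  obtain ⟨r, hr, rfl⟩ := hs
  refine ⟨f, fun y => ?_⟩
  simp only at hfs
  have hr0 : algebraMap R (FractionRing R) r ≠ 0 := by
    rw [Ne, map_eq_zero_iff _ (IsFractionRing.injective R (FractionRing R))]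
    exact nonZeroDivisors.ne_zero hr
  have hfα : algebraMap B (FractionRing B) f = algebraMap R (FractionRing R) r • α := by
    rw [← hfs, Algebra.smul_def, mul_comm, ← IsScalarTower.algebraMap_apply,
      ← IsScalarTower.algebraMap_apply]
  have htop : (FractionRing R)⟮algebraMap B (FractionRing B) f⟯ = ⊤ := by
    rw [eq_top_iff, ← hα, adjoin_simple_le_iff]
    have h1 : α = (algebraMap R (FractionRing R) r)⁻¹ • algebraMap B (FractionRing B) f := by
      rw [hfα, smul_smul, inv_mul_cancel₀ hr0, one_smul]
    rw [h1]
    exact IntermediateField.smul_mem _ (mem_adjoin_simple_self _ _)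
  have hy : y ∈ ((FractionRing R)⟮algebraMap B (FractionRing B) f⟯).toSubalgebra := by
    rw [htop]
    trivial
  rw [adjoin_simple_toSubalgebra_of_isAlgebraic (Algebra.IsAlgebraic.isAlgebraic _),
    Algebra.adjoin_singleton_eq_range_aeval] at hy
  exact hy


variable {R B}

/-- a Bézout identity for the minimal polynomial and its derivative, with denominators cleared. -/
theorem exists_bezout [CharZero R] [IsIntegrallyClosed R] (f : B) :
    ∃ (h : R) (a b : R[X]), h ≠ 0 ∧
      a * minpoly R f + b * derivative (minpoly R f) = C h := by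
  have : Module.IsTorsionFree R B := Module.isTorsionFree_iff_faithfulSMul.mpr inferInstance
  have hint : IsIntegral R f := Algebra.IsIntegral.isIntegral f
  have hmin := minpoly.isIntegrallyClosed_eq_field_fractions (FractionRing R) (FractionRing B) hint
  have hsep : (minpoly (FractionRing R) (algebraMap B (FractionRing B) f)).Separable :=
    Algebra.IsSeparable.isSeparable (FractionRing R) _
  rw [hmin] at hsep
  obtain ⟨aK, bK, hab⟩ := hsep
  obtain ⟨δa, hδa, ha⟩ := IsLocalization.integerNormalization_spec R⁰ aK
  obtain ⟨δb, hδb, hb⟩ := IsLocalization.integerNormalization_spec R⁰ bK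
  refine ⟨δa * δb, C δb * IsLocalization.integerNormalization R⁰ aK,
    C δa * IsLocalization.integerNormalization R⁰ bK,
    mul_ne_zero (nonZeroDivisors.ne_zero hδa) (nonZeroDivisors.ne_zero hδb), ?_⟩
  apply Polynomial.map_injective _ (IsFractionRing.injective R (FractionRing R))
  simp only [Polynomial.map_add, Polynomial.map_mul, Polynomial.map_C, ha, hb]
  rw [← derivative_map, Algebra.smul_def, Algebra.smul_def, Polynomial.algebraMap_apply, Polynomial.algebraMap_apply]
  have : C (algebraMap R (FractionRing R) δb) * (C (algebraMap R (FractionRing R) δa) * aK) *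
      Polynomial.map (algebraMap R (FractionRing R)) (minpoly R f) +
      C (algebraMap R (FractionRing R) δa) * (C (algebraMap R (FractionRing R) δb) * bK) *
      derivative (Polynomial.map (algebraMap R (FractionRing R)) (minpoly R f)) =
      C (algebraMap R (FractionRing R) δa) * C (algebraMap R (FractionRing R) δb) *
      (aK * Polynomial.map (algebraMap R (FractionRing R)) (minpoly R f) +
       bK * derivative (Polynomial.map (algebraMap R (FractionRing R)) (minpoly R f))) := by ring
  rw [this, hab, mul_one, map_mul, C_mul]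


variable (R B)

/-- **Primitive element with cleared denominators**: for a finite torsion-free extension of domains
`R ⊆ B` with `R` integrally closed of characteristic zero, there are `f ∈ B` and `0 ≠ h ∈ R` such
that the minimal polynomial of `f` is separable away from `h = 0` and `h B ⊆ R[f]`. -/
theorem exists_primitive_data [CharZero R] [IsIntegrallyClosed R] :
    ∃ (f : B) (h : R), h ≠ 0 ∧
      (∃ a b : R[X], a * minpoly R f + b * derivative (minpoly R f) = C h) ∧
      ∀ x : B, ∃ q : R[X], algebraMap R B h * x = aeval f q := by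
  classical
  obtain ⟨f, hf⟩ := exists_primitive_in R B
  have hx : ∀ x : B, ∃ (δ : R) (q : R[X]), δ ≠ 0 ∧ algebraMap R B δ * x = aeval f q := fun x =>
    exists_mul_eq_aeval_of_fraction f x (hf _)
  choose δ q hδ hq using hx
  obtain ⟨s, hs⟩ := (Module.finite_def.mp (inferInstance : Module.Finite R B))
  set h₁ : R := ∏ x ∈ s, δ x with hh₁
  have hh₁0 : h₁ ≠ 0 := Finset.prod_ne_zero_iff.mpr (fun x _ => hδ x)
  have hall : ∀ x : B, ∃ q' : R[X], algebraMap R B h₁ * x = aeval f q' := by
    intro x
    have hxs : x ∈ Submodule.span R (s : Set B) := by rw [hs]; trivial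
    induction hxs using Submodule.span_induction with
    | mem x hx =>
      refine ⟨C (∏ y ∈ s.erase x, δ y) * q x, ?_⟩
      rw [map_mul, aeval_C, ← hq x, hh₁, ← Finset.mul_prod_erase s δ hx, map_mul]
      ring
    | zero => exact ⟨0, by simp⟩
    | add x y _ _ hx hy =>
      obtain ⟨qx, hqx⟩ := hx
      obtain ⟨qy, hqy⟩ := hy
      exact ⟨qx + qy, by rw [map_add, ← hqx, ← hqy, mul_add]⟩
    | smul r x _ hx =>
      obtain ⟨qx, hqx⟩ := hx
      refine ⟨C r * qx, ?_⟩
      rw [map_mul, aeval_C, ← hqx, Algebra.smul_def]
      ring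
  obtain ⟨h₂, a, b, hh₂0, hab⟩ := exists_bezout (R := R) f
  refine ⟨f, h₁ * h₂, mul_ne_zero hh₁0 hh₂0, ⟨C h₁ * a, C h₁ * b, ?_⟩, fun x => ?_⟩
  · rw [C_mul, ← hab]
    ring
  · obtain ⟨q', hq'⟩ := hall x
    refine ⟨C h₂ * q', ?_⟩
    have h3 : aeval f (C h₂ * q') = algebraMap R B h₂ * aeval f q' := by rw [map_mul, aeval_C]
    rw [h3, ← hq', map_mul]
    ring

end Groth.Agent.Helper19.PrimElt
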