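import Mathlib

/-!
# Standard étale maps induce local homeomorphisms on ℂ-valued points (helper19)

Pure Mathlib. Namespace `Groth.Agent.Helper19.StdEtaleLH`.
-/

set_option autoImplicit false

open Polynomial Topology Filter

namespace Groth.Agent.Helper19.StdEtaleLH

/-- the universal monic polynomial of degree `d`. -/
noncomputable def poly {d : ℕ} (c : Fin d → ℂ) : ℂ[X] :=
  X ^ d + ∑ i : Fin d, C (c i) * X ^ (i : ℕ)

/-- its evaluation as a function of coefficients and variable. -/
noncomputable def F (d : ℕ) (v : (Fin d → ℂ) × ℂ) : ℂ :=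
  v.2 ^ d + ∑ i : Fin d, v.1 i * v.2 ^ (i : ℕ)

theorem eval_poly {d : ℕ} (c : Fin d → ℂ) (t : ℂ) : (poly c).eval t = F d (c, t) := by
  simp [poly, F, eval_finsetSum]

theorem contDiff_F (d : ℕ) : ContDiff ℂ ⊤ (F d) := by
  unfold F
  fun_prop

theorem continuous_F (d : ℕ) : Continuous (F d) := (contDiff_F d).continuous

theorem fderiv_F_inr (d : ℕ) (c : Fin d → ℂ) (t : ℂ) :
    fderiv ℂ (F d) (c, t) (0, 1) = (poly c).derivative.eval t := by
  have h1 : HasFDerivAt (F d) (fderiv ℂ (F d) (c, t)) (c, t) :=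
    ((contDiff_F d).differentiable (by simp)).differentiableAt.hasFDerivAt
  have h2 : HasDerivAt (fun s : ℂ => (c, s)) ((0 : Fin d → ℂ), (1 : ℂ)) t :=
    (hasDerivAt_const t c).prodMk (hasDerivAt_id t)
  have h3 : HasDerivAt (fun s : ℂ => F d (c, s)) (fderiv ℂ (F d) (c, t) (0, 1)) t :=
    h1.comp_hasDerivAt t h2
  have h4 : HasDerivAt (fun s : ℂ => F d (c, s)) ((poly c).derivative.eval t) t := by
    have := (poly c).hasDerivAt t
    simpa only [eval_poly] using this
  exact h3.unique h4

theorem isInvertible_of_ne_zero (L : ℂ →L[ℂ] ℂ) (h : L 1 ≠ 0) : L.IsInvertible := by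
  refine ⟨ContinuousLinearEquiv.unitsEquivAut ℂ (Units.mk0 (L 1) h), ?_⟩
  apply ContinuousLinearMap.ext_ring
  simp

section LemmaA

variable {TA : Type*} [TopologicalSpace TA] {d : ℕ} (c : TA → Fin d → ℂ) (G : TA × ℂ → ℂ)

/-- the zero locus of the family of monic polynomials, away from the zeros of `G`. -/
def Root : Set (TA × ℂ) := {p | (poly (c p.1)).eval p.2 = 0 ∧ G p ≠ 0}

theorem isLocalHomeomorph_fst (hc : Continuous c) (hG : Continuous G)
    (hder : ∀ p ∈ Root c G, (poly (c p.1)).derivative.eval p.2 ≠ 0) :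
    IsLocalHomeomorph (fun p : Root c G => p.1.1) := by
  rw [isLocalHomeomorph_iff_isOpenEmbedding_restrict]
  rintro ⟨⟨a₀, t₀⟩, h0, hG0⟩
  set u₀ : (Fin d → ℂ) × ℂ := (c a₀, t₀) with hu₀
  have hF0 : F d u₀ = 0 := by rw [hu₀, ← eval_poly]; exact h0
  have dfu : HasStrictFDerivAt (F d) (fderiv ℂ (F d) u₀) u₀ :=
    (contDiff_F d).contDiffAt.hasStrictFDerivAt (by simp)
  have hinv : ((fderiv ℂ (F d) u₀) ∘L ContinuousLinearMap.inr ℂ (Fin d → ℂ) ℂ).IsInvertible := by
    apply isInvertible_of_ne_zero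
    have : ((fderiv ℂ (F d) u₀) ∘L ContinuousLinearMap.inr ℂ (Fin d → ℂ) ℂ) 1 =
        fderiv ℂ (F d) (c a₀, t₀) (0, 1) := rfl
    rw [this, fderiv_F_inr]
    exact hder (a₀, t₀) ⟨h0, hG0⟩
  set ψ := dfu.implicitFunctionOfProdDomain hinv with hψ
  have h1 := dfu.eventually_apply_eq_iff_implicitFunctionOfProdDomain hinv
  have hψ0 : ψ (c a₀) = t₀ := (h1.self_of_nhds).mp rfl
  obtain ⟨C, D, hCo, hcC, hDo, htD, hCD⟩ := mem_nhds_prod_iff'.mp h1
  obtain ⟨K, s, hs, hLip⟩ :=
    (dfu.hasStrictFDerivAt_implicitFunctionOfProdDomain hinv).exists_lipschitzOnWith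
  have hcont : ContinuousOn ψ (interior s ∩ C) :=
    hLip.continuousOn.mono (Set.inter_subset_left.trans interior_subset)
  have hC₁o : IsOpen (interior s ∩ C) := isOpen_interior.inter hCo
  set C' : Set (Fin d → ℂ) := (interior s ∩ C) ∩ ψ ⁻¹' D with hC'
  have hC'o : IsOpen C' := hcont.isOpen_inter_preimage hC₁o hDo
  have hcC' : c a₀ ∈ C' := ⟨⟨mem_interior_iff_mem_nhds.mpr hs, hcC⟩, by
    change ψ (c a₀) ∈ D
    rw [hψ0]; exact htD⟩
  have hcont' : ContinuousOn ψ C' := hcont.mono Set.inter_subset_left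
  -- key equivalence on `C' ×ˢ D`
  have key : ∀ a : TA, ∀ t : ℂ, c a ∈ C' → t ∈ D → ((poly (c a)).eval t = 0 ↔ ψ (c a) = t) := by
    intro a t ha ht
    have := hCD (Set.mk_mem_prod ha.1.2 ht)
    simp only [Set.mem_ofPred_eq] at this
    rw [hF0, ← eval_poly] at this
    exact this
  -- the neighbourhood
  set U : Set (Root c G) := {p | c p.1.1 ∈ C' ∧ p.1.2 ∈ D} with hU
  have hUo : IsOpen U := by
    have h1 : Continuous (fun p : Root c G => c p.1.1) :=
      hc.comp (continuous_fst.comp continuous_subtype_val)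
    have h2 : Continuous (fun p : Root c G => p.1.2) :=
      continuous_snd.comp continuous_subtype_val
    exact (hC'o.preimage h1).inter (hDo.preimage h2)
  refine ⟨U, hUo.mem_nhds ⟨hcC', htD⟩, ?_⟩
  -- the image
  set O : Set TA := {a | c a ∈ C' ∧ G (a, ψ (c a)) ≠ 0} with hO
  have hψc : ContinuousOn (fun a : TA => ψ (c a)) (c ⁻¹' C') :=
    hcont'.comp hc.continuousOn (fun a ha => ha)
  have hOo : IsOpen O := by
    have h3 : ContinuousOn (fun a : TA => G (a, ψ (c a))) (c ⁻¹' C') :=
      hG.comp_continuousOn (continuousOn_id.prodMk hψc)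
    have := h3.isOpen_inter_preimage (hC'o.preimage hc) (isOpen_compl_singleton (x := (0 : ℂ)))
    exact this
  have hαt : ∀ p : Root c G, p ∈ U → ψ (c p.1.1) = p.1.2 := fun p hp =>
    (key p.1.1 p.1.2 hp.1 hp.2).mp p.2.1
  let e : U ≃ₜ O :=
    { toFun := fun p => ⟨p.1.1.1, p.2.1, by rw [hαt p.1 p.2]; exact p.1.2.2⟩
      invFun := fun a => ⟨⟨(a.1, ψ (c a.1)),
        (key a.1 (ψ (c a.1)) a.2.1 a.2.1.2).mpr rfl, a.2.2⟩, a.2.1, a.2.1.2⟩
      left_inv := by
        intro p
        apply Subtype.ext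
        apply Subtype.ext
        exact Prod.ext rfl (hαt p.1 p.2)
      right_inv := fun a => rfl
      continuous_toFun := by
        apply Continuous.subtype_mk
        exact continuous_fst.comp (continuous_subtype_val.comp continuous_subtype_val)
      continuous_invFun := by
        apply Continuous.subtype_mk
        apply Continuous.subtype_mk
        apply Continuous.prodMk continuous_subtype_val
        exact hψc.comp_continuous continuous_subtype_val (fun a => a.2.1) }
  have : U.domRestrict (fun p : Root c G => p.1.1) = Subtype.val ∘ e := rfl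
  rw [this]
  exact hOo.isOpenEmbedding_subtypeVal.comp e.isOpenEmbedding

end LemmaA

section LemmaB

variable {A B : Type*} [CommRing A] [CommRing B] [Algebra A B]
  (P : StandardEtalePresentation A B)
  {TA TB : Type*} [TopologicalSpace TA] [TopologicalSpace TB]
  (eA : TA → A →+* ℂ) (eB : TB → B →+* ℂ) (r : TB → TA)

/-- evaluation of a polynomial over `A` at a point of `TA × ℂ`. -/
noncomputable def E (p : A[X]) (q : TA × ℂ) : ℂ := (p.map (eA q.1)).eval q.2

theorem continuous_E (hA : IsInducing (fun x a => eA x a)) (p : A[X]) : Continuous (E eA p) := by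
  unfold E
  simp only [eval_map, eval₂_eq_sum_range]
  refine continuous_finsetSum _ fun i _ => ?_
  refine Continuous.mul ?_ (continuous_snd.pow i)
  exact ((continuous_apply (p.coeff i)).comp hA.continuous).comp continuous_fst

/-- the coefficient map. -/
noncomputable def coeffMap (x : TA) : Fin P.f.natDegree → ℂ := fun i => eA x (P.f.coeff i)

theorem continuous_coeffMap (hA : IsInducing (fun x a => eA x a)) :
    Continuous (coeffMap P eA) :=
  continuous_pi fun i => (continuous_apply (P.f.coeff i)).comp hA.continuous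

theorem map_f_eq_poly (x : TA) : P.f.map (eA x) = poly (coeffMap P eA x) := by
  conv_lhs => rw [P.monic_f.as_sum]
  simp only [poly, coeffMap, Polynomial.map_add, Polynomial.map_pow, map_X, Polynomial.map_sum,
    Polynomial.map_mul, map_C]
  rw [Fin.sum_univ_eq_sum_range (fun i => C (eA x (P.f.coeff i)) * X ^ i) P.f.natDegree]

/-- the embedding into `TA × ℂ`. -/
noncomputable def jmap (y : TB) : TA × ℂ := (r y, eB y P.x)

variable {eA eB r}

theorem E_jmap (hr : ∀ y, eA (r y) = (eB y).comp (algebraMap A B)) (p : A[X]) (y : TB) :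
    E eA p (jmap P eB r y) = eB y (aeval P.x p) := by
  unfold E jmap
  simp only [eval_map]
  rw [hr, ← hom_eval₂, aeval_def]

theorem jmap_mem_root (hr : ∀ y, eA (r y) = (eB y).comp (algebraMap A B)) (y : TB) :
    jmap P eB r y ∈ Root (coeffMap P eA) (E eA P.g) := by
  constructor
  · have h1 := E_jmap P hr P.f y
    rw [P.hasMap.1, map_zero] at h1
    rw [← map_f_eq_poly]
    exact h1
  · rw [E_jmap P hr]
    exact (P.hasMap.2.map (eB y)).ne_zero

theorem continuous_jmap (hA : IsInducing (fun x a => eA x a))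
    (hB : IsInducing (fun y b => eB y b))
    (hr : ∀ y, eA (r y) = (eB y).comp (algebraMap A B)) : Continuous (jmap P eB r) := by
  refine Continuous.prodMk ?_ ((continuous_apply P.x).comp hB.continuous)
  rw [hA.continuous_iff]
  refine continuous_pi fun a => ?_
  have : (fun y => ((fun x a => eA x a) ∘ r) y a) = fun y => eB y (algebraMap A B a) := by
    funext y
    simp only [Function.comp_apply, hr]
    rfl
  rw [this]
  exact (continuous_apply (algebraMap A B a)).comp hB.continuous

theorem jmap_injective (hBinj : Function.Injective eB)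
    (hr : ∀ y, eA (r y) = (eB y).comp (algebraMap A B)) : Function.Injective (jmap P eB r) := by
  intro y y' h
  have h1 : r y = r y' := congrArg Prod.fst h
  have h2 : eB y P.x = eB y' P.x := congrArg Prod.snd h
  apply hBinj
  letI : Algebra A ℂ := (eA (r y)).toAlgebra
  have c₁ : ∀ z : A, eB y (algebraMap A B z) = algebraMap A ℂ z := fun z => by
    change eB y (algebraMap A B z) = eA (r y) z
    rw [hr]; rfl
  have c₂ : ∀ z : A, eB y' (algebraMap A B z) = algebraMap A ℂ z := fun z => by
    change eB y' (algebraMap A B z) = eA (r y) z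
    rw [h1, hr]; rfl
  let f₁ : B →ₐ[A] ℂ := { eB y with commutes' := c₁ }
  let f₂ : B →ₐ[A] ℂ := { eB y' with commutes' := c₂ }
  have : f₁ = f₂ := P.hom_ext h2
  exact congrArg (fun f : B →ₐ[A] ℂ => (f : B →+* ℂ)) this

theorem root_subset_range
    (hsurj : ∀ x (ψ : B →+* ℂ), ψ.comp (algebraMap A B) = eA x → ∃ y, eB y = ψ ∧ r y = x) :
    Root (coeffMap P eA) (E eA P.g) ⊆ Set.range (jmap P eB r) := by
  rintro ⟨a, t⟩ ⟨h1, h2⟩
  letI : Algebra A ℂ := (eA a).toAlgebra
  have hmap : P.HasMap t := by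
    constructor
    · rw [aeval_def]
      change eval₂ (eA a) t P.f = 0
      rw [← eval_map, map_f_eq_poly]
      exact h1
    · rw [aeval_def]
      change IsUnit (eval₂ (eA a) t P.g)
      rw [← eval_map]
      exact isUnit_iff_ne_zero.mpr h2
  let ψ : B →ₐ[A] ℂ := (P.lift t hmap).comp P.equivRing.toAlgHom
  obtain ⟨y, hy1, hy2⟩ := hsurj a (ψ : B →+* ℂ) (by
    ext z
    exact ψ.commutes z)
  refine ⟨y, ?_⟩
  unfold jmap
  rw [hy1, hy2]
  congr 1
  change P.lift t hmap (P.equivRing P.x) = t
  rw [P.equivRing_x, P.lift_X]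

theorem isInducing_jmap (hA : IsInducing (fun x a => eA x a))
    (hB : IsInducing (fun y b => eB y b))
    (hr : ∀ y, eA (r y) = (eB y).comp (algebraMap A B)) : IsInducing (jmap P eB r) := by
  have hG := continuous_E eA hA P.g
  choose pβ nβ hβ using P.exists_mul_aeval_x_g_pow_eq_aeval_x
  let S : Set (TA × ℂ) := {q | E eA P.g q ≠ 0}
  let j' : TB → S := fun y => ⟨jmap P eB r y, (jmap_mem_root P hr y).2⟩
  let H : S → (B → ℂ) := fun q β => E eA (pβ β) q.1 / (E eA P.g q.1) ^ (nβ β)
  have hj' : Continuous j' := (continuous_jmap P hA hB hr).subtype_mk _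
  have hH : Continuous H := by
    refine continuous_pi fun β => ?_
    refine Continuous.div ((continuous_E eA hA _).comp continuous_subtype_val)
      ((hG.comp continuous_subtype_val).pow _) ?_
    intro q
    exact pow_ne_zero _ q.2
  have hcomp : H ∘ j' = fun y b => eB y b := by
    funext y β
    change E eA (pβ β) (jmap P eB r y) / (E eA P.g (jmap P eB r y)) ^ (nβ β) = eB y β
    rw [E_jmap P hr, E_jmap P hr, ← hβ β, map_mul, map_pow]
    have : eB y (aeval P.x P.g) ≠ 0 := (P.hasMap.2.map (eB y)).ne_zero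
    field_simp
  have h1 : IsInducing j' := IsInducing.of_comp hj' hH (hcomp ▸ hB)
  exact IsInducing.subtypeVal.comp h1

include P in
theorem isLocalHomeomorph_of_standardEtale (hA : IsInducing (fun x a => eA x a))
    (hB : IsInducing (fun y b => eB y b)) (hBinj : Function.Injective eB)
    (hr : ∀ y, eA (r y) = (eB y).comp (algebraMap A B))
    (hsurj : ∀ x (ψ : B →+* ℂ), ψ.comp (algebraMap A B) = eA x → ∃ y, eB y = ψ ∧ r y = x) :
    IsLocalHomeomorph r := by
  have hemb : IsEmbedding (jmap P eB r) := ⟨isInducing_jmap P hA hB hr, jmap_injective P hBinj hr⟩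
  have hrange : Set.range (jmap P eB r) = Root (coeffMap P eA) (E eA P.g) :=
    Set.Subset.antisymm (Set.range_subset_iff.mpr (jmap_mem_root P hr)) (root_subset_range P hsurj)
  let e : TB ≃ₜ Root (coeffMap P eA) (E eA P.g) :=
    hemb.toHomeomorph.trans (Homeomorph.setCongr hrange)
  have hder : ∀ p ∈ Root (coeffMap P eA) (E eA P.g),
      (poly (coeffMap P eA p.1)).derivative.eval p.2 ≠ 0 := by
    intro p hp
    obtain ⟨y, rfl⟩ := root_subset_range P hsurj hp
    have h1 := E_jmap P hr P.f.derivative y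
    unfold E at h1
    rw [← derivative_map, map_f_eq_poly] at h1
    rw [h1]
    exact ((P.hasMap.isUnit_derivative_f).map (eB y)).ne_zero
  have hlh := isLocalHomeomorph_fst (coeffMap P eA) (E eA P.g) (continuous_coeffMap P eA hA)
    (continuous_E eA hA P.g) hder
  have : r = (fun p : Root (coeffMap P eA) (E eA P.g) => p.1.1) ∘ e := rfl
  rw [this]
  exact hlh.comp e.isLocalHomeomorph

end LemmaB

end Groth.Agent.Helper19.StdEtaleLH
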