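import Mathlib
import Groth.Agent.Lib.Helper19.StdEtaleLH

/-!
# Holomorphic dependence of simple roots on the coefficients (helper19)

Pure Mathlib. Namespace `Groth.Agent.Helper19.RootsHolo`.
-/

set_option autoImplicit false

open Polynomial Topology Filter

namespace Groth.Agent.Helper19.RootsHolo

open Groth.Agent.Helper19.StdEtaleLH

theorem degree_lower_lt {d : ℕ} (c : Fin d → ℂ) :
    (∑ i : Fin d, C (c i) * X ^ (i : ℕ) : ℂ[X]).degree < d :=
  Polynomial.degree_sum_fin_lt c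

theorem monic_poly {d : ℕ} (c : Fin d → ℂ) : (poly c).Monic :=
  monic_X_pow_add (degree_lower_lt c)

theorem natDegree_poly {d : ℕ} (c : Fin d → ℂ) : (poly c).natDegree = d :=
  by
  unfold poly
  rw [natDegree_add_eq_left_of_degree_lt (by rw [degree_X_pow]; exact degree_lower_lt c),
    natDegree_X_pow]

/-- a single simple root as a function of the coefficients. -/
theorem exists_root_function {d : ℕ} (c₀ : Fin d → ℂ) (y : ℂ) (hy : (poly c₀).IsRoot y)
    (hy' : (poly c₀).derivative.eval y ≠ 0) :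
    ∃ ψ : (Fin d → ℂ) → ℂ, ψ c₀ = y ∧ DifferentiableAt ℂ ψ c₀ ∧
      ∀ᶠ c in 𝓝 c₀, (poly c).IsRoot (ψ c) := by
  set u₀ : (Fin d → ℂ) × ℂ := (c₀, y) with hu₀
  have hF0 : F d u₀ = 0 := by rw [hu₀, ← eval_poly]; exact hy
  have dfu : HasStrictFDerivAt (F d) (fderiv ℂ (F d) u₀) u₀ :=
    (contDiff_F d).contDiffAt.hasStrictFDerivAt (by simp)
  have hinv : ((fderiv ℂ (F d) u₀) ∘L ContinuousLinearMap.inr ℂ (Fin d → ℂ) ℂ).IsInvertible := by
    apply isInvertible_of_ne_zero
    have : ((fderiv ℂ (F d) u₀) ∘L ContinuousLinearMap.inr ℂ (Fin d → ℂ) ℂ) 1 =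
        fderiv ℂ (F d) (c₀, y) (0, 1) := rfl
    rw [this, fderiv_F_inr]
    exact hy'
  refine ⟨dfu.implicitFunctionOfProdDomain hinv, ?_, ?_, ?_⟩
  · exact ((dfu.eventually_apply_eq_iff_implicitFunctionOfProdDomain hinv).self_of_nhds).mp rfl
  · exact (dfu.hasStrictFDerivAt_implicitFunctionOfProdDomain hinv).hasFDerivAt.differentiableAt
  · filter_upwards [dfu.eventually_apply_implicitFunctionOfProdDomain hinv] with c hc
    rw [IsRoot.def, eval_poly, hc, hF0]

/-- all roots of a separable monic polynomial as functions of the coefficients. -/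
theorem exists_root_functions {d : ℕ} (c₀ : Fin d → ℂ) (hsep : (poly c₀).Separable) :
    ∃ σ : ℂ → (Fin d → ℂ) → ℂ,
      (∀ y ∈ (poly c₀).roots.toFinset, σ y c₀ = y ∧ DifferentiableAt ℂ (σ y) c₀) ∧
      ∀ᶠ c in 𝓝 c₀, Set.InjOn (fun y => σ y c) ((poly c₀).roots.toFinset : Set ℂ) ∧
        (poly c).roots.toFinset = (poly c₀).roots.toFinset.image (fun y => σ y c) := by
  classical
  have hne : poly c₀ ≠ 0 := (monic_poly c₀).ne_zero
  have hex : ∀ y : ℂ, ∃ ψ : (Fin d → ℂ) → ℂ, y ∈ (poly c₀).roots.toFinset →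
      ψ c₀ = y ∧ DifferentiableAt ℂ ψ c₀ ∧ ∀ᶠ c in 𝓝 c₀, (poly c).IsRoot (ψ c) := by
    intro y
    by_cases hy : y ∈ (poly c₀).roots.toFinset
    · have hy1 : (poly c₀).IsRoot y := by
        rw [Multiset.mem_toFinset, mem_roots hne] at hy
        exact hy
      have hy2 : (poly c₀).derivative.eval y ≠ 0 := by
        intro h0
        have := hsep.eval₂_derivative_ne_zero (RingHom.id ℂ) (x := y)
          (by rw [eval₂_id]; exact hy1)
        rw [eval₂_id] at this
        exact this h0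
      obtain ⟨ψ, h1, h2, h3⟩ := exists_root_function c₀ y hy1 hy2
      exact ⟨ψ, fun _ => ⟨h1, h2, h3⟩⟩
    · exact ⟨fun _ => 0, fun h => absurd h hy⟩
  choose σ hσ using hex
  refine ⟨σ, fun y hy => ⟨(hσ y hy).1, (hσ y hy).2.1⟩, ?_⟩
  -- the roots stay distinct near `c₀`
  have hdist : ∀ᶠ c in 𝓝 c₀, ∀ y ∈ (poly c₀).roots.toFinset, ∀ y' ∈ (poly c₀).roots.toFinset,
      y ≠ y' → σ y c ≠ σ y' c := by
    rw [Filter.eventually_all_finset]
    intro y hy
    rw [Filter.eventually_all_finset]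
    intro y' hy'
    by_cases hyy : y = y'
    · exact Filter.Eventually.of_forall (fun c h => absurd hyy h)
    · have h1 : σ y c₀ ≠ σ y' c₀ := by
        rw [(hσ y hy).1, (hσ y' hy').1]
        exact hyy
      filter_upwards [((hσ y hy).2.1.continuousAt.ne_iff_eventually_ne
        (hσ y' hy').2.1.continuousAt).mp h1] with c hc _
      exact hc
  have hroot : ∀ᶠ c in 𝓝 c₀, ∀ y ∈ (poly c₀).roots.toFinset, (poly c).IsRoot (σ y c) := by
    rw [Filter.eventually_all_finset]
    intro y hy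
    exact (hσ y hy).2.2
  have hcard0 : (poly c₀).roots.toFinset.card = d := by
    rw [Multiset.toFinset_card_of_nodup (nodup_roots hsep),
      ← (IsAlgClosed.splits (poly c₀)).natDegree_eq_card_roots, natDegree_poly]
  filter_upwards [hdist, hroot] with c hc1 hc2
  have hinj : Set.InjOn (fun y => σ y c) ((poly c₀).roots.toFinset : Set ℂ) := by
    intro y hy y' hy' heq
    by_contra hne'
    exact hc1 y hy y' hy' hne' heq
  refine ⟨hinj, ?_⟩
  symm
  apply Finset.eq_of_subset_of_card_le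
  · intro z hz
    obtain ⟨y, hy, rfl⟩ := Finset.mem_image.mp hz
    rw [Multiset.mem_toFinset, mem_roots (monic_poly c).ne_zero]
    exact hc2 y hy
  · rw [Finset.card_image_of_injOn hinj, hcard0]
    calc (poly c).roots.toFinset.card ≤ Multiset.card (poly c).roots := Multiset.toFinset_card_le _
      _ ≤ (poly c).natDegree := card_roots' _
      _ = d := natDegree_poly c


section Coeff

variable {ι : Type*} [DecidableEq ι] {E : Type*} [NormedAddCommGroup E] [NormedSpace ℂ E]

/-- coefficients of `∏ (X - σ i t)` depend holomorphically on `t` if the `σ i` do. -/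
theorem differentiableAt_coeff_prod (σ : ι → E → ℂ) (t₀ : E) (I : Finset ι)
    (hσ : ∀ i ∈ I, DifferentiableAt ℂ (σ i) t₀) (k : ℕ) :
    DifferentiableAt ℂ (fun t => (∏ i ∈ I, (X - C (σ i t))).coeff k) t₀ := by
  induction I using Finset.induction_on generalizing k with
  | empty =>
    simp only [Finset.prod_empty]
    exact differentiableAt_const _
  | insert a I ha ih =>
    have hI : ∀ i ∈ I, DifferentiableAt ℂ (σ i) t₀ := fun i hi => hσ i (Finset.mem_insert_of_mem hi)
    have ha' : DifferentiableAt ℂ (σ a) t₀ := hσ a (Finset.mem_insert_self a I)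
    simp only [Finset.prod_insert ha]
    cases k with
    | zero =>
      have : (fun t => ((X - C (σ a t)) * ∏ i ∈ I, (X - C (σ i t))).coeff 0) =
          fun t => -(σ a t) * (∏ i ∈ I, (X - C (σ i t))).coeff 0 := by
        funext t
        rw [mul_coeff_zero]
        simp
      rw [this]
      exact ha'.neg.mul (ih hI 0)
    | succ k =>
      have : (fun t => ((X - C (σ a t)) * ∏ i ∈ I, (X - C (σ i t))).coeff (k + 1)) =
          fun t => (∏ i ∈ I, (X - C (σ i t))).coeff k -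
            σ a t * (∏ i ∈ I, (X - C (σ i t))).coeff (k + 1) := by
        funext t
        rw [sub_mul, coeff_sub, coeff_X_mul, coeff_C_mul]
      rw [this]
      exact (ih hI k).sub (ha'.mul (ih hI (k + 1)))

/-- a bound for the coefficients of `∏ (X - z i)`. -/
theorem norm_coeff_prod_le (z : ι → ℂ) (ρ : ℝ) (I : Finset ι)
    (hz : ∀ i ∈ I, ‖z i‖ ≤ ρ) (k : ℕ) :
    ‖(∏ i ∈ I, (X - C (z i))).coeff k‖ ≤ (1 + ρ) ^ I.card := by
  induction I using Finset.induction_on generalizing k with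
  | empty =>
    simp only [Finset.prod_empty, Finset.card_empty, pow_zero, coeff_one]
    split_ifs <;> simp
  | insert a I ha ih =>
    have hI : ∀ i ∈ I, ‖z i‖ ≤ ρ := fun i hi => hz i (Finset.mem_insert_of_mem hi)
    have ha' : ‖z a‖ ≤ ρ := hz a (Finset.mem_insert_self a I)
    have hρ : 0 ≤ ρ := (norm_nonneg _).trans ha'
    rw [Finset.prod_insert ha, Finset.card_insert_of_notMem ha, pow_succ]
    cases k with
    | zero =>
      rw [mul_coeff_zero]
      simp only [coeff_sub, coeff_X_zero, coeff_C_zero, zero_sub, neg_mul, norm_neg, norm_mul]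
      have := ih hI 0
      have h1 : 0 ≤ (1 + ρ) ^ I.card := by positivity
      nlinarith [norm_nonneg (z a), norm_nonneg ((∏ i ∈ I, (X - C (z i))).coeff 0)]
    | succ k =>
      rw [sub_mul, coeff_sub, coeff_X_mul, coeff_C_mul]
      have h0 := ih hI k
      have h1 := ih hI (k + 1)
      have h2 : 0 ≤ (1 + ρ) ^ I.card := by positivity
      calc ‖(∏ i ∈ I, (X - C (z i))).coeff k - z a * (∏ i ∈ I, (X - C (z i))).coeff (k + 1)‖
          ≤ ‖(∏ i ∈ I, (X - C (z i))).coeff k‖ +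
            ‖z a‖ * ‖(∏ i ∈ I, (X - C (z i))).coeff (k + 1)‖ := by
            rw [← norm_mul]
            exact norm_sub_le _ _
        _ ≤ (1 + ρ) ^ I.card + ρ * (1 + ρ) ^ I.card := by
            gcongr
        _ = (1 + ρ) ^ I.card * (1 + ρ) := by ring

end Coeff

section Growth

variable {n : ℕ}

/-- real functions on `ℂⁿ` of polynomial growth. -/
def PolyBdd (g : (Fin n → ℂ) → ℝ) : Prop :=
  ∃ (A : ℝ) (N : ℕ), 0 ≤ A ∧ ∀ t, g t ≤ A * (1 + ‖t‖) ^ N

theorem PolyBdd.mono {g g' : (Fin n → ℂ) → ℝ} (h : PolyBdd g') (hle : ∀ t, g t ≤ g' t) :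
    PolyBdd g := by
  obtain ⟨A, N, hA, hb⟩ := h
  exact ⟨A, N, hA, fun t => (hle t).trans (hb t)⟩

theorem polyBdd_const (a : ℝ) : PolyBdd (fun _ : Fin n → ℂ => a) :=
  ⟨|a|, 0, abs_nonneg a, fun t => by simpa using le_abs_self a⟩

theorem PolyBdd.add {g g' : (Fin n → ℂ) → ℝ} (h : PolyBdd g) (h' : PolyBdd g') :
    PolyBdd (fun t => g t + g' t) := by
  obtain ⟨A, N, hA, hb⟩ := h
  obtain ⟨A', N', hA', hb'⟩ := h'
  refine ⟨A + A', max N N', add_nonneg hA hA', fun t => ?_⟩
  have h1 : (1 : ℝ) ≤ 1 + ‖t‖ := by linarith [norm_nonneg t]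
  have h2 : (1 + ‖t‖) ^ N ≤ (1 + ‖t‖) ^ max N N' := pow_le_pow_right₀ h1 (le_max_left _ _)
  have h3 : (1 + ‖t‖) ^ N' ≤ (1 + ‖t‖) ^ max N N' := pow_le_pow_right₀ h1 (le_max_right _ _)
  calc g t + g' t ≤ A * (1 + ‖t‖) ^ N + A' * (1 + ‖t‖) ^ N' := add_le_add (hb t) (hb' t)
    _ ≤ A * (1 + ‖t‖) ^ max N N' + A' * (1 + ‖t‖) ^ max N N' := by gcongr
    _ = (A + A') * (1 + ‖t‖) ^ max N N' := by ring

theorem PolyBdd.mul {g g' : (Fin n → ℂ) → ℝ} (h : PolyBdd g) (h' : PolyBdd g')
    (h0 : ∀ t, 0 ≤ g t) (h0' : ∀ t, 0 ≤ g' t) : PolyBdd (fun t => g t * g' t) := by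
  obtain ⟨A, N, hA, hb⟩ := h
  obtain ⟨A', N', hA', hb'⟩ := h'
  refine ⟨A * A', N + N', mul_nonneg hA hA', fun t => ?_⟩
  calc g t * g' t ≤ (A * (1 + ‖t‖) ^ N) * (A' * (1 + ‖t‖) ^ N') :=
        mul_le_mul (hb t) (hb' t) (h0' t) ((h0 t).trans (hb t))
    _ = A * A' * (1 + ‖t‖) ^ (N + N') := by rw [pow_add]; ring

theorem PolyBdd.pow {g : (Fin n → ℂ) → ℝ} (h : PolyBdd g) (h0 : ∀ t, 0 ≤ g t) (k : ℕ) :
    PolyBdd (fun t => g t ^ k) := by
  induction k with
  | zero => simpa using polyBdd_const (n := n) 1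
  | succ k ih =>
    simp only [pow_succ]
    exact ih.mul h (fun t => pow_nonneg (h0 t) k) h0

theorem polyBdd_sum {ι : Type*} (I : Finset ι) (g : ι → (Fin n → ℂ) → ℝ)
    (h : ∀ i ∈ I, PolyBdd (g i)) : PolyBdd (fun t => ∑ i ∈ I, g i t) := by
  classical
  induction I using Finset.induction_on with
  | empty => simpa using polyBdd_const (n := n) 0
  | insert a I ha ih =>
    simp only [Finset.sum_insert ha]
    exact (h a (Finset.mem_insert_self a I)).add
      (ih (fun i hi => h i (Finset.mem_insert_of_mem hi)))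

theorem polyBdd_norm_eval (q : MvPolynomial (Fin n) ℂ) :
    PolyBdd (fun t => ‖MvPolynomial.eval t q‖) := by
  induction q using MvPolynomial.induction_on with
  | C a =>
    simp only [MvPolynomial.eval_C]
    exact polyBdd_const _
  | add p q hp hq =>
    refine (hp.add hq).mono (fun t => ?_)
    rw [map_add]
    exact norm_add_le _ _
  | mul_X p i hp =>
    have hX : PolyBdd (fun t : Fin n → ℂ => ‖t‖) :=
      ⟨1, 1, zero_le_one, fun t => by linarith [norm_nonneg t]⟩
    refine (hp.mul hX (fun t => norm_nonneg _) (fun t => norm_nonneg _)).mono (fun t => ?_)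
    rw [map_mul, MvPolynomial.eval_X, norm_mul]
    gcongr
    exact norm_le_pi_norm t i

end Growth

end Groth.Agent.Helper19.RootsHolo
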