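import Mathlib
import Groth.Agent.Lib.Helper19.FiniteOpenMap
import Groth.Agent.Lib.Helper19.IntegralProper
import Groth.Agent.Lib.Helper19.PolyGrowth
import Groth.Agent.Lib.Helper19.RootsHolo
import Groth.Agent.Lib.Helper19.PrimElt

/-!
# The ℂ-points of a finitely generated ℂ-domain form a connected space (helper19)

Pure Mathlib. Namespace `Groth.Agent.Helper19.ConnPts`.
-/

set_option autoImplicit false
set_option linter.unusedSectionVars false

open Polynomial Topology Filter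

namespace Groth.Agent.Helper19.ConnPts

open Groth.Agent.Helper19.FiniteOpen Groth.Agent.Helper19.StdEtaleLH
  Groth.Agent.Helper19.RootsHolo Groth.Agent.Helper19.PolyGrowth

section Core

variable (n : ℕ) {B : Type*} [CommRing B] [Algebra ℂ B]
  [Algebra (MvPolynomial (Fin n) ℂ) B] [IsScalarTower ℂ (MvPolynomial (Fin n) ℂ) B]

/-- evaluation of a `ℂ`-point on a polynomial expression in `f`. -/
theorem algHom_aeval (ψ : B →ₐ[ℂ] ℂ) (f : B) (q : (MvPolynomial (Fin n) ℂ)[X]) :
    ψ (aeval f q) = (q.map (MvPolynomial.eval (proj n ψ))).eval (ψ f) := by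
  have h1 : (ψ : B →+* ℂ).comp (algebraMap (MvPolynomial (Fin n) ℂ) B) =
      MvPolynomial.eval (proj n ψ) := RingHom.ext fun a => algHom_algebraMap n ψ a
  rw [Polynomial.eval_map, ← h1]
  have h2 := Polynomial.hom_eval₂ q (algebraMap (MvPolynomial (Fin n) ℂ) B) (ψ : B →+* ℂ) f
  rw [← Polynomial.aeval_def] at h2
  exact h2

variable (f : B) (h : MvPolynomial (Fin n) ℂ)

/-- the specialised minimal polynomial is separable away from `h = 0`. -/
theorem separable_map_of_bezout
    (hbez : ∃ a b : (MvPolynomial (Fin n) ℂ)[X], a * minpoly (MvPolynomial (Fin n) ℂ) f +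
      b * derivative (minpoly (MvPolynomial (Fin n) ℂ) f) = C h)
    (t : Fin n → ℂ) (ht : MvPolynomial.eval t h ≠ 0) :
    ((minpoly (MvPolynomial (Fin n) ℂ) f).map (MvPolynomial.eval t)).Separable := by
  obtain ⟨a, b, hab⟩ := hbez
  have h1 := congrArg (Polynomial.map (MvPolynomial.eval t)) hab
  simp only [Polynomial.map_add, Polynomial.map_mul, Polynomial.map_C, ← derivative_map] at h1
  refine ⟨C (MvPolynomial.eval t h)⁻¹ * a.map (MvPolynomial.eval t),
    C (MvPolynomial.eval t h)⁻¹ * b.map (MvPolynomial.eval t), ?_⟩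
  rw [mul_assoc, mul_assoc, ← mul_add, h1, ← C_mul, inv_mul_cancel₀ ht, C_1]

/-- uniqueness of a point with given projection and given value at `f`. -/
theorem algHom_eq_of_proj_eq
    (hgen : ∀ x : B, ∃ q : (MvPolynomial (Fin n) ℂ)[X],
      algebraMap (MvPolynomial (Fin n) ℂ) B h * x = aeval f q)
    (ψ ψ' : B →ₐ[ℂ] ℂ) (hp : proj n ψ = proj n ψ')
    (ht : MvPolynomial.eval (proj n ψ) h ≠ 0) (hf : ψ f = ψ' f) : ψ = ψ' := by
  ext x
  obtain ⟨q, hq⟩ := hgen x
  have h1 := congrArg ψ hq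
  have h2 := congrArg ψ' hq
  rw [map_mul, algHom_algebraMap, algHom_aeval] at h1 h2
  rw [← hp, ← hf, ← h1] at h2
  exact (mul_left_cancel₀ ht h2).symm

/-- the coefficient map of the minimal polynomial. -/
noncomputable def coef (t : Fin n → ℂ) :
    Fin (minpoly (MvPolynomial (Fin n) ℂ) f).natDegree → ℂ :=
  fun i => MvPolynomial.eval t ((minpoly (MvPolynomial (Fin n) ℂ) f).coeff i)

theorem differentiable_eval (q : MvPolynomial (Fin n) ℂ) :
    Differentiable ℂ (fun t : Fin n → ℂ => MvPolynomial.eval t q) := fun t =>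
  ((AnalyticOnNhd.eval_mvPolynomial q) t (Set.mem_univ t)).differentiableAt

theorem differentiable_coef : Differentiable ℂ (coef n f) := by
  rw [differentiable_pi]
  intro i
  exact differentiable_eval n _

variable [IsDomain B] [Module.Finite (MvPolynomial (Fin n) ℂ) B]
  [FaithfulSMul (MvPolynomial (Fin n) ℂ) B]

theorem monic_minpoly : (minpoly (MvPolynomial (Fin n) ℂ) f).Monic :=
  minpoly.monic (Algebra.IsIntegral.isIntegral f)

theorem map_minpoly_eq_poly (t : Fin n → ℂ) :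
    (minpoly (MvPolynomial (Fin n) ℂ) f).map (MvPolynomial.eval t) = poly (coef n f t) := by
  conv_lhs => rw [(monic_minpoly n f).as_sum]
  simp only [poly, coef, Polynomial.map_add, Polynomial.map_pow, map_X, Polynomial.map_sum,
    Polynomial.map_mul, map_C]
  rw [Fin.sum_univ_eq_sum_range (fun i => C (MvPolynomial.eval t
    ((minpoly (MvPolynomial (Fin n) ℂ) f).coeff i)) * X ^ i)
    (minpoly (MvPolynomial (Fin n) ℂ) f).natDegree]


/-- the topology of pointwise convergence on the set of `ℂ`-points. -/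
@[reducible] noncomputable def ptTop (B : Type*) [CommRing B] [Algebra ℂ B] : TopologicalSpace (B →ₐ[ℂ] ℂ) :=
  TopologicalSpace.induced (fun ψ : B →ₐ[ℂ] ℂ => (ψ : B → ℂ)) inferInstance

attribute [local instance] ptTop

theorem isInducing_coe : IsInducing (fun ψ : B →ₐ[ℂ] ℂ => (ψ : B → ℂ)) := ⟨rfl⟩

/-- the values at `f` of the points of `Cl` lying over `t`. -/
noncomputable def rootsIn (Cl : Set (B →ₐ[ℂ] ℂ)) (t : Fin n → ℂ) : Finset ℂ :=
  open Classical in
  Finset.filter (fun y => ∃ ψ ∈ Cl, proj n ψ = t ∧ ψ f = y)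
    ((minpoly (MvPolynomial (Fin n) ℂ) f).map (MvPolynomial.eval t)).roots.toFinset

theorem mem_rootsIn (Cl : Set (B →ₐ[ℂ] ℂ)) (t : Fin n → ℂ) (y : ℂ) :
    y ∈ rootsIn n f Cl t ↔ ∃ ψ ∈ Cl, proj n ψ = t ∧ ψ f = y := by
  classical
  unfold rootsIn
  rw [Finset.mem_filter]
  refine ⟨fun hy => hy.2, fun hy => ⟨?_, hy⟩⟩
  obtain ⟨ψ, -, hψt, hψf⟩ := hy
  rw [Multiset.mem_toFinset, mem_roots ((monic_minpoly n f).map _).ne_zero, ← hψt, ← hψf]
  exact isRoot_map_minpoly n ψ f

theorem rootsIn_subset (Cl : Set (B →ₐ[ℂ] ℂ)) (t : Fin n → ℂ) :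
    rootsIn n f Cl t ⊆
      ((minpoly (MvPolynomial (Fin n) ℂ) f).map (MvPolynomial.eval t)).roots.toFinset := by
  classical
  exact Finset.filter_subset _ _

/-- the product of `X - y` over the values `y` of `f` on the part of the fibre in `Cl`. -/
noncomputable def G (Cl : Set (B →ₐ[ℂ] ℂ)) (t : Fin n → ℂ) : ℂ[X] :=
  ∏ y ∈ rootsIn n f Cl t, (X - C y)

/-- local description of `G` near a point of the good locus. -/
theorem exists_local_description
    (hbez : ∃ a b : (MvPolynomial (Fin n) ℂ)[X], a * minpoly (MvPolynomial (Fin n) ℂ) f +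
      b * derivative (minpoly (MvPolynomial (Fin n) ℂ) f) = C h)
    (hgen : ∀ x : B, ∃ q : (MvPolynomial (Fin n) ℂ)[X],
      algebraMap (MvPolynomial (Fin n) ℂ) B h * x = aeval f q)
    (Cl : Set (B →ₐ[ℂ] ℂ)) (hCl : IsClopen Cl) (t₀ : Fin n → ℂ)
    (ht₀ : MvPolynomial.eval t₀ h ≠ 0) :
    ∃ (I : Finset ℂ) (σ : ℂ → (Fin n → ℂ) → ℂ), (∀ y ∈ I, DifferentiableAt ℂ (σ y) t₀) ∧
      ∀ᶠ t in 𝓝 t₀, G n f Cl t = ∏ y ∈ I, (X - C (σ y t)) := by
  classical
  by_cases hne : Nonempty (B →ₐ[ℂ] ℂ)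
  swap
  · refine ⟨∅, fun _ _ => 0, fun y hy => absurd hy (Finset.notMem_empty y),
      Filter.Eventually.of_forall (fun t => ?_)⟩
    have : rootsIn n f Cl t = ∅ := by
      rw [Finset.eq_empty_iff_forall_notMem]
      intro y hy
      obtain ⟨ψ, -⟩ := (mem_rootsIn n f Cl t y).mp hy
      exact hne ⟨ψ⟩
    rw [G, this, Finset.prod_empty, Finset.prod_empty]
  set c₀ := coef n f t₀ with hc₀
  have hsep₀ : (poly c₀).Separable := by
    rw [hc₀, ← map_minpoly_eq_poly]
    exact separable_map_of_bezout n f h hbez t₀ ht₀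
  obtain ⟨σ₀, hσ₀, hev⟩ := exists_root_functions c₀ hsep₀
  set R₀ := (poly c₀).roots.toFinset with hR₀
  set σ : ℂ → (Fin n → ℂ) → ℂ := fun y t => σ₀ y (coef n f t) with hσ
  have hσd : ∀ y ∈ R₀, DifferentiableAt ℂ (σ y) t₀ := fun y hy =>
    ((hσ₀ y hy).2).comp t₀ (differentiable_coef n f t₀)
  have hσ0 : ∀ y ∈ R₀, σ y t₀ = y := fun y hy => (hσ₀ y hy).1
  have hev' : ∀ᶠ t in 𝓝 t₀, Set.InjOn (fun y => σ y t) (R₀ : Set ℂ) ∧
      ((minpoly (MvPolynomial (Fin n) ℂ) f).map (MvPolynomial.eval t)).roots.toFinset =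
        R₀.image (fun y => σ y t) := by
    have := (differentiable_coef n f).continuous.continuousAt.eventually hev
    filter_upwards [this] with t ht
    rw [map_minpoly_eq_poly]
    exact ht
  have hU : ∀ᶠ t in 𝓝 t₀, MvPolynomial.eval t h ≠ 0 :=
    (MvPolynomial.continuous_eval h).continuousAt.eventually_ne ht₀
  -- the sections
  have hsec : ∀ (y : ℂ) (t : Fin n → ℂ),
      ((minpoly (MvPolynomial (Fin n) ℂ) f).map (MvPolynomial.eval t)).IsRoot (σ y t) →
      ∃ ψ : B →ₐ[ℂ] ℂ, proj n ψ = t ∧ ψ f = σ y t := fun y t hr =>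
    exists_algHom_of_root n f t (σ y t) hr
  choose! s hs using hsec
  have hroot : ∀ t, ((minpoly (MvPolynomial (Fin n) ℂ) f).map
      (MvPolynomial.eval t)).roots.toFinset = R₀.image (fun y => σ y t) → ∀ y ∈ R₀,
      ((minpoly (MvPolynomial (Fin n) ℂ) f).map (MvPolynomial.eval t)).IsRoot (σ y t) := by
    intro t ht y hy
    have : σ y t ∈ R₀.image (fun y => σ y t) := Finset.mem_image_of_mem _ hy
    rw [← ht, Multiset.mem_toFinset, mem_roots ((monic_minpoly n f).map _).ne_zero] at this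
    exact this
  -- continuity of the sections at `t₀`
  have hscont : ∀ y ∈ R₀, ContinuousAt (fun t => s y t) t₀ := by
    intro y hy
    rw [isInducing_coe.continuousAt_iff, continuousAt_pi]
    intro x
    obtain ⟨q, hq⟩ := hgen x
    have hform : ∀ᶠ t in 𝓝 t₀, (s y t) x =
        (q.map (MvPolynomial.eval t)).eval (σ y t) / MvPolynomial.eval t h := by
      filter_upwards [hev', hU] with t ht htU
      have hst := hs y t (hroot t ht.2 y hy)
      have h1 := congrArg (s y t) hq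
      rw [map_mul, algHom_algebraMap, algHom_aeval, hst.1, hst.2] at h1
      rw [← h1, mul_div_cancel_left₀ _ htU]
    have hcont : ContinuousAt (fun t => (q.map (MvPolynomial.eval t)).eval (σ y t) /
        MvPolynomial.eval t h) t₀ := by
      apply ContinuousAt.div _ (MvPolynomial.continuous_eval h).continuousAt ht₀
      simp only [eval_map, eval₂_eq_sum_range]
      apply tendsto_finsetSum
      intro i _
      exact ((MvPolynomial.continuous_eval (q.coeff i)).continuousAt).mul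
        ((hσd y hy).continuousAt.pow i)
    exact hcont.congr (hform.mono fun t ht => ht.symm)
  have hmem : ∀ᶠ t in 𝓝 t₀, ∀ y ∈ R₀, (s y t ∈ Cl ↔ s y t₀ ∈ Cl) := by
    rw [Filter.eventually_all_finset]
    intro y hy
    by_cases hin : s y t₀ ∈ Cl
    · have := (hscont y hy).preimage_mem_nhds (hCl.isOpen.mem_nhds hin)
      filter_upwards [this] with t ht
      exact ⟨fun _ => hin, fun _ => ht⟩
    · have := (hscont y hy).preimage_mem_nhds (hCl.compl.isOpen.mem_nhds hin)
      filter_upwards [this] with t ht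
      exact ⟨fun h' => absurd h' ht, fun h' => absurd h' hin⟩
  refine ⟨R₀.filter (fun y => s y t₀ ∈ Cl), σ,
    fun y hy => hσd y (Finset.mem_filter.mp hy).1, ?_⟩
  filter_upwards [hev', hU, hmem] with t ht htU htm
  have hst := fun y hy => hs y t (hroot t ht.2 y hy)
  have himg : rootsIn n f Cl t = (R₀.filter (fun y => s y t₀ ∈ Cl)).image (fun y => σ y t) := by
    ext z
    rw [mem_rootsIn, Finset.mem_image]
    constructor
    · rintro ⟨ψ, hψCl, hψt, hψf⟩
      have hz : z ∈ ((minpoly (MvPolynomial (Fin n) ℂ) f).map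
          (MvPolynomial.eval t)).roots.toFinset := by
        rw [Multiset.mem_toFinset, mem_roots ((monic_minpoly n f).map _).ne_zero, ← hψt, ← hψf]
        exact isRoot_map_minpoly n ψ f
      rw [ht.2] at hz
      obtain ⟨y, hy, rfl⟩ := Finset.mem_image.mp hz
      refine ⟨y, Finset.mem_filter.mpr ⟨hy, ?_⟩, rfl⟩
      have heq : ψ = s y t := by
        apply algHom_eq_of_proj_eq n f h hgen ψ (s y t)
        · rw [hψt, (hst y hy).1]
        · rw [hψt]; exact htU
        · rw [hψf, (hst y hy).2]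
      rw [heq] at hψCl
      exact (htm y hy).mp hψCl
    · rintro ⟨y, hy, rfl⟩
      rw [Finset.mem_filter] at hy
      exact ⟨s y t, (htm y hy.1).mpr hy.2, (hst y hy.1).1, (hst y hy.1).2⟩
  rw [G, himg, Finset.prod_image]
  intro y hy y' hy' heq
  exact ht.1 (Finset.mem_filter.mp hy).1 (Finset.mem_filter.mp hy').1 heq


theorem natDegree_map_minpoly (t : Fin n → ℂ) :
    ((minpoly (MvPolynomial (Fin n) ℂ) f).map (MvPolynomial.eval t)).natDegree =
      (minpoly (MvPolynomial (Fin n) ℂ) f).natDegree :=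
  (monic_minpoly n f).natDegree_map _

theorem card_rootsIn_le (Cl : Set (B →ₐ[ℂ] ℂ)) (t : Fin n → ℂ) :
    (rootsIn n f Cl t).card ≤ (minpoly (MvPolynomial (Fin n) ℂ) f).natDegree := by
  calc (rootsIn n f Cl t).card
      ≤ ((minpoly (MvPolynomial (Fin n) ℂ) f).map (MvPolynomial.eval t)).roots.toFinset.card :=
        Finset.card_le_card (rootsIn_subset n f Cl t)
    _ ≤ Multiset.card ((minpoly (MvPolynomial (Fin n) ℂ) f).map (MvPolynomial.eval t)).roots :=
        Multiset.toFinset_card_le _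
    _ ≤ ((minpoly (MvPolynomial (Fin n) ℂ) f).map (MvPolynomial.eval t)).natDegree :=
        card_roots' _
    _ = _ := natDegree_map_minpoly n f t

theorem natDegree_G (Cl : Set (B →ₐ[ℂ] ℂ)) (t : Fin n → ℂ) :
    (G n f Cl t).natDegree = (rootsIn n f Cl t).card :=
  natDegree_finsetProd_X_sub_C_eq_card _ _

/-- the coefficients of `G` have polynomial growth. -/
theorem polyBdd_coeff_G (Cl : Set (B →ₐ[ℂ] ℂ)) (k : ℕ) :
    PolyBdd (fun t => ‖(G n f Cl t).coeff k‖) := by
  set d := (minpoly (MvPolynomial (Fin n) ℂ) f).natDegree with hd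
  set ρ : (Fin n → ℂ) → ℝ := fun t => (∑ i ∈ Finset.range d,
    ‖MvPolynomial.eval t ((minpoly (MvPolynomial (Fin n) ℂ) f).coeff i)‖) + 1 with hρ
  have hρ0 : ∀ t, 0 ≤ ρ t := fun t => by
    rw [hρ]
    positivity
  have hρb : PolyBdd ρ :=
    (polyBdd_sum _ _ (fun i _ => polyBdd_norm_eval _)).add (polyBdd_const 1)
  have hb : PolyBdd (fun t => (1 + ρ t) ^ d) :=
    ((polyBdd_const 1).add hρb).pow (fun t => by have := hρ0 t; positivity) d
  refine hb.mono (fun t => ?_)
  have hz : ∀ z ∈ rootsIn n f Cl t, ‖z‖ ≤ ρ t := by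
    intro z hz
    have hz' := rootsIn_subset n f Cl t hz
    rw [Multiset.mem_toFinset, mem_roots ((monic_minpoly n f).map _).ne_zero] at hz'
    have := IntegralProper.norm_le_of_isRoot _ ((monic_minpoly n f).map _) z hz'
    rw [natDegree_map_minpoly] at this
    simpa [coeff_map] using this
  refine (norm_coeff_prod_le (fun z => z) (ρ t) (rootsIn n f Cl t) hz k).trans ?_
  exact pow_le_pow_right₀ (by linarith [hρ0 t]) (card_rootsIn_le n f Cl t)

/-- the coefficients of `G` are holomorphic on the good locus. -/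
theorem differentiableAt_coeff_G
    (hbez : ∃ a b : (MvPolynomial (Fin n) ℂ)[X], a * minpoly (MvPolynomial (Fin n) ℂ) f +
      b * derivative (minpoly (MvPolynomial (Fin n) ℂ) f) = C h)
    (hgen : ∀ x : B, ∃ q : (MvPolynomial (Fin n) ℂ)[X],
      algebraMap (MvPolynomial (Fin n) ℂ) B h * x = aeval f q)
    (Cl : Set (B →ₐ[ℂ] ℂ)) (hCl : IsClopen Cl) (t₀ : Fin n → ℂ)
    (ht₀ : MvPolynomial.eval t₀ h ≠ 0) (k : ℕ) :
    DifferentiableAt ℂ (fun t => (G n f Cl t).coeff k) t₀ := by
  classical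
  obtain ⟨I, σ, hσ, hev⟩ := exists_local_description n f h hbez hgen Cl hCl t₀ ht₀
  have heq : (fun t => (G n f Cl t).coeff k) =ᶠ[𝓝 t₀]
      fun t => (∏ y ∈ I, (X - C (σ y t))).coeff k := by
    filter_upwards [hev] with t ht
    rw [ht]
  rw [heq.differentiableAt_iff]
  exact differentiableAt_coeff_prod σ t₀ I hσ k

/-- `G` is the specialisation of a polynomial over the polynomial ring. -/
theorem exists_poly_G (hh : h ≠ 0)
    (hbez : ∃ a b : (MvPolynomial (Fin n) ℂ)[X], a * minpoly (MvPolynomial (Fin n) ℂ) f +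
      b * derivative (minpoly (MvPolynomial (Fin n) ℂ) f) = C h)
    (hgen : ∀ x : B, ∃ q : (MvPolynomial (Fin n) ℂ)[X],
      algebraMap (MvPolynomial (Fin n) ℂ) B h * x = aeval f q)
    (Cl : Set (B →ₐ[ℂ] ℂ)) (hCl : IsClopen Cl) :
    ∃ G₁ : (MvPolynomial (Fin n) ℂ)[X], ∀ t, MvPolynomial.eval t h ≠ 0 →
      G₁.map (MvPolynomial.eval t) = G n f Cl t := by
  set d := (minpoly (MvPolynomial (Fin n) ℂ) f).natDegree with hd
  have hQ : ∀ k : ℕ, ∃ Q : MvPolynomial (Fin n) ℂ, ∀ t, MvPolynomial.eval t h ≠ 0 →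
      (G n f Cl t).coeff k = MvPolynomial.eval t Q := by
    intro k
    apply exists_mvPolynomial_of_growth n h hh (fun t => (G n f Cl t).coeff k)
    · intro t ht
      exact differentiableAt_coeff_G n f h hbez hgen Cl hCl t ht k
    · obtain ⟨A, N, -, hb⟩ := polyBdd_coeff_G n f Cl k
      exact ⟨A, N, fun t _ => hb t⟩
  choose Q hQ using hQ
  refine ⟨∑ k ∈ Finset.range (d + 1), C (Q k) * X ^ k, fun t ht => ?_⟩
  ext k
  rw [coeff_map, finsetSum_coeff]
  simp only [coeff_C_mul_X_pow]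
  rw [Finset.sum_ite_eq (Finset.range (d + 1)) k (fun j => Q j)]
  split_ifs with hk
  · rw [hQ k t ht]
  · rw [map_zero]
    symm
    apply coeff_eq_zero_of_natDegree_lt
    rw [natDegree_G]
    rw [Finset.mem_range, not_lt] at hk
    exact lt_of_le_of_lt (card_rootsIn_le n f Cl t) (Nat.lt_of_succ_le hk)


/-- the product formula on the good locus. -/
theorem G_mul_G_compl
    (hbez : ∃ a b : (MvPolynomial (Fin n) ℂ)[X], a * minpoly (MvPolynomial (Fin n) ℂ) f +
      b * derivative (minpoly (MvPolynomial (Fin n) ℂ) f) = C h)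
    (hgen : ∀ x : B, ∃ q : (MvPolynomial (Fin n) ℂ)[X],
      algebraMap (MvPolynomial (Fin n) ℂ) B h * x = aeval f q)
    (Cl : Set (B →ₐ[ℂ] ℂ)) (t : Fin n → ℂ) (ht : MvPolynomial.eval t h ≠ 0) :
    G n f Cl t * G n f Clᶜ t =
      (minpoly (MvPolynomial (Fin n) ℂ) f).map (MvPolynomial.eval t) := by
  classical
  set Ft := (minpoly (MvPolynomial (Fin n) ℂ) f).map (MvPolynomial.eval t) with hFt
  have hmon : Ft.Monic := (monic_minpoly n f).map _
  have hsep : Ft.Separable := separable_map_of_bezout n f h hbez t ht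
  have hdisj : Disjoint (rootsIn n f Cl t) (rootsIn n f Clᶜ t) := by
    rw [Finset.disjoint_left]
    intro z hz hz'
    obtain ⟨ψ, hψCl, hψt, hψf⟩ := (mem_rootsIn n f Cl t z).mp hz
    obtain ⟨ψ', hψ'Cl, hψ't, hψ'f⟩ := (mem_rootsIn n f Clᶜ t z).mp hz'
    have : ψ = ψ' := by
      apply algHom_eq_of_proj_eq n f h hgen ψ ψ'
      · rw [hψt, hψ't]
      · rw [hψt]; exact ht
      · rw [hψf, hψ'f]
    rw [this] at hψCl
    exact hψ'Cl hψCl
  have hunion : rootsIn n f Cl t ∪ rootsIn n f Clᶜ t = Ft.roots.toFinset := by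
    apply Finset.Subset.antisymm
    · exact Finset.union_subset (rootsIn_subset n f Cl t) (rootsIn_subset n f Clᶜ t)
    · intro z hz
      rw [Multiset.mem_toFinset, mem_roots hmon.ne_zero] at hz
      obtain ⟨ψ, hψt, hψf⟩ := exists_algHom_of_root n f t z hz
      rw [Finset.mem_union, mem_rootsIn, mem_rootsIn]
      by_cases hψ : ψ ∈ Cl
      · exact Or.inl ⟨ψ, hψ, hψt, hψf⟩
      · exact Or.inr ⟨ψ, hψ, hψt, hψf⟩
  rw [G, G, ← Finset.prod_union hdisj, hunion]
  conv_rhs => rw [(IsAlgClosed.splits Ft).eq_prod_roots_of_monic hmon]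
  rw [Finset.prod_eq_multiset_prod, Multiset.toFinset_val, (nodup_roots hsep).dedup]

/-- a polynomial over the polynomial ring is determined by its specialisations on the good
locus. -/
theorem eq_of_forall_map_eq (hh : h ≠ 0) (p₁ p₂ : (MvPolynomial (Fin n) ℂ)[X])
    (heq : ∀ t, MvPolynomial.eval t h ≠ 0 →
      p₁.map (MvPolynomial.eval t) = p₂.map (MvPolynomial.eval t)) : p₁ = p₂ := by
  ext1 k
  by_contra hne
  have he : h * (p₁.coeff k - p₂.coeff k) ≠ 0 := mul_ne_zero hh (sub_ne_zero.mpr hne)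
  obtain ⟨t, -, ht⟩ := exists_eval_ne_zero_of_mem_nhds _ he 0 Set.univ Filter.univ_mem
  rw [map_mul] at ht
  have ht1 : MvPolynomial.eval t h ≠ 0 := left_ne_zero_of_mul ht
  apply right_ne_zero_of_mul ht
  have := congrArg (fun q => q.coeff k) (heq t ht1)
  simp only [coeff_map] at this
  rw [map_sub, this, sub_self]

/-- a clopen set of `ℂ`-points whose polynomial `G` is a unit is empty. -/
theorem eq_empty_of_isUnit (hh : h ≠ 0) (Cl : Set (B →ₐ[ℂ] ℂ)) (hCl : IsOpen Cl)
    (G₁ : (MvPolynomial (Fin n) ℂ)[X]) (hG₁ : ∀ t, MvPolynomial.eval t h ≠ 0 →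
      G₁.map (MvPolynomial.eval t) = G n f Cl t) (hu : IsUnit G₁) : Cl = ∅ := by
  have hdeg : G₁.natDegree = 0 := natDegree_eq_zero_of_isUnit hu
  -- no point of `Cl` lies over the good locus
  have hno : ∀ ψ ∈ Cl, MvPolynomial.eval (proj n ψ) h = 0 := by
    intro ψ hψ
    by_contra hne
    have h1 : (G n f Cl (proj n ψ)).natDegree = 0 := by
      rw [← hG₁ _ hne]
      exact Nat.le_zero.mp (hdeg ▸ natDegree_map_le)
    rw [natDegree_G, Finset.card_eq_zero] at h1
    have : ψ f ∈ rootsIn n f Cl (proj n ψ) := (mem_rootsIn n f Cl _ _).mpr ⟨ψ, hψ, rfl, rfl⟩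
    rw [h1] at this
    exact Finset.notMem_empty _ this
  rw [Set.eq_empty_iff_forall_notMem]
  intro ψ₀ hψ₀
  obtain ⟨N, hN, hNCl⟩ := mem_nhds_induced _ _ _ |>.mp (hCl.mem_nhds hψ₀)
  have : Algebra.FiniteType ℂ B :=
    Algebra.FiniteType.trans (inferInstance : Algebra.FiniteType ℂ (MvPolynomial (Fin n) ℂ))
      (inferInstance : Algebra.FiniteType (MvPolynomial (Fin n) ℂ) B)
  have hhB : algebraMap (MvPolynomial (Fin n) ℂ) B h ≠ 0 := by
    rw [Ne, map_eq_zero_iff _ (FaithfulSMul.algebraMap_injective _ _)]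
    exact hh
  obtain ⟨ψ, hψN, hψh⟩ := exists_pt_ne_zero _ hhB ψ₀ N hN
  apply hψh
  rw [algHom_algebraMap]
  exact hno ψ (hNCl hψN)

/-- **Core**: every clopen set of `ℂ`-points is trivial. -/
theorem eq_empty_or_univ_of_isClopen (hh : h ≠ 0)
    (hbez : ∃ a b : (MvPolynomial (Fin n) ℂ)[X], a * minpoly (MvPolynomial (Fin n) ℂ) f +
      b * derivative (minpoly (MvPolynomial (Fin n) ℂ) f) = C h)
    (hgen : ∀ x : B, ∃ q : (MvPolynomial (Fin n) ℂ)[X],
      algebraMap (MvPolynomial (Fin n) ℂ) B h * x = aeval f q)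
    (Cl : Set (B →ₐ[ℂ] ℂ)) (hCl : IsClopen Cl) : Cl = ∅ ∨ Cl = Set.univ := by
  obtain ⟨G₁, hG₁⟩ := exists_poly_G n f h hh hbez hgen Cl hCl
  obtain ⟨G₂, hG₂⟩ := exists_poly_G n f h hh hbez hgen Clᶜ hCl.compl
  have hprod : minpoly (MvPolynomial (Fin n) ℂ) f = G₁ * G₂ := by
    apply eq_of_forall_map_eq n h hh
    intro t ht
    rw [Polynomial.map_mul, hG₁ t ht, hG₂ t ht, G_mul_G_compl n f h hbez hgen Cl t ht]
  have hirr : Irreducible (minpoly (MvPolynomial (Fin n) ℂ) f) :=
    (minpoly.prime_of_isIntegrallyClosed (Algebra.IsIntegral.isIntegral f)).irreducible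
  rcases hirr.isUnit_or_isUnit hprod with hu | hu
  · exact Or.inl (eq_empty_of_isUnit n f h hh Cl hCl.isOpen G₁ hG₁ hu)
  · right
    have := eq_empty_of_isUnit n f h hh Clᶜ hCl.compl.isOpen G₂ hG₂ hu
    rwa [Set.compl_empty_iff] at this

end Core


attribute [local instance] ptTop

/-- **Connectedness of integral affine varieties, pure form**: the space of `ℂ`-points of a
finitely generated `ℂ`-domain, with the topology of pointwise convergence, is preconnected. -/
theorem preconnectedSpace_algHom (B : Type*) [CommRing B] [IsDomain B] [Algebra ℂ B]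
    [Algebra.FiniteType ℂ B] : PreconnectedSpace (B →ₐ[ℂ] ℂ) := by
  obtain ⟨s, g, hinj, hfin⟩ := exists_finite_inj_algHom_of_fg ℂ B
  letI : Algebra (MvPolynomial (Fin s) ℂ) B := g.toRingHom.toAlgebra
  haveI : IsScalarTower ℂ (MvPolynomial (Fin s) ℂ) B :=
    IsScalarTower.of_algebraMap_eq (fun c => (g.commutes c).symm)
  haveI : Module.Finite (MvPolynomial (Fin s) ℂ) B := hfin
  haveI : FaithfulSMul (MvPolynomial (Fin s) ℂ) B :=
    (faithfulSMul_iff_algebraMap_injective _ _).mpr hinj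
  obtain ⟨f, h, hh, hbez, hgen⟩ := PrimElt.exists_primitive_data (MvPolynomial (Fin s) ℂ) B
  rw [preconnectedSpace_iff_clopen]
  intro Cl hCl
  exact eq_empty_or_univ_of_isClopen s f h hh hbez hgen Cl hCl

/-- the set of `ℂ`-points of a finitely generated `ℂ`-domain is a preconnected subset of the
product space `B → ℂ`. -/
theorem isPreconnected_pts (B : Type*) [CommRing B] [IsDomain B] [Algebra ℂ B]
    [Algebra.FiniteType ℂ B] : IsPreconnected (pts B) := by
  haveI := preconnectedSpace_algHom B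
  have h1 : pts B = (fun ψ : B →ₐ[ℂ] ℂ => (ψ : B → ℂ)) '' Set.univ := by
    rw [Set.image_univ]
    rfl
  rw [h1, isInducing_coe.isPreconnected_image]
  exact isPreconnected_univ

end Groth.Agent.Helper19.ConnPts
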