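import Mathlib
import Groth.Prelude.Def_AnPts
import Groth.Agent.Lib.Helper19.AnDensity
import Groth.Agent.Lib.Helper19.ConnPts

/-!
# Connectedness of the space of ℂ-points (helper19)

Namespace `Groth.Agent.Helper19.AnPts`.
-/

set_option autoImplicit false

open AlgebraicGeometry CategoryTheory TopologicalSpace Opposite Topology Limits

namespace Groth.Agent.Helper19.AnPts

open An

variable {X : Scheme.{0}} [X.Over SC]

/-- the ℂ-points in the zero locus of a prime ideal form a preconnected set. -/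
theorem isPreconnected_zeroLocus_prime [IsAffine X] [LocallyOfFiniteType (X ↘ SC)]
    (p : Ideal Γ(X, ⊤)) [p.IsPrime] :
    IsPreconnected {x : Pts X | ∀ a ∈ p, x.evTop a = 0} := by
  letI alg : Algebra ℂ Γ(X, ⊤) := (strHom X).toAlgebra
  have hft : Algebra.FiniteType ℂ Γ(X, ⊤) := finiteType_strHom (X := X)
  haveI : Algebra.FiniteType ℂ (Γ(X, ⊤) ⧸ p) :=
    hft.of_surjective (Ideal.Quotient.mkₐ ℂ p) (Ideal.Quotient.mkₐ_surjective ℂ p)
  have hpre := ConnPts.isPreconnected_pts (Γ(X, ⊤) ⧸ p)
  let q : ((Γ(X, ⊤) ⧸ p) → ℂ) → (Γ(X, ⊤) → ℂ) := fun φ a => φ (Ideal.Quotient.mk p a)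
  have hq : Continuous q := continuous_pi (fun a => continuous_apply _)
  have himg : evAll X '' {x : Pts X | ∀ a ∈ p, x.evTop a = 0} =
      q '' FiniteOpen.pts (Γ(X, ⊤) ⧸ p) := by
    ext φ
    constructor
    · rintro ⟨x, hx, rfl⟩
      let ev₀ : Γ(X, ⊤) →ₐ[ℂ] ℂ := { evTopHom x with commutes' := fun c => evTop_strHom x c }
      let ψ₀ : (Γ(X, ⊤) ⧸ p) →ₐ[ℂ] ℂ := Ideal.Quotient.liftₐ p ev₀ (fun a ha => hx a ha)
      exact ⟨(ψ₀ : (Γ(X, ⊤) ⧸ p) → ℂ), ⟨ψ₀, rfl⟩, funext fun a => rfl⟩
    · rintro ⟨_, ⟨ψ, rfl⟩, rfl⟩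
      obtain ⟨x', hx'⟩ := exists_pt_of_ringHom
        ((ψ : (Γ(X, ⊤) ⧸ p) →+* ℂ).comp (Ideal.Quotient.mk p)) (fun c => ψ.commutes c)
      refine ⟨x', ?_, funext hx'⟩
      intro a ha
      rw [hx']
      change ψ (Ideal.Quotient.mk p a) = 0
      rw [Ideal.Quotient.eq_zero_iff_mem.mpr ha, map_zero]
  rw [← (isInducing_evAll (X := X)).isPreconnected_image, himg]
  exact hpre.image q hq.continuousOn

/-- ℂ-points in the closure of a point, in terms of its prime ideal. -/
theorem specializes_pt_iff [IsAffine X] (z : X) (x : Pts X) :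
    z ⤳ x.pt ↔ ∀ a ∈ (primeOf z).asIdeal, x.evTop a = 0 := by
  have hbasis : ∀ (U : Opens X) (x : X), x ∈ U → ∃ U' ∈ Set.range (X.basicOpen (U := ⊤)),
      x ∈ U' ∧ U' ≤ U := fun U x hx => Opens.isBasis_iff_nbhd.mp (isBasis_basicOpen X) hx
  constructor
  · intro hzx a ha
    have h1 : x.pt ∉ X.basicOpen a := fun hmem =>
      (mem_asIdeal_primeOf_iff z a).mp ha (hzx.mem_open (X.basicOpen a).2 hmem)
    rwa [mem_basicOpen_iff x ⊤ (Opens.mem_top _), not_not] at h1
  · intro hx
    rw [specializes_iff_forall_open]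
    intro s hs hxs
    obtain ⟨_, ⟨a, rfl⟩, hxa, has⟩ := hbasis ⟨s, hs⟩ x.pt hxs
    apply has
    have h1 : x.evTop a ≠ 0 := (mem_basicOpen_iff x ⊤ (Opens.mem_top _) a).mp hxa
    have h2 : a ∉ (primeOf z).asIdeal := fun ha => h1 (hx a ha)
    rw [mem_asIdeal_primeOf_iff, not_not] at h2
    exact h2

/-- the ℂ-points in the closure of a point of an affine scheme form a preconnected set. -/
theorem isPreconnected_specializes_of_isAffine [IsAffine X] [LocallyOfFiniteType (X ↘ SC)]
    (z : X) : IsPreconnected {x : Pts X | z ⤳ x.pt} := by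
  have : {x : Pts X | z ⤳ x.pt} = {x : Pts X | ∀ a ∈ (primeOf z).asIdeal, x.evTop a = 0} := by
    ext x
    exact specializes_pt_iff z x
  rw [this]
  exact isPreconnected_zeroLocus_prime (primeOf z).asIdeal


section Top

variable {W : Type*} [TopologicalSpace W]

/-- in a Noetherian quasi-sober space, a point of the closure of `T` lies in an irreducible closed
set `closure {η}` meeting `T`. -/
theorem exists_generic_of_mem_closure [NoetherianSpace W] [QuasiSober W] {T : Set W} {z : W}
    (hz : z ∈ closure T) : ∃ η : W, η ⤳ z ∧ ∃ t ∈ T, η ⤳ t := by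
  obtain ⟨S, hSfin, hSc, hSirr, hS⟩ :=
    NoetherianSpace.exists_finite_set_isClosed_irreducible (isClosed_univ (X := W))
  set S' : Set (Set W) := {C ∈ S | (C ∩ T).Nonempty} with hS'
  have hS'fin : S'.Finite := hSfin.subset (fun C hC => hC.1)
  have hT : T ⊆ ⋃₀ S' := by
    intro t ht
    have ht' : t ∈ ⋃₀ S := hS ▸ Set.mem_univ t
    obtain ⟨C, hC, htC⟩ := ht'
    exact ⟨C, ⟨hC, ⟨t, htC, ht⟩⟩, htC⟩
  have hclosed : IsClosed (⋃₀ S') := by
    rw [Set.sUnion_eq_biUnion]
    exact hS'fin.isClosed_biUnion (fun C hC => hSc C hC.1)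
  obtain ⟨C, ⟨hC, ⟨t, htC, htT⟩⟩, hzC⟩ := closure_minimal hT hclosed hz
  have hgen := (hSirr C hC).isGenericPoint_genericPoint (hSc C hC)
  exact ⟨(hSirr C hC).genericPoint, hgen.specializes hzC, t, htT, hgen.specializes htC⟩

end Top

/-- the Zariski closures of the two halves of a clopen partition of the ℂ-points of an affine
scheme are disjoint. -/
theorem not_mem_closure_inter_of_isAffine [IsAffine X] [LocallyOfFiniteType (X ↘ SC)]
    (S : Set (Pts X)) (hS : IsClopen S) (z : X)
    (h1 : z ∈ closure (Pts.pt '' S)) (h2 : z ∈ closure (Pts.pt '' Sᶜ)) : False := by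
  haveI : IsNoetherian X := { }
  obtain ⟨η₁, hη₁z, _, ⟨x₁, hx₁S, rfl⟩, hη₁x₁⟩ := exists_generic_of_mem_closure h1
  obtain ⟨η₂, hη₂z, _, ⟨x₂, hx₂S, rfl⟩, hη₂x₂⟩ := exists_generic_of_mem_closure h2
  have hA₁ : {x : Pts X | η₁ ⤳ x.pt} ⊆ S :=
    (isPreconnected_specializes_of_isAffine η₁).subset_isClopen hS ⟨x₁, hη₁x₁, hx₁S⟩
  have hA₂ : {x : Pts X | η₂ ⤳ x.pt} ⊆ Sᶜ :=
    (isPreconnected_specializes_of_isAffine η₂).subset_isClopen hS.compl ⟨x₂, hη₂x₂, hx₂S⟩
  obtain ⟨y, hy, hyc⟩ := exists_isClosed_singleton_mem_of_isLocallyConstructible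
    (isLocallyConstructible_of_isClosed (isClosed_closure (s := ({z} : Set X))))
    ⟨z, subset_closure rfl⟩
  obtain ⟨x₀, rfl⟩ := exists_pt_eq_of_isClosed y hyc
  have hzx₀ : z ⤳ x₀.pt := specializes_iff_mem_closure.mpr hy
  exact hA₂ (hη₂z.trans hzx₀) (hA₁ (hη₁z.trans hzx₀))

/-- the Zariski closures of the two halves of a clopen partition of the ℂ-points are disjoint. -/
theorem not_mem_closure_inter [LocallyOfFiniteType (X ↘ SC)]
    (S : Set (Pts X)) (hS : IsClopen S) (z : X)
    (h1 : z ∈ closure (Pts.pt '' S)) (h2 : z ∈ closure (Pts.pt '' Sᶜ)) : False := by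
  obtain ⟨_, ⟨U', hU, rfl⟩, hzU, -⟩ :=
    (X.isBasis_affineOpens).exists_subset_of_mem_open (Set.mem_univ z) isOpen_univ
  obtain ⟨U, rfl⟩ : ∃ U : X.Opens, U = U' := ⟨U', rfl⟩
  haveI : IsAffine U.toScheme := hU
  haveI := locallyOfFiniteType_opens U
  have hcl : IsClopen (Pts.map U.ι ⁻¹' S) := hS.preimage (Pts.continuous_map U.ι)
  have hpre : ∀ T : Set (Pts X), (U.ι ⁻¹' (Pts.pt '' T) : Set U.toScheme) =
      Pts.pt '' (Pts.map U.ι ⁻¹' T) := by
    intro T
    ext u
    constructor
    · rintro ⟨x, hxT, hxu⟩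
      have hxr : x ∈ Set.range (Pts.map U.ι) := by
        rw [range_map_ι]
        change x.pt ∈ (U : Set X)
        rw [hxu]
        exact u.2
      obtain ⟨y, rfl⟩ := hxr
      refine ⟨y, hxT, ?_⟩
      rw [Pts.pt_map] at hxu
      exact U.ι.isOpenEmbedding.injective hxu
    · rintro ⟨y, hyT, rfl⟩
      exact ⟨Pts.map U.ι y, hyT, Pts.pt_map U.ι y⟩
  have hclos : ∀ T : Set (Pts X), z ∈ closure (Pts.pt '' T) →
      (⟨z, hzU⟩ : U.toScheme) ∈ closure (Pts.pt '' (Pts.map U.ι ⁻¹' T)) := by
    intro T hT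
    rw [← hpre, ← U.ι.isOpenEmbedding.isOpenMap.preimage_closure_eq_closure_preimage
      U.ι.continuous]
    exact hT
  exact not_mem_closure_inter_of_isAffine _ hcl ⟨z, hzU⟩ (hclos S h1) (hclos Sᶜ h2)

/-- the ℂ-points are Zariski dense. -/
theorem closure_range_pt [LocallyOfFiniteType (X ↘ SC)] :
    closure (Set.range (Pts.pt : Pts X → X)) = Set.univ := by
  rw [Set.eq_univ_iff_forall]
  intro z
  have h1 : closedPoints X ⊆ Set.range (Pts.pt : Pts X → X) := by
    intro y hy
    obtain ⟨x, rfl⟩ := exists_pt_eq_of_isClosed y hy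
    exact ⟨x, rfl⟩
  have h2 : closure (closedPoints X) = Set.univ := closure_closedPoints
  exact closure_mono h1 (h2 ▸ Set.mem_univ z)

/-- **Clopen subsets of `X(ℂ)` are algebraic**: every clopen set of ℂ-points is the set of
ℂ-points of a clopen subset of `X`. -/
theorem exists_isClopen_preimage_pt_eq [LocallyOfFiniteType (X ↘ SC)]
    (S : Set (Pts X)) (hS : IsClopen S) : ∃ V : Set X, IsClopen V ∧ Pts.pt ⁻¹' V = S := by
  have hunion : closure (Pts.pt '' S) ∪ closure (Pts.pt '' Sᶜ) = Set.univ := by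
    rw [← closure_union, ← Set.image_union, Set.union_compl_self, Set.image_univ]
    exact closure_range_pt
  have hcompl : closure (Pts.pt '' S) = (closure (Pts.pt '' Sᶜ))ᶜ := by
    ext z
    constructor
    · intro h1 h2
      exact not_mem_closure_inter S hS z h1 h2
    · intro h2
      have := hunion ▸ Set.mem_univ z
      exact this.resolve_right h2
  refine ⟨closure (Pts.pt '' S), ⟨isClosed_closure, hcompl ▸ isClosed_closure.isOpen_compl⟩, ?_⟩
  ext x
  constructor
  · intro hx
    by_contra hxS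
    exact not_mem_closure_inter S hS x.pt hx (subset_closure ⟨x, hxS, rfl⟩)
  · intro hx
    exact subset_closure ⟨x, hx, rfl⟩

/-- **Connectedness**: the ℂ-points of a connected scheme locally of finite type over ℂ form a
preconnected space. -/
theorem preconnectedSpace_pts [LocallyOfFiniteType (X ↘ SC)] [PreconnectedSpace X] :
    PreconnectedSpace (Pts X) := by
  rw [preconnectedSpace_iff_clopen]
  intro S hS
  obtain ⟨V, hV, rfl⟩ := exists_isClopen_preimage_pt_eq S hS
  rcases isClopen_iff.mp hV with h | h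
  · left
    rw [h, Set.preimage_empty]
  · right
    rw [h, Set.preimage_univ]

/-- **S4191**: `X` is connected iff `X(ℂ)` is connected. -/
theorem connectedSpace_iff_pts (X : Scheme.{0}) [X.Over SC] [LocallyOfFiniteType (X ↘ SC)] :
    ConnectedSpace ↥X ↔ ConnectedSpace (Pts X) := by
  constructor
  · intro hX
    haveI : Nonempty (Pts X) := nonempty_iff_nonempty_pts.mp hX.toNonempty
    haveI := preconnectedSpace_pts (X := X)
    exact { toNonempty := inferInstance }
  · intro hP
    haveI : Nonempty X := nonempty_iff_nonempty_pts.mpr hP.toNonempty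
    haveI : PreconnectedSpace X := by
      rw [preconnectedSpace_iff_clopen]
      intro V hV
      have hcl : IsClopen (Pts.pt ⁻¹' V : Set (Pts X)) := hV.preimage Pts.continuous_pt
      rcases isClopen_iff.mp hcl with h | h
      · left
        exact eq_empty_of_preimage_pt_eq_empty (isLocallyConstructible_of_isClosed hV.isClosed) h
      · right
        have h' : (Pts.pt ⁻¹' Vᶜ : Set (Pts X)) = ∅ := by
          rw [Set.preimage_compl, h, Set.compl_univ]
        have := eq_empty_of_preimage_pt_eq_empty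
          (isLocallyConstructible_of_isClosed hV.compl.isClosed) h'
        exact Set.compl_empty_iff.mp this
    exact { toNonempty := inferInstance }


/-- the ℂ-points lying in a closed preconnected subset form a preconnected set. -/
theorem isPreconnected_preimage_pt [LocallyOfFiniteType (X ↘ SC)] (C : Set X) (hC : IsClosed C)
    (hconn : _root_.IsPreconnected C) :
    _root_.IsPreconnected (Pts.pt ⁻¹' C : Set (Pts X)) := by
  set I := Scheme.IdealSheafData.vanishingIdeal ⟨C, hC⟩ with hI
  letI : I.subscheme.Over SC := ⟨I.subschemeι ≫ (X ↘ SC)⟩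
  haveI : I.subschemeι.IsOver SC := ⟨rfl⟩
  haveI : LocallyOfFiniteType (I.subscheme ↘ SC) := by
    change LocallyOfFiniteType (I.subschemeι ≫ (X ↘ SC))
    infer_instance
  have hrange : Set.range I.subschemeι = C := by
    rw [I.range_subschemeι, hI, Scheme.IdealSheafData.coe_support_vanishingIdeal]
    rfl
  haveI : PreconnectedSpace I.subscheme :=
    ⟨(I.subschemeι.isEmbedding.isInducing.isPreconnected_image).mp
      (by rw [Set.image_univ, hrange]; exact hconn)⟩
  haveI := preconnectedSpace_pts (X := I.subscheme)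
  have himg : Set.range (Pts.map I.subschemeι) = (Pts.pt ⁻¹' C : Set (Pts X)) := by
    ext x
    constructor
    · rintro ⟨w, rfl⟩
      change (Pts.map I.subschemeι w).pt ∈ C
      rw [Pts.pt_map, ← hrange]
      exact ⟨_, rfl⟩
    · intro hx
      have hx' : x.pt ∈ Set.range I.subschemeι := by rw [hrange]; exact hx
      exact exists_map_eq_of_mem_range I.subschemeι x hx'
  rw [← himg]
  exact isPreconnected_range (Pts.continuous_map I.subschemeι)

/-- **S4192**: `π₀(X(ℂ)) → π₀(X)` is bijective. -/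
theorem connectedComponentsMap_pt_bijective (X : Scheme.{0}) [X.Over SC]
    [LocallyOfFiniteType (X ↘ SC)] :
    Function.Bijective (Pts.continuous_pt (X := X)).connectedComponentsMap := by
  constructor
  · intro a b hab
    obtain ⟨x, rfl⟩ := ConnectedComponents.surjective_coe a
    obtain ⟨y, rfl⟩ := ConnectedComponents.surjective_coe b
    rw [Continuous.connectedComponentsMap_mk, Continuous.connectedComponentsMap_mk,
      ConnectedComponents.coe_eq_coe'] at hab
    rw [ConnectedComponents.coe_eq_coe']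
    have hpre := isPreconnected_preimage_pt (X := X) (connectedComponent y.pt)
      isClosed_connectedComponent isPreconnected_connectedComponent
    exact hpre.subset_connectedComponent (x := y) (mem_connectedComponent (x := y.pt)) hab
  · intro c
    obtain ⟨z, rfl⟩ := ConnectedComponents.surjective_coe c
    obtain ⟨y, hy, hyc⟩ := exists_isClosed_singleton_mem_of_isLocallyConstructible
      (isLocallyConstructible_of_isClosed (isClosed_connectedComponent (x := z)))
      ⟨z, mem_connectedComponent⟩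
    obtain ⟨x, rfl⟩ := exists_pt_eq_of_isClosed y hyc
    refine ⟨ConnectedComponents.mk x, ?_⟩
    rw [Continuous.connectedComponentsMap_mk, ConnectedComponents.coe_eq_coe']
    exact hy

end Groth.Agent.Helper19.AnPts
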