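import Mathlib
import Groth.Prelude.Def_AnPts
import Groth.Agent.Lib.Helper19.AnClosedPts

/-!
# ℂ-points of fibre products (helper19)

Namespace `Groth.Agent.Helper19.AnPts`.
-/

set_option autoImplicit false

open AlgebraicGeometry CategoryTheory TopologicalSpace Opposite Topology Limits

namespace Groth.Agent.Helper19.AnPts

open An

section Generation

variable {X Y S : Scheme.{0}} (f : X ⟶ S) (g : Y ⟶ S)

/-- For affine `X`, `Y`, `S`, the ring of functions on `X ×_S Y` is generated by the pullbacks of
functions on `X` and on `Y`. -/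
theorem closure_range_fst_snd_eq_top [IsAffine X] [IsAffine Y] [IsAffine S] :
    Subring.closure (Set.range (pullback.fst f g).appTop.hom ∪
      Set.range (pullback.snd f g).appTop.hom) = ⊤ := by
  set P := pullback f g with hP
  set R : Subring Γ(P, ⊤) := Subring.closure (Set.range (pullback.fst f g).appTop.hom ∪
      Set.range (pullback.snd f g).appTop.hom) with hR
  let ι : R →+* Γ(P, ⊤) := R.subtype
  have hι : Function.Injective ι := Subtype.val_injective
  let α : Γ(X, ⊤) →+* R := (pullback.fst f g).appTop.hom.codRestrict R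
    (fun a => Subring.subset_closure (Or.inl ⟨a, rfl⟩))
  let β : Γ(Y, ⊤) →+* R := (pullback.snd f g).appTop.hom.codRestrict R
    (fun b => Subring.subset_closure (Or.inr ⟨b, rfl⟩))
  have hια : ι.comp α = (pullback.fst f g).appTop.hom := rfl
  have hιβ : ι.comp β = (pullback.snd f g).appTop.hom := rfl
  -- the two maps from `Spec R`
  let a : Spec (CommRingCat.of R) ⟶ X := Spec.map (CommRingCat.ofHom α) ≫ X.isoSpec.inv
  let b : Spec (CommRingCat.of R) ⟶ Y := Spec.map (CommRingCat.ofHom β) ≫ Y.isoSpec.inv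
  -- `P ⟶ Spec R`
  let j : P ⟶ Spec (CommRingCat.of R) := P.toSpecΓ ≫ Spec.map (CommRingCat.ofHom ι)
  have hja : j ≫ a = pullback.fst f g := by
    change (P.toSpecΓ ≫ Spec.map (CommRingCat.ofHom ι)) ≫
      Spec.map (CommRingCat.ofHom α) ≫ X.isoSpec.inv = _
    rw [Category.assoc, ← Spec.map_comp_assoc, ← CommRingCat.ofHom_comp, hια,
      CommRingCat.ofHom_hom, ← Scheme.toSpecΓ_naturality_assoc, Scheme.toSpecΓ_isoSpec_inv,
      Category.comp_id]
  have hjb : j ≫ b = pullback.snd f g := by
    change (P.toSpecΓ ≫ Spec.map (CommRingCat.ofHom ι)) ≫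
      Spec.map (CommRingCat.ofHom β) ≫ Y.isoSpec.inv = _
    rw [Category.assoc, ← Spec.map_comp_assoc, ← CommRingCat.ofHom_comp, hιβ,
      CommRingCat.ofHom_hom, ← Scheme.toSpecΓ_naturality_assoc, Scheme.toSpecΓ_isoSpec_inv,
      Category.comp_id]
  have hjapp : j.appTop = (Scheme.ΓSpecIso (CommRingCat.of R)).hom ≫ CommRingCat.ofHom ι := by
    change (P.toSpecΓ ≫ Spec.map (CommRingCat.ofHom ι)).appTop = _
    rw [Scheme.Hom.comp_appTop, Scheme.toSpecΓ_appTop, Scheme.ΓSpecIso_naturality]
  have hjinj : Function.Injective j.appTop := by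
    rw [hjapp]
    intro t₁ t₂ h
    have h' : ι ((Scheme.ΓSpecIso (CommRingCat.of R)).hom t₁) =
        ι ((Scheme.ΓSpecIso (CommRingCat.of R)).hom t₂) := h
    have h2 := hι h'
    have hb : Function.Bijective (Scheme.ΓSpecIso (CommRingCat.of R)).hom :=
      (ConcreteCategory.isIso_iff_bijective (Scheme.ΓSpecIso (CommRingCat.of R)).hom).mp
        inferInstance
    exact hb.1 h2
  have hcond : a ≫ f = b ≫ g := by
    apply ext_of_isAffine
    apply CommRingCat.hom_ext
    apply RingHom.ext
    intro t
    apply hjinj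
    change ((a ≫ f).appTop ≫ j.appTop) t = ((b ≫ g).appTop ≫ j.appTop) t
    have e1 : j ≫ a ≫ f = j ≫ b ≫ g := by
      rw [reassoc_of% hja, reassoc_of% hjb, pullback.condition]
    rw [← Scheme.Hom.comp_appTop, ← Scheme.Hom.comp_appTop, e1]
  let ℓ : Spec (CommRingCat.of R) ⟶ P := pullback.lift a b hcond
  have hjl : j ≫ ℓ = 𝟙 P := by
    apply pullback.hom_ext
    · rw [Category.assoc, pullback.lift_fst, hja, Category.id_comp]
    · rw [Category.assoc, pullback.lift_snd, hjb, Category.id_comp]
  have happ : ℓ.appTop ≫ j.appTop = 𝟙 _ := by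
    rw [← Scheme.Hom.comp_appTop, hjl]
    rfl
  rw [eq_top_iff]
  intro c _
  have h1 : j.appTop (ℓ.appTop c) = c := by
    have := congrArg (fun φ => φ.hom c) happ
    exact this
  rw [hjapp] at h1
  rw [← h1]
  exact ((Scheme.ΓSpecIso (CommRingCat.of R)).hom (ℓ.appTop c)).2

end Generation

section PullbackTop

variable {X Y S : Scheme.{0}} [X.Over SC] [Y.Over SC] [S.Over SC] (f : X ⟶ S) (g : Y ⟶ S)
  [f.IsOver SC] [g.IsOver SC]

/-- the map from the ℂ-points of a fibre product to the product of the spaces of ℂ-points. -/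
noncomputable def prodMap (z : Pts (pullback f g)) : Pts X × Pts Y :=
  (Pts.map (pullback.fst f g) z, Pts.map (pullback.snd f g) z)

theorem prodMap_injective : Function.Injective (prodMap f g) := by
  intro z w h
  exact pullback_pts_ext f g z w (congrArg Prod.fst h) (congrArg Prod.snd h)

theorem continuous_prodMap : Continuous (prodMap f g) :=
  (Pts.continuous_map _).prodMk (Pts.continuous_map _)

theorem continuous_evTop_of_induced [IsAffine X] [IsAffine Y] [IsAffine S]
    (c : Γ(pullback f g, ⊤)) :
    @Continuous _ _ (TopologicalSpace.induced (prodMap f g) inferInstance) _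
      (fun z : Pts (pullback f g) => z.evTop c) := by
  have hc : c ∈ Subring.closure (Set.range (pullback.fst f g).appTop.hom ∪
      Set.range (pullback.snd f g).appTop.hom) := by
    rw [closure_range_fst_snd_eq_top]
    trivial
  letI τ : TopologicalSpace (Pts (pullback f g)) :=
    TopologicalSpace.induced (prodMap f g) inferInstance
  have hpm : Continuous (prodMap f g) := continuous_induced_dom
  induction hc using Subring.closure_induction with
  | mem c hc =>
    rcases hc with ⟨a, rfl⟩ | ⟨b, rfl⟩
    · have : (fun z : Pts (pullback f g) => z.evTop ((pullback.fst f g).appTop.hom a)) =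
          (fun x : Pts X => x.evTop a) ∘ Prod.fst ∘ prodMap f g := by
        funext z
        exact (evTop_map (pullback.fst f g) z a).symm
      rw [this]
      exact (continuous_evTop a).comp (continuous_fst.comp hpm)
    · have : (fun z : Pts (pullback f g) => z.evTop ((pullback.snd f g).appTop.hom b)) =
          (fun y : Pts Y => y.evTop b) ∘ Prod.snd ∘ prodMap f g := by
        funext z
        exact (evTop_map (pullback.snd f g) z b).symm
      rw [this]
      exact (continuous_evTop b).comp (continuous_snd.comp hpm)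
  | zero =>
    have : (fun z : Pts (pullback f g) => z.evTop (0 : Γ(pullback f g, ⊤))) = fun _ => 0 :=
      funext fun z => ev_zero z ⊤ _
    rw [this]
    exact continuous_const
  | one =>
    have : (fun z : Pts (pullback f g) => z.evTop (1 : Γ(pullback f g, ⊤))) = fun _ => 1 :=
      funext fun z => ev_one z ⊤ _
    rw [this]
    exact continuous_const
  | add c c' _ _ h h' =>
    have : (fun z : Pts (pullback f g) => z.evTop (c + c')) =
        fun z => z.evTop c + z.evTop c' := funext fun z => ev_add z ⊤ _ c c'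
    rw [this]
    exact h.add h'
  | neg c _ h =>
    have : (fun z : Pts (pullback f g) => z.evTop (-c)) =
        fun z => - z.evTop c := funext fun z => map_neg (evTopHom z) c
    rw [this]
    exact h.neg
  | mul c c' _ _ h h' =>
    have : (fun z : Pts (pullback f g) => z.evTop (c * c')) =
        fun z => z.evTop c * z.evTop c' := funext fun z => ev_mul z ⊤ _ c c'
    rw [this]
    exact h.mul h'

theorem isInducing_prodMap_of_isAffine [IsAffine X] [IsAffine Y] [IsAffine S] :
    IsInducing (prodMap f g) := by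
  constructor
  apply le_antisymm
  · exact (continuous_prodMap f g).le_induced
  · rw [(isInducing_evAll (X := pullback f g)).eq_induced]
    refine (continuous_iff_le_induced
      (t₁ := TopologicalSpace.induced (prodMap f g) inferInstance)).mp ?_
    exact @continuous_pi _ _ _ (TopologicalSpace.induced (prodMap f g) inferInstance) _ _
      (fun c => continuous_evTop_of_induced f g c)

theorem isEmbedding_prodMap_of_isAffine [IsAffine X] [IsAffine Y] [IsAffine S] :
    IsEmbedding (prodMap f g) :=
  ⟨isInducing_prodMap_of_isAffine f g, prodMap_injective f g⟩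

instance resLE_isOver (W : S.Opens) (U : X.Opens) (e : U ≤ f ⁻¹ᵁ W) :
    (f.resLE W U e).IsOver SC :=
  ⟨by
    rw [← Scheme.Opens.ι_comp_over, ← Category.assoc, Scheme.Hom.resLE_comp_ι, Category.assoc,
      comp_over f SC, Scheme.Opens.ι_comp_over]⟩

/-- compatible triples of affine opens. -/
structure Chart where
  U : X.affineOpens
  V : Y.affineOpens
  W : S.affineOpens
  hU : U.1 ≤ f ⁻¹ᵁ W.1
  hV : V.1 ≤ g ⁻¹ᵁ W.1

variable {f g}

/-- the restriction of `f` to a chart. -/
noncomputable abbrev Chart.f' (c : Chart f g) : c.U.1.toScheme ⟶ c.W.1.toScheme :=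
  f.resLE c.W.1 c.U.1 c.hU

/-- the restriction of `g` to a chart. -/
noncomputable abbrev Chart.g' (c : Chart f g) : c.V.1.toScheme ⟶ c.W.1.toScheme :=
  g.resLE c.W.1 c.V.1 c.hV

/-- the open immersion of the fibre product of a chart. -/
noncomputable def Chart.j (c : Chart f g) : pullback c.f' c.g' ⟶ pullback f g :=
  pullback.map c.f' c.g' f g c.U.1.ι c.V.1.ι c.W.1.ι
    (Scheme.Hom.resLE_comp_ι f c.hU) (Scheme.Hom.resLE_comp_ι g c.hV)

omit [X.Over SC] [Y.Over SC] [S.Over SC] [Scheme.Hom.IsOver f SC] [Scheme.Hom.IsOver g SC] in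
theorem Chart.j_fst (c : Chart f g) :
    c.j ≫ pullback.fst f g = pullback.fst c.f' c.g' ≫ c.U.1.ι :=
  pullback.lift_fst _ _ _

omit [X.Over SC] [Y.Over SC] [S.Over SC] [Scheme.Hom.IsOver f SC] [Scheme.Hom.IsOver g SC] in
theorem Chart.j_snd (c : Chart f g) :
    c.j ≫ pullback.snd f g = pullback.snd c.f' c.g' ≫ c.V.1.ι :=
  pullback.lift_snd _ _ _

instance Chart.j_isOver (c : Chart f g) : c.j.IsOver SC :=
  ⟨by
    change c.j ≫ (pullback.fst f g ≫ X ↘ SC) = pullback.fst c.f' c.g' ≫ (c.U.1.toScheme ↘ SC)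
    rw [← Category.assoc, c.j_fst, Category.assoc, Scheme.Opens.ι_comp_over]⟩

variable (f g)

theorem exists_chart (z : Pts (pullback f g)) :
    ∃ c : Chart f g, (Pts.map (pullback.fst f g) z) ∈ Set.range (Pts.map c.U.1.ι) ∧
      (Pts.map (pullback.snd f g) z) ∈ Set.range (Pts.map c.V.1.ι) := by
  set x := Pts.map (pullback.fst f g) z with hx
  set y := Pts.map (pullback.snd f g) z with hy
  have hxy : f x.pt = g y.pt := by
    have := congrArg Pts.pt (Pts.map_pullback_condition f g z)
    rwa [Pts.pt_map, Pts.pt_map] at this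
  obtain ⟨_, ⟨W, hW, rfl⟩, hsW, -⟩ :=
    (S.isBasis_affineOpens).exists_subset_of_mem_open (Set.mem_univ (f x.pt)) isOpen_univ
  obtain ⟨_, ⟨U, hU, rfl⟩, hxU, hUW⟩ :=
    (X.isBasis_affineOpens).exists_subset_of_mem_open
      (show x.pt ∈ ((f ⁻¹ᵁ W : X.Opens) : Set X) from hsW) (f ⁻¹ᵁ W).2
  obtain ⟨_, ⟨V, hV, rfl⟩, hyV, hVW⟩ :=
    (Y.isBasis_affineOpens).exists_subset_of_mem_open
      (show y.pt ∈ ((g ⁻¹ᵁ W : Y.Opens) : Set Y) from (by
        change g y.pt ∈ W
        rw [← hxy]
        exact hsW)) (g ⁻¹ᵁ W).2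
  refine ⟨⟨⟨U, hU⟩, ⟨V, hV⟩, ⟨W, hW⟩, hUW, hVW⟩, ?_, ?_⟩
  · rw [range_map_ι]
    exact hxU
  · rw [range_map_ι]
    exact hyV

theorem isEmbedding_prodMap : IsEmbedding (prodMap f g) := by
  refine isEmbedding_of_iSup_eq_top_of_preimage_subset_range (prodMap f g)
    (continuous_prodMap f g)
    (fun c : Chart f g => ⟨Set.range (Pts.map c.U.1.ι) ×ˢ Set.range (Pts.map c.V.1.ι),
      (isOpenEmbedding_map_of_isOpenImmersion _).isOpen_range.prod
        (isOpenEmbedding_map_of_isOpenImmersion _).isOpen_range⟩) ?_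
    (fun c => Pts (pullback c.f' c.g')) (fun c => Pts.map c.j)
    (fun c => Pts.continuous_map _) ?_ ?_
  · rintro _ ⟨z, rfl⟩
    obtain ⟨c, h1, h2⟩ := exists_chart f g z
    exact Opens.mem_iSup.mpr ⟨c, h1, h2⟩
  · rintro c z ⟨⟨x', hx'⟩, ⟨y', hy'⟩⟩
    have hcomp : Pts.map c.f' x' = Pts.map c.g' y' := by
      haveI : Mono c.W.1.ι := inferInstance
      apply map_injective_of_mono c.W.1.ι
      have h1 : Pts.map c.W.1.ι (Pts.map c.f' x') = Pts.map f (Pts.map c.U.1.ι x') := by
        apply Subtype.ext
        simp only [Pts.map_val, Category.assoc, Scheme.Hom.resLE_comp_ι]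
      have h2 : Pts.map c.W.1.ι (Pts.map c.g' y') = Pts.map g (Pts.map c.V.1.ι y') := by
        apply Subtype.ext
        simp only [Pts.map_val, Category.assoc, Scheme.Hom.resLE_comp_ι]
      rw [h1, h2, hx', hy']
      exact Pts.map_pullback_condition f g z
    refine ⟨pullbackPt c.f' c.g' x' y' hcomp, ?_⟩
    apply pullback_pts_ext f g
    · have e1 : Pts.map (pullback.fst f g) (Pts.map c.j (pullbackPt c.f' c.g' x' y' hcomp)) =
          Pts.map c.U.1.ι (Pts.map (pullback.fst c.f' c.g')
            (pullbackPt c.f' c.g' x' y' hcomp)) := by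
        apply Subtype.ext
        simp only [Pts.map_val, Category.assoc, c.j_fst]
      rw [e1, map_fst_pullbackPt]
      exact hx'
    · have e2 : Pts.map (pullback.snd f g) (Pts.map c.j (pullbackPt c.f' c.g' x' y' hcomp)) =
          Pts.map c.V.1.ι (Pts.map (pullback.snd c.f' c.g')
            (pullbackPt c.f' c.g' x' y' hcomp)) := by
        apply Subtype.ext
        simp only [Pts.map_val, Category.assoc, c.j_snd]
      rw [e2, map_snd_pullbackPt]
      exact hy'
  · intro c
    have hcomp : prodMap f g ∘ Pts.map c.j =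
        Prod.map (Pts.map c.U.1.ι) (Pts.map c.V.1.ι) ∘ prodMap c.f' c.g' := by
      funext w
      apply Prod.ext
      · apply Subtype.ext
        simp only [prodMap, Function.comp_apply, Prod.map_fst, Pts.map_val, Category.assoc, c.j_fst]
      · apply Subtype.ext
        simp only [prodMap, Function.comp_apply, Prod.map_snd, Pts.map_val, Category.assoc, c.j_snd]
    rw [hcomp]
    haveI : IsAffine c.U.1.toScheme := c.U.2
    haveI : IsAffine c.V.1.toScheme := c.V.2
    haveI : IsAffine c.W.1.toScheme := c.W.2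
    exact ((isOpenEmbedding_map_of_isOpenImmersion c.U.1.ι).isEmbedding.prodMap
      (isOpenEmbedding_map_of_isOpenImmersion c.V.1.ι).isEmbedding).comp
      (isEmbedding_prodMap_of_isAffine c.f' c.g')

/-- S4193 -/
theorem isHomeomorph_pullback :
    IsHomeomorph (fun z : Pts (pullback f g) =>
      (⟨(Pts.map (pullback.fst f g) z, Pts.map (pullback.snd f g) z),
        Pts.map_pullback_condition f g z⟩ :
        {q : Pts X × Pts Y // Pts.map f q.1 = Pts.map g q.2})) := by
  rw [isHomeomorph_iff_isEmbedding_surjective]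
  constructor
  · rw [← IsEmbedding.subtypeVal.of_comp_iff]
    exact isEmbedding_prodMap f g
  · rintro ⟨⟨x, y⟩, h⟩
    refine ⟨pullbackPt f g x y h, ?_⟩
    apply Subtype.ext
    exact Prod.ext (map_fst_pullbackPt f g x y h) (map_snd_pullbackPt f g x y h)

end PullbackTop

end Groth.Agent.Helper19.AnPts
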