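import Mathlib
import Groth.Prelude.Def_AnEps
import Groth.Agent.Lib.Helper19.AnPullback
import Groth.Agent.Lib.Helper19.AnSurj
import Groth.Agent.Lib.Helper6.LanFlat

/-!
# The comparison functor ε is continuous (helper19)

Namespace `Groth.Agent.Helper19.AnPts`.
-/

set_option autoImplicit false

open AlgebraicGeometry CategoryTheory TopologicalSpace Opposite Topology Limits

namespace Groth.Agent.Helper19.AnPts

open An

section Eps

variable (X : Scheme.{0}) [X.Over SC] [LocallyOfFiniteType (X ↘ SC)]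

instance locallyOfFiniteType_etale_left (U : X.Etale) : LocallyOfFiniteType (U.left ↘ SC) := by
  change LocallyOfFiniteType ((U.left ↘ X) ≫ X ↘ SC)
  infer_instance

set_option backward.isDefEq.respectTransparency.types false in
theorem mem_smallEtaleTopology_iff (U : X.Etale) (R : Sieve U) :
    R ∈ X.smallEtaleTopology U ↔
      ∀ x : U.left, ∃ (V : X.Etale) (f : V ⟶ U) (y : V.left), R f ∧ f.left y = x := by
  have h1 : X.smallEtaleTopology = (X.smallPretopology @Etale @Etale).toGrothendieck :=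
    Scheme.smallGrothendieckTopology_eq_toGrothendieck_smallPretopology _ le_rfl
  rw [h1]
  refine (Scheme.mem_toGrothendieck_smallPretopology (P := @Etale) (Q := @Etale) U R).trans ?_
  constructor
  · intro h x
    obtain ⟨V, f, y, h1, -, h3⟩ := h x
    exact ⟨V, f, y, h1, h3⟩
  · intro h x
    obtain ⟨V, f, y, h1, h3⟩ := h x
    exact ⟨V, f, y, h1, inferInstance, h3⟩


section Lift

variable {X}
variable {Y₁ Y₂ Z : X.Etale} (g₁ : Y₁ ⟶ Z) (g₂ : Y₂ ⟶ Z)

set_option backward.isDefEq.respectTransparency.types false in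
theorem isPullback_left :
    IsPullback (pullback.fst g₁ g₂).left (pullback.snd g₁ g₂).left g₁.left g₂.left :=
  (IsPullback.of_hasPullback g₁ g₂).map (Scheme.Etale.forget X ⋙ Over.forget X)

/-- the comparison morphism from the scheme-theoretic fibre product to the fibre product in the
small étale site. -/
noncomputable def pullbackLeftInv : pullback g₁.left g₂.left ⟶ (pullback g₁ g₂).left :=
  (isPullback_left g₁ g₂).isoPullback.inv

@[reassoc (attr := simp)]
theorem pullbackLeftInv_fst :
    pullbackLeftInv g₁ g₂ ≫ (pullback.fst g₁ g₂).left = pullback.fst g₁.left g₂.left :=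
  (isPullback_left g₁ g₂).isoPullback_inv_fst

@[reassoc (attr := simp)]
theorem pullbackLeftInv_snd :
    pullbackLeftInv g₁ g₂ ≫ (pullback.snd g₁ g₂).left = pullback.snd g₁.left g₂.left :=
  (isPullback_left g₁ g₂).isoPullback_inv_snd

set_option backward.isDefEq.respectTransparency.types false in
instance pullbackLeftInv_isOver : (pullbackLeftInv g₁ g₂).IsOver SC :=
  ⟨by
    change pullbackLeftInv g₁ g₂ ≫ ((pullback g₁ g₂).hom ≫ X ↘ SC) =
      pullback.fst g₁.left g₂.left ≫ (Y₁.hom ≫ X ↘ SC)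
    have h : (pullback.fst g₁ g₂).left ≫ Y₁.hom = (pullback g₁ g₂).hom :=
      Over.w (pullback.fst g₁ g₂).hom
    rw [← h, Category.assoc, pullbackLeftInv_fst_assoc]⟩

end Lift

variable [Fact EtaleLH]

theorem coverPreserving_eps :
    CoverPreserving X.smallEtaleTopology (Cl.topology (Pts X)) (eps X) := by
  constructor
  intro U S hS a
  rw [mem_smallEtaleTopology_iff] at hS
  obtain ⟨V, f, y, hSf, hy⟩ := hS (Pts.pt (X := U.left) a)
  obtain ⟨b, hb⟩ := exists_map_eq_of_mem_range (X := V.left) (Y := U.left) f.left a ⟨y, hy⟩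
  have hlh : IsLocalHomeomorph (Pts.map (X := V.left) (Y := U.left) f.left) :=
    (Fact.out : EtaleLH) V.left U.left f.left
  obtain ⟨e, hbe, he⟩ := hlh b
  refine ⟨Cl.restrictOpen ((eps X).obj V) e.source e.open_source,
    Cl.restrictOpenι ((eps X).obj V) e.source e.open_source ≫ (eps X).map f, ?_, ?_, ?_⟩
  · exact ⟨V, f, Cl.restrictOpenι ((eps X).obj V) e.source e.open_source, hSf, rfl⟩
  · change IsOpenEmbedding (Pts.map (X := V.left) (Y := U.left) f.left ∘ Subtype.val)
    rw [he]
    exact e.isOpenEmbedding_restrict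
  · exact ⟨⟨b, hbe⟩, hb⟩

set_option backward.isDefEq.respectTransparency.types false in
theorem exists_lift_eps {Y₁ Y₂ Z : X.Etale} (g₁ : Y₁ ⟶ Z) (g₂ : Y₂ ⟶ Z) (W : Cl (Pts X))
    (f₁ : W ⟶ (eps X).obj Y₁) (f₂ : W ⟶ (eps X).obj Y₂)
    (h : f₁ ≫ (eps X).map g₁ = f₂ ≫ (eps X).map g₂) :
    ∃ k : W ⟶ (eps X).obj (pullback g₁ g₂),
      k ≫ (eps X).map (pullback.fst g₁ g₂) = f₁ ∧
        k ≫ (eps X).map (pullback.snd g₁ g₂) = f₂ := by
  have hw : ∀ w : W.E, Pts.map (X := Y₁.left) (Y := Z.left) g₁.left (f₁.toFun w) =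
      Pts.map (X := Y₂.left) (Y := Z.left) g₂.left (f₂.toFun w) := fun w =>
    congrFun (congrArg Cl.Hom.toFun h) w
  let k' : W.E → Pts (pullback g₁.left g₂.left) := fun w =>
    pullbackPt g₁.left g₂.left (f₁.toFun w) (f₂.toFun w) (hw w)
  have hk' : Continuous k' := by
    rw [(isEmbedding_prodMap g₁.left g₂.left).isInducing.continuous_iff]
    have : prodMap g₁.left g₂.left ∘ k' = fun w => (f₁.toFun w, f₂.toFun w) := by
      funext w
      exact Prod.ext (map_fst_pullbackPt _ _ _ _ _) (map_snd_pullbackPt _ _ _ _ _)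
    rw [this]
    exact f₁.continuous.prodMk f₂.continuous
  have e1 : ∀ w, Pts.map (X := (pullback g₁ g₂).left) (Y := Y₁.left) (pullback.fst g₁ g₂).left
      (Pts.map (pullbackLeftInv g₁ g₂) (k' w)) = f₁.toFun w := by
    intro w
    apply Subtype.ext
    simp only [Pts.map_val, Category.assoc, pullbackLeftInv_fst]
    exact congrArg Subtype.val (map_fst_pullbackPt g₁.left g₂.left _ _ (hw w))
  have e2 : ∀ w, Pts.map (X := (pullback g₁ g₂).left) (Y := Y₂.left) (pullback.snd g₁ g₂).left
      (Pts.map (pullbackLeftInv g₁ g₂) (k' w)) = f₂.toFun w := by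
    intro w
    apply Subtype.ext
    simp only [Pts.map_val, Category.assoc, pullbackLeftInv_snd]
    exact congrArg Subtype.val (map_snd_pullbackPt g₁.left g₂.left _ _ (hw w))
  refine ⟨⟨fun w => Pts.map (pullbackLeftInv g₁ g₂) (k' w),
    (Pts.continuous_map _).comp hk', ?_⟩, ?_, ?_⟩
  · intro w
    have h1 := ((eps X).map (pullback.fst g₁ g₂)).over (Pts.map (pullbackLeftInv g₁ g₂) (k' w))
    rw [← h1]
    have h2 := f₁.over w
    rw [← h2]
    congr 1
    exact e1 w
  · apply Cl.hom_ext
    funext w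
    exact e1 w
  · apply Cl.hom_ext
    funext w
    exact e2 w

theorem compatiblePreserving_eps :
    CompatiblePreserving (Cl.topology (Pts X)) (eps X) := by
  constructor
  intro ℱ Z T x hx Y₁ Y₂ W f₁ f₂ g₁ g₂ hg₁ hg₂ hcomm
  obtain ⟨k, hk₁, hk₂⟩ := exists_lift_eps X g₁ g₂ W f₁ f₂ hcomm
  rw [← hk₁, ← hk₂, op_comp, op_comp, Functor.map_comp, Functor.map_comp]
  simp only [types_comp_apply]
  congr 1
  exact hx (pullback.fst g₁ g₂) (pullback.snd g₁ g₂) hg₁ hg₂ pullback.condition

/-- S4209 -/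
theorem epsCont : EpsCont X :=
  Functor.isContinuous_of_coverPreserving (compatiblePreserving_eps X) (coverPreserving_eps X)

set_option backward.isDefEq.respectTransparency.types false in
theorem eps_hom_ext {Y₁ Y₂ Z : X.Etale} (g₁ : Y₁ ⟶ Z) (g₂ : Y₂ ⟶ Z) (W : Cl (Pts X))
    (k k' : W ⟶ (eps X).obj (pullback g₁ g₂))
    (h1 : k ≫ (eps X).map (pullback.fst g₁ g₂) = k' ≫ (eps X).map (pullback.fst g₁ g₂))
    (h2 : k ≫ (eps X).map (pullback.snd g₁ g₂) = k' ≫ (eps X).map (pullback.snd g₁ g₂)) :
    k = k' := by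
  apply Cl.hom_ext
  funext w
  apply Subtype.ext
  apply (isPullback_left g₁ g₂).hom_ext
  · exact congrArg Subtype.val (congrFun (congrArg Cl.Hom.toFun h1) w)
  · exact congrArg Subtype.val (congrFun (congrArg Cl.Hom.toFun h2) w)

/-- ε preserves fibre products. -/
noncomputable def isLimitEpsPullback {Y₁ Y₂ Z : X.Etale} (g₁ : Y₁ ⟶ Z) (g₂ : Y₂ ⟶ Z) :
    IsLimit (PullbackCone.mk ((eps X).map (pullback.fst g₁ g₂)) ((eps X).map (pullback.snd g₁ g₂))
      (by rw [← Functor.map_comp, ← Functor.map_comp, pullback.condition]) :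
      PullbackCone ((eps X).map g₁) ((eps X).map g₂)) :=
  PullbackCone.IsLimit.mk _
    (fun s => (exists_lift_eps X g₁ g₂ s.pt s.fst s.snd s.condition).choose)
    (fun s => (exists_lift_eps X g₁ g₂ s.pt s.fst s.snd s.condition).choose_spec.1)
    (fun s => (exists_lift_eps X g₁ g₂ s.pt s.fst s.snd s.condition).choose_spec.2)
    (fun s m hm1 hm2 => eps_hom_ext X g₁ g₂ s.pt _ _
      (hm1.trans (exists_lift_eps X g₁ g₂ s.pt s.fst s.snd s.condition).choose_spec.1.symm)
      (hm2.trans (exists_lift_eps X g₁ g₂ s.pt s.fst s.snd s.condition).choose_spec.2.symm))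

instance preservesLimit_cospan_eps {Y₁ Y₂ Z : X.Etale} (g₁ : Y₁ ⟶ Z) (g₂ : Y₂ ⟶ Z) :
    PreservesLimit (cospan g₁ g₂) (eps X) :=
  preservesLimit_of_preserves_limit_cone (pullbackIsPullback g₁ g₂)
    ((isLimitMapConePullbackConeEquiv (eps X) pullback.condition).symm
      (isLimitEpsPullback X g₁ g₂))

instance preservesPullbacks_eps : PreservesLimitsOfShape WalkingCospan (eps X) where
  preservesLimit {K} := preservesLimit_of_iso_diagram (eps X) (diagramIsoCospan K).symm

instance preservesTerminal_eps : PreservesLimitsOfShape (Discrete.{0} PEmpty) (eps X) := by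
  haveI : PreservesLimit (Functor.empty.{0} X.Etale) (eps X) :=
    preservesLimit_of_preserves_limit_cone (EtCore.topIsTerminal X)
      ((isLimitMapConeEmptyConeEquiv (eps X) (EtCoh.top X)).symm
        (IsTerminal.ofIso (Cl.selfIsTerminal (Pts X)) (epsTopIso X).symm))
  exact preservesLimitsOfShape_pempty_of_preservesTerminal (eps X)

instance preservesFiniteLimits_eps : PreservesFiniteLimits (eps X) :=
  preservesFiniteLimits_of_preservesTerminal_and_pullbacks (eps X)

instance representablyFlat_eps : RepresentablyFlat (eps X) :=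
  flat_of_preservesFiniteLimits _

instance hasExactColimitsOfShape_eps (U : (Cl (Pts X))ᵒᵖ) :
    HasExactColimitsOfShape (CostructuredArrow (eps X).op U) AddCommGrpCat.{1} := by
  have := Groth.Agent.Lib.Helper6.LanFlat.isFiltered_costructuredArrow_op (eps X) U
  have : IsFiltered (ULiftHom.{1} (CostructuredArrow (eps X).op U)) :=
    IsFiltered.of_equivalence ULiftHom.equiv
  exact HasExactColimitsOfShape.of_domain_equivalence _
    (ULiftHom.equiv (C := CostructuredArrow (eps X).op U)).symm

/-- S4210 -/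
theorem epsPull_preservesFiniteLimits [EpsCont X] : PreservesFiniteLimits (epsPull X) :=
  Groth.Agent.Lib.Helper6.LanFlat.sheafPullback_preservesFiniteLimits (eps X)
    AddCommGrpCat.{1} _ _

end Eps

end Groth.Agent.Helper19.AnPts
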