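import Mathlib
import Groth.Prelude.Def_AnEps
import Groth.Agent.Lib.Helper19.AnImm
import Groth.Agent.Lib.Helper19.AnPullback
import Groth.Agent.Lib.Helper19.StdEtaleLH

/-!
# Étale morphisms induce local homeomorphisms on ℂ-points (helper19)

Namespace `Groth.Agent.Helper19.AnPts`.
-/

set_option autoImplicit false

open AlgebraicGeometry CategoryTheory TopologicalSpace Opposite Topology Limits

namespace Groth.Agent.Helper19.AnPts

open An

section Step1

variable {X Y : Scheme.{0}} [X.Over SC] [Y.Over SC] (g : X ⟶ Y) [g.IsOver SC]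

theorem isLocalHomeomorph_map_of_standardEtale [IsAffine X] [IsAffine Y]
    {A B : Type*} [CommRing A] [CommRing B] [Algebra A B] (P : StandardEtalePresentation A B)
    (α : A ≃+* Γ(Y, ⊤)) (β : B ≃+* Γ(X, ⊤))
    (h : ∀ a : A, β (algebraMap A B a) = g.appTop (α a)) :
    IsLocalHomeomorph (Pts.map g) := by
  refine StdEtaleLH.isLocalHomeomorph_of_standardEtale P
    (eA := fun x => (evTopHom x).comp (α : A →+* Γ(Y, ⊤)))
    (eB := fun y => (evTopHom y).comp (β : B →+* Γ(X, ⊤))) (r := Pts.map g) ?_ ?_ ?_ ?_ ?_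
  · -- inducing
    have hc : Continuous (fun (x : Pts Y) (a : A) => ((evTopHom x).comp (α : A →+* Γ(Y, ⊤))) a) :=
      continuous_pi fun a => continuous_evTop (α a)
    have hk : Continuous (fun (F : A → ℂ) (γ : Γ(Y, ⊤)) => F (α.symm γ)) :=
      continuous_pi fun γ => continuous_apply _
    refine IsInducing.of_comp hc hk ?_
    have : ((fun (F : A → ℂ) (γ : Γ(Y, ⊤)) => F (α.symm γ)) ∘
        fun (x : Pts Y) (a : A) => ((evTopHom x).comp (α : A →+* Γ(Y, ⊤))) a) = evAll Y := by
      funext x γ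
      simp only [Function.comp_apply, RingHom.coe_comp, RingHom.coe_coe, RingEquiv.apply_symm_apply]
      rfl
    rw [this]
    exact isInducing_evAll
  · have hc : Continuous (fun (x : Pts X) (b : B) => ((evTopHom x).comp (β : B →+* Γ(X, ⊤))) b) :=
      continuous_pi fun b => continuous_evTop (β b)
    have hk : Continuous (fun (F : B → ℂ) (γ : Γ(X, ⊤)) => F (β.symm γ)) :=
      continuous_pi fun γ => continuous_apply _
    refine IsInducing.of_comp hc hk ?_
    have : ((fun (F : B → ℂ) (γ : Γ(X, ⊤)) => F (β.symm γ)) ∘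
        fun (x : Pts X) (b : B) => ((evTopHom x).comp (β : B →+* Γ(X, ⊤))) b) = evAll X := by
      funext x γ
      simp only [Function.comp_apply, RingHom.coe_comp, RingHom.coe_coe, RingEquiv.apply_symm_apply]
      rfl
    rw [this]
    exact isInducing_evAll
  · -- injective
    intro y y' hyy'
    apply evAll_injective
    funext γ
    have := congrArg (fun φ : B →+* ℂ => φ (β.symm γ)) hyy'
    simp only [RingHom.coe_comp, RingHom.coe_coe, Function.comp_apply,
      RingEquiv.apply_symm_apply] at this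
    exact this
  · intro y
    ext a
    simp only [RingHom.coe_comp, RingHom.coe_coe, Function.comp_apply]
    rw [h a, evTopHom_apply, evTopHom_apply, evTop_map]
  · intro x ψ hψ
    have hψ' : ∀ a : A, ψ (algebraMap A B a) = x.evTop (α a) := fun a =>
      congrArg (fun φ : A →+* ℂ => φ a) hψ
    obtain ⟨y, hy⟩ := exists_pt_of_ringHom (X := X) (ψ.comp (β.symm : Γ(X, ⊤) →+* B)) (by
      intro c
      have h1 : strHom X c = β (algebraMap A B (α.symm (strHom Y c))) := by
        rw [h, RingEquiv.apply_symm_apply, strHom_comp]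
      simp only [RingHom.coe_comp, RingHom.coe_coe, Function.comp_apply]
      rw [h1, RingEquiv.symm_apply_apply, hψ', RingEquiv.apply_symm_apply, evTop_strHom])
    refine ⟨y, ?_, ?_⟩
    · ext b
      simp only [RingHom.coe_comp, RingHom.coe_coe, Function.comp_apply]
      rw [evTopHom_apply, hy]
      simp
    · apply evAll_injective
      funext γ
      change (Pts.map g y).evTop γ = x.evTop γ
      rw [evTop_map, hy]
      obtain ⟨a, rfl⟩ := α.surjective γ
      rw [← h a]
      simp only [RingHom.coe_comp, RingHom.coe_coe, Function.comp_apply,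
        RingEquiv.symm_apply_apply]
      exact hψ' a

end Step1

section Step2

variable {X Y : Scheme.{0}} [X.Over SC] [Y.Over SC] (g : X ⟶ Y) [g.IsOver SC]

theorem exists_isLocalHomeomorph_basicOpen [IsAffine X] [IsAffine Y] [Etale g] (a : Pts X) :
    ∃ W : X.Opens, a.pt ∈ W ∧ IsLocalHomeomorph (Pts.map (W.ι ≫ g)) := by
  letI : Algebra Γ(Y, ⊤) Γ(X, ⊤) := g.appTop.hom.toAlgebra
  have hét : Algebra.Etale Γ(Y, ⊤) Γ(X, ⊤) :=
    (HasRingHomProperty.iff_of_isAffine (P := @Etale) (f := g)).mp inferInstance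
  let Q : Ideal Γ(X, ⊤) := RingHom.ker (evTopHom a)
  haveI : Q.IsPrime := RingHom.ker_isPrime _
  haveI : Algebra.IsEtaleAt Γ(Y, ⊤) Q := by
    have h1 : (⟨Q, inferInstance⟩ : PrimeSpectrum Γ(X, ⊤)) ∈ Algebra.etaleLocus Γ(Y, ⊤) Γ(X, ⊤) := by
      rw [Algebra.etaleLocus_eq_univ_iff_etale.mpr hét]
      exact Set.mem_univ _
    exact h1
  obtain ⟨f, hfQ, hf⟩ := Algebra.IsEtaleAt.exists_isStandardEtale (R := Γ(Y, ⊤)) Q
  refine ⟨X.basicOpen f, ?_, ?_⟩
  · rw [mem_basicOpen_iff a ⊤ (Opens.mem_top _) f]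
    exact hfQ
  · obtain ⟨P⟩ := hf.nonempty_standardEtalePresentation
    haveI : IsAffine (X.basicOpen f).toScheme := (isAffineOpen_top X).basicOpen f
    let β : Localization.Away f ≃+* Γ((X.basicOpen f).toScheme, ⊤) :=
      (IsLocalization.algEquiv (Submonoid.powers f) (Localization.Away f)
        Γ((X.basicOpen f).toScheme, ⊤)).toRingEquiv
    refine isLocalHomeomorph_map_of_standardEtale ((X.basicOpen f).ι ≫ g) P
      (RingEquiv.refl _) β ?_
    intro z
    rw [IsScalarTower.algebraMap_apply Γ(Y, ⊤) Γ(X, ⊤) (Localization.Away f)]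
    change (IsLocalization.algEquiv (Submonoid.powers f) (Localization.Away f)
        Γ((X.basicOpen f).toScheme, ⊤)) (algebraMap _ _ (algebraMap _ _ z)) = _
    rw [AlgEquiv.commutes]
    rfl

theorem isLocalHomeomorph_map_of_etale [Etale g] : IsLocalHomeomorph (Pts.map g) := by
  rw [isLocalHomeomorph_iff_isLocalHomeomorphOn_univ]
  intro a _
  -- affine opens
  obtain ⟨V, hV, haV⟩ : ∃ V : Y.Opens, IsAffineOpen V ∧ (Pts.map g a).pt ∈ V := by
    obtain ⟨_, ⟨V, hV, rfl⟩, haV, -⟩ := (Y.isBasis_affineOpens).exists_subset_of_mem_open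
      (Set.mem_univ (Pts.map g a).pt) isOpen_univ
    exact ⟨V, hV, haV⟩
  have haV' : a.pt ∈ g ⁻¹ᵁ V := by
    rw [Pts.pt_map] at haV
    exact haV
  obtain ⟨U, hU, haU, hUV'⟩ : ∃ U : X.Opens, IsAffineOpen U ∧ a.pt ∈ U ∧ U ≤ g ⁻¹ᵁ V := by
    obtain ⟨_, ⟨U, hU, rfl⟩, haU, hUV⟩ := (X.isBasis_affineOpens).exists_subset_of_mem_open
      haV' (g ⁻¹ᵁ V).2
    exact ⟨U, hU, haU, hUV⟩
  haveI : IsAffine U.toScheme := hU
  haveI : IsAffine V.toScheme := hV
  obtain ⟨a₁, ha₁⟩ : ∃ a₁ : Pts U.toScheme, Pts.map U.ι a₁ = a := by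
    have : a ∈ Set.range (Pts.map U.ι) := by
      rw [range_map_ι]
      exact haU
    exact this
  obtain ⟨W, haW, hW⟩ := exists_isLocalHomeomorph_basicOpen (g.resLE V U hUV') a₁
  obtain ⟨a₂, ha₂⟩ : ∃ a₂ : Pts W.toScheme, Pts.map W.ι a₂ = a₁ := by
    have : a₁ ∈ Set.range (Pts.map W.ι) := by
      rw [range_map_ι]
      exact haW
    exact this
  -- composite
  have hcomp : Pts.map g ∘ Pts.map (W.ι ≫ U.ι) =
      Pts.map V.ι ∘ Pts.map (W.ι ≫ g.resLE V U hUV') := by
    funext z
    apply Subtype.ext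
    simp only [Function.comp_apply, Pts.map_val, Category.assoc, Scheme.Hom.resLE_comp_ι]
  have h1 : IsLocalHomeomorph (Pts.map g ∘ Pts.map (W.ι ≫ U.ι)) := by
    rw [hcomp]
    exact (isOpenEmbedding_map_of_isOpenImmersion V.ι).isLocalHomeomorph.comp hW
  have h2 : IsLocalHomeomorph (Pts.map (W.ι ≫ U.ι)) :=
    (isOpenEmbedding_map_of_isOpenImmersion (W.ι ≫ U.ι)).isLocalHomeomorph
  have h3 := IsLocalHomeomorphOn.of_comp_right (s := Set.univ) h1.isLocalHomeomorphOn
    h2.isLocalHomeomorphOn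
  refine h3 a ⟨a₂, Set.mem_univ _, ?_⟩
  rw [← ha₁, ← ha₂]
  apply Subtype.ext
  simp only [Pts.map_val, Category.assoc]

/-- S4197 -/
theorem etaleLH : EtaleLH := by
  intro X Y _ _ _ g _ _
  exact isLocalHomeomorph_map_of_etale g

end Step2

end Groth.Agent.Helper19.AnPts
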