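import Mathlib
import Groth.Prelude.Def_AnPts
import Groth.Agent.Lib.Helper19.AnDensity
import Groth.Agent.Lib.Helper19.AnPullback

/-!
# Separatedness and the complex topology (helper19)

Namespace `Groth.Agent.Helper19.AnPts`.
-/

set_option autoImplicit false

open AlgebraicGeometry CategoryTheory TopologicalSpace Opposite Topology Limits

namespace Groth.Agent.Helper19.AnPts

open An

variable {X Y : Scheme.{0}} [X.Over SC] [Y.Over SC]

/-- the closed version of `isOpen_iff_isOpen_preimage_pt`. -/
theorem isClosed_iff_isClosed_preimage_pt [LocallyOfFiniteType (X ↘ SC)] {T : Set X}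
    (hT : IsLocallyConstructible T) :
    IsClosed T ↔ IsClosed (Pts.pt ⁻¹' T : Set (Pts X)) := by
  rw [← isOpen_compl_iff, ← isOpen_compl_iff, ← Set.preimage_compl]
  exact isOpen_iff_isOpen_preimage_pt (isLocallyConstructible_compl hT)

theorem isLocallyConstructible_of_isLocallyClosed {X : Scheme.{0}} [IsLocallyNoetherian X]
    {T : Set X} (hT : IsLocallyClosed T) : IsLocallyConstructible T := by
  obtain ⟨U, Z, hU, hZ, rfl⟩ := hT
  have h1 : IsLocallyConstructible U := by
    have := isLocallyConstructible_compl (isLocallyConstructible_of_isClosed hU.isClosed_compl)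
    rwa [compl_compl] at this
  exact h1.inter (isLocallyConstructible_of_isClosed hZ)

variable (f : X ⟶ Y) [f.IsOver SC]

/-- the homeomorphism of S4193 for the self fibre product. -/
noncomputable def pullbackHomeo :
    Pts (pullback f f) ≃ₜ (Pts.map f).Pullback (Pts.map f) :=
  (isHomeomorph_pullback f f).homeomorph _

theorem pullbackHomeo_apply (z : Pts (pullback f f)) :
    (pullbackHomeo f z).1 = (Pts.map (pullback.fst f f) z, Pts.map (pullback.snd f f) z) := rfl

theorem preimage_pullbackDiagonal :
    pullbackHomeo f ⁻¹' (Pts.map f).pullbackDiagonal = Set.range (Pts.map (pullback.diagonal f)) := by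
  ext z
  constructor
  · intro hz
    have h : Pts.map (pullback.fst f f) z = Pts.map (pullback.snd f f) z := hz
    refine ⟨Pts.map (pullback.fst f f) z, ?_⟩
    apply pullback_pts_ext f f
    · apply Subtype.ext
      simp only [Pts.map_val, Category.assoc, pullback.diagonal_fst, Category.comp_id]
    · rw [← h]
      apply Subtype.ext
      simp only [Pts.map_val, Category.assoc, pullback.diagonal_snd, Category.comp_id]
  · rintro ⟨x, rfl⟩
    change Pts.map (pullback.fst f f) (Pts.map (pullback.diagonal f) x) =
      Pts.map (pullback.snd f f) (Pts.map (pullback.diagonal f) x)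
    apply Subtype.ext
    simp only [Pts.map_val, Category.assoc, pullback.diagonal_fst, pullback.diagonal_snd]

theorem preimage_pt_range_diagonal [LocallyOfFiniteType (X ↘ SC)] :
    (Pts.pt ⁻¹' Set.range (pullback.diagonal f) : Set (Pts (pullback f f))) =
      Set.range (Pts.map (pullback.diagonal f)) := by
  ext z
  constructor
  · intro hz
    exact exists_map_eq_of_mem_range (pullback.diagonal f) z hz
  · rintro ⟨x, rfl⟩
    rw [Set.mem_preimage, Pts.pt_map]
    exact Set.mem_range_self _

/-- S4195 -/
theorem isSeparated_iff_isSeparatedMap [LocallyOfFiniteType (X ↘ SC)]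
    [LocallyOfFiniteType (Y ↘ SC)] :
    IsSeparated f ↔ IsSeparatedMap (Pts.map f) := by
  rw [isSeparatedMap_iff_isClosed_diagonal, ← (pullbackHomeo f).isClosed_preimage,
    preimage_pullbackDiagonal]
  haveI := locallyOfFiniteType_pullback f f
  constructor
  · intro h
    exact (isClosedEmbedding_map_of_isClosedImmersion (pullback.diagonal f)).isClosed_range
  · intro h
    rw [← preimage_pt_range_diagonal] at h
    have hlc : IsLocallyConstructible (Set.range (pullback.diagonal f)) :=
      isLocallyConstructible_of_isLocallyClosed (pullback.diagonal f).isLocallyClosed_range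
    have hcl : IsClosed (Set.range (pullback.diagonal f)) :=
      (isClosed_iff_isClosed_preimage_pt hlc).mpr h
    exact ⟨IsClosedImmersion.of_isPreimmersion _ hcl⟩

/-- S4204 -/
theorem isSeparated_iff_t2Space (X : Scheme.{0}) [X.Over SC] [LocallyOfFiniteType (X ↘ SC)] :
    IsSeparated (X ↘ SC) ↔ T2Space (Pts X) := by
  letI inst : SC.Over SC := ⟨𝟙 SC⟩
  haveI : (X ↘ SC).IsOver SC := ⟨Category.comp_id _⟩
  haveI : LocallyOfFiniteType (SC ↘ SC) := by
    change LocallyOfFiniteType (𝟙 SC)
    infer_instance
  rw [isSeparated_iff_isSeparatedMap (X ↘ SC)]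
  have hsub : ∀ y : Pts SC, y = ⟨𝟙 SC, Category.comp_id _⟩ := by
    intro y
    apply Subtype.ext
    have := y.2
    change y.1 ≫ 𝟙 SC = 𝟙 SC at this
    rwa [Category.comp_id] at this
  have hconst : Pts.map (X ↘ SC) = fun _ => (⟨𝟙 SC, Category.comp_id _⟩ : Pts SC) :=
    funext fun x => hsub _
  rw [hconst]
  exact (t2space_iff_isSeparatedMap _).symm

end Groth.Agent.Helper19.AnPts
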