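import Mathlib
import Groth.Prelude.Def_AnEps
import Groth.Agent.Lib.Helper19.AnImm
import Groth.Agent.Lib.Helper19.AnPullback
import Groth.Agent.Lib.Helper19.AnSeparated
import Groth.Agent.Lib.Helper19.AnEtale
import Groth.Agent.Lib.Helper19.IntegralProper

/-!
# Finite morphisms induce proper maps on ℂ-points; finite étale ⟹ covering map (helper19)

Namespace `Groth.Agent.Helper19.AnPts`.
-/

set_option autoImplicit false

open AlgebraicGeometry CategoryTheory TopologicalSpace Opposite Topology Limits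

namespace Groth.Agent.Helper19.AnPts

open An

section Affine

variable {X Y : Scheme.{0}} [X.Over SC] [Y.Over SC] (g : X ⟶ Y) [g.IsOver SC]

theorem isInducing_evTopHom [IsAffine X] : IsInducing (fun (x : Pts X) (a : Γ(X, ⊤)) => evTopHom x a) :=
  isInducing_evAll

theorem evTopHom_map (y : Pts X) :
    evTopHom (Pts.map g y) = (evTopHom y).comp g.appTop.hom := by
  ext a
  simp only [RingHom.coe_comp, Function.comp_apply]
  rw [evTopHom_apply, evTopHom_apply, evTop_map]

theorem exists_pt_of_comp_eq [IsAffine X] [IsAffine Y] (x : Pts Y) (ψ : Γ(X, ⊤) →+* ℂ)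
    (hψ : ψ.comp g.appTop.hom = evTopHom x) : ∃ y, evTopHom y = ψ ∧ Pts.map g y = x := by
  have hψ' : ∀ a : Γ(Y, ⊤), ψ (g.appTop a) = x.evTop a := fun a =>
    congrArg (fun φ : Γ(Y, ⊤) →+* ℂ => φ a) hψ
  obtain ⟨y, hy⟩ := exists_pt_of_ringHom (X := X) ψ (by
    intro c
    rw [← strHom_comp g, hψ', evTop_strHom])
  refine ⟨y, ?_, ?_⟩
  · ext b
    rw [evTopHom_apply, hy]
  · apply evAll_injective
    funext γ
    change (Pts.map g y).evTop γ = x.evTop γ
    rw [evTop_map, hy]
    exact hψ' γ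

theorem isProperMap_map_of_isAffine_of_isFinite [IsAffine X] [IsAffine Y] [IsFinite g] :
    IsProperMap (Pts.map g) := by
  letI : Algebra Γ(Y, ⊤) Γ(X, ⊤) := g.appTop.hom.toAlgebra
  haveI : Algebra.IsIntegral Γ(Y, ⊤) Γ(X, ⊤) := by
    have h1 : g.appTop.hom.Finite := g.finite_appTop
    have h2 : g.appTop.hom.IsIntegral := h1.to_isIntegral
    exact ⟨h2⟩
  exact IntegralProper.isProperMap_of_integral (eA := fun x => evTopHom x)
    (eB := fun y => evTopHom y) (r := Pts.map g) isInducing_evTopHom isInducing_evTopHom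
    (fun y => evTopHom_map g y) (fun x ψ hψ => exists_pt_of_comp_eq g x ψ hψ)

end Affine

section Covering

variable {X Y : Scheme.{0}} [X.Over SC] [Y.Over SC] (g : X ⟶ Y) [g.IsOver SC]

theorem t2Space_of_isAffine [IsAffine X] : T2Space (Pts X) :=
  (⟨isInducing_evAll, evAll_injective⟩ : IsEmbedding (evAll X)).t2Space

theorem finite_fiber_of_isAffine [IsAffine X] [IsAffine Y] [IsFinite g] [Etale g] (y : Pts Y) :
    (Pts.map g ⁻¹' {y}).Finite := by
  have hprop := isProperMap_map_of_isAffine_of_isFinite g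
  have hlh := isLocalHomeomorph_map_of_etale g
  have hcomp : IsCompact (Pts.map g ⁻¹' {y}) := hprop.isCompact_preimage isCompact_singleton
  refine hcomp.finite (IsDiscrete.of_openPartialHomeomorph (Pts.map g) subset_rfl fun e _ => ?_)
  obtain ⟨φ, hφ, h⟩ := hlh e
  exact ⟨φ, hφ, h.symm⟩

theorem isCoveringMap_map_of_isAffine [IsAffine X] [IsAffine Y] [IsFinite g] [Etale g] :
    IsCoveringMap (Pts.map g) := by
  haveI := t2Space_of_isAffine (X := X)
  have hprop := isProperMap_map_of_isAffine_of_isFinite g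
  have hlh := isLocalHomeomorph_map_of_etale g
  rw [isCoveringMap_iff_isCoveringMapOn_univ]
  exact hprop.isClosedMap.isCoveringMapOn_of_isLocalHomeomorphOn
    (fun y _ => finite_fiber_of_isAffine g y) (hlh.isLocalHomeomorphOn.mono (Set.subset_univ _))

/-- the homeomorphism from the ℂ-points of an open subscheme onto their image. -/
noncomputable def opensHomeo (U : X.Opens) (s : Set (Pts X)) (hs : s = Set.range (Pts.map U.ι)) :
    Pts U.toScheme ≃ₜ s :=
  (isOpenEmbedding_map_of_isOpenImmersion U.ι).isEmbedding.toHomeomorph.trans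
    (Homeomorph.setCongr hs.symm)

theorem opensHomeo_apply (U : X.Opens) (s : Set (Pts X)) (hs : s = Set.range (Pts.map U.ι))
    (z : Pts U.toScheme) : (opensHomeo U s hs z : Pts X) = Pts.map U.ι z := rfl

theorem isCoveringMapOn_range [IsFinite g] [Etale g] (V : Y.Opens) (hV : IsAffineOpen V) :
    IsCoveringMapOn (Pts.map g) (Set.range (Pts.map V.ι)) ∧
      ∀ y ∈ Set.range (Pts.map V.ι), (Pts.map g ⁻¹' {y}).Finite := by
  haveI : IsAffine V.toScheme := hV
  haveI : IsAffine (g ⁻¹ᵁ V).toScheme := hV.preimage g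
  set s : Set (Pts Y) := Set.range (Pts.map V.ι) with hs
  have hso : IsOpen s := (isOpenEmbedding_map_of_isOpenImmersion V.ι).isOpen_range
  have hpre : Pts.map g ⁻¹' s = Set.range (Pts.map (g ⁻¹ᵁ V).ι) := preimage_range_map_ι g V
  have hpo : IsOpen (Pts.map g ⁻¹' s) := hso.preimage (Pts.continuous_map g)
  let eV : Pts V.toScheme ≃ₜ s := opensHomeo V s rfl
  let eU : Pts (g ⁻¹ᵁ V).toScheme ≃ₜ (Pts.map g ⁻¹' s) := opensHomeo (g ⁻¹ᵁ V) _ hpre
  have hconj : s.restrictPreimage (Pts.map g) = eV ∘ Pts.map (g ∣_ V) ∘ eU.symm := by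
    funext z
    obtain ⟨w, rfl⟩ := eU.surjective z
    simp only [Function.comp_apply, Homeomorph.symm_apply_apply]
    apply Subtype.ext
    change Pts.map g (Pts.map (g ⁻¹ᵁ V).ι w) = Pts.map V.ι (Pts.map (g ∣_ V) w)
    exact map_ι_comp g V w
  constructor
  · refine IsCoveringMapOn.of_isCoveringMap_restrictPreimage s hso hpo ?_
    rw [hconj]
    exact ((isCoveringMap_map_of_isAffine (g ∣_ V)).comp_homeomorph eU.symm).homeomorph_comp eV
  · rintro _ ⟨y', rfl⟩
    have hfin := finite_fiber_of_isAffine (g ∣_ V) y'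
    refine (hfin.image (Pts.map (g ⁻¹ᵁ V).ι)).subset ?_
    intro x hx
    have hx' : x ∈ Pts.map g ⁻¹' s := by
      change Pts.map g x ∈ s
      rw [hx]
      exact ⟨y', rfl⟩
    rw [hpre] at hx'
    obtain ⟨w, rfl⟩ := hx'
    refine ⟨w, ?_, rfl⟩
    change Pts.map (g ∣_ V) w = y'
    apply (isOpenEmbedding_map_of_isOpenImmersion V.ι).injective
    rw [← map_ι_comp g V w]
    exact hx

/-- S4206 -/
theorem isCoveringMap_map_of_finite_etale [IsFinite g] [Etale g] :
    IsCoveringMap (Pts.map g) ∧ ∀ y : Pts Y, (Pts.map g ⁻¹' {y}).Finite := by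
  have key : ∀ y : Pts Y, ∃ V : Y.Opens, IsAffineOpen V ∧ y ∈ Set.range (Pts.map V.ι) := by
    intro y
    obtain ⟨_, ⟨V, hV, rfl⟩, hyV, -⟩ := (Y.isBasis_affineOpens).exists_subset_of_mem_open
      (Set.mem_univ y.pt) isOpen_univ
    refine ⟨V, hV, ?_⟩
    rw [range_map_ι]
    exact hyV
  constructor
  · rw [isCoveringMap_iff_isCoveringMapOn_univ]
    intro y _
    obtain ⟨V, hV, hy⟩ := key y
    exact (isCoveringMapOn_range g V hV).1 y hy
  · intro y
    obtain ⟨V, hV, hy⟩ := key y
    exact (isCoveringMapOn_range g V hV).2 y hy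

end Covering

end Groth.Agent.Helper19.AnPts
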