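import Mathlib
import Groth.Prelude.Def_AnEps
import Groth.Agent.Lib.Helper19.AnConnected
import Groth.Agent.Lib.Helper19.AnEps
import Groth.Agent.Lib.Helper19.AnSeparated

/-!
# Full faithfulness of `U ↦ U(ℂ)` on étale `X`-schemes (helper19)

Namespace `Groth.Agent.Helper19.AnPts`.
-/

set_option autoImplicit false

open AlgebraicGeometry CategoryTheory TopologicalSpace Opposite Topology Limits

namespace Groth.Agent.Helper19.AnPts

open An

section General

variable {X Y : Scheme.{0}} [X.Over SC] [Y.Over SC]

/-- a morphism with open range containing all ℂ-points is surjective. -/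
theorem surjective_of_forall_pt_mem_range (f : X ⟶ Y) (hopen : IsOpen (Set.range f))
    [LocallyOfFiniteType (Y ↘ SC)] (h : ∀ y : Pts Y, y.pt ∈ Set.range f) : Surjective f := by
  constructor
  have hempty := eq_empty_of_preimage_pt_eq_empty (X := Y)
    (isLocallyConstructible_of_isClosed hopen.isClosed_compl) (by
      ext y
      simp only [Set.mem_preimage, Set.mem_compl_iff, Set.mem_empty_iff_false, iff_false, not_not]
      exact h y)
  intro y
  by_contra hy
  have : y ∈ (Set.range f)ᶜ := hy
  rw [hempty] at this
  exact this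

theorem map_comp_apply {Z : Scheme.{0}} [Z.Over SC] (f : X ⟶ Y) (g : Y ⟶ Z) [f.IsOver SC]
    [g.IsOver SC] (x : Pts X) : Pts.map (f ≫ g) x = Pts.map g (Pts.map f x) :=
  Subtype.ext (by simp only [Pts.map_val, Category.assoc])

/-- an étale morphism which is bijective on ℂ-points is an isomorphism. -/
theorem isIso_of_etale_of_bijective (g : X ⟶ Y) [g.IsOver SC] [Etale g]
    [LocallyOfFiniteType (X ↘ SC)] [LocallyOfFiniteType (Y ↘ SC)]
    (hbij : Function.Bijective (Pts.map g)) : IsIso g := by
  haveI := locallyOfFiniteType_pullback g g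
  haveI : Surjective (pullback.diagonal g) := by
    apply surjective_of_forall_pt_mem_range _ (pullback.diagonal g).isOpenEmbedding.isOpen_range
    intro z
    have h12 : Pts.map (pullback.fst g g) z = Pts.map (pullback.snd g g) z := by
      apply hbij.1
      exact Pts.map_pullback_condition g g z
    have hz : z = Pts.map (pullback.diagonal g) (Pts.map (pullback.fst g g) z) := by
      apply pullback_pts_ext g g
      · apply Subtype.ext
        simp only [Pts.map_val, Category.assoc, pullback.diagonal_fst, Category.comp_id]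
      · rw [h12]
        apply Subtype.ext
        simp only [Pts.map_val, Category.assoc, pullback.diagonal_snd, Category.comp_id]
    rw [hz, Pts.pt_map]
    exact ⟨_, rfl⟩
  haveI : IsIso (pullback.diagonal g) :=
    (isIso_iff_isOpenImmersion_and_surjective _).mpr ⟨inferInstance, inferInstance⟩
  haveI : Mono g := (pullback.isIso_diagonal_iff g).mp inferInstance
  haveI : IsOpenImmersion g := IsOpenImmersion.of_flat_of_mono g
  haveI : Surjective g := by
    apply surjective_of_forall_pt_mem_range g g.isOpenEmbedding.isOpen_range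
    intro y
    obtain ⟨x, rfl⟩ := hbij.2 y
    rw [Pts.pt_map]
    exact ⟨_, rfl⟩
  exact (isIso_iff_isOpenImmersion_and_surjective g).mpr ⟨inferInstance, inferInstance⟩

/-- two morphisms into a scheme étale over `X` which agree over `X` and on ℂ-points are equal. -/
theorem hom_eq_of_map_eq {U V : Scheme.{0}} [U.Over SC] [V.Over SC] (v : V ⟶ X) [v.IsOver SC]
    [Etale v] [LocallyOfFiniteType (U ↘ SC)] [LocallyOfFiniteType (V ↘ SC)]
    [LocallyOfFiniteType (X ↘ SC)]
    (ψ₁ ψ₂ : U ⟶ V) [ψ₁.IsOver SC] [ψ₂.IsOver SC] (hv : ψ₁ ≫ v = ψ₂ ≫ v)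
    (h : ∀ a : Pts U, Pts.map ψ₁ a = Pts.map ψ₂ a) : ψ₁ = ψ₂ := by
  haveI := locallyOfFiniteType_pullback v v
  haveI := locallyOfFiniteType_of_over v
  set lift : U ⟶ pullback v v := pullback.lift ψ₁ ψ₂ hv with hlift
  haveI : lift.IsOver SC := ⟨by
    change lift ≫ (pullback.fst v v ≫ V ↘ SC) = U ↘ SC
    rw [hlift, pullback.lift_fst_assoc, comp_over ψ₁ SC]⟩
  set e := pullback.snd (pullback.diagonal v) lift with he
  haveI : Surjective e := by
    apply surjective_of_forall_pt_mem_range e e.isOpenEmbedding.isOpen_range
    intro a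
    have hpt : Pts.map (pullback.diagonal v) (Pts.map ψ₁ a) = Pts.map lift a := by
      apply pullback_pts_ext v v
      · apply Subtype.ext
        simp only [Pts.map_val, Category.assoc, pullback.diagonal_fst, Category.comp_id, hlift,
          pullback.lift_fst]
      · have h2 := congrArg Subtype.val (h a)
        simp only [Pts.map_val] at h2
        apply Subtype.ext
        simp only [Pts.map_val, Category.assoc, pullback.diagonal_snd, Category.comp_id, hlift,
          pullback.lift_snd]
        exact h2
    have hpt' : pullback.diagonal v (Pts.map ψ₁ a).pt = lift a.pt := by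
      rw [← Pts.pt_map, ← Pts.pt_map, hpt]
    obtain ⟨z, -, hz⟩ := Scheme.Pullback.exists_preimage_pullback (f := pullback.diagonal v)
      (g := lift) (Pts.map ψ₁ a).pt a.pt hpt'
    exact ⟨z, hz⟩
  haveI : IsIso e := (isIso_iff_isOpenImmersion_and_surjective e).mpr ⟨inferInstance, inferInstance⟩
  rw [← cancel_epi e]
  have hc : pullback.fst (pullback.diagonal v) lift ≫ pullback.diagonal v = e ≫ lift :=
    pullback.condition
  have h1 : e ≫ ψ₁ = pullback.fst (pullback.diagonal v) lift := by
    have := congrArg (· ≫ pullback.fst v v) hc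
    simp only [Category.assoc, pullback.diagonal_fst, Category.comp_id, hlift,
      pullback.lift_fst] at this
    exact this.symm
  have h2 : e ≫ ψ₂ = pullback.fst (pullback.diagonal v) lift := by
    have := congrArg (· ≫ pullback.snd v v) hc
    simp only [Category.assoc, pullback.diagonal_snd, Category.comp_id, hlift,
      pullback.lift_snd] at this
    exact this.symm
  rw [h1, h2]

end General


section Full

variable {X : Scheme.{0}} [X.Over SC] [LocallyOfFiniteType (X ↘ SC)]

set_option backward.isDefEq.respectTransparency.types false in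
/-- **Fullness, scheme form**: a continuous map `U(ℂ) → V(ℂ)` over `X(ℂ)`, with `V` étale and
separated over `X`, is induced by an `X`-morphism `U → V`. -/
theorem exists_hom_of_continuous [Fact EtaleLH] {U V : Scheme.{0}} [U.Over SC] [V.Over SC]
    (u : U ⟶ X) (v : V ⟶ X) [u.IsOver SC] [v.IsOver SC] [Etale v] [IsSeparated v]
    [LocallyOfFiniteType (U ↘ SC)] [LocallyOfFiniteType (V ↘ SC)]
    (φ : Pts U → Pts V) (hφ : Continuous φ) (hover : ∀ a, Pts.map v (φ a) = Pts.map u a) :
    ∃ ψ : U ⟶ V, ψ ≫ v = u ∧ ∀ a : Pts U, a.1 ≫ ψ = (φ a).1 := by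
  haveI := locallyOfFiniteType_pullback u v
  have hlh : IsLocalHomeomorph (Pts.map (pullback.fst u v)) :=
    (Fact.out : EtaleLH) (pullback u v) U (pullback.fst u v)
  have hsep : IsSeparatedMap (Pts.map (pullback.fst u v)) :=
    (isSeparated_iff_isSeparatedMap (pullback.fst u v)).mp inferInstance
  -- the section
  set s : Pts U → Pts (pullback u v) := fun a => pullbackPt u v a (φ a) (hover a).symm with hs
  have hs₁ : ∀ a, Pts.map (pullback.fst u v) (s a) = a := fun a =>
    map_fst_pullbackPt u v a (φ a) (hover a).symm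
  have hs₂ : ∀ a, Pts.map (pullback.snd u v) (s a) = φ a := fun a =>
    map_snd_pullbackPt u v a (φ a) (hover a).symm
  have hscont : Continuous s := by
    rw [(isEmbedding_prodMap u v).isInducing.continuous_iff]
    have : prodMap u v ∘ s = fun a => (a, φ a) := by
      funext a
      exact Prod.ext (hs₁ a) (hs₂ a)
    rw [this]
    exact continuous_id.prodMk hφ
  have hcomp : Pts.map (pullback.fst u v) ∘ s = id := funext hs₁
  have hslh : IsLocalHomeomorph s :=
    IsLocalHomeomorph.of_comp (g := Pts.map (pullback.fst u v)) (f := s)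
      (by rw [hcomp]; exact (Homeomorph.refl _).isLocalHomeomorph) hlh hscont
  have hTopen : IsOpen (Set.range s) := hslh.isOpenMap.isOpen_range
  have hTeq : Set.range s = {w | (s ∘ Pts.map (pullback.fst u v)) w = id w} := by
    ext w
    constructor
    · rintro ⟨a, rfl⟩
      change s (Pts.map (pullback.fst u v) (s a)) = s a
      rw [hs₁]
    · intro hw
      exact ⟨_, hw⟩
  have hTclosed : IsClosed (Set.range s) := by
    rw [hTeq]
    apply hsep.isClosed_eqLocus (hscont.comp (Pts.continuous_map _)) continuous_id
    funext w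
    change Pts.map (pullback.fst u v) (s (Pts.map (pullback.fst u v) w)) = _
    rw [hs₁]
    rfl
  obtain ⟨W', hW', hpre⟩ := exists_isClopen_preimage_pt_eq (X := pullback u v) (Set.range s)
    ⟨hTclosed, hTopen⟩
  set W'' : (pullback u v).Opens := ⟨W', hW'.isOpen⟩ with hW''
  haveI := locallyOfFiniteType_opens W''
  have hrange : Set.range (Pts.map W''.ι) = Set.range s := by
    rw [range_map_ι, ← hpre]
    rfl
  have hιinj : Function.Injective (Pts.map W''.ι) :=
    (isOpenEmbedding_map_of_isOpenImmersion W''.ι).injective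
  set g : W''.toScheme ⟶ U := W''.ι ≫ pullback.fst u v with hg
  have hgmap : ∀ b, Pts.map g b = Pts.map (pullback.fst u v) (Pts.map W''.ι b) := fun b =>
    map_comp_apply _ _ b
  have hιs : ∀ b, Pts.map W''.ι b = s (Pts.map g b) := by
    intro b
    obtain ⟨a, ha⟩ : Pts.map W''.ι b ∈ Set.range s := hrange ▸ Set.mem_range_self b
    rw [hgmap, ← ha, hs₁]
  have hbij : Function.Bijective (Pts.map g) := by
    constructor
    · intro b b' hbb'
      apply hιinj
      rw [hιs b, hιs b', hbb']
    · intro a
      obtain ⟨b, hb⟩ : s a ∈ Set.range (Pts.map W''.ι) := hrange ▸ Set.mem_range_self a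
      exact ⟨b, by rw [hgmap, hb, hs₁]⟩
  haveI : IsIso g := isIso_of_etale_of_bijective g hbij
  refine ⟨inv g ≫ W''.ι ≫ pullback.snd u v, ?_, fun a => ?_⟩
  · rw [Category.assoc, Category.assoc, ← pullback.condition, ← Category.assoc W''.ι, ← hg,
      IsIso.inv_hom_id_assoc]
  · obtain ⟨b, rfl⟩ := hbij.2 a
    have h1 : (Pts.map g b).1 ≫ inv g = b.1 := by
      rw [Pts.map_val, Category.assoc, IsIso.hom_inv_id, Category.comp_id]
    rw [← Category.assoc, h1, ← hs₂, Pts.map_val, ← hιs b, Pts.map_val, Category.assoc]

set_option backward.isDefEq.respectTransparency.types false in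
/-- **S4208**: `U ↦ U(ℂ)` is faithful, and full towards étale `X`-schemes separated over `X`. -/
theorem eps_full_faithful (X : Scheme.{0}) [X.Over SC] [LocallyOfFiniteType (X ↘ SC)]
    [Fact EtaleLH] :
    (∀ (U V : X.Etale) [IsSeparated (V.left ↘ X)],
        Function.Surjective ((eps X).map : (U ⟶ V) → ((eps X).obj U ⟶ (eps X).obj V))) ∧
      (eps X).Faithful := by
  constructor
  · intro U V _ φ
    obtain ⟨ψ, hψ, hψφ⟩ := exists_hom_of_continuous (X := X) (U := U.left) (V := V.left)
      (U.left ↘ X) (V.left ↘ X) φ.toFun φ.continuous φ.over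
    refine ⟨MorphismProperty.Over.homMk ψ hψ trivial, ?_⟩
    apply Cl.hom_ext
    funext a
    apply Subtype.ext
    exact hψφ a
  · constructor
    intro U V g g' hgg'
    apply MorphismProperty.Over.Hom.ext
    have hpts : ∀ a : Pts U.left, Pts.map (X := U.left) (Y := V.left) g.left a =
        Pts.map (X := U.left) (Y := V.left) g'.left a := fun a =>
      congrFun (congrArg Cl.Hom.toFun hgg') a
    exact hom_eq_of_map_eq (X := X) (U := U.left) (V := V.left) (V.left ↘ X) g.left g'.left
      ((MorphismProperty.Over.w g).trans (MorphismProperty.Over.w g').symm) hpts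

end Full

end Groth.Agent.Helper19.AnPts
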