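import Mathlib
import Groth.Prelude.Def_AnHol
import Groth.Agent.Lib.Helper19.AnAffine

/-!
# Holomorphic functions on the ℂ-points of affine space (helper19)

Namespace `Groth.Agent.Helper19.AnPts`.
-/

set_option autoImplicit false

open AlgebraicGeometry CategoryTheory TopologicalSpace Opposite Topology Filter

namespace Groth.Agent.Helper19.AnPts

open An

section

variable (n : ℕ)

/-- the coordinate map `𝔸ⁿ(ℂ) → ℂⁿ`. -/
noncomputable def coords (x : Pts (𝔸(Fin n; SC))) : Fin n → ℂ :=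
  fun i => x.evTop (AffineSpace.coord SC i)

theorem isHomeomorph_coords : IsHomeomorph (coords n) := affineSpace_isHomeomorph (Fin n)

theorem differentiable_eval' (q : MvPolynomial (Fin n) ℂ) :
    Differentiable ℂ (fun t : Fin n → ℂ => MvPolynomial.eval t q) := fun t =>
  ((AnalyticOnNhd.eval_mvPolynomial q) t (Set.mem_univ t)).differentiableAt

/-- global functions on affine space are polynomials in the coordinates. -/
theorem exists_poly (a : Γ(𝔸(Fin n; SC), ⊤)) :
    ∃ P : MvPolynomial (Fin n) ℂ, ∀ x : Pts (𝔸(Fin n; SC)),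
      x.evTop a = MvPolynomial.eval (coords n x) P := by
  obtain ⟨P, rfl⟩ := (affineSpace_bijective (Fin n)).2 a
  exact ⟨P, fun x => evTop_eval₂ (s := AffineSpace.coord SC) x P⟩

/-- a regular function on a Zariski open of affine space is, near a ℂ-point, a differentiable
function of the coordinates. -/
theorem exists_differentiableAt_ev (W : (𝔸(Fin n; SC)).Opens) (s : Γ(𝔸(Fin n; SC), W))
    (y : Pts (𝔸(Fin n; SC))) (hy : y.pt ∈ W) :
    ∃ F : (Fin n → ℂ) → ℂ, DifferentiableAt ℂ F (coords n y) ∧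
      ∀ᶠ y' in 𝓝 y, ∀ h : y'.pt ∈ W, y'.ev W h s = F (coords n y') := by
  obtain ⟨g₀, a, k, hgU, hyg, heq⟩ := exists_fraction y W hy s
  obtain ⟨Pg, hPg⟩ := exists_poly n g₀
  obtain ⟨Pa, hPa⟩ := exists_poly n a
  have hg0 : MvPolynomial.eval (coords n y) Pg ≠ 0 := by
    rw [← hPg]
    exact (mem_basicOpen_iff y ⊤ (Opens.mem_top _) g₀).mp hyg
  refine ⟨fun z => MvPolynomial.eval z Pa / (MvPolynomial.eval z Pg) ^ k, ?_, ?_⟩
  · have h1 : DifferentiableAt ℂ (fun z : Fin n → ℂ => MvPolynomial.eval z Pa) (coords n y) :=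
      differentiable_eval' n Pa _
    have h2 : DifferentiableAt ℂ (fun z : Fin n → ℂ => (MvPolynomial.eval z Pg) ^ k)
        (coords n y) := (differentiable_eval' n Pg _).pow k
    have h3 : (fun z : Fin n → ℂ => (MvPolynomial.eval z Pg) ^ k) (coords n y) ≠ 0 :=
      pow_ne_zero k hg0
    have h4 := h1.mul (h2.inv h3)
    simp only [div_eq_mul_inv]
    exact h4
  · have hopen : IsOpen (Pts.pt ⁻¹' ((𝔸(Fin n; SC)).basicOpen g₀ : Set (𝔸(Fin n; SC)))) :=
      Pts.isOpen_preimage_pt _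
    filter_upwards [hopen.mem_nhds hyg] with y' hy' h
    have hy'0 : y'.evTop g₀ ≠ 0 := (mem_basicOpen_iff y' ⊤ (Opens.mem_top _) g₀).mp hy'
    have h1 := congrArg (fun t => y'.ev ((𝔸(Fin n; SC)).basicOpen g₀) hy' t) heq
    simp only [ev_mul, ev_pow, ev_res] at h1
    rw [← hPa, ← hPg, eq_div_iff (pow_ne_zero k hy'0)]
    exact h1

/-- `f : V → ℂ` is, near each point of `V`, a differentiable function of the coordinates. -/
def LocDiff (V : Opens (top (𝔸(Fin n; SC)))) (f : V → ℂ) : Prop :=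
  ∀ y : V, ∃ F : (Fin n → ℂ) → ℂ, DifferentiableAt ℂ F (coords n y.1) ∧
    ∀ᶠ y' in 𝓝 y.1, ∀ h : y' ∈ V, f ⟨y', h⟩ = F (coords n y')

theorem locDiff_of_isChartFun (V : Opens (top (𝔸(Fin n; SC)))) (f : V → ℂ)
    (hf : IsChartFun V f) : LocDiff n V f := by
  obtain ⟨W, hW, m, s, V', H, hV', hH, hfH⟩ := hf
  intro y
  choose F hFd hFe using fun j => exists_differentiableAt_ev n W (s j) y.1 (hW y)
  refine ⟨fun z => H (fun j => F j z), ?_, ?_⟩
  · have hval : (fun j => F j (coords n y.1)) = fun j => Pts.ev y.1 W (hW y) (s j) := by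
      funext j
      exact ((hFe j).self_of_nhds (hW y)).symm
    have hHd : DifferentiableAt ℂ H (fun j => F j (coords n y.1)) := by
      rw [hval]
      exact hH.differentiableAt (hV'.mem_nhds (hfH y).1)
    exact hHd.comp (coords n y.1) (differentiableAt_pi.mpr hFd)
  · filter_upwards [Filter.eventually_all.mpr hFe] with y' hy' h
    rw [(hfH ⟨y', h⟩).2]
    congr 1
    funext j
    exact hy' j (hW ⟨y', h⟩)

theorem locDiff_of_mem_chartAlg (V : Opens (top (𝔸(Fin n; SC)))) (f : V → ℂ)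
    (hf : f ∈ chartAlg V) : LocDiff n V f := by
  unfold chartAlg at hf
  induction hf using Algebra.adjoin_induction with
  | mem f hf => exact locDiff_of_isChartFun n V f hf
  | algebraMap c =>
    intro y
    exact ⟨fun _ => c, differentiableAt_const c, Filter.Eventually.of_forall fun y' h => rfl⟩
  | add f₁ f₂ _ _ h₁ h₂ =>
    intro y
    obtain ⟨F₁, hd₁, he₁⟩ := h₁ y
    obtain ⟨F₂, hd₂, he₂⟩ := h₂ y
    refine ⟨fun z => F₁ z + F₂ z, hd₁.add hd₂, ?_⟩
    filter_upwards [he₁, he₂] with y' h₁' h₂' h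
    change f₁ ⟨y', h⟩ + f₂ ⟨y', h⟩ = _
    rw [h₁' h, h₂' h]
  | mul f₁ f₂ _ _ h₁ h₂ =>
    intro y
    obtain ⟨F₁, hd₁, he₁⟩ := h₁ y
    obtain ⟨F₂, hd₂, he₂⟩ := h₂ y
    refine ⟨fun z => F₁ z * F₂ z, hd₁.mul hd₂, ?_⟩
    filter_upwards [he₁, he₂] with y' h₁' h₂' h
    change f₁ ⟨y', h⟩ * f₂ ⟨y', h⟩ = _
    rw [h₁' h, h₂' h]

/-- **S4307**: holomorphic functions on opens of `𝔸ⁿ(ℂ)` are the differentiable functions of the
coordinates. -/
theorem holPred_affineSpace_iff (U : Opens (top (𝔸(Fin n; SC)))) (g : U → ℂ) :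
    (holPred (𝔸(Fin n; SC))).pred g ↔
      ∃ G : (Fin n → ℂ) → ℂ,
        DifferentiableOn ℂ G (coords n '' (U : Set (top (𝔸(Fin n; SC))))) ∧
        ∀ x : U, g x = G (coords n x.1) := by
  have hhom := isHomeomorph_coords n
  constructor
  · intro hg
    classical
    let G : (Fin n → ℂ) → ℂ := fun z => if h : ∃ x : U, coords n x.1 = z then g h.choose else 0
    have hG : ∀ x : U, G (coords n x.1) = g x := fun x => by
      have h : ∃ x' : U, coords n x'.1 = coords n x.1 := ⟨x, rfl⟩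
      simp only [G, dif_pos h]
      congr 1
      exact Subtype.ext (hhom.injective h.choose_spec)
    refine ⟨G, ?_, fun x => (hG x).symm⟩
    rintro _ ⟨x, hxU, rfl⟩
    obtain ⟨V, hxV, i, hV⟩ := hg ⟨x, hxU⟩
    have hloc : LocDiff n V (fun y : V => g (i y)) := locDiff_of_mem_chartAlg n V _ hV
    obtain ⟨F, hFd, hFe⟩ := hloc ⟨x, hxV⟩
    apply DifferentiableAt.differentiableWithinAt
    apply hFd.congr_of_eventuallyEq
    change G =ᶠ[𝓝 (coords n x)] F
    rw [← hhom.isOpenEmbedding.map_nhds_eq x, Filter.EventuallyEq, Filter.eventually_map]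
    filter_upwards [V.2.mem_nhds hxV, hFe] with y' hy'V hy'
    rw [← hy' hy'V]
    exact hG ⟨y', i.le hy'V⟩
  · rintro ⟨G, hGd, hGe⟩
    refine holPred_of_chartAlg (Algebra.subset_adjoin ?_)
    exact ⟨⊤, fun _ => trivial, n, AffineSpace.coord SC,
      coords n '' (U : Set (top (𝔸(Fin n; SC)))), G,
      hhom.isOpenMap _ U.2, hGd, fun x => ⟨Set.mem_image_of_mem _ x.2, hGe x⟩⟩

end

end Groth.Agent.Helper19.AnPts
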