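import Mathlib
import Groth.Agent.Lib.Helper19.ConnPts
import Groth.Agent.Lib.Helper19.CountablePoints

/-!
# Elements with continuous `n`-th roots on the space of `ℂ`-points (helper19)

Namespace `Groth.Agent.Helper19.NthRoot`.  Pure commutative algebra / topology (no schemes).

* `exists_pow_eq_of_continuous_root`: if `u` in a finitely generated `ℂ`-domain `A` has a continuous
  `n`-th root on the space of `ℂ`-points, it is an `n`-th power in the fraction field.
* `algebraic_of_forall_exists_pow_eq`: an element of a finitely generated field extension of `ℂ`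
  which is an `n`-th power for every `n` is algebraic over `ℂ`.
-/

set_option autoImplicit false

open Polynomial Topology

namespace Groth.Agent.Helper19.NthRoot

attribute [local instance] ConnPts.ptTop

theorem continuous_eval {B : Type*} [CommRing B] [Algebra ℂ B] (b : B) :
    Continuous (fun ψ : B →ₐ[ℂ] ℂ => ψ b) :=
  (continuous_apply b).comp continuous_induced_dom

theorem continuous_comp {B D : Type*} [CommRing B] [Algebra ℂ B] [CommRing D] [Algebra ℂ D]
    (ι : B →ₐ[ℂ] D) : Continuous (fun ψ : D →ₐ[ℂ] ℂ => ψ.comp ι) := by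
  refine continuous_induced_rng.mpr (continuous_pi fun b => ?_)
  exact continuous_eval (ι b)

theorem exists_algHom (B : Type*) [CommRing B] [Nontrivial B] [Algebra ℂ B]
    [Algebra.FiniteType ℂ B] : Nonempty (B →ₐ[ℂ] ℂ) := by
  obtain ⟨M, hM⟩ := Ideal.exists_maximal B
  obtain ⟨ψ, -⟩ := CountablePts.exists_algHom_ker_eq (k := ℂ) M
  exact ⟨ψ⟩

/-- an element of an extension domain of `ℂ` with `ξ ^ n = 1` comes from `ℂ`. -/
theorem exists_algebraMap_eq_of_pow_eq_one {L : Type*} [Field L] [Algebra ℂ L] (ξ : L) {n : ℕ}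
    (hn : 0 < n) (hξ : ξ ^ n = 1) : ∃ c : ℂ, algebraMap ℂ L c = ξ := by
  have hint : IsIntegral ℂ ξ := by
    refine ⟨X ^ n - C 1, monic_X_pow_sub_C 1 hn.ne', ?_⟩
    simp [hξ]
  have hdeg : (minpoly ℂ ξ).degree = 1 :=
    IsAlgClosed.degree_eq_one_of_irreducible ℂ (minpoly.irreducible hint)
  exact minpoly.mem_range_of_degree_eq_one ℂ ξ hdeg

section A1

variable {A : Type*} [CommRing A] [IsDomain A] [Algebra ℂ A] [Algebra.FiniteType ℂ A]

/-- **(A1)** if `u` has a continuous `n`-th root on the space of `ℂ`-points of the finitely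
generated `ℂ`-domain `A`, and no zero there, then `u` is an `n`-th power in the fraction field. -/
theorem exists_pow_eq_of_continuous_root (u : A) {n : ℕ} (hn : 0 < n)
    (w : (A →ₐ[ℂ] ℂ) → ℂ) (hw : Continuous w) (hwu : ∀ ψ : A →ₐ[ℂ] ℂ, w ψ ^ n = ψ u)
    (hu : ∀ ψ : A →ₐ[ℂ] ℂ, ψ u ≠ 0) :
    ∃ v : FractionRing A, v ^ n = algebraMap A (FractionRing A) u := by
  classical
  by_contra hno
  have : CharZero (FractionRing A) :=
    charZero_of_injective_algebraMap (algebraMap ℂ (FractionRing A)).injective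
  obtain ⟨τ, hτ⟩ := IsAlgClosed.exists_pow_nat_eq
    (algebraMap A (AlgebraicClosure (FractionRing A)) u) hn
  have hu0 : u ≠ 0 := by
    obtain ⟨ψ⟩ := exists_algHom A
    intro h
    exact hu ψ (by rw [h, map_zero])
  have hinj : Function.Injective (algebraMap A (AlgebraicClosure (FractionRing A))) := by
    rw [IsScalarTower.algebraMap_eq A (FractionRing A) (AlgebraicClosure (FractionRing A))]
    exact (algebraMap (FractionRing A) (AlgebraicClosure (FractionRing A))).injective.comp
      (IsFractionRing.injective A (FractionRing A))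
  have hτ0 : τ ≠ 0 := by
    intro h
    rw [h, zero_pow hn.ne'] at hτ
    exact hu0 (hinj (by rw [← hτ, map_zero]))
  have hτK : τ ∉ (algebraMap (FractionRing A) (AlgebraicClosure (FractionRing A))).range := by
    rintro ⟨v, hv⟩
    apply hno
    refine ⟨v, (algebraMap (FractionRing A) (AlgebraicClosure (FractionRing A))).injective ?_⟩
    rw [map_pow, hv, hτ, ← IsScalarTower.algebraMap_apply]
  have hint : IsIntegral (FractionRing A) τ := Algebra.IsIntegral.isIntegral τ
  have hdeg : 2 ≤ (minpoly (FractionRing A) τ).natDegree := by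
    have h1 := minpoly.natDegree_pos hint
    have h2 : (minpoly (FractionRing A) τ).natDegree ≠ 1 :=
      fun h => hτK (minpoly.natDegree_eq_one_iff.mp h)
    omega
  have hsep : (minpoly (FractionRing A) τ).Separable := (minpoly.irreducible hint).separable
  have hcard := Polynomial.card_rootSet_eq_natDegree (K := AlgebraicClosure (FractionRing A)) hsep
    (IsAlgClosed.splits _)
  obtain ⟨⟨τ', hτ'mem⟩, hne⟩ := Fintype.exists_ne_of_one_lt_card (by rw [hcard]; omega)
    (⟨τ, by rw [mem_rootSet]; exact ⟨minpoly.ne_zero hint, minpoly.aeval _ τ⟩⟩ :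
      (minpoly (FractionRing A) τ).rootSet (AlgebraicClosure (FractionRing A)))
  have hne' : τ' ≠ τ := fun h => hne (Subtype.ext h)
  rw [mem_rootSet] at hτ'mem
  have hconj : IsConjRoot (FractionRing A) τ' τ := by
    rw [isConjRoot_def]
    exact (minpoly.eq_of_irreducible_of_monic (minpoly.irreducible hint) hτ'mem.2
      (minpoly.monic hint)).symm
  obtain ⟨σ, hσ⟩ := hconj.exists_algEquiv
  have hσA : ∀ a : A, σ (algebraMap A (AlgebraicClosure (FractionRing A)) a) =
      algebraMap A (AlgebraicClosure (FractionRing A)) a := fun a => by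
    rw [IsScalarTower.algebraMap_apply A (FractionRing A) (AlgebraicClosure (FractionRing A)),
      σ.commutes]
  have hτ'n : τ' ^ n = algebraMap A (AlgebraicClosure (FractionRing A)) u := by
    rw [← hσ, ← map_pow, hτ, hσA]
  have hun0 : algebraMap A (AlgebraicClosure (FractionRing A)) u ≠ 0 := fun h =>
    hu0 (hinj (by rw [h, map_zero]))
  obtain ⟨c, hc⟩ := exists_algebraMap_eq_of_pow_eq_one (τ' / τ) hn
    (by rw [div_pow, hτ'n, hτ, div_self hun0])
  have hτ'c : τ' = algebraMap ℂ (AlgebraicClosure (FractionRing A)) c * τ := by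
    rw [hc, div_mul_cancel₀ _ hτ0]
  have hc1 : c ≠ 1 := fun h => hne' (by rw [hτ'c, h, map_one, one_mul])
  -- the ring `D = A[τ]`
  let ev : A[X] →ₐ[ℂ] AlgebraicClosure (FractionRing A) :=
    (aeval τ : A[X] →ₐ[A] AlgebraicClosure (FractionRing A)).restrictScalars ℂ
  have hev : ∀ p : A[X], ev p = aeval τ p := fun p => rfl
  let D : Subalgebra ℂ (AlgebraicClosure (FractionRing A)) := ev.range
  have : Algebra.FiniteType ℂ D :=
    Algebra.FiniteType.of_surjective ev.rangeRestrict ev.rangeRestrict_surjective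
  let ιA : A →ₐ[ℂ] D := (IsScalarTower.toAlgHom ℂ A (AlgebraicClosure (FractionRing A))).codRestrict D
    (fun a => ⟨C a, by change aeval τ (C a) = _; rw [aeval_C]; rfl⟩)
  let τD : D := ⟨τ, ⟨X, by change aeval τ X = _; rw [aeval_X]⟩⟩
  have hτD : τD ^ n = ιA u := Subtype.ext (by
    rw [SubmonoidClass.coe_pow]
    exact hτ)
  have hσD : ∀ x ∈ D, σ x ∈ D := by
    rintro _ ⟨p, rfl⟩
    refine ⟨p.comp (C (algebraMap ℂ A c) * X), ?_⟩
    change aeval τ (p.comp (C (algebraMap ℂ A c) * X)) = σ (aeval τ p)
    rw [aeval_comp, map_mul, aeval_C, aeval_X,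
      ← IsScalarTower.algebraMap_apply ℂ A (AlgebraicClosure (FractionRing A)), ← hτ'c, ← hσ]
    exact Polynomial.aeval_algHom_apply ((σ : AlgebraicClosure (FractionRing A) →ₐ[FractionRing A]
      AlgebraicClosure (FractionRing A)).restrictScalars A) τ p
  let s : D →ₐ[ℂ] D := (((σ : AlgebraicClosure (FractionRing A) →ₐ[FractionRing A]
    AlgebraicClosure (FractionRing A)).restrictScalars ℂ).comp D.val).codRestrict D
      (fun x => hσD x x.2)
  have := ConnPts.preconnectedSpace_algHom D
  let θ : (D →ₐ[ℂ] ℂ) → ℂ := fun ψ => ψ τD / w (ψ.comp ιA)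
  have hwne : ∀ ψ : D →ₐ[ℂ] ℂ, w (ψ.comp ιA) ≠ 0 := fun ψ h =>
    hu (ψ.comp ιA) (by rw [← hwu, h, zero_pow hn.ne'])
  have hθc : Continuous θ := (continuous_eval τD).div (hw.comp (continuous_comp ιA)) hwne
  have hθn : ∀ ψ, θ ψ ^ n = 1 := fun ψ => by
    simp only [θ]
    rw [div_pow, hwu, ← map_pow, hτD]
    exact div_self (hu (ψ.comp ιA))
  have hfin : {z : ℂ | z ^ n = 1}.Finite := by
    have : {z : ℂ | z ^ n = 1} = ((nthRoots n (1 : ℂ)).toFinset : Set ℂ) := by
      ext z
      simp [mem_nthRoots hn]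
    rw [this]
    exact Finset.finite_toSet _
  have hconst : ∀ ψ ψ' : D →ₐ[ℂ] ℂ, θ ψ = θ ψ' := fun ψ ψ' =>
    isPreconnected_univ.constant_of_mapsTo hfin.isDiscrete hθc.continuousOn
      (fun ψ _ => hθn ψ) (Set.mem_univ _) (Set.mem_univ _)
  obtain ⟨ψ⟩ := exists_algHom D
  have h1 : (ψ.comp s).comp ιA = ψ.comp ιA := by
    ext a
    change ψ (s (ιA a)) = ψ (ιA a)
    congr 1
    exact Subtype.ext (hσA a)
  have h2 : (ψ.comp s) τD = c * ψ τD := by
    change ψ (s τD) = _
    have : s τD = c • τD := Subtype.ext (by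
      change σ τ = _
      rw [hσ, hτ'c, ← Algebra.smul_def]
      rfl)
    rw [this, map_smul, smul_eq_mul]
  have h3 := hconst (ψ.comp s) ψ
  simp only [θ] at h3
  rw [h1, h2, mul_div_assoc] at h3
  have hθ0 : ψ τD / w (ψ.comp ιA) ≠ 0 := fun h => by
    have := hθn ψ
    simp only [θ] at this
    rw [h, zero_pow hn.ne'] at this
    exact zero_ne_one this
  exact hc1 (mul_right_cancel₀ hθ0 (by rw [h3, one_mul]))

end A1

section A2

open IntermediateField

theorem intDegree_pow {F : Type*} [Field F] (r : RatFunc F) (hr : r ≠ 0) (k : ℕ) :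
    (r ^ k).intDegree = k * r.intDegree := by
  induction k with
  | zero => simp
  | succ k ih =>
    rw [pow_succ, RatFunc.intDegree_mul (pow_ne_zero k hr) hr, ih]
    push_cast
    ring

variable {K : Type*} [Field K] [Algebra ℂ K] [Algebra.EssFiniteType ℂ K]

open scoped IntermediateField.algebraAdjoinAdjoin in
/-- **(A2)** an element of a finitely generated field extension of `ℂ` which is an `n`-th power
for every `n > 0` is algebraic over `ℂ`. -/
theorem isAlgebraic_of_forall_exists_pow_eq (u : K) (hu : ∀ n : ℕ, 0 < n → ∃ v : K, v ^ n = u) :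
    IsAlgebraic ℂ u := by
  by_contra htr
  have hind : AlgebraicIndepOn ℂ id ({u} : Set K) := by
    rw [AlgebraicIndepOn, algebraicIndependent_singleton_iff ⟨u, rfl⟩]
    exact htr
  obtain ⟨t, hut, ht⟩ := exists_isTranscendenceBasis_superset hind
  set i₀ : t := ⟨u, hut rfl⟩ with hi₀
  set S : Set t := {i₀}ᶜ with hS
  have htrS : Transcendental (Algebra.adjoin ℂ ((Subtype.val : t → K) '' S)) u :=
    ht.1.transcendental_adjoin (s := S) (i := i₀) (by simp [hS])
  set F : IntermediateField ℂ K := IntermediateField.adjoin ℂ ((Subtype.val : t → K) '' S) with hF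
  have htrF : Transcendental F u := fun h => htrS
    ((IsFractionRing.isAlgebraic_iff (Algebra.adjoin ℂ ((Subtype.val : t → K) '' S)) F K).mpr h)
  set L : IntermediateField F K := F⟮u⟯ with hL
  have halg : Algebra.IsAlgebraic L K := by
    have h0 := ht.isAlgebraic_field
    rw [Subtype.range_coe] at h0
    constructor
    intro y
    have hy : IsAlgebraic (IntermediateField.adjoin ℂ t) y := h0.isAlgebraic y
    have hle : (IntermediateField.adjoin ℂ t).toSubalgebra ≤
        (L.restrictScalars ℂ).toSubalgebra := by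
      rw [IntermediateField.toSubalgebra_le_toSubalgebra, IntermediateField.adjoin_le_iff]
      intro x hx
      by_cases hxu : x = u
      · rw [hxu]
        exact IntermediateField.mem_adjoin_simple_self F u
      · have hxF : x ∈ F := IntermediateField.subset_adjoin ℂ _
          ⟨⟨x, hx⟩, by simp [hS, hi₀, Subtype.ext_iff, hxu], rfl⟩
        exact L.algebraMap_mem ⟨x, hxF⟩
    exact IsAlgebraic.tower_top_of_subalgebra_le hle hy
  have : IsScalarTower ℂ L K := IsScalarTower.of_algebraMap_eq (fun c => rfl)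
  have hess : Algebra.EssFiniteType L K := Algebra.EssFiniteType.of_comp ℂ L K
  have hfin : FiniteDimensional L K := by
    obtain ⟨s, hsfin, hs⟩ := IntermediateField.fg_def.mp (IntermediateField.fg_top L K)
    have : Finite s := hsfin
    have h1 : FiniteDimensional L (IntermediateField.adjoin L s) :=
      IntermediateField.finiteDimensional_adjoin (fun x _ => (halg.isAlgebraic x).isIntegral)
    rw [hs] at h1
    exact LinearEquiv.finiteDimensional (IntermediateField.topEquiv (F := L) (E := K)).toLinearEquiv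
  set e := RatFunc.algEquivOfTranscendental u htrF with he
  have heX : e RatFunc.X = IntermediateField.AdjoinSimple.gen F u :=
    Subtype.ext (RatFunc.algEquivOfTranscendental_X u htrF)
  set m := Module.finrank L K with hm
  have hmpos : 0 < m := Module.finrank_pos
  obtain ⟨v, hv⟩ := hu (m + 1) (Nat.succ_pos m)
  have hugen : u = algebraMap L K (IntermediateField.AdjoinSimple.gen F u) := rfl
  have hN : (Algebra.norm L v) ^ (m + 1) = (IntermediateField.AdjoinSimple.gen F u) ^ m := by
    have hNu : Algebra.norm L u = (IntermediateField.AdjoinSimple.gen F u) ^ m :=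
      Algebra.norm_algebraMap (S := K) (IntermediateField.AdjoinSimple.gen F u)
    rw [← map_pow, hv, hNu]
  have hu0 : u ≠ 0 := fun h => htr (h ▸ isAlgebraic_zero)
  have hgen0 : IntermediateField.AdjoinSimple.gen F u ≠ 0 := fun h =>
    hu0 (by rw [hugen, h, map_zero])
  have hNv0 : Algebra.norm L v ≠ 0 := by
    intro h
    rw [h, zero_pow (Nat.succ_ne_zero m)] at hN
    exact pow_ne_zero m hgen0 hN.symm
  have hN' : (e.symm (Algebra.norm L v)) ^ (m + 1) = (RatFunc.X : RatFunc F) ^ m := by
    rw [← map_pow, hN, map_pow]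
    congr 1
    rw [AlgEquiv.symm_apply_eq]
    exact heX.symm
  have hr0 : e.symm (Algebra.norm L v) ≠ 0 := by
    intro h
    apply hNv0
    have := congrArg e h
    rwa [AlgEquiv.apply_symm_apply, map_zero] at this
  have hdeg := congrArg RatFunc.intDegree hN'
  rw [intDegree_pow _ hr0, intDegree_pow _ RatFunc.X_ne_zero, RatFunc.intDegree_X] at hdeg
  push_cast at hdeg
  rcases le_or_gt (e.symm (Algebra.norm L v)).intDegree 0 with hd | hd
  · nlinarith
  · nlinarith

end A2

/-- **Lemma A**: a nowhere vanishing element of a finitely generated `ℂ`-domain with continuous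
`n`-th roots on the space of `ℂ`-points for all `n > 0` is a constant. -/
theorem exists_eq_algebraMap_of_continuous_roots {A : Type*} [CommRing A] [IsDomain A]
    [Algebra ℂ A] [Algebra.FiniteType ℂ A] (u : A) (hu : ∀ ψ : A →ₐ[ℂ] ℂ, ψ u ≠ 0)
    (hw : ∀ n : ℕ, 0 < n → ∃ w : (A →ₐ[ℂ] ℂ) → ℂ, Continuous w ∧
      ∀ ψ : A →ₐ[ℂ] ℂ, w ψ ^ n = ψ u) :
    ∃ c : ℂ, u = algebraMap ℂ A c := by
  have h1 : ∀ n : ℕ, 0 < n → ∃ v : FractionRing A, v ^ n = algebraMap A (FractionRing A) u :=
    fun n hn => by
      obtain ⟨w, hwc, hwu⟩ := hw n hn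
      exact exists_pow_eq_of_continuous_root u hn w hwc hwu hu
  have : Algebra.EssFiniteType ℂ (FractionRing A) :=
    Algebra.EssFiniteType.comp ℂ A (FractionRing A)
  have h2 := isAlgebraic_of_forall_exists_pow_eq (algebraMap A (FractionRing A) u) h1
  have h3 : IsAlgebraic ℂ u :=
    (isAlgebraic_algebraMap_iff (IsFractionRing.injective A (FractionRing A))).mp h2
  have hdeg : (minpoly ℂ u).degree = 1 :=
    IsAlgClosed.degree_eq_one_of_irreducible ℂ (minpoly.irreducible h3.isIntegral)
  obtain ⟨c, hc⟩ := minpoly.mem_range_of_degree_eq_one ℂ u hdeg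
  exact ⟨c, hc.symm⟩

end Groth.Agent.Helper19.NthRoot
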