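import Mathlib
import Groth.Prelude.Def_AnPts
import Groth.Agent.Lib.Helper19.AnConnected
import Groth.Agent.Lib.Helper19.NthRoot

/-!
# Null-homotopic regular maps to `ℂˣ` are constant (helper19)

Namespace `Groth.Agent.Helper19.AnPts`.
-/

set_option autoImplicit false

open AlgebraicGeometry CategoryTheory TopologicalSpace Opposite Topology Limits

namespace Groth.Agent.Helper19.AnPts

open An

variable {X : Scheme.{0}} [X.Over SC]

attribute [local instance] ConnPts.ptTop in
/-- a nowhere vanishing function with continuous `n`-th roots for all `n` is constant on the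
`ℂ`-points of the zero locus of a prime ideal (affine case). -/
theorem exists_evTop_eq_of_continuous_roots [IsAffine X] [LocallyOfFiniteType (X ↘ SC)]
    (p : Ideal Γ(X, ⊤)) [p.IsPrime] (u : Γ(X, ⊤)) (hu : ∀ x : Pts X, x.evTop u ≠ 0)
    (hw : ∀ n : ℕ, 0 < n → ∃ w : Pts X → ℂ, Continuous w ∧ ∀ x : Pts X, w x ^ n = x.evTop u) :
    ∃ c : ℂ, ∀ x : Pts X, (∀ a ∈ p, x.evTop a = 0) → x.evTop u = c := by
  let alg : Algebra ℂ Γ(X, ⊤) := (strHom X).toAlgebra
  have hft : Algebra.FiniteType ℂ Γ(X, ⊤) := finiteType_strHom (X := X)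
  have : Algebra.FiniteType ℂ (Γ(X, ⊤) ⧸ p) :=
    hft.of_surjective (Ideal.Quotient.mkₐ ℂ p) (Ideal.Quotient.mkₐ_surjective ℂ p)
  have hex : ∀ ψ : (Γ(X, ⊤) ⧸ p) →ₐ[ℂ] ℂ, ∃ x : Pts X, ∀ a, x.evTop a = ψ (Ideal.Quotient.mk p a) :=
    fun ψ => exists_pt_of_ringHom ((ψ : (Γ(X, ⊤) ⧸ p) →+* ℂ).comp (Ideal.Quotient.mk p))
      (fun c => ψ.commutes c)
  choose pt hpt using hex
  have hptc : Continuous pt := by
    rw [(isInducing_evAll (X := X)).continuous_iff]
    refine continuous_pi fun a => ?_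
    have : (fun ψ : (Γ(X, ⊤) ⧸ p) →ₐ[ℂ] ℂ => (evAll X ∘ pt) ψ a) =
        fun ψ => ψ (Ideal.Quotient.mk p a) := funext fun ψ => hpt ψ a
    rw [this]
    exact NthRoot.continuous_eval _
  obtain ⟨c, hc⟩ := NthRoot.exists_eq_algebraMap_of_continuous_roots
    (Ideal.Quotient.mk p u) (fun ψ => by rw [← hpt]; exact hu _)
    (fun n hn => by
      obtain ⟨w, hwc, hwu⟩ := hw n hn
      exact ⟨w ∘ pt, hwc.comp hptc, fun ψ => by rw [Function.comp_apply, hwu, hpt]⟩)
  refine ⟨c, fun x hx => ?_⟩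
  have hmem : u - strHom X c ∈ p := by
    rw [← Ideal.Quotient.eq, hc]
    rfl
  have h0 := hx _ hmem
  rw [← evTopHom_apply, map_sub, evTopHom_apply, evTopHom_apply, evTop_strHom, sub_eq_zero] at h0
  exact h0

/-- a nowhere vanishing function with continuous `n`-th roots for all `n` takes finitely many
values on the `ℂ`-points of an affine scheme of finite type. -/
theorem finite_range_evTop_of_isAffine [IsAffine X] [LocallyOfFiniteType (X ↘ SC)]
    (u : Γ(X, ⊤)) (hu : ∀ x : Pts X, x.evTop u ≠ 0)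
    (hw : ∀ n : ℕ, 0 < n → ∃ w : Pts X → ℂ, Continuous w ∧ ∀ x : Pts X, w x ^ n = x.evTop u) :
    (Set.range (fun x : Pts X => x.evTop u)).Finite := by
  let alg : Algebra ℂ Γ(X, ⊤) := (strHom X).toAlgebra
  have hft : Algebra.FiniteType ℂ Γ(X, ⊤) := finiteType_strHom (X := X)
  have hnoeth : IsNoetherianRing Γ(X, ⊤) := Algebra.FiniteType.isNoetherianRing ℂ _
  have hminfin : (minimalPrimes Γ(X, ⊤)).Finite := minimalPrimes.finite_of_isNoetherianRing _
  have : Finite (minimalPrimes Γ(X, ⊤)) := hminfin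
  have hex : ∀ p : minimalPrimes Γ(X, ⊤), ∃ c : ℂ, ∀ x : Pts X,
      (∀ a ∈ p.1, x.evTop a = 0) → x.evTop u = c := fun p => by
    have : p.1.IsPrime := p.2.1.1
    exact exists_evTop_eq_of_continuous_roots p.1 u hu hw
  choose c hc using hex
  refine (Set.finite_range c).subset ?_
  rintro _ ⟨x, rfl⟩
  have hker : (RingHom.ker (evTopHom x)).IsPrime := RingHom.ker_isPrime _
  obtain ⟨p, hp, hle⟩ := Ideal.exists_minimalPrimes_le (bot_le : ⊥ ≤ RingHom.ker (evTopHom x))
  refine ⟨⟨p, hp⟩, (hc ⟨p, hp⟩ x (fun a ha => ?_)).symm⟩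
  have := hle ha
  rwa [RingHom.mem_ker, evTopHom_apply] at this

/-- **S17470, root form**: on a connected quasi-compact scheme locally of finite type over `ℂ`, a
function without zeros at `ℂ`-points having continuous `n`-th roots for all `n` is constant on
`ℂ`-points. -/
theorem evTop_eq_of_continuous_roots [LocallyOfFiniteType (X ↘ SC)] [CompactSpace X]
    [ConnectedSpace X] (u : Γ(X, ⊤)) (hu : ∀ x : Pts X, x.evTop u ≠ 0)
    (hw : ∀ n : ℕ, 0 < n → ∃ w : Pts X → ℂ, Continuous w ∧ ∀ x : Pts X, w x ^ n = x.evTop u) :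
    ∀ x y : Pts X, x.evTop u = y.evTop u := by
  have hfin : (Set.range (fun x : Pts X => x.evTop u)).Finite := by
    obtain ⟨s, hsfin, hs⟩ := (isCompact_and_isOpen_iff_finite_and_eq_biUnion_affineOpens
      (X := X) (U := Set.univ)).mp ⟨isCompact_univ, isOpen_univ⟩
    have haff : ∀ U : X.affineOpens,
        (Set.range (fun x' : Pts U.1.toScheme => x'.evTop (U.1.ι.appTop u))).Finite := by
      intro U
      have : IsAffine U.1.toScheme := U.2
      have := locallyOfFiniteType_opens U.1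
      refine finite_range_evTop_of_isAffine _ (fun x' => ?_) (fun n hn => ?_)
      · rw [← evTop_map]
        exact hu _
      · obtain ⟨w, hwc, hwu⟩ := hw n hn
        exact ⟨w ∘ Pts.map U.1.ι, hwc.comp (Pts.continuous_map _), fun x' => by
          rw [Function.comp_apply, hwu, evTop_map]⟩
    refine (hsfin.biUnion (fun U _ => haff U)).subset ?_
    rintro _ ⟨x, rfl⟩
    have hx : x.pt ∈ (Set.univ : Set X) := Set.mem_univ _
    rw [hs, Set.mem_iUnion₂] at hx
    obtain ⟨U, hU, hxU⟩ := hx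
    have hxr : x ∈ Set.range (Pts.map U.1.ι) := by
      rw [range_map_ι]
      exact hxU
    obtain ⟨x', rfl⟩ := hxr
    rw [Set.mem_iUnion₂]
    exact ⟨U, hU, x', (evTop_map _ _ _).symm⟩
  have : ConnectedSpace (Pts X) := (connectedSpace_iff_pts X).mp inferInstance
  intro x y
  exact isPreconnected_univ.constant_of_mapsTo hfin.isDiscrete (continuous_evTop u).continuousOn
    (fun x _ => Set.mem_range_self x) (Set.mem_univ x) (Set.mem_univ y)

/-- **S17470**: a null-homotopic regular map from a connected complex variety to `ℂˣ` is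
constant. -/
theorem evTop_eq_of_nullhomotopic [LocallyOfFiniteType (X ↘ SC)] [QuasiCompact (X ↘ SC)]
    [ConnectedSpace X] (u : Γ(X, ⊤))
    (φ : C(Pts X, {z : ℂ // z ≠ 0})) (hφ : ∀ x : Pts X, (φ x).1 = x.evTop u)
    (z₀ : {z : ℂ // z ≠ 0}) (hnull : φ.Homotopic (ContinuousMap.const (Pts X) z₀)) :
    ∀ x y : Pts X, x.evTop u = y.evTop u := by
  have : CompactSpace X := (quasiCompact_iff_compactSpace (X ↘ SC)).mp inferInstance
  obtain ⟨H⟩ := hnull.symm
  have cov : IsCoveringMap (fun z : ℂ ↦ (⟨_, z.exp_ne_zero⟩ : {z : ℂ // z ≠ 0})) :=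
    Complex.isCoveringMap_exp
  let f : C(Pts X, ℂ) := ContinuousMap.const _ (Complex.log z₀.1)
  have H0 : ∀ a, H.toContinuousMap (0, a) =
      (fun z : ℂ ↦ (⟨_, z.exp_ne_zero⟩ : {z : ℂ // z ≠ 0})) (f a) := fun a => by
    have h1 : H.toContinuousMap (0, a) = z₀ := H.apply_zero a
    rw [h1]
    exact Subtype.ext (Complex.exp_log z₀.2).symm
  let Ht := cov.liftHomotopy H.toContinuousMap f H0
  let ψ : Pts X → ℂ := fun a => Ht (1, a)
  have hψc : Continuous ψ := Ht.continuous.comp (continuous_const.prodMk continuous_id)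
  have hψ : ∀ a, Complex.exp (ψ a) = a.evTop u := fun a => by
    have h1 := congrFun (cov.liftHomotopy_lifts H.toContinuousMap f H0) (1, a)
    have h2 : H.toContinuousMap (1, a) = φ a := H.apply_one a
    rw [h2] at h1
    rw [← hφ, ← h1]
    rfl
  apply evTop_eq_of_continuous_roots u (fun x => by rw [← hφ]; exact (φ x).2)
  intro n hn
  refine ⟨fun a => Complex.exp (ψ a / n), by fun_prop, fun a => ?_⟩
  rw [← Complex.exp_nat_mul, mul_div_cancel₀ _ (Nat.cast_ne_zero.mpr hn.ne'), hψ]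

end Groth.Agent.Helper19.AnPts
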