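import Mathlib

/-!
# Valuative criterion from closedness of polynomial base changes (helper19)

Pure Mathlib. Namespace `Groth.Agent.Helper19.ValClosed`.

If `f : X ⟶ Y` is quasi-compact and all the base changes of `f` along
`𝔸ⁿ_V → V ⊆ Y` (`V` affine open) are closed maps, then `f` satisfies the existence part of the
valuative criterion (hence is universally closed).
-/

set_option autoImplicit false

universe u

open AlgebraicGeometry CategoryTheory TopologicalSpace Opposite Topology Limits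

namespace Groth.Agent.Helper19.ValClosed

section Basic

variable {X : Scheme.{u}}

/-- a morphism from an affine scheme landing in an affine open. -/
theorem SpecMap_appLE_fromSpec_eq (S : CommRingCat.{u}) (j : Spec S ⟶ X) {U : X.Opens}
    (hU : IsAffineOpen U) (h : (⊤ : (Spec S).Opens) ≤ j ⁻¹ᵁ U) :
    Spec.map (j.appLE U ⊤ h ≫ (Scheme.ΓSpecIso S).hom) ≫ hU.fromSpec = j := by
  have h1 := IsAffineOpen.SpecMap_appLE_fromSpec j hU (isAffineOpen_top (Spec S)) h
  rw [IsAffineOpen.fromSpec_top, Scheme.isoSpec_Spec_inv] at h1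
  rw [Spec.map_comp, Category.assoc, h1, ← Category.assoc, ← Spec.map_comp, Iso.inv_hom_id,
    Spec.map_id, Category.id_comp]

theorem appLE_congr {X Y : Scheme.{u}} {f g : X ⟶ Y} (e : f = g) (U : Y.Opens) (V : X.Opens)
    (h : V ≤ f ⁻¹ᵁ U) : f.appLE U V h = g.appLE U V (e ▸ h) := by
  subst e
  rfl

/-- in a local ringed space, if `u` vanishes at `x` then `u - 1` does not. -/
theorem mem_basicOpen_sub_one {U : X.Opens} (u : Γ(X, U)) (x : X) (hxU : x ∈ U)
    (hx : x ∉ X.basicOpen u) : x ∈ X.basicOpen (u - 1) := by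
  rw [Scheme.mem_basicOpen _ _ _ hxU] at hx ⊢
  have h1 : X.presheaf.germ U x hxU u ∈ nonunits _ := hx
  have h2 := IsLocalRing.isUnit_one_sub_self_of_mem_nonunits _ h1
  rw [map_sub, map_one]
  have h3 : X.presheaf.germ U x hxU u - 1 = -(1 - X.presheaf.germ U x hxU u) := by ring
  rw [h3]
  exact h2.neg

/-- functions pulled back along `Spec.map φ ≫ l`. -/
theorem SpecMap_comp_appLE {A B : CommRingCat.{u}} (φ : A ⟶ B) (l : Spec A ⟶ X) (W : X.Opens)
    (hl : (⊤ : (Spec A).Opens) ≤ l ⁻¹ᵁ W)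
    (h' : (⊤ : (Spec B).Opens) ≤ (Spec.map φ ≫ l) ⁻¹ᵁ W) :
    (Spec.map φ ≫ l).appLE W ⊤ h' ≫ (Scheme.ΓSpecIso B).hom =
      l.appLE W ⊤ hl ≫ (Scheme.ΓSpecIso A).hom ≫ φ := by
  have e2 := Scheme.Hom.appLE_comp_appLE (Spec.map φ) l W ⊤ ⊤ hl le_top
  rw [← Scheme.ΓSpecIso_naturality, ← Category.assoc]
  congr 1

/-- functions pulled back along `Spec.map φ ≫ hU.fromSpec`. -/
theorem SpecMap_fromSpec_appLE {U : X.Opens} (hU : IsAffineOpen U) {B : CommRingCat.{u}}
    (φ : Γ(X, U) ⟶ B)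
    (h : (⊤ : (Spec B).Opens) ≤ (Spec.map φ ≫ hU.fromSpec) ⁻¹ᵁ U) :
    (Spec.map φ ≫ hU.fromSpec).appLE U ⊤ h ≫ (Scheme.ΓSpecIso B).hom = φ := by
  have h1 := SpecMap_appLE_fromSpec_eq B (Spec.map φ ≫ hU.fromSpec) hU h
  rw [cancel_mono] at h1
  exact Spec.map_injective h1

theorem top_le_preimage_SpecMap_fromSpec {U : X.Opens} (hU : IsAffineOpen U) {B : CommRingCat.{u}}
    (φ : Γ(X, U) ⟶ B) : (⊤ : (Spec B).Opens) ≤ (Spec.map φ ≫ hU.fromSpec) ⁻¹ᵁ U := by
  intro z _
  change hU.fromSpec (Spec.map φ z) ∈ U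
  have : hU.fromSpec (Spec.map φ z) ∈ Set.range hU.fromSpec := ⟨_, rfl⟩
  rwa [hU.range_fromSpec] at this

end Basic

section Nonunit

/-- a non-integral element of the fraction field of a valuation ring has an inverse which is a
non-unit of the valuation ring. -/
theorem exists_nonunit_mul_eq_one {R K : Type u} [CommRing R] [IsDomain R] [ValuationRing R]
    [Field K] [Algebra R K] [IsFractionRing R K] (x : K) (hx : x ∉ (algebraMap R K).range) :
    ∃ γ : R, ¬ IsUnit γ ∧ algebraMap R K γ * x = 1 := by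
  rcases ValuationRing.isInteger_or_isInteger R x with h | h
  · exact absurd h hx
  · obtain ⟨γ, hγ⟩ := h
    have hx0 : x ≠ 0 := by
      rintro rfl
      exact hx ⟨0, map_zero _⟩
    refine ⟨γ, ?_, ?_⟩
    · intro hu
      apply hx
      obtain ⟨u, rfl⟩ := hu
      refine ⟨((u⁻¹ : Rˣ) : R), ?_⟩
      have h1 : algebraMap R K ((u⁻¹ : Rˣ) : R) * algebraMap R K (u : R) = 1 := by
        rw [← map_mul, Units.inv_mul, map_one]
      have hγ' : algebraMap R K (u : R) = x⁻¹ := hγ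
      rw [hγ'] at h1
      field_simp at h1
      exact h1
    · have hγ' : algebraMap R K γ = x⁻¹ := hγ
      rw [hγ', inv_mul_cancel₀ hx0]

end Nonunit

section Lift

variable {X Y : Scheme.{u}} (f : X ⟶ Y)
  {R K : Type u} [CommRing R] [IsDomain R] [ValuationRing R] [Field K] [Algebra R K]
  [IsFractionRing R K]
  (i₁ : Spec (.of K) ⟶ X) (i₂ : Spec (.of R) ⟶ Y)
  (w : i₁ ≫ f = Spec.map (CommRingCat.ofHom (algebraMap R K)) ≫ i₂)

include w in
/-- if the coordinates of the `K`-point in some affine chart are all integral, there is a lift. -/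
theorem exists_lift_of_range_le {V : Y.Opens} (hV : IsAffineOpen V)
    (hV' : (⊤ : (Spec (.of R)).Opens) ≤ i₂ ⁻¹ᵁ V)
    {U : X.Opens} (hU : IsAffineOpen U) (hUV : U ≤ f ⁻¹ᵁ V)
    (hU' : (⊤ : (Spec (.of K)).Opens) ≤ i₁ ⁻¹ᵁ U)
    (hφ : ∀ b : Γ(X, U), (i₁.appLE U ⊤ hU' ≫ (Scheme.ΓSpecIso (.of K)).hom) b ∈
      (algebraMap R K).range) :
    ∃ l : Spec (.of R) ⟶ X, Spec.map (CommRingCat.ofHom (algebraMap R K)) ≫ l = i₁ ∧
      l ≫ f = i₂ := by
  set φ : Γ(X, U) ⟶ .of K := i₁.appLE U ⊤ hU' ≫ (Scheme.ΓSpecIso (.of K)).hom with hφdef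
  set ρ : Γ(Y, V) ⟶ .of R := i₂.appLE V ⊤ hV' ≫ (Scheme.ΓSpecIso (.of R)).hom with hρdef
  have hinj : Function.Injective (algebraMap R K) := IsFractionRing.injective R K
  choose ψf hψf using hφ
  let ψ' : Γ(X, U) →+* R :=
    { toFun := ψf
      map_one' := hinj (by rw [hψf, map_one, map_one])
      map_mul' := fun a b => hinj (by rw [hψf, map_mul, map_mul, hψf, hψf])
      map_zero' := hinj (by rw [hψf, map_zero, map_zero])
      map_add' := fun a b => hinj (by rw [hψf, map_add, map_add, hψf, hψf]) }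
  have hψ' : CommRingCat.ofHom ψ' ≫ CommRingCat.ofHom (algebraMap R K) = φ := by
    ext b
    exact hψf b
  -- compatibility with `ρ`
  have hcomp : f.appLE V U hUV ≫ φ = ρ ≫ CommRingCat.ofHom (algebraMap R K) := by
    have e1 := Scheme.Hom.appLE_comp_appLE i₁ f V U ⊤ hUV hU'
    have e2 := Scheme.Hom.appLE_comp_appLE (Spec.map (CommRingCat.ofHom (algebraMap R K))) i₂ V ⊤ ⊤
      hV' le_top
    rw [hφdef, hρdef, ← Category.assoc, e1, Category.assoc, ← Scheme.ΓSpecIso_naturality,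
      ← Category.assoc]
    congr 1
    rw [appLE_congr w]
    exact e2.symm
  have hρ : f.appLE V U hUV ≫ CommRingCat.ofHom ψ' = ρ := by
    ext b
    apply hinj
    have := congrArg (fun g => g.hom b) hcomp
    simp only [CommRingCat.hom_comp, RingHom.coe_comp, Function.comp_apply,
      CommRingCat.hom_ofHom] at this ⊢
    rw [← this]
    exact hψf _
  refine ⟨Spec.map (CommRingCat.ofHom ψ') ≫ hU.fromSpec, ?_, ?_⟩
  · rw [← Category.assoc, ← Spec.map_comp, hψ']
    exact SpecMap_appLE_fromSpec_eq _ i₁ hU hU'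
  · rw [Category.assoc, ← IsAffineOpen.SpecMap_appLE_fromSpec f hV hU hUV, ← Category.assoc,
      ← Spec.map_comp, hρ]
    exact SpecMap_appLE_fromSpec_eq _ i₂ hV hV'

include w in
/-- the key argument: closedness of one polynomial base change gives the lift. -/
theorem exists_lift_of_isClosedMap [QuasiCompact f]
    (H : ∀ (V : Y.Opens) (hV : IsAffineOpen V) (n : ℕ),
      IsClosedMap (pullback.snd f (Spec.map (CommRingCat.ofHom
        (MvPolynomial.C : Γ(Y, V) →+* MvPolynomial (Fin n) Γ(Y, V))) ≫ hV.fromSpec))) :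
    ∃ l : Spec (.of R) ⟶ X, Spec.map (CommRingCat.ofHom (algebraMap R K)) ≫ l = i₁ ∧
      l ≫ f = i₂ := by
  classical
  -- an affine neighbourhood of the image of the closed point
  obtain ⟨V, hV, hsV⟩ : ∃ V : Y.Opens, IsAffineOpen V ∧ i₂ (IsLocalRing.closedPoint R) ∈ V := by
    obtain ⟨_, ⟨V, hV, rfl⟩, hxV, -⟩ := Y.isBasis_affineOpens.exists_subset_of_mem_open
      (Set.mem_univ (i₂ (IsLocalRing.closedPoint R))) isOpen_univ
    exact ⟨V, hV, hxV⟩
  have hV' : (⊤ : (Spec (.of R)).Opens) ≤ i₂ ⁻¹ᵁ V := by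
    have h1 : IsLocalRing.closedPoint R ∈ i₂ ⁻¹ᵁ V := hsV
    exact ((IsLocalRing.closedPoint_mem_iff (i₂ ⁻¹ᵁ V)).mp h1).ge
  -- finite affine cover of the preimage
  have hqc : IsCompact ((f ⁻¹ᵁ V : X.Opens) : Set X) := f.isCompact_preimage hV.isCompact
  obtain ⟨s, hsfin, hs⟩ := isCompact_and_isOpen_iff_finite_and_eq_biUnion_affineOpens.mp
    ⟨hqc, (f ⁻¹ᵁ V).isOpen⟩
  have := hsfin.to_subtype
  obtain ⟨n, ⟨e⟩⟩ := Finite.exists_equiv_fin s
  set Uc : Fin n → X.Opens := fun k => ((e.symm k : s) : X.affineOpens).1 with hUc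
  have hUa : ∀ k, IsAffineOpen (Uc k) := fun k => ((e.symm k : s) : X.affineOpens).2
  have hUV : ∀ k, Uc k ≤ f ⁻¹ᵁ V := by
    intro k x hx
    change x ∈ ((f ⁻¹ᵁ V : X.Opens) : Set X)
    rw [hs]
    exact Set.mem_biUnion (e.symm k).2 hx
  have hcov : ∀ x : X, f x ∈ V → ∃ k, x ∈ Uc k := by
    intro x hx
    have hx' : x ∈ ((f ⁻¹ᵁ V : X.Opens) : Set X) := hx
    rw [hs] at hx'
    obtain ⟨U, hUs, hxU⟩ := Set.mem_iUnion₂.mp hx'
    refine ⟨e ⟨U, hUs⟩, ?_⟩
    simp only [hUc, Equiv.symm_apply_apply]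
    exact hxU
  by_contra hno
  -- choice of non-integral coordinates
  have hex : ∀ k, ∃ (b : Γ(X, Uc k)) (γ : R), ¬ IsUnit γ ∧
      ∀ hk : (⊤ : (Spec (.of K)).Opens) ≤ i₁ ⁻¹ᵁ (Uc k),
        algebraMap R K γ * (i₁.appLE (Uc k) ⊤ hk ≫ (Scheme.ΓSpecIso (.of K)).hom) b = 1 := by
    intro k
    by_cases hk : (⊤ : (Spec (.of K)).Opens) ≤ i₁ ⁻¹ᵁ (Uc k)
    · have h1 : ∃ b : Γ(X, Uc k), (i₁.appLE (Uc k) ⊤ hk ≫ (Scheme.ΓSpecIso (.of K)).hom) b ∉
          (algebraMap R K).range := by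
        by_contra hcon
        push Not at hcon
        exact hno (exists_lift_of_range_le f i₁ i₂ w hV hV' (hUa k) (hUV k) hk hcon)
      obtain ⟨b, hb⟩ := h1
      obtain ⟨γ, hγ1, hγ2⟩ := exists_nonunit_mul_eq_one _ hb
      exact ⟨b, γ, hγ1, fun _ => hγ2⟩
    · exact ⟨0, 0, not_isUnit_zero, fun hk' => absurd hk' hk⟩
  choose b γ hγu hγ using hex
  -- the polynomial base change
  set A : CommRingCat.{u} := Γ(Y, V) with hA
  set ρ : A ⟶ .of R := i₂.appLE V ⊤ hV' ≫ (Scheme.ΓSpecIso (.of R)).hom with hρdef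
  set θ : MvPolynomial (Fin n) A →+* R := MvPolynomial.eval₂Hom ρ.hom γ with hθ
  have hθC : CommRingCat.ofHom (MvPolynomial.C : A →+* MvPolynomial (Fin n) A) ≫
      CommRingCat.ofHom θ = ρ := by
    ext a
    simp [hθ]
  set g : Spec (.of (MvPolynomial (Fin n) A)) ⟶ Y :=
    Spec.map (CommRingCat.ofHom (MvPolynomial.C : A →+* MvPolynomial (Fin n) A)) ≫ hV.fromSpec
    with hg
  set j₂ : Spec (.of R) ⟶ Spec (.of (MvPolynomial (Fin n) A)) :=
    Spec.map (CommRingCat.ofHom θ) with hj₂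
  have hj₂g : j₂ ≫ g = i₂ := by
    rw [hg, hj₂, ← Category.assoc, ← Spec.map_comp, hθC]
    exact SpecMap_appLE_fromSpec_eq _ i₂ hV hV'
  have hw' : i₁ ≫ f = (Spec.map (CommRingCat.ofHom (algebraMap R K)) ≫ j₂) ≫ g := by
    rw [Category.assoc, hj₂g, w]
  set j : Spec (.of K) ⟶ pullback f g :=
    pullback.lift i₁ (Spec.map (CommRingCat.ofHom (algebraMap R K)) ≫ j₂) hw' with hj
  have hj1 : j ≫ pullback.fst f g = i₁ := pullback.lift_fst _ _ _
  have hj2 : j ≫ pullback.snd f g = Spec.map (CommRingCat.ofHom (algebraMap R K)) ≫ j₂ :=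
    pullback.lift_snd _ _ _
  -- the specialization
  set ξ : ↥(pullback f g) := j default with hξ
  have hspec : (pullback.snd f g) ξ ⤳ j₂ (IsLocalRing.closedPoint R) := by
    have h1 : (pullback.snd f g) ξ =
        j₂ (Spec.map (CommRingCat.ofHom (algebraMap R K)) default) := by
      rw [hξ, ← Scheme.Hom.comp_apply, hj2, Scheme.Hom.comp_apply]
    rw [h1]
    exact (IsLocalRing.specializes_closedPoint _).map j₂.continuous
  obtain ⟨xP, hxP1', hxP2⟩ := (H V hV n).specializingMap hspec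
  have hxP1 : ξ ⤳ xP := hxP1'
  have hfx : f ((pullback.fst f g) xP) ∈ V := by
    have h1 : f ((pullback.fst f g) xP) = g ((pullback.snd f g) xP) := by
      rw [← Scheme.Hom.comp_apply, pullback.condition, Scheme.Hom.comp_apply]
    have h2 : g (j₂ (IsLocalRing.closedPoint R)) = i₂ (IsLocalRing.closedPoint R) := by
      rw [← hj₂g]
      rfl
    rw [h1, hxP2, h2]
    exact hsV
  obtain ⟨k, hk⟩ := hcov _ hfx
  set W : (pullback f g).Opens := (pullback.fst f g) ⁻¹ᵁ (Uc k) with hW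
  have hxW : xP ∈ W := hk
  have hξW : ξ ∈ W := hxP1.mem_open W.isOpen hxW
  have hjW : (⊤ : (Spec (.of K)).Opens) ≤ j ⁻¹ᵁ W := by
    intro z _
    rw [Subsingleton.elim z default]
    exact hξW
  have hk' : (⊤ : (Spec (.of K)).Opens) ≤ i₁ ⁻¹ᵁ (Uc k) := by
    intro z _
    rw [Subsingleton.elim z default]
    change i₁ default ∈ Uc k
    rw [← hj1, Scheme.Hom.comp_apply]
    exact hξW
  -- the function
  set t : Γ(Spec (.of (MvPolynomial (Fin n) A)), ⊤) :=
    (Scheme.ΓSpecIso (.of (MvPolynomial (Fin n) A))).inv (MvPolynomial.X k) with ht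
  set u : Γ(pullback f g, W) :=
    (pullback.fst f g).app (Uc k) (b k) * (pullback.snd f g).appLE ⊤ W le_top t with hu
  have hxu : xP ∈ (pullback f g).basicOpen (u - 1) := by
    apply mem_basicOpen_sub_one u xP hxW
    intro hcon
    rw [hu, Scheme.basicOpen_mul] at hcon
    have h2 := hcon.2
    have h2' := Scheme.basicOpen_appLE (pullback.snd f g) W ⊤ le_top t
    have h2'' : xP ∈ W ⊓ (pullback.snd f g) ⁻¹ᵁ
        ((Spec (.of (MvPolynomial (Fin n) A))).basicOpen t) := h2' ▸ h2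
    have h3 : (pullback.snd f g) xP ∈ (Spec (.of (MvPolynomial (Fin n) A))).basicOpen t := h2''.2
    rw [hxP2, ht, basicOpen_eq_of_affine] at h3
    apply hγu k
    have h4 : θ (MvPolynomial.X k) ∉ IsLocalRing.maximalIdeal R := h3
    rw [hθ, MvPolynomial.coe_eval₂Hom, MvPolynomial.eval₂_X] at h4
    exact (IsLocalRing.notMem_maximalIdeal).mp h4
  have hξu : ξ ∉ (pullback f g).basicOpen (u - 1) := by
    intro hcon
    have h1 : (default : Spec (.of K)) ∈ (Spec (.of K)).basicOpen (j.appLE W ⊤ hjW (u - 1)) := by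
      have h1' := Scheme.basicOpen_appLE j ⊤ W hjW (u - 1)
      rw [h1']
      exact ⟨trivial, hcon⟩
    suffices h0 : j.appLE W ⊤ hjW (u - 1) = 0 by
      rw [h0, Scheme.basicOpen_zero] at h1
      exact h1
    apply (ConcreteCategory.bijective_of_isIso (Scheme.ΓSpecIso (.of K)).hom).1
    have e1 : (Scheme.ΓSpecIso (.of K)).hom (j.appLE W ⊤ hjW
        ((pullback.fst f g).app (Uc k) (b k))) =
        (i₁.appLE (Uc k) ⊤ hk' ≫ (Scheme.ΓSpecIso (.of K)).hom) (b k) := by
      have hle : (⊤ : (Spec (.of K)).Opens) ≤ (j ≫ pullback.fst f g) ⁻¹ᵁ (Uc k) := hjW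
      have h := Scheme.Hom.comp_appLE j (pullback.fst f g) (Uc k) ⊤ hle
      have h' := appLE_congr hj1 (Uc k) ⊤ hle
      have h'' : i₁.appLE (Uc k) ⊤ hk' = (pullback.fst f g).app (Uc k) ≫ j.appLE W ⊤ hjW := by
        rw [← h, h']
      rw [h'']
      rfl
    have e2 : (Scheme.ΓSpecIso (.of K)).hom (j.appLE W ⊤ hjW
        ((pullback.snd f g).appLE ⊤ W le_top t)) = algebraMap R K (γ k) := by
      have hle : (⊤ : (Spec (.of K)).Opens) ≤ (j ≫ pullback.snd f g) ⁻¹ᵁ ⊤ := le_top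
      have h := Scheme.Hom.appLE_comp_appLE j (pullback.snd f g) ⊤ W ⊤ le_top hjW
      have hcomp : Spec.map (CommRingCat.ofHom (algebraMap R K)) ≫ j₂ =
          Spec.map (CommRingCat.ofHom θ ≫ CommRingCat.ofHom (algebraMap R K)) := by
        rw [hj₂, Spec.map_comp]
      have h' := appLE_congr (hj2.trans hcomp) ⊤ ⊤ hle
      have nat := Scheme.ΓSpecIso_naturality
        (CommRingCat.ofHom θ ≫ CommRingCat.ofHom (algebraMap R K))
      have key : (pullback.snd f g).appLE ⊤ W le_top ≫ j.appLE W ⊤ hjW ≫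
          (Scheme.ΓSpecIso (.of K)).hom =
          (Scheme.ΓSpecIso (.of (MvPolynomial (Fin n) A))).hom ≫
            (CommRingCat.ofHom θ ≫ CommRingCat.ofHom (algebraMap R K)) := by
        rw [← Category.assoc, h, h', ← nat]
        rfl
      have key' := congrArg (fun m => m.hom t) key
      simp only [CommRingCat.hom_comp, RingHom.coe_comp, Function.comp_apply,
        CommRingCat.hom_ofHom] at key'
      rw [key', ht]
      have h5 : (Scheme.ΓSpecIso (.of (MvPolynomial (Fin n) A))).hom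
          ((Scheme.ΓSpecIso (.of (MvPolynomial (Fin n) A))).inv (MvPolynomial.X k)) =
          MvPolynomial.X k := Iso.inv_hom_id_apply _ _
      erw [h5]
      rw [hθ, MvPolynomial.coe_eval₂Hom, MvPolynomial.eval₂_X]
    rw [map_zero, map_sub, map_one, hu, map_mul, map_sub, map_one, map_mul, e1, e2, mul_comm,
      hγ k hk', sub_self]
  exact hξu (hxP1.mem_open ((pullback f g).basicOpen (u - 1)).isOpen hxu)

end Lift


section Main

variable {X Y : Scheme.{u}} (f : X ⟶ Y)

/-- if `f` is quasi-compact and its base changes along the affine spaces over the affine opens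
of the target are closed maps, then `f` satisfies the existence part of the valuative criterion. -/
theorem existence_of_isClosedMap [QuasiCompact f]
    (H : ∀ (V : Y.Opens) (hV : IsAffineOpen V) (n : ℕ),
      IsClosedMap (pullback.snd f (Spec.map (CommRingCat.ofHom
        (MvPolynomial.C : Γ(Y, V) →+* MvPolynomial (Fin n) Γ(Y, V))) ≫ hV.fromSpec))) :
    ValuativeCriterion.Existence f := by
  intro S
  obtain ⟨l, h1, h2⟩ := exists_lift_of_isClosedMap f S.i₁ S.i₂ S.commSq.w H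
  exact ⟨⟨⟨l, h1, h2⟩⟩⟩

/-- if `f` is quasi-compact and its base changes along the affine spaces over the affine opens
of the target are closed maps, then `f` is universally closed. -/
theorem universallyClosed_of_isClosedMap [QuasiCompact f]
    (H : ∀ (V : Y.Opens) (hV : IsAffineOpen V) (n : ℕ),
      IsClosedMap (pullback.snd f (Spec.map (CommRingCat.ofHom
        (MvPolynomial.C : Γ(Y, V) →+* MvPolynomial (Fin n) Γ(Y, V))) ≫ hV.fromSpec))) :
    UniversallyClosed f :=
  UniversallyClosed.of_valuativeCriterion f (existence_of_isClosedMap f H)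

end Main

end Groth.Agent.Helper19.ValClosed
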