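import Mathlib
import Groth.Prelude.Def_AnPts
import Groth.Agent.Lib.Helper19.AnSeparated
import Groth.Agent.Lib.Helper19.AnSurj
import Groth.Agent.Lib.Helper19.ValuativeClosed

/-!
# Properness and ℂ-points (helper19)

Namespace `Groth.Agent.Helper19.AnPts`.
-/

set_option autoImplicit false

open AlgebraicGeometry CategoryTheory TopologicalSpace Opposite Topology Limits

namespace Groth.Agent.Helper19.AnPts

open An

section ClosedMap

variable {X Y : Scheme.{0}} [X.Over SC] [Y.Over SC] (f : X ⟶ Y) [f.IsOver SC]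

/-- ℂ-points of the image of a closed set: a refinement of `exists_map_eq_of_mem_range`. -/
theorem exists_map_eq_of_mem_image [LocallyOfFiniteType (X ↘ SC)] {T : Set X} (hT : IsClosed T)
    (y : Pts Y) (hy : y.pt ∈ f '' T) : ∃ x : Pts X, x.pt ∈ T ∧ Pts.map f x = y := by
  obtain ⟨p, hpT, hp⟩ := hy
  letI inst : SC.Over SC := ⟨𝟙 SC⟩
  haveI : y.1.IsOver SC := ⟨y.2⟩
  obtain ⟨z, hz1, -⟩ := Scheme.Pullback.exists_preimage_pullback (f := f) (g := y.1) p cpt hp
  haveI : LocallyOfFiniteType (SC ↘ SC) := by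
    change LocallyOfFiniteType (𝟙 SC)
    infer_instance
  haveI hF : LocallyOfFiniteType (pullback y.1 f ↘ SC) := locallyOfFiniteType_pullback y.1 f
  -- the closed subset of the fibre
  set T' : Set ↥(pullback y.1 f) := (pullback.snd y.1 f) ⁻¹' T with hT'
  have hT'c : IsClosed T' := hT.preimage (pullback.snd y.1 f).continuous
  have hne : T'.Nonempty := by
    refine ⟨(pullbackSymmetry f y.1).hom z, ?_⟩
    change (pullback.snd y.1 f) ((pullbackSymmetry f y.1).hom z) ∈ T
    rw [← Scheme.Hom.comp_apply, pullbackSymmetry_hom_comp_snd, hz1]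
    exact hpT
  obtain ⟨q, hqT, hqc⟩ := exists_isClosed_singleton_mem_of_isLocallyConstructible
    (isLocallyConstructible_of_isClosed hT'c) hne
  obtain ⟨w, hw⟩ := exists_pt_eq_of_isClosed q hqc
  refine ⟨Pts.map (pullback.snd y.1 f) w, ?_, ?_⟩
  · rw [Pts.pt_map, hw]
    exact hqT
  · apply Subtype.ext
    have h1 : w.1 ≫ pullback.fst y.1 f = 𝟙 SC := by
      have := w.2
      change w.1 ≫ (pullback.fst y.1 f ≫ 𝟙 SC) = 𝟙 SC at this
      rwa [Category.comp_id] at this
    simp only [Pts.map_val, Category.assoc]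
    rw [← pullback.condition, ← Category.assoc, h1, Category.id_comp]

/-- if the map on ℂ-points is closed then so is the morphism. -/
theorem isClosedMap_of_isClosedMap_map [LocallyOfFiniteType (X ↘ SC)]
    [LocallyOfFiniteType (Y ↘ SC)] [QuasiCompact f] (h : IsClosedMap (Pts.map f)) :
    IsClosedMap f := by
  intro T hT
  haveI := locallyOfFiniteType_of_over f
  have hlc : IsLocallyConstructible (f '' T) :=
    f.isLocallyConstructible_image (isLocallyConstructible_of_isClosed hT)
  rw [isClosed_iff_isClosed_preimage_pt hlc]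
  have heq : (Pts.pt ⁻¹' (f '' T) : Set (Pts Y)) = Pts.map f '' (Pts.pt ⁻¹' T) := by
    ext y
    constructor
    · intro hy
      obtain ⟨x, hx, rfl⟩ := exists_map_eq_of_mem_image f hT y hy
      exact ⟨x, hx, rfl⟩
    · rintro ⟨x, hx, rfl⟩
      change (Pts.map f x).pt ∈ f '' T
      rw [Pts.pt_map]
      exact ⟨x.pt, hx, rfl⟩
  rw [heq]
  exact h _ (hT.preimage Pts.continuous_pt)

end ClosedMap

section BaseChange

variable {X Y Z : Scheme.{0}} [X.Over SC] [Y.Over SC] [Z.Over SC] (f : X ⟶ Y) (g : Z ⟶ Y)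
  [f.IsOver SC] [g.IsOver SC]

open Filter in
/-- proper maps on ℂ-points are stable under base change. -/
theorem isProperMap_map_snd (h : IsProperMap (Pts.map f)) :
    IsProperMap (Pts.map (pullback.snd f g)) := by
  rw [isProperMap_iff_ultrafilter]
  refine ⟨Pts.continuous_map _, fun 𝒰 z₀ h𝒰 => ?_⟩
  have h1 : Tendsto (Pts.map f) (𝒰.map (Pts.map (pullback.fst f g))) (𝓝 (Pts.map g z₀)) := by
    change Tendsto (Pts.map f ∘ Pts.map (pullback.fst f g)) 𝒰 (𝓝 (Pts.map g z₀))
    have h2 : Pts.map f ∘ Pts.map (pullback.fst f g) = Pts.map g ∘ Pts.map (pullback.snd f g) :=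
      funext fun z => Pts.map_pullback_condition f g z
    rw [h2]
    exact ((Pts.continuous_map g).tendsto z₀).comp h𝒰
  obtain ⟨x₀, hx₀, hle⟩ := h.ultrafilter_le_nhds_of_tendsto h1
  refine ⟨pullbackPt f g x₀ z₀ hx₀, map_snd_pullbackPt _ _ _ _ _, ?_⟩
  rw [(isEmbedding_prodMap f g).isInducing.nhds_eq_comap, ← Filter.map_le_iff_le_comap]
  have h3 : prodMap f g (pullbackPt f g x₀ z₀ hx₀) = (x₀, z₀) :=
    Prod.ext (map_fst_pullbackPt _ _ _ _ _) (map_snd_pullbackPt _ _ _ _ _)
  rw [h3, nhds_prod_eq]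
  change Tendsto (fun z => (Pts.map (pullback.fst f g) z, Pts.map (pullback.snd f g) z)) 𝒰 _
  exact Tendsto.prodMk hle h𝒰

end BaseChange

section UnivClosed

variable {X Y : Scheme.{0}} [X.Over SC] [Y.Over SC] (f : X ⟶ Y) [f.IsOver SC]

/-- if the map on ℂ-points is proper (and `f` is quasi-compact) then `f` is universally
closed. -/
theorem universallyClosed_of_isProperMap_map [LocallyOfFiniteType (X ↘ SC)]
    [LocallyOfFiniteType (Y ↘ SC)] [QuasiCompact f] (h : IsProperMap (Pts.map f)) :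
    UniversallyClosed f := by
  apply ValClosed.universallyClosed_of_isClosedMap f
  intro V hV n
  set g : Spec (.of (MvPolynomial (Fin n) Γ(Y, V))) ⟶ Y :=
    Spec.map (CommRingCat.ofHom
      (MvPolynomial.C : Γ(Y, V) →+* MvPolynomial (Fin n) Γ(Y, V))) ≫ hV.fromSpec with hg
  letI instZ : (Spec (.of (MvPolynomial (Fin n) Γ(Y, V)))).Over SC := ⟨g ≫ (Y ↘ SC)⟩
  haveI : g.IsOver SC := ⟨rfl⟩
  haveI hlft1 : LocallyOfFiniteType (Spec.map (CommRingCat.ofHom
      (MvPolynomial.C : Γ(Y, V) →+* MvPolynomial (Fin n) Γ(Y, V)))) := by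
    rw [HasRingHomProperty.Spec_iff (P := @LocallyOfFiniteType)]
    change RingHom.FiniteType (algebraMap Γ(Y, V) (MvPolynomial (Fin n) Γ(Y, V)))
    rw [RingHom.finiteType_algebraMap]
    infer_instance
  haveI : LocallyOfFiniteType g := by
    rw [hg]
    infer_instance
  haveI : LocallyOfFiniteType (Spec (.of (MvPolynomial (Fin n) Γ(Y, V))) ↘ SC) := by
    change LocallyOfFiniteType (g ≫ (Y ↘ SC))
    infer_instance
  haveI := locallyOfFiniteType_pullback f g
  exact isClosedMap_of_isClosedMap_map (pullback.snd f g) (isProperMap_map_snd f g h).isClosedMap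

end UnivClosed

end Groth.Agent.Helper19.AnPts
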