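import Mathlib

/-!
# The valuation ring of bounded elements of an ultrapower of ℂ (helper19)

Pure Mathlib. Namespace `Groth.Agent.Helper19.UltraVal`.

For an ultrafilter `𝒰` on a type `I`, the ultrapower `K = Germ 𝒰 ℂ` is a field, the bounded germs
form a valuation subring `bdd 𝒰`, and the ultralimit is a ring homomorphism `st : bdd 𝒰 →+* ℂ`.
-/

set_option autoImplicit false

open Filter Topology

namespace Groth.Agent.Helper19.UltraVal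

variable {I : Type} (𝒰 : Ultrafilter I)

/-- the ultrapower of `ℂ`. -/
abbrev K : Type := Germ (𝒰 : Filter I) ℂ

/-- bounded germs. -/
def IsBdd (x : K 𝒰) : Prop :=
  ∃ (φ : I → ℂ) (C : ℝ), ((φ : I → ℂ) : K 𝒰) = x ∧ ∀ᶠ i in (𝒰 : Filter I), ‖φ i‖ ≤ C

variable {𝒰}

theorem isBdd_coe_iff (φ : I → ℂ) :
    IsBdd 𝒰 ((φ : I → ℂ) : K 𝒰) ↔ ∃ C : ℝ, ∀ᶠ i in (𝒰 : Filter I), ‖φ i‖ ≤ C := by
  constructor
  · rintro ⟨ψ, C, hψ, hC⟩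
    refine ⟨C, ?_⟩
    have h1 : ψ =ᶠ[(𝒰 : Filter I)] φ := Germ.coe_eq.mp hψ
    filter_upwards [h1, hC] with i hi hCi
    rw [← hi]
    exact hCi
  · rintro ⟨C, hC⟩
    exact ⟨φ, C, rfl, hC⟩

theorem isBdd_of_tendsto (φ : I → ℂ) (c : ℂ) (h : Tendsto φ 𝒰 (𝓝 c)) :
    IsBdd 𝒰 ((φ : I → ℂ) : K 𝒰) := by
  rw [isBdd_coe_iff]
  refine ⟨‖c‖ + 1, ?_⟩
  have h1 : ∀ᶠ i in (𝒰 : Filter I), φ i ∈ Metric.ball c 1 := h (Metric.ball_mem_nhds c one_pos)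
  filter_upwards [h1] with i hi
  have h2 : ‖φ i - c‖ < 1 := by
    rw [← dist_eq_norm]
    exact hi
  have h3 : ‖φ i‖ ≤ ‖φ i - c‖ + ‖c‖ := by
    have := norm_add_le (φ i - c) c
    rwa [sub_add_cancel] at this
  linarith

theorem exists_tendsto_of_isBdd (φ : I → ℂ) (h : IsBdd 𝒰 ((φ : I → ℂ) : K 𝒰)) :
    ∃ c : ℂ, Tendsto φ 𝒰 (𝓝 c) := by
  rw [isBdd_coe_iff] at h
  obtain ⟨C, hC⟩ := h
  have hcomp : IsCompact (Metric.closedBall (0 : ℂ) C) := isCompact_closedBall 0 C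
  have hle : ((𝒰.map φ : Ultrafilter ℂ) : Filter ℂ) ≤ 𝓟 (Metric.closedBall (0 : ℂ) C) := by
    rw [le_principal_iff]
    change ∀ᶠ i in (𝒰 : Filter I), φ i ∈ Metric.closedBall (0 : ℂ) C
    filter_upwards [hC] with i hi
    rw [mem_closedBall_zero_iff]
    exact hi
  obtain ⟨c, -, hc⟩ := hcomp.ultrafilter_le_nhds (𝒰.map φ) hle
  exact ⟨c, hc⟩

variable (𝒰)

/-- the valuation subring of bounded germs. -/
def bdd : ValuationSubring (K 𝒰) where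
  carrier := {x | IsBdd 𝒰 x}
  mul_mem' := by
    rintro _ _ ⟨φ, C, rfl, hC⟩ ⟨ψ, D, rfl, hD⟩
    refine ⟨φ * ψ, |C| * |D|, rfl, ?_⟩
    filter_upwards [hC, hD] with i hi hi'
    rw [Pi.mul_apply, norm_mul]
    exact mul_le_mul (hi.trans (le_abs_self C)) (hi'.trans (le_abs_self D)) (norm_nonneg _)
      (abs_nonneg _)
  one_mem' := ⟨1, 1, rfl, Eventually.of_forall fun i => by simp⟩
  add_mem' := by
    rintro _ _ ⟨φ, C, rfl, hC⟩ ⟨ψ, D, rfl, hD⟩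
    refine ⟨φ + ψ, C + D, rfl, ?_⟩
    filter_upwards [hC, hD] with i hi hi'
    rw [Pi.add_apply]
    exact (norm_add_le _ _).trans (add_le_add hi hi')
  zero_mem' := ⟨0, 0, rfl, Eventually.of_forall fun i => by simp⟩
  neg_mem' := by
    rintro _ ⟨φ, C, rfl, hC⟩
    refine ⟨-φ, C, rfl, ?_⟩
    filter_upwards [hC] with i hi
    rw [Pi.neg_apply, norm_neg]
    exact hi
  mem_or_inv_mem' := by
    intro x
    induction x using Germ.inductionOn with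
    | _ φ =>
      by_cases h : ∀ᶠ i in (𝒰 : Filter I), ‖φ i‖ ≤ 1
      · exact Or.inl ⟨φ, 1, rfl, h⟩
      · right
        have h' : ∀ᶠ i in (𝒰 : Filter I), ¬ ‖φ i‖ ≤ 1 := Ultrafilter.eventually_not.mpr h
        refine ⟨φ⁻¹, 1, rfl, ?_⟩
        filter_upwards [h'] with i hi
        rw [Pi.inv_apply, norm_inv]
        push Not at hi
        exact inv_le_one_of_one_le₀ hi.le

theorem mem_bdd_iff (x : K 𝒰) : x ∈ bdd 𝒰 ↔ IsBdd 𝒰 x := Iff.rfl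

theorem exists_st (r : bdd 𝒰) :
    ∃ c : ℂ, ∀ φ : I → ℂ, ((φ : I → ℂ) : K 𝒰) = (r : K 𝒰) → Tendsto φ 𝒰 (𝓝 c) := by
  obtain ⟨r, hr⟩ := r
  obtain ⟨φ₀, C, rfl, hC⟩ := hr
  obtain ⟨c, hc⟩ := exists_tendsto_of_isBdd φ₀ ⟨φ₀, C, rfl, hC⟩
  refine ⟨c, fun φ hφ => ?_⟩
  have h1 : φ =ᶠ[(𝒰 : Filter I)] φ₀ := Germ.coe_eq.mp hφ
  exact hc.congr' h1.symm

/-- the standard part (ultralimit) of a bounded germ. -/
noncomputable def stFun (r : bdd 𝒰) : ℂ := Classical.choose (exists_st 𝒰 r)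

theorem tendsto_stFun (r : bdd 𝒰) (φ : I → ℂ) (h : ((φ : I → ℂ) : K 𝒰) = (r : K 𝒰)) :
    Tendsto φ 𝒰 (𝓝 (stFun 𝒰 r)) :=
  Classical.choose_spec (exists_st 𝒰 r) φ h

theorem stFun_eq_of_tendsto (r : bdd 𝒰) (φ : I → ℂ) (h : ((φ : I → ℂ) : K 𝒰) = (r : K 𝒰))
    (c : ℂ) (hc : Tendsto φ 𝒰 (𝓝 c)) : stFun 𝒰 r = c :=
  tendsto_nhds_unique (tendsto_stFun 𝒰 r φ h) hc

theorem exists_rep (r : bdd 𝒰) : ∃ φ : I → ℂ, ((φ : I → ℂ) : K 𝒰) = (r : K 𝒰) := by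
  obtain ⟨r, φ, C, rfl, hC⟩ := r
  exact ⟨φ, rfl⟩

/-- the standard part as a ring homomorphism. -/
noncomputable def st : bdd 𝒰 →+* ℂ where
  toFun := stFun 𝒰
  map_one' := stFun_eq_of_tendsto 𝒰 1 1 rfl 1 tendsto_const_nhds
  map_zero' := stFun_eq_of_tendsto 𝒰 0 0 rfl 0 tendsto_const_nhds
  map_mul' := by
    intro r s
    obtain ⟨φ, hφ⟩ := exists_rep 𝒰 r
    obtain ⟨ψ, hψ⟩ := exists_rep 𝒰 s
    refine stFun_eq_of_tendsto 𝒰 (r * s) (φ * ψ) ?_ _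
      ((tendsto_stFun 𝒰 r φ hφ).mul (tendsto_stFun 𝒰 s ψ hψ))
    change ((φ : I → ℂ) : K 𝒰) * ((ψ : I → ℂ) : K 𝒰) = (r : K 𝒰) * (s : K 𝒰)
    rw [hφ, hψ]
  map_add' := by
    intro r s
    obtain ⟨φ, hφ⟩ := exists_rep 𝒰 r
    obtain ⟨ψ, hψ⟩ := exists_rep 𝒰 s
    refine stFun_eq_of_tendsto 𝒰 (r + s) (φ + ψ) ?_ _
      ((tendsto_stFun 𝒰 r φ hφ).add (tendsto_stFun 𝒰 s ψ hψ))
    change ((φ : I → ℂ) : K 𝒰) + ((ψ : I → ℂ) : K 𝒰) = (r : K 𝒰) + (s : K 𝒰)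
    rw [hφ, hψ]

theorem tendsto_st (r : bdd 𝒰) (φ : I → ℂ) (h : ((φ : I → ℂ) : K 𝒰) = (r : K 𝒰)) :
    Tendsto φ 𝒰 (𝓝 (st 𝒰 r)) := tendsto_stFun 𝒰 r φ h

theorem st_eq_of_tendsto (r : bdd 𝒰) (φ : I → ℂ) (h : ((φ : I → ℂ) : K 𝒰) = (r : K 𝒰))
    (c : ℂ) (hc : Tendsto φ 𝒰 (𝓝 c)) : st 𝒰 r = c := stFun_eq_of_tendsto 𝒰 r φ h c hc

theorem st_surjective : Function.Surjective (st 𝒰) := by
  intro c
  refine ⟨⟨((fun _ => c : I → ℂ) : K 𝒰), isBdd_of_tendsto _ c tendsto_const_nhds⟩, ?_⟩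
  exact st_eq_of_tendsto 𝒰 _ (fun _ => c) rfl c tendsto_const_nhds

/-- the kernel of `st` is the maximal ideal. -/
theorem ker_st : RingHom.ker (st 𝒰) = IsLocalRing.maximalIdeal (bdd 𝒰) := by
  have : (RingHom.ker (st 𝒰)).IsMaximal := RingHom.ker_isMaximal_of_surjective _ (st_surjective 𝒰)
  exact IsLocalRing.eq_maximalIdeal this

end Groth.Agent.Helper19.UltraVal
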