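import Mathlib
import Groth.Prelude.Def_AnPts
import Groth.Agent.Lib.Helper19.AnProper
import Groth.Agent.Lib.Helper19.UltraVal

/-!
# Proper morphisms induce proper maps on ℂ-points (helper19)

Namespace `Groth.Agent.Helper19.AnPts`.
-/

set_option autoImplicit false

open AlgebraicGeometry CategoryTheory TopologicalSpace Opposite Topology Limits Filter

namespace Groth.Agent.Helper19.AnPts

open An UltraVal

section EvFun

variable {X : Scheme.{0}} [X.Over SC]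

/-- the value of a section at a ℂ-point, extended by zero. -/
noncomputable def evFun (W : X.Opens) (a : Γ(X, W)) : Pts X → ℂ := by
  classical
  exact fun x => if h : x.pt ∈ W then x.ev W h a else 0

theorem evFun_of_mem (W : X.Opens) (a : Γ(X, W)) (x : Pts X) (h : x.pt ∈ W) :
    evFun W a x = x.ev W h a := by
  unfold evFun
  rw [dif_pos h]

/-- the evaluation is continuous on `W(ℂ)`. -/
theorem tendsto_evFun (W : X.Opens) (a : Γ(X, W)) (x₀ : Pts X) (h : x₀.pt ∈ W) :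
    Tendsto (evFun W a) (𝓝 x₀) (𝓝 (x₀.ev W h a)) := by
  intro V hV
  obtain ⟨V', hV'V, hV'o, hV'm⟩ := mem_nhds_iff.mp hV
  have h1 : Pts.basicSet W a V' ∈ 𝓝 x₀ :=
    (Pts.isOpen_basicSet W a hV'o).mem_nhds ⟨h, hV'm⟩
  rw [Filter.mem_map]
  refine Filter.mem_of_superset h1 ?_
  rintro x ⟨hx, hxV⟩
  change evFun W a x ∈ V
  rw [evFun_of_mem W a x hx]
  exact hV'V hxV

variable (𝒰 : Ultrafilter (Pts X))

/-- the `K`-valued point attached to an ultrafilter: germs of evaluations. -/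
noncomputable def germHom (W : X.Opens) (hW : Pts.pt ⁻¹' (W : Set X) ∈ (𝒰 : Filter (Pts X))) :
    Γ(X, W) →+* K 𝒰 where
  toFun a := ((evFun W a : Pts X → ℂ) : K 𝒰)
  map_one' := Germ.coe_eq.mpr (by
    filter_upwards [hW] with x hx
    rw [evFun_of_mem W _ x hx, ev_one])
  map_zero' := Germ.coe_eq.mpr (by
    filter_upwards [hW] with x hx
    rw [evFun_of_mem W _ x hx, ev_zero])
  map_mul' a b := Germ.coe_eq.mpr (by
    filter_upwards [hW] with x hx
    rw [evFun_of_mem W _ x hx, evFun_of_mem W _ x hx, evFun_of_mem W _ x hx, ev_mul])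
  map_add' a b := Germ.coe_eq.mpr (by
    filter_upwards [hW] with x hx
    rw [evFun_of_mem W _ x hx, evFun_of_mem W _ x hx, evFun_of_mem W _ x hx, ev_add])

theorem germHom_apply (W : X.Opens) (hW : Pts.pt ⁻¹' (W : Set X) ∈ (𝒰 : Filter (Pts X)))
    (a : Γ(X, W)) : germHom 𝒰 W hW a = ((evFun W a : Pts X → ℂ) : K 𝒰) := rfl

theorem germHom_res {W' W : X.Opens} (i : W' ⟶ W)
    (hW' : Pts.pt ⁻¹' (W' : Set X) ∈ (𝒰 : Filter (Pts X)))
    (hW : Pts.pt ⁻¹' (W : Set X) ∈ (𝒰 : Filter (Pts X))) (a : Γ(X, W)) :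
    germHom 𝒰 W' hW' (X.presheaf.map i.op a) = germHom 𝒰 W hW a := by
  rw [germHom_apply, germHom_apply]
  apply Germ.coe_eq.mpr
  filter_upwards [hW'] with x hx
  rw [evFun_of_mem W' _ x hx, evFun_of_mem W _ x (i.le hx), ev_res]

end EvFun

section ClaimC

variable {X : Scheme.{0}} [X.Over SC] (𝒰 : Ultrafilter (Pts X)) {U : X.Opens}
  (hU : IsAffineOpen U) (hU𝒰 : Pts.pt ⁻¹' (U : Set X) ∈ (𝒰 : Filter (Pts X)))

/-- the generic `K`-point attached to the ultrafilter. -/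
noncomputable def genPt : Spec (.of (K 𝒰)) ⟶ X :=
  Spec.map (CommRingCat.ofHom (germHom 𝒰 U hU𝒰)) ≫ hU.fromSpec

theorem top_le_preimage_genPt :
    (⊤ : (Spec (.of (K 𝒰))).Opens) ≤ (genPt 𝒰 hU hU𝒰) ⁻¹ᵁ U :=
  ValClosed.top_le_preimage_SpecMap_fromSpec hU _

theorem genPt_appLE_self :
    (genPt 𝒰 hU hU𝒰).appLE U ⊤ (top_le_preimage_genPt 𝒰 hU hU𝒰) ≫
      (Scheme.ΓSpecIso (.of (K 𝒰))).hom = CommRingCat.ofHom (germHom 𝒰 U hU𝒰) :=
  ValClosed.SpecMap_fromSpec_appLE hU _ _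

/-- a germ which is nonzero is eventually nonzero. -/
theorem eventually_ne_zero_of_germ_ne_zero (φ : Pts X → ℂ) (h : ((φ : Pts X → ℂ) : K 𝒰) ≠ 0) :
    ∀ᶠ x in (𝒰 : Filter (Pts X)), φ x ≠ 0 := by
  by_contra hcon
  have h1 : ∀ᶠ x in (𝒰 : Filter (Pts X)), ¬ φ x ≠ 0 := Ultrafilter.eventually_not.mpr hcon
  apply h
  apply Germ.coe_eq.mpr
  filter_upwards [h1] with x hx
  push Not at hx
  exact hx

/-- the functions on any open neighbourhood of the generic point are evaluated along the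
ultrafilter. -/
theorem genPt_appLE (W : X.Opens)
    (hW : (⊤ : (Spec (.of (K 𝒰))).Opens) ≤ (genPt 𝒰 hU hU𝒰) ⁻¹ᵁ W) :
    ∃ hW𝒰 : Pts.pt ⁻¹' (W : Set X) ∈ (𝒰 : Filter (Pts X)),
      (genPt 𝒰 hU hU𝒰).appLE W ⊤ hW ≫ (Scheme.ΓSpecIso (.of (K 𝒰))).hom =
        CommRingCat.ofHom (germHom 𝒰 W hW𝒰) := by
  set i₁ := genPt 𝒰 hU hU𝒰 with hi₁
  set ξ : X := i₁ default with hξ
  have hξW : ξ ∈ W := hW (Opens.mem_top default)
  have hξU : ξ ∈ U := top_le_preimage_genPt 𝒰 hU hU𝒰 (Opens.mem_top default)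
  obtain ⟨h, hhW, hξh⟩ := hU.exists_basicOpen_le (V := W) ⟨ξ, hξW⟩ hξU
  have hne : germHom 𝒰 U hU𝒰 h ≠ 0 := by
    intro h0
    have h1 : Spec.map (CommRingCat.ofHom (germHom 𝒰 U hU𝒰)) default ∈
        hU.fromSpec ⁻¹ᵁ X.basicOpen h := hξh
    rw [hU.fromSpec_preimage_basicOpen] at h1
    have h1' : (default : Spec (.of (K 𝒰))) ∈ Spec.map (CommRingCat.ofHom (germHom 𝒰 U hU𝒰)) ⁻¹ᵁ
        PrimeSpectrum.basicOpen h := h1
    rw [SpecMap_preimage_basicOpen] at h1'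
    have h1'' : PrimeSpectrum.basicOpen ((CommRingCat.ofHom (germHom 𝒰 U hU𝒰)) h) = ⊥ := by
      change PrimeSpectrum.basicOpen (germHom 𝒰 U hU𝒰 h) = ⊥
      rw [h0, PrimeSpectrum.basicOpen_zero]
    rw [h1''] at h1'
    exact h1'
  have hD𝒰 : Pts.pt ⁻¹' (X.basicOpen h : Set X) ∈ (𝒰 : Filter (Pts X)) := by
    have h2 := eventually_ne_zero_of_germ_ne_zero 𝒰 (evFun U h) hne
    filter_upwards [h2, hU𝒰] with x hx hxU
    rw [evFun_of_mem U h x hxU] at hx
    exact (mem_basicOpen_iff x U hxU h).mpr hx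
  have hW𝒰 : Pts.pt ⁻¹' (W : Set X) ∈ (𝒰 : Filter (Pts X)) :=
    mem_of_superset hD𝒰 (fun x hx => hhW hx)
  refine ⟨hW𝒰, ?_⟩
  have hD : (⊤ : (Spec (.of (K 𝒰))).Opens) ≤ i₁ ⁻¹ᵁ X.basicOpen h := by
    intro z _
    rw [Subsingleton.elim z default]
    exact hξh
  -- the two ring homs on the basic open agree
  have hloc := hU.isLocalization_basicOpen h
  have key : (i₁.appLE (X.basicOpen h) ⊤ hD ≫ (Scheme.ΓSpecIso (.of (K 𝒰))).hom).hom =
      germHom 𝒰 (X.basicOpen h) hD𝒰 := by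
    apply IsLocalization.ringHom_ext (Submonoid.powers h)
    ext a
    change (i₁.appLE (X.basicOpen h) ⊤ hD ≫ (Scheme.ΓSpecIso (.of (K 𝒰))).hom)
      (X.presheaf.map (homOfLE (X.basicOpen_le h)).op a) =
      germHom 𝒰 (X.basicOpen h) hD𝒰 (X.presheaf.map (homOfLE (X.basicOpen_le h)).op a)
    rw [germHom_res 𝒰 (homOfLE (X.basicOpen_le h)) hD𝒰 hU𝒰]
    have h3 := Scheme.Hom.map_appLE i₁ hD (homOfLE (X.basicOpen_le h)).op
    have h4 := congrArg (fun m => (m ≫ (Scheme.ΓSpecIso (.of (K 𝒰))).hom).hom a) h3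
    simp only [CommRingCat.hom_comp, RingHom.coe_comp, Function.comp_apply] at h4
    rw [CommRingCat.comp_apply]
    erw [h4]
    have h5 := congrArg (fun m => m.hom a) (genPt_appLE_self 𝒰 hU hU𝒰)
    simp only [CommRingCat.hom_comp, RingHom.coe_comp, Function.comp_apply,
      CommRingCat.hom_ofHom] at h5
    exact h5
  ext a
  have h6 := Scheme.Hom.map_appLE i₁ hD (homOfLE hhW).op
  have h7 := congrArg (fun m => (m ≫ (Scheme.ΓSpecIso (.of (K 𝒰))).hom).hom a) h6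
  simp only [CommRingCat.hom_comp, RingHom.coe_comp, Function.comp_apply] at h7
  rw [CommRingCat.hom_ofHom, ← germHom_res 𝒰 (homOfLE hhW) hD𝒰 hW𝒰, ← key]
  simp only [CommRingCat.hom_comp, RingHom.coe_comp, Function.comp_apply]
  exact h7.symm

end ClaimC

section Main

variable {X Y : Scheme.{0}} [X.Over SC] [Y.Over SC] (f : X ⟶ Y) [f.IsOver SC]

theorem existence_of_universallyClosed [UniversallyClosed f] : ValuativeCriterion.Existence f := by
  have h : UniversallyClosed f := inferInstance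
  rw [UniversallyClosed.eq_valuativeCriterion] at h
  exact h.1

/-- a universally closed morphism induces a proper map on ℂ-points. -/
theorem isProperMap_map_of_universallyClosed [UniversallyClosed f] :
    IsProperMap (Pts.map f) := by
  rw [isProperMap_iff_ultrafilter]
  refine ⟨Pts.continuous_map f, fun {𝒰 y₀} h𝒰 => ?_⟩
  -- an affine neighbourhood of `y₀`
  obtain ⟨V, hV, hyV⟩ : ∃ V : Y.Opens, IsAffineOpen V ∧ y₀.pt ∈ V := by
    obtain ⟨_, ⟨V, hV, rfl⟩, hxV, -⟩ := Y.isBasis_affineOpens.exists_subset_of_mem_open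
      (Set.mem_univ y₀.pt) isOpen_univ
    exact ⟨V, hV, hxV⟩
  have hfV𝒰 : Pts.pt ⁻¹' ((f ⁻¹ᵁ V : X.Opens) : Set X) ∈ (𝒰 : Filter (Pts X)) := by
    have h1 : Pts.pt ⁻¹' (V : Set Y) ∈ 𝓝 y₀ := (Pts.isOpen_preimage_pt V).mem_nhds hyV
    have h2 := h𝒰 h1
    rw [Filter.mem_map] at h2
    refine mem_of_superset h2 ?_
    intro x hx
    change f x.pt ∈ V
    rw [← Pts.pt_map]
    exact hx
  -- a chart of `X` which is large for the ultrafilter
  have hqc : IsCompact ((f ⁻¹ᵁ V : X.Opens) : Set X) := f.isCompact_preimage hV.isCompact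
  obtain ⟨s, hsfin, hs⟩ := isCompact_and_isOpen_iff_finite_and_eq_biUnion_affineOpens.mp
    ⟨hqc, (f ⁻¹ᵁ V).isOpen⟩
  obtain ⟨U, hUs, hU𝒰⟩ : ∃ U ∈ s, Pts.pt ⁻¹' ((U : X.Opens) : Set X) ∈ (𝒰 : Filter (Pts X)) := by
    have h3 : (⋃ U ∈ s, Pts.pt ⁻¹' ((U : X.Opens) : Set X)) ∈ (𝒰 : Filter (Pts X)) := by
      rw [← Set.preimage_iUnion₂, ← hs]
      exact hfV𝒰
    exact (Ultrafilter.finite_biUnion_mem_iff hsfin).mp h3
  have hUa : IsAffineOpen (U : X.Opens) := U.2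
  have hUV : (U : X.Opens) ≤ f ⁻¹ᵁ V := by
    intro x hx
    change x ∈ ((f ⁻¹ᵁ V : X.Opens) : Set X)
    rw [hs]
    exact Set.mem_biUnion hUs hx
  -- the coordinates of the image converge
  have hconv : ∀ c : Γ(Y, V), Tendsto (evFun (U : X.Opens) (f.appLE V U hUV c)) 𝒰
      (𝓝 (y₀.ev V hyV c)) := by
    intro c
    have h1 := (tendsto_evFun V c y₀ hyV).comp h𝒰
    refine h1.congr' ?_
    filter_upwards [hU𝒰] with x hx
    have hx' : (Pts.map f x).pt ∈ V := by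
      rw [Pts.pt_map]
      exact hUV hx
    rw [Function.comp_apply, evFun_of_mem V c _ hx', evFun_of_mem _ _ x hx, Pts.ev_map]
    exact (ev_res x (homOfLE hUV) hx (f.app V c)).symm
  set ρK : Γ(Y, V) →+* K 𝒰 := (germHom 𝒰 U hU𝒰).comp (f.appLE V U hUV).hom with hρK
  have hbdd : ∀ c, ρK c ∈ bdd 𝒰 := fun c => isBdd_of_tendsto _ _ (hconv c)
  set ρ : Γ(Y, V) →+* bdd 𝒰 := ρK.codRestrict (bdd 𝒰) hbdd with hρ
  have hst : ∀ c, st 𝒰 (ρ c) = y₀.ev V hyV c := fun c =>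
    st_eq_of_tendsto 𝒰 (ρ c) (evFun (U : X.Opens) (f.appLE V U hUV c)) rfl _ (hconv c)
  -- the valuative square
  set i₁ := genPt 𝒰 hUa hU𝒰 with hi₁
  set i₂ : Spec (.of (bdd 𝒰)) ⟶ Y := Spec.map (CommRingCat.ofHom ρ) ≫ hV.fromSpec with hi₂
  have w : i₁ ≫ f = Spec.map (CommRingCat.ofHom (algebraMap (bdd 𝒰) (K 𝒰))) ≫ i₂ := by
    rw [hi₁, hi₂, genPt, Category.assoc, ← IsAffineOpen.SpecMap_appLE_fromSpec f hV hUa hUV,
      ← Category.assoc, ← Spec.map_comp, ← Category.assoc, ← Spec.map_comp]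
    rfl
  obtain ⟨l, hl1, hl2⟩ := (existence_of_universallyClosed f
    { R := bdd 𝒰, K := K 𝒰, i₁ := i₁, i₂ := i₂, commSq := ⟨w⟩ }).exists_lift
  dsimp only at hl1 hl2
  -- the limit point
  set x₀ : SC ⟶ X := Spec.map (CommRingCat.ofHom (st 𝒰)) ≫ l with hx₀
  have hx₀f : x₀ ≫ f = y₀.1 := by
    rw [hx₀, Category.assoc, hl2, hi₂, ← Category.assoc, ← Spec.map_comp]
    have h1 : CommRingCat.ofHom ρ ≫ CommRingCat.ofHom (st 𝒰) =
        y₀.1.appLE V ⊤ (Pts.top_le_preimage y₀ hyV) ≫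
          (Scheme.ΓSpecIso (CommRingCat.of ℂ)).hom := by
      ext c
      exact hst c
    rw [h1]
    exact ValClosed.SpecMap_appLE_fromSpec_eq _ y₀.1 hV _
  have hx₀o : x₀ ≫ (X ↘ SC) = 𝟙 SC := by
    rw [← comp_over f SC, ← Category.assoc, hx₀f, y₀.2]
  refine ⟨⟨x₀, hx₀o⟩, Subtype.ext hx₀f, ?_⟩
  set x₀p : Pts X := ⟨x₀, hx₀o⟩ with hx₀p
  -- the ultrafilter converges to the limit point
  have hcl : Spec.map (CommRingCat.ofHom (st 𝒰)) cpt = IsLocalRing.closedPoint (bdd 𝒰) := by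
    apply PrimeSpectrum.ext
    change Ideal.comap (st 𝒰) (cpt : PrimeSpectrum ℂ).asIdeal = IsLocalRing.maximalIdeal (bdd 𝒰)
    have h3 : (cpt : PrimeSpectrum ℂ).asIdeal = ⊥ := by
      rcases Ideal.eq_bot_or_top (cpt : PrimeSpectrum ℂ).asIdeal with h | h
      · exact h
      · exact absurd h (cpt : PrimeSpectrum ℂ).isPrime.ne_top
    rw [h3, ← RingHom.ker_eq_comap_bot, ker_st]
  change (𝒰 : Filter (Pts X)) ≤ @nhds (Pts X) (TopologicalSpace.generateFrom _) x₀p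
  rw [TopologicalSpace.nhds_generateFrom]
  refine le_iInf₂ fun S hS => ?_
  obtain ⟨hxS, W, a, V', hV', rfl⟩ := hS
  obtain ⟨hxW, hxV'⟩ := hxS
  rw [le_principal_iff]
  have hlW : (⊤ : (Spec (.of (bdd 𝒰))).Opens) ≤ l ⁻¹ᵁ W := by
    have h1 : IsLocalRing.closedPoint (bdd 𝒰) ∈ l ⁻¹ᵁ W := by
      rw [← hcl]
      exact hxW
    exact ((IsLocalRing.closedPoint_mem_iff (l ⁻¹ᵁ W)).mp h1).ge
  have hi₁W' : (⊤ : (Spec (.of (K 𝒰))).Opens) ≤
      (Spec.map (CommRingCat.ofHom (algebraMap (bdd 𝒰) (K 𝒰))) ≫ l) ⁻¹ᵁ W := by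
    intro z _
    exact hlW (Opens.mem_top _)
  have hi₁W : (⊤ : (Spec (.of (K 𝒰))).Opens) ≤ i₁ ⁻¹ᵁ W := by
    rw [← hl1]
    exact hi₁W'
  obtain ⟨hW𝒰, hgen⟩ := genPt_appLE 𝒰 hUa hU𝒰 W hi₁W
  set r : bdd 𝒰 := (l.appLE W ⊤ hlW ≫ (Scheme.ΓSpecIso (.of (bdd 𝒰))).hom) a with hr
  have hr1 : ((evFun W a : Pts X → ℂ) : K 𝒰) = (r : K 𝒰) := by
    have h1 := ValClosed.SpecMap_comp_appLE (CommRingCat.ofHom (algebraMap (bdd 𝒰) (K 𝒰))) l W
      hlW hi₁W'
    have h2 := ValClosed.appLE_congr hl1 W ⊤ hi₁W'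
    rw [h2] at h1
    have h3 : (i₁.appLE W ⊤ hi₁W ≫ (Scheme.ΓSpecIso (.of (K 𝒰))).hom) a = (r : K 𝒰) := by
      exact congrArg (fun m => m.hom a) h1
    rw [← h3]
    have h4 := congrArg (fun m => m.hom a) hgen
    simp only [CommRingCat.hom_ofHom] at h4
    exact h4.symm
  have hr2 : x₀p.ev W hxW a = st 𝒰 r := by
    have hx₀W : (⊤ : SC.Opens) ≤ (Spec.map (CommRingCat.ofHom (st 𝒰)) ≫ l) ⁻¹ᵁ W := by
      intro z _
      exact hlW (Opens.mem_top _)
    have h1 := ValClosed.SpecMap_comp_appLE (CommRingCat.ofHom (st 𝒰)) l W hlW hx₀W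
    exact congrArg (fun m => m.hom a) h1
  have ht := tendsto_st 𝒰 r (evFun W a) hr1
  have hmem : evFun W a ⁻¹' V' ∈ (𝒰 : Filter (Pts X)) := ht (hV'.mem_nhds (hr2 ▸ hxV'))
  filter_upwards [hmem, hW𝒰] with x hx hxW'
  refine ⟨hxW', ?_⟩
  rw [← evFun_of_mem W a x hxW']
  exact hx

end Main

section Statements

variable {X Y : Scheme.{0}} [X.Over SC] [Y.Over SC] (f : X ⟶ Y) [f.IsOver SC]

/-- S4202 -/
theorem isProper_iff_isProperMap [LocallyOfFiniteType (X ↘ SC)] [LocallyOfFiniteType (Y ↘ SC)]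
    [QuasiCompact f] :
    IsProper f ↔ IsProperMap (Pts.map f) ∧ IsSeparatedMap (Pts.map f) := by
  constructor
  · intro h
    exact ⟨isProperMap_map_of_universallyClosed f,
      (isSeparated_iff_isSeparatedMap f).mp inferInstance⟩
  · rintro ⟨h1, h2⟩
    haveI := (isSeparated_iff_isSeparatedMap f).mpr h2
    haveI := universallyClosed_of_isProperMap_map f h1
    haveI := locallyOfFiniteType_of_over f
    exact {}

/-- S4205 -/
theorem isProper_iff_compactSpace (X : Scheme.{0}) [X.Over SC] [LocallyOfFiniteType (X ↘ SC)]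
    [QuasiCompact (X ↘ SC)] :
    IsProper (X ↘ SC) ↔ CompactSpace (Pts X) ∧ T2Space (Pts X) := by
  letI inst : SC.Over SC := ⟨𝟙 SC⟩
  haveI : (X ↘ SC).IsOver SC := ⟨Category.comp_id _⟩
  haveI : LocallyOfFiniteType (SC ↘ SC) := by
    change LocallyOfFiniteType (𝟙 SC)
    infer_instance
  rw [isProper_iff_isProperMap (X ↘ SC)]
  have hsub : ∀ y : Pts SC, y = ⟨𝟙 SC, Category.comp_id _⟩ := by
    intro y
    apply Subtype.ext
    have := y.2
    change y.1 ≫ 𝟙 SC = 𝟙 SC at this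
    rwa [Category.comp_id] at this
  haveI : Subsingleton (Pts SC) := ⟨fun a b => (hsub a).trans (hsub b).symm⟩
  have hconst : Pts.map (X ↘ SC) = fun _ => (⟨𝟙 SC, Category.comp_id _⟩ : Pts SC) :=
    funext fun x => hsub _
  have h2 : IsSeparatedMap (Pts.map (X ↘ SC)) ↔ T2Space (Pts X) := by
    rw [hconst]
    exact (t2space_iff_isSeparatedMap _).symm
  have h1 : IsProperMap (Pts.map (X ↘ SC)) ↔ CompactSpace (Pts X) := by
    constructor
    · intro h
      have h3 := h.isCompact_preimage (K := Set.univ) (Set.subsingleton_univ.isCompact)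
      rw [Set.preimage_univ] at h3
      exact ⟨h3⟩
    · intro h
      exact (Pts.continuous_map (X ↘ SC)).isProperMap
  rw [h1, h2]

end Statements

section Finite

variable {X Y : Scheme.{0}} [X.Over SC] [Y.Over SC] (f : X ⟶ Y) [f.IsOver SC]

/-- a closed subset of a Jacobson space with finitely many closed points is finite. -/
theorem finite_of_finite_inter_closedPoints {T : Type*} [TopologicalSpace T] [JacobsonSpace T]
    {Z : Set T} (hZ : IsClosed Z) (h : (Z ∩ closedPoints T).Finite) : Z.Finite := by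
  have h1 : IsClosed (Z ∩ closedPoints T) := by
    have h2 : Z ∩ closedPoints T = ⋃ z ∈ Z ∩ closedPoints T, {z} := by
      ext z
      simp
    rw [h2]
    exact h.isClosed_biUnion fun z hz => hz.2
  have h3 := closure_inter_closedPoints hZ
  rw [h1.closure_eq] at h3
  rw [← h3]
  exact h

/-- the fibre over a ℂ-point is finite if it has finitely many ℂ-points. -/
theorem finite_preimage_singleton_of_finite [LocallyOfFiniteType (X ↘ SC)] (y : Pts Y)
    (hy : IsClosed ({y.pt} : Set Y)) (h : (Pts.map f ⁻¹' {y}).Finite) : (f ⁻¹' {y.pt}).Finite := by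
  have hcl : IsClosed (f ⁻¹' {y.pt}) := hy.preimage f.continuous
  apply finite_of_finite_inter_closedPoints hcl
  refine (h.image Pts.pt).subset ?_
  rintro x ⟨hx1, hx2⟩
  obtain ⟨x', rfl⟩ := exists_pt_eq_of_isClosed x hx2
  refine ⟨x', ?_, rfl⟩
  apply pt_injective
  rw [Pts.pt_map]
  exact hx1

set_option backward.isDefEq.respectTransparency.types false in
/-- S4203 -/
theorem isFinite_iff_isProperMap [LocallyOfFiniteType (X ↘ SC)] [LocallyOfFiniteType (Y ↘ SC)]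
    [QuasiCompact f] :
    IsFinite f ↔ IsProperMap (Pts.map f) ∧ IsSeparatedMap (Pts.map f) ∧
      ∀ y : Pts Y, (Pts.map f ⁻¹' {y}).Finite := by
  constructor
  · intro h
    have h1 := (isProper_iff_isProperMap f).mp inferInstance
    refine ⟨h1.1, h1.2, fun y => ?_⟩
    have h2 : (f ⁻¹' {y.pt}).Finite := f.finite_preimage_singleton y.pt
    refine Set.Finite.subset (h2.preimage (pt_injective (X := X)).injOn) ?_
    intro x hx
    change f x.pt = y.pt
    rw [← Pts.pt_map, hx]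
  · rintro ⟨h1, h2, h3⟩
    haveI : IsProper f := (isProper_iff_isProperMap f).mpr ⟨h1, h2⟩
    -- finite over a neighbourhood of every closed point
    have hloc : ∀ y : Y, IsClosed ({y} : Set Y) → ∃ V : Y.Opens, y ∈ V ∧ IsFinite (f ∣_ V) := by
      intro y hy
      obtain ⟨y', rfl⟩ := exists_pt_eq_of_isClosed y hy
      exact exists_isFinite_morphismRestrict_of_finite_preimage_singleton f y'.pt
        (finite_preimage_singleton_of_finite f y' hy (h3 y'))
    set ι := {V : Y.Opens // IsFinite (f ∣_ V)} with hι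
    have hsup : (⨆ V : ι, (V : Y.Opens)) = ⊤ := by
      by_contra hne
      have hne' : ((⨆ V : ι, (V : Y.Opens) : Y.Opens) : Set Y)ᶜ.Nonempty := by
        rw [Set.nonempty_compl]
        intro h
        exact hne (SetLike.coe_injective (by simpa using h))
      obtain ⟨y, hy1, hy2⟩ := nonempty_inter_closedPoints hne'
        (⨆ V : ι, (V : Y.Opens) : Y.Opens).isOpen.isClosed_compl.isLocallyClosed
      obtain ⟨V, hyV, hV⟩ := hloc y hy2
      apply hy1
      exact (le_iSup (fun V : ι => (V : Y.Opens)) ⟨V, hV⟩ : V ≤ _) hyV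
    exact IsZariskiLocalAtTarget.of_iSup_eq_top (P := @IsFinite.{0}) (fun V : ι => (V : Y.Opens))
      hsup (fun V => V.2)

end Finite

end Groth.Agent.Helper19.AnPts
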