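import Mathlib
import Groth.Agent.Lib.Helper19.ClosedAdj
import Groth.Agent.S0904

/-!
# `Γ_Z` preserves injective abelian sheaves (helper19)
-/

set_option autoImplicit false
universe u
open CategoryTheory CategoryTheory.Limits TopologicalSpace Opposite

namespace Groth.Agent.Helper19.ClosedAdj

variable {X : TopCat.{u}} (U : Opens X)

theorem preservesMonomorphisms_push {Y X : TopCat.{u}} (f : Y ⟶ X) :
    (CohTop.push f).PreservesMonomorphisms := by
  have hR : PreservesLimitsOfSize.{0, 0} (CohTop.push f) :=
    (TopCat.Sheaf.pullbackPushforwardAdjunction AddCommGrpCat.{u} f).rightAdjoint_preservesLimits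
  have hfl : PreservesFiniteLimits (CohTop.push f) :=
    PreservesLimitsOfSize.preservesFiniteLimits _
  exact CategoryTheory.preservesMonomorphisms_of_preservesLimitsOfShape _

/-- `i⁻¹ Γ_Z` preserves injectives -/
theorem injective_RZ (I : CohTop.Ab X) [Injective I] : Injective ((RZ U).obj I) :=
  @Injective.injective_of_adjoint _ _ _ _ (CohTop.push (CohCx.inclCompl U))
    (LocCohZ.sectSuppF U ⋙ CohTop.pull (CohCx.inclCompl U))
    (preservesMonomorphisms_push _) (adjunction U) I _

/-- `Γ_Z` preserves injectives -/
theorem injective_sectSuppF (I : CohTop.Ab X) [Injective I] :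
    Injective ((LocCohZ.sectSuppF U).obj I) := by
  have h1 : Injective ((RZ U).obj I) := injective_RZ U I
  have h2 : Injective ((CohTop.push (CohCx.inclCompl U)).obj ((RZ U).obj I)) :=
    Groth.Agent.S0904.result _ _
  exact Injective.of_iso (etaIso U I).symm h2

end Groth.Agent.Helper19.ClosedAdj
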