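import Mathlib

/-!
# Cokernels commute with colimits (helper19)

Namespace `Groth.Agent.Helper19.CokerColim`.
* `isColimitCofork`: given a natural transformation `φ : M ⟶ N` of `J`-shaped diagrams with pointwise
  cokernels `π : N ⟶ Q` and colimit cocones of `M`, `N`, `Q`, the induced map on colimits of `π`
  is a cokernel of the induced map of `φ`.
* `preservesCokernel_of_colimit`: if `F` preserves the `J`-shaped colimits involved and the
  cokernels of all `φ.app j`, then it preserves the cokernel of the induced map on colimits.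
-/

set_option autoImplicit false
universe u

open CategoryTheory CategoryTheory.Limits

namespace Groth.Agent.Helper19.CokerColim

section Formal

variable {𝒞 : Type*} [Category 𝒞] [HasZeroMorphisms 𝒞] {J : Type*} [Category J]
  {M N Q : J ⥤ 𝒞} (φ : M ⟶ N) (π : N ⟶ Q)
  (hw : ∀ j, φ.app j ≫ π.app j = 0)
  (hcok : ∀ j, IsColimit (CokernelCofork.ofπ (π.app j) (hw j)))
  (cM : Cocone M) (hM : IsColimit cM) (cN : Cocone N) (hN : IsColimit cN)
  (cQ : Cocone Q) (hQ : IsColimit cQ)
  (f : cM.pt ⟶ cN.pt) (hf : ∀ j, cM.ι.app j ≫ f = φ.app j ≫ cN.ι.app j)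
  (p : cN.pt ⟶ cQ.pt) (hp : ∀ j, cN.ι.app j ≫ p = π.app j ≫ cQ.ι.app j)

include hw hM hf hp in
theorem comp_eq_zero : f ≫ p = 0 := by
  apply hM.hom_ext
  intro j
  rw [← Category.assoc, hf, Category.assoc, hp, ← Category.assoc, hw, zero_comp, comp_zero]

include hcok in
theorem π_epi (j : J) {T : 𝒞} (a b : Q.obj j ⟶ T) (h : π.app j ≫ a = π.app j ≫ b) : a = b :=
  Cofork.IsColimit.hom_ext (hcok j) h

/-- the induced map on colimits of the pointwise cokernels is a cokernel -/
noncomputable def isColimitCofork :
    IsColimit (CokernelCofork.ofπ p (comp_eq_zero φ π hw cM hM cN cQ f hf p hp)) := by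
  -- the maps out of `Q j`
  have key : ∀ {T : 𝒞} (g : cN.pt ⟶ T), f ≫ g = 0 → ∀ j, φ.app j ≫ (cN.ι.app j ≫ g) = 0 := by
    intro T g hg j
    rw [← Category.assoc, ← hf, Category.assoc, hg, comp_zero]
  let γ : ∀ {T : 𝒞} (g : cN.pt ⟶ T) (hg : f ≫ g = 0) (j : J),
      {l : Q.obj j ⟶ T // π.app j ≫ l = cN.ι.app j ≫ g} := fun g hg j =>
    CokernelCofork.IsColimit.desc' (hcok j) (cN.ι.app j ≫ g) (key g hg j)
  let cT : ∀ {T : 𝒞} (g : cN.pt ⟶ T) (_ : f ≫ g = 0), Cocone Q := fun {T} g hg =>
    { pt := T
      ι :=
        { app := fun j => (γ g hg j).1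
          naturality := by
            intro j k u
            apply π_epi φ π hw hcok j
            have h1 := (γ g hg j).2
            have h2 := (γ g hg k).2
            have h3 : π.app j ≫ Q.map u = N.map u ≫ π.app k := (π.naturality u).symm
            have h4 : N.map u ≫ cN.ι.app k = cN.ι.app j := cN.w u
            simp only [Functor.const_obj_obj, Functor.const_obj_map, Category.comp_id]
            rw [← Category.assoc, h3, Category.assoc, h2, ← Category.assoc, h4, h1] } }
  refine CokernelCofork.IsColimit.ofπ p _ (fun {T} g hg => hQ.desc (cT g hg)) ?_ ?_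
  · intro T g hg
    apply hN.hom_ext
    intro j
    have h1 := (γ g hg j).2
    have h2 : cQ.ι.app j ≫ hQ.desc (cT g hg) = (γ g hg j).1 := hQ.fac (cT g hg) j
    rw [← Category.assoc, hp, Category.assoc, h2, h1]
  · intro T g hg m hm
    apply hQ.hom_ext
    intro j
    have h1 := (γ g hg j).2
    have h2 : cQ.ι.app j ≫ hQ.desc (cT g hg) = (γ g hg j).1 := hQ.fac (cT g hg) j
    rw [h2]
    apply π_epi φ π hw hcok j
    rw [h1, ← Category.assoc, ← hp, Category.assoc, hm]

end Formal

section Preserves

variable {𝒜 : Type*} [Category 𝒜] [Abelian 𝒜] {B : Type*} [Category B] [HasZeroMorphisms B]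
  (F : 𝒜 ⥤ B) [F.PreservesZeroMorphisms] {J : Type*} [Category J]
  [HasColimitsOfShape J 𝒜] [PreservesColimitsOfShape J F]
  {M N : J ⥤ 𝒜} (φ : M ⟶ N) (cM : Cocone M) (hM : IsColimit cM) (cN : Cocone N)
  (hN : IsColimit cN) (f : cM.pt ⟶ cN.pt) (hf : ∀ j, cM.ι.app j ≫ f = φ.app j ≫ cN.ι.app j)

include hM hN hf in
/-- if `F` preserves `J`-shaped colimits and the cokernels of all `φ.app j` then it preserves the
cokernel of the induced map on colimits -/
theorem preservesCokernel_of_colimit
    (h : ∀ j, PreservesColimit (parallelPair (φ.app j) 0) F) :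
    PreservesColimit (parallelPair f 0) F := by
  -- pointwise cokernel
  let Q : J ⥤ 𝒜 := cokernel φ
  let π : N ⟶ Q := cokernel.π φ
  have hw : ∀ j, φ.app j ≫ π.app j = 0 := by
    intro j
    have := congrArg (fun t => NatTrans.app t j) (cokernel.condition φ)
    exact this
  have hcok : ∀ j, IsColimit (CokernelCofork.ofπ (π.app j) (hw j)) := by
    intro j
    have h0 : IsColimit (CokernelCofork.ofπ π (cokernel.condition φ)) := cokernelIsCokernel φ
    exact isColimitCoforkMapOfIsColimit' ((evaluation J 𝒜).obj j) (cokernel.condition φ) h0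
  let cQ : Cocone Q := colimit.cocone Q
  have hQ : IsColimit cQ := colimit.isColimit Q
  let p : cN.pt ⟶ cQ.pt := hN.desc
    { pt := cQ.pt
      ι :=
        { app := fun j => π.app j ≫ cQ.ι.app j
          naturality := by
            intro j k u
            have h3 : N.map u ≫ π.app k = π.app j ≫ Q.map u := π.naturality u
            have h4 : Q.map u ≫ cQ.ι.app k = cQ.ι.app j := cQ.w u
            simp only [Functor.const_obj_obj, Functor.const_obj_map, Category.comp_id]
            rw [← Category.assoc, h3, Category.assoc, h4] } }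
  have hp : ∀ j, cN.ι.app j ≫ p = π.app j ≫ cQ.ι.app j := fun j => hN.fac _ j
  have hcof := isColimitCofork φ π hw hcok cM hM cN hN cQ hQ f hf p hp
  -- now in `B`
  have hw' : ∀ j, (Functor.whiskerRight φ F).app j ≫ (Functor.whiskerRight π F).app j = 0 := by
    intro j
    simp only [Functor.whiskerRight_app]
    rw [← F.map_comp, hw, F.map_zero]
  have hcok' : ∀ j, IsColimit (CokernelCofork.ofπ ((Functor.whiskerRight π F).app j) (hw' j)) := by
    intro j
    haveI := h j
    exact isColimitCoforkMapOfIsColimit' F (hw j) (hcok j)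
  have hcof' := isColimitCofork (Functor.whiskerRight φ F) (Functor.whiskerRight π F) hw' hcok'
    (F.mapCocone cM) (isColimitOfPreserves F hM) (F.mapCocone cN) (isColimitOfPreserves F hN)
    (F.mapCocone cQ) (isColimitOfPreserves F hQ) (F.map f)
    (by intro j; simp only [Functor.mapCocone_ι_app, Functor.whiskerRight_app]
        rw [← F.map_comp, hf, F.map_comp])
    (F.map p)
    (by intro j; simp only [Functor.mapCocone_ι_app, Functor.whiskerRight_app]
        rw [← F.map_comp, hp, F.map_comp])
  exact preservesColimit_of_preserves_colimit_cocone hcof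
    ((isColimitMapCoconeCoforkEquiv' F _).symm hcof')

end Preserves

end Groth.Agent.Helper19.CokerColim
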