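import Mathlib

/-!
# Sections of a filtered colimit of sheaves of sets on a space (helper19)

Namespace `Groth.Agent.Helper19.ColimSheaf`.  `F : J ⥤ X.Sheaf (Type u)` over a directed set, `c` a
colimit cocone.  Via the stalk functor (a left adjoint on sheaves) we get:

* `exists_local_lift` : every section of `c.pt` locally comes from some `F i`;
* `exists_local_eq` : two sections of `F i` with the same image in `c.pt` become locally equal
  in some `F j`;
* `app_injective_of_injective`, `evEq_of_isCompact`, `exists_lift_of_finite_cover`.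
-/

set_option autoImplicit false
universe u
open CategoryTheory CategoryTheory.Limits TopologicalSpace Opposite

namespace Groth.Agent.Helper19.ColimSheaf

variable {X : TopCat.{u}} {J : Type u} [Preorder J]
  (F : J ⥤ X.Sheaf (Type u)) (c : Cocone F)

/-- the stalk functor on sheaves -/
noncomputable abbrev Sx (x : X) : X.Sheaf (Type u) ⥤ Type u :=
  TopCat.Sheaf.forget (Type u) X ⋙ TopCat.Presheaf.stalkFunctor (Type u) x

/-- stalks commute with colimits of sheaves -/
noncomputable def isColimitStalk (hc : IsColimit c) (x : X) : IsColimit ((Sx x).mapCocone c) :=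
  isColimitOfPreserves (Sx x) hc

theorem ι_map_apply {i j : J} (f : i ⟶ j) (V : Opens X) (s : (F.obj i).1.obj (op V)) :
    (c.ι.app j).1.app (op V) ((F.map f).1.app (op V) s) = (c.ι.app i).1.app (op V) s := by
  rw [← c.w f]
  rfl

theorem map_comp_apply {i j k : J} (f : i ⟶ j) (g : j ⟶ k) (h : i ⟶ k) (V : Opens X)
    (s : (F.obj i).1.obj (op V)) :
    (F.map g).1.app (op V) ((F.map f).1.app (op V) s) = (F.map h).1.app (op V) s := by
  obtain rfl : h = f ≫ g := Subsingleton.elim _ _
  rw [F.map_comp]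
  rfl

theorem ι_res (i : J) {V W : Opens X} (h : W ≤ V) (s : (F.obj i).1.obj (op V)) :
    (c.ι.app i).1.app (op W) ((F.obj i).1.map (homOfLE h).op s) =
      c.pt.1.map (homOfLE h).op ((c.ι.app i).1.app (op V) s) :=
  NatTrans.naturality_apply (c.ι.app i).1 (homOfLE h).op s

theorem res_res (P : X.Presheaf (Type u)) {U V W : Opens X} (h1 : W ≤ V) (h2 : V ≤ U)
    (σ : P.obj (op U)) :
    P.map (homOfLE h1).op (P.map (homOfLE h2).op σ) = P.map (homOfLE (h1.trans h2)).op σ := by
  rw [← ConcreteCategory.comp_apply, ← P.map_comp]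
  rfl

/-- local surjectivity -/
theorem exists_local_lift (hc : IsColimit c) (U : Opens X) (σ : c.pt.1.obj (op U)) (x : X)
    (hx : x ∈ U) :
    ∃ (i : J) (V : Opens X) (hV : V ≤ U) (_ : x ∈ V) (s : (F.obj i).1.obj (op V)),
      (c.ι.app i).1.app (op V) s = c.pt.1.map (homOfLE hV).op σ := by
  have hcol := isColimitStalk F c hc x
  obtain ⟨i, g, hg⟩ := Types.jointly_surjective_of_isColimit hcol
    (TopCat.Presheaf.germ c.pt.1 U x hx σ)
  obtain ⟨V', hxV', s', rfl⟩ := TopCat.Presheaf.exists_germ_eq (F.obj i).1 g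
  have h2 : TopCat.Presheaf.germ c.pt.1 V' x hxV' ((c.ι.app i).1.app (op V') s') =
      TopCat.Presheaf.germ c.pt.1 U x hx σ := by
    rw [← hg]
    exact (TopCat.Presheaf.stalkFunctor_map_germ_apply V' x hxV' (c.ι.app i).1 s').symm
  obtain ⟨W, hxW, iV, iU, hW⟩ := TopCat.Presheaf.germ_eq c.pt.1 x hxV' hx _ _ h2
  refine ⟨i, W, iU.le, hxW, (F.obj i).1.map iV.op s', ?_⟩
  have e : homOfLE iU.le = iU := Subsingleton.elim _ _
  rw [e, ← hW]
  exact NatTrans.naturality_apply (c.ι.app i).1 iV.op s'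

variable [Nonempty J] [IsDirected J (· ≤ ·)]

/-- local injectivity -/
theorem exists_local_eq (hc : IsColimit c) (i : J) (V : Opens X) (s t : (F.obj i).1.obj (op V))
    (hst : (c.ι.app i).1.app (op V) s = (c.ι.app i).1.app (op V) t) (x : X) (hx : x ∈ V) :
    ∃ (j : J) (hij : i ≤ j) (W : Opens X) (hW : W ≤ V) (_ : x ∈ W),
      (F.map (homOfLE hij)).1.app (op W) ((F.obj i).1.map (homOfLE hW).op s) =
      (F.map (homOfLE hij)).1.app (op W) ((F.obj i).1.map (homOfLE hW).op t) := by
  have hcol := isColimitStalk F c hc x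
  have h1 : ((Sx x).mapCocone c).ι.app i (TopCat.Presheaf.germ (F.obj i).1 V x hx s) =
      ((Sx x).mapCocone c).ι.app i (TopCat.Presheaf.germ (F.obj i).1 V x hx t) := by
    have := congrArg (TopCat.Presheaf.germ c.pt.1 V x hx) hst
    exact (TopCat.Presheaf.stalkFunctor_map_germ_apply V x hx (c.ι.app i).1 s).trans
      (this.trans (TopCat.Presheaf.stalkFunctor_map_germ_apply V x hx (c.ι.app i).1 t).symm)
  obtain ⟨j, f, g, hfg⟩ := (Types.FilteredColimit.isColimit_eq_iff _ hcol).mp h1
  obtain rfl : f = g := Subsingleton.elim _ _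
  have h2 : TopCat.Presheaf.germ (F.obj j).1 V x hx ((F.map f).1.app (op V) s) =
      TopCat.Presheaf.germ (F.obj j).1 V x hx ((F.map f).1.app (op V) t) :=
    (TopCat.Presheaf.stalkFunctor_map_germ_apply V x hx (F.map f).1 s).symm.trans
      (hfg.trans (TopCat.Presheaf.stalkFunctor_map_germ_apply V x hx (F.map f).1 t))
  obtain ⟨W, hxW, iU, iV, hW⟩ := TopCat.Presheaf.germ_eq (F.obj j).1 x hx hx _ _ h2
  obtain rfl : iU = iV := Subsingleton.elim _ _
  refine ⟨j, f.le, W, iU.le, hxW, ?_⟩
  have e : homOfLE iU.le = iU := Subsingleton.elim _ _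
  have e' : homOfLE f.le = f := Subsingleton.elim _ _
  rw [e, e']
  exact (NatTrans.naturality_apply (F.map f).1 iU.op s).trans
    (hW.trans (NatTrans.naturality_apply (F.map f).1 iU.op t).symm)

/-- two sections over `V` of a stage with the same image in the colimit become equal at a
later stage. -/
def EvEq (V : Opens X) : Prop :=
  ∀ (i : J) (s t : (F.obj i).1.obj (op V)),
    (c.ι.app i).1.app (op V) s = (c.ι.app i).1.app (op V) t →
    ∃ (j : J) (hij : i ≤ j),
      (F.map (homOfLE hij)).1.app (op V) s = (F.map (homOfLE hij)).1.app (op V) t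

/-- with injective transition maps, the maps to the colimit are injective on sections. -/
theorem app_injective_of_injective (hc : IsColimit c)
    (hinj : ∀ (i j : J) (h : i ⟶ j) (V : Opens X), Function.Injective ((F.map h).1.app (op V)))
    (i : J) (V : Opens X) : Function.Injective ((c.ι.app i).1.app (op V)) := by
  intro s t hst
  choose j hij W hW hxW heq using fun (x : V) => exists_local_eq F c hc i V s t hst x.1 x.2
  refine TopCat.Sheaf.eq_of_locally_eq' (F.obj i) W V (fun x => homOfLE (hW x)) ?_ s t ?_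
  · intro x hx
    exact Opens.mem_iSup.mpr ⟨⟨x, hx⟩, hxW ⟨x, hx⟩⟩
  · intro x
    exact hinj _ _ _ _ (heq x)

theorem evEq_of_injective (hc : IsColimit c)
    (hinj : ∀ (i j : J) (h : i ⟶ j) (V : Opens X), Function.Injective ((F.map h).1.app (op V)))
    (V : Opens X) : EvEq F c V := by
  intro i s t hst
  refine ⟨i, le_rfl, ?_⟩
  rw [app_injective_of_injective F c hc hinj i V hst]

theorem evEq_of_isCompact (hc : IsColimit c) (V : Opens X) (hV : IsCompact (V : Set X)) :
    EvEq F c V := by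
  classical
  intro i s t hst
  choose j hij W hW hxW heq using fun (x : V) => exists_local_eq F c hc i V s t hst x.1 x.2
  obtain ⟨T, hT⟩ := hV.elim_finite_subcover (fun x : V => (W x : Set X))
    (fun x => (W x).isOpen) (fun x hx => Set.mem_iUnion.mpr ⟨⟨x, hx⟩, hxW ⟨x, hx⟩⟩)
  obtain ⟨k, hk⟩ := Finset.exists_le (insert i (T.image j))
  have hik : i ≤ k := hk i (Finset.mem_insert_self _ _)
  have hjk : ∀ x ∈ T, j x ≤ k := fun x hx =>
    hk _ (Finset.mem_insert_of_mem (Finset.mem_image_of_mem _ hx))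
  refine ⟨k, hik, ?_⟩
  refine TopCat.Sheaf.eq_of_locally_eq' (F.obj k) (fun x : T => W x.1) V
    (fun x => homOfLE (hW x.1)) ?_ _ _ ?_
  · intro y hy
    obtain ⟨x, hx⟩ := Set.mem_iUnion.mp (hT hy)
    obtain ⟨hxT, hyW⟩ := Set.mem_iUnion.mp hx
    exact Opens.mem_iSup.mpr ⟨⟨x, hxT⟩, hyW⟩
  · rintro ⟨x, hxT⟩
    have key : ∀ r : (F.obj i).1.obj (op V),
        (F.obj k).1.map (homOfLE (hW x)).op ((F.map (homOfLE hik)).1.app (op V) r) =
        (F.map (homOfLE (hjk x hxT))).1.app (op (W x))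
          ((F.map (homOfLE (hij x))).1.app (op (W x))
            ((F.obj i).1.map (homOfLE (hW x)).op r)) := by
      intro r
      rw [map_comp_apply F (homOfLE (hij x)) (homOfLE (hjk x hxT)) (homOfLE hik)]
      exact (NatTrans.naturality_apply (F.map (homOfLE hik)).1 (homOfLE (hW x)).op r).symm
    rw [key s, key t, heq x]

/-- gluing local lifts at a single stage -/
theorem exists_lift_of_finite_cover_aux (U : Opens X) (σ : c.pt.1.obj (op U))
    {K : Type*} [Finite K] (W : K → Opens X) (hWU : ∀ k, W k ≤ U) (hU : U ≤ iSup W)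
    (hP : ∀ k l, EvEq F c (W k ⊓ W l)) (i₀ : J)
    (s : ∀ k, (F.obj i₀).1.obj (op (W k)))
    (hs : ∀ k, (c.ι.app i₀).1.app (op (W k)) (s k) = c.pt.1.map (homOfLE (hWU k)).op σ) :
    ∃ (j : J) (r : (F.obj j).1.obj (op U)), (c.ι.app j).1.app (op U) r = σ := by
  classical
  have := Fintype.ofFinite K
  -- agreement on overlaps at later stages
  have h1 : ∀ k l, ∃ (j : J) (hij : i₀ ≤ j),
      (F.map (homOfLE hij)).1.app (op (W k ⊓ W l))
        ((F.obj i₀).1.map (homOfLE (inf_le_left : W k ⊓ W l ≤ W k)).op (s k)) =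
      (F.map (homOfLE hij)).1.app (op (W k ⊓ W l))
        ((F.obj i₀).1.map (homOfLE (inf_le_right : W k ⊓ W l ≤ W l)).op (s l)) := by
    intro k l
    apply hP k l i₀
    rw [ι_res, ι_res, hs k, hs l, res_res, res_res]
  choose j hij hjeq using h1
  obtain ⟨m, hm⟩ := Finset.exists_le
    (insert i₀ ((Finset.univ : Finset (K × K)).image (fun p => j p.1 p.2)))
  have him : i₀ ≤ m := hm i₀ (Finset.mem_insert_self _ _)
  have hjm : ∀ k l, j k l ≤ m := fun k l =>
    hm _ (Finset.mem_insert_of_mem (Finset.mem_image.mpr ⟨(k, l), Finset.mem_univ _, rfl⟩))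
  let s' : ∀ k, (F.obj m).1.obj (op (W k)) := fun k => (F.map (homOfLE him)).1.app (op (W k)) (s k)
  have hcompat : TopCat.Presheaf.IsCompatible (F.obj m).1 W s' := by
    intro k l
    have key : ∀ (a : K) (ha : W k ⊓ W l ≤ W a),
        (F.obj m).1.map (homOfLE ha).op (s' a) =
        (F.map (homOfLE (hjm k l))).1.app (op (W k ⊓ W l))
          ((F.map (homOfLE (hij k l))).1.app (op (W k ⊓ W l))
            ((F.obj i₀).1.map (homOfLE ha).op (s a))) := by
      intro a ha
      rw [map_comp_apply F (homOfLE (hij k l)) (homOfLE (hjm k l)) (homOfLE him)]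
      exact (NatTrans.naturality_apply (F.map (homOfLE him)).1 (homOfLE ha).op (s a)).symm
    have e1 := key k inf_le_left
    have e2 := key l inf_le_right
    have e3 : (F.obj m).1.map (Opens.infLELeft (W k) (W l)).op (s' k) =
        (F.obj m).1.map (homOfLE (inf_le_left : W k ⊓ W l ≤ W k)).op (s' k) := rfl
    have e4 : (F.obj m).1.map (Opens.infLERight (W k) (W l)).op (s' l) =
        (F.obj m).1.map (homOfLE (inf_le_right : W k ⊓ W l ≤ W l)).op (s' l) := rfl
    rw [e3, e4, e1, e2, hjeq k l]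
  obtain ⟨r, hr, -⟩ := TopCat.Sheaf.existsUnique_gluing' (F.obj m) W U
    (fun k => homOfLE (hWU k)) hU s' hcompat
  refine ⟨m, r, ?_⟩
  refine TopCat.Sheaf.eq_of_locally_eq' c.pt W U (fun k => homOfLE (hWU k)) hU _ _ ?_
  intro k
  rw [← ι_res, hr k, ← hs k]
  exact ι_map_apply F c (homOfLE him) (W k) (s k)

/-- gluing local lifts given at various stages -/
theorem exists_lift_of_finite_cover (U : Opens X) (σ : c.pt.1.obj (op U))
    {K : Type*} [Finite K] (W : K → Opens X) (hWU : ∀ k, W k ≤ U) (hU : U ≤ iSup W)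
    (hP : ∀ k l, EvEq F c (W k ⊓ W l))
    (hs : ∀ k, ∃ (i : J) (s : (F.obj i).1.obj (op (W k))),
      (c.ι.app i).1.app (op (W k)) s = c.pt.1.map (homOfLE (hWU k)).op σ) :
    ∃ (j : J) (r : (F.obj j).1.obj (op U)), (c.ι.app j).1.app (op U) r = σ := by
  classical
  have := Fintype.ofFinite K
  choose i s hs using hs
  obtain ⟨i₀, hi₀⟩ := Finset.exists_le ((Finset.univ : Finset K).image i)
  have hi : ∀ k, i k ≤ i₀ := fun k => hi₀ _ (Finset.mem_image_of_mem _ (Finset.mem_univ k))
  refine exists_lift_of_finite_cover_aux F c U σ W hWU hU hP i₀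
    (fun k => (F.map (homOfLE (hi k))).1.app (op (W k)) (s k)) ?_
  intro k
  rw [ι_map_apply F c (homOfLE (hi k)) (W k) (s k), hs k]

/-- evaluation of sheaves at an open -/
noncomputable abbrev ev (U : Opens X) : X.Sheaf (Type u) ⥤ Type u :=
  TopCat.Sheaf.forget (Type u) X ⋙ (evaluation (Opens X)ᵒᵖ (Type u)).obj (op U)

/-- the comparison map `colim_i F_i(U) ⟶ F(U)` -/
noncomputable abbrev Psi (U : Opens X) : colimit (F ⋙ ev U) ⟶ (ev U).obj c.pt :=
  colimit.desc (F ⋙ ev U) ((ev U).mapCocone c)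

theorem Psi_ι (U : Opens X) (i : J) (s : (F.obj i).1.obj (op U)) :
    Psi F c U (colimit.ι (F ⋙ ev U) i s) = (c.ι.app i).1.app (op U) s :=
  colimit.ι_desc_apply ((ev U).mapCocone c) i s

theorem Psi_injective_of_evEq (U : Opens X) (h : EvEq F c U) :
    Function.Injective (Psi F c U) := by
  intro a b hab
  obtain ⟨i, s, t, rfl, rfl⟩ :=
    Types.FilteredColimit.jointly_surjective_of_isColimit₂ (colimit.isColimit (F ⋙ ev U)) a b
  have hab' : (c.ι.app i).1.app (op U) s = (c.ι.app i).1.app (op U) t :=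
    (Psi_ι F c U i s).symm.trans (hab.trans (Psi_ι F c U i t))
  obtain ⟨j, hij, hj⟩ := h i s t hab'
  change colimit.ι (F ⋙ ev U) i s = colimit.ι (F ⋙ ev U) i t
  rw [← colimit.w_apply (F ⋙ ev U) (homOfLE hij) s, ← colimit.w_apply (F ⋙ ev U) (homOfLE hij) t]
  exact congrArg _ hj

theorem Psi_surjective_of_lift (U : Opens X)
    (h : ∀ σ : c.pt.1.obj (op U), ∃ (j : J) (r : (F.obj j).1.obj (op U)),
      (c.ι.app j).1.app (op U) r = σ) :
    Function.Surjective (Psi F c U) := by
  intro σ
  obtain ⟨j, r, hr⟩ := h σ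
  exact ⟨colimit.ι (F ⋙ ev U) j r, (Psi_ι F c U j r).trans hr⟩

end Groth.Agent.Helper19.ColimSheaf
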