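import Mathlib
import Groth.Agent.Lib.Helper18.LSubZorn
import Groth.Agent.Lib.Helper18.LSubFactor

/-!
# ACC for arbitrary sub-`O_X`-modules over a Noetherian affine open (helper19)

Namespace `Groth.Agent.Helper19.NoethCore`.  For a sequence `K : ℕ → LSub F` of (not necessarily
quasi-coherent) sub-`O_X`-modules (helper18's `LSub`):
* `Stat K W`: the sequence is stationary over the open `W` (`∃ N, ∀ n, ∀ T ≤ W, K n T ≤ K N T`);
  `Stat.mono`, `Stat.sup`, `stat_bot`.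
* `sat S 𝔭`: sections over an affine `V` lying in `S` near the point `𝔭`; `exists_stat_near`.
* `stat_of_stat_inf`: Noetherian induction on ideals of `Γ(X, V)`.
* `stat_top`: if `V` is affine open, `F` localizes on `V`, `Γ(X, V)` is a Noetherian ring and
  `Γ(F, V)` a Noetherian module, every monotone `K` is stationary over `V`.
-/

set_option autoImplicit false
set_option linter.unusedSectionVars false
universe u
open CategoryTheory CategoryTheory.Limits AlgebraicGeometry TopologicalSpace Opposite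

namespace Groth.Agent.Helper19.NoethCore

open Groth.Agent.Lib.Helper49 Groth.Agent.Lib.Helper45 Groth.Agent.Lib.Helper18.LSubM
open Groth.Agent.Lib.Helper18

variable {X : Scheme.{u}} {F : X.Modules} {V : X.Opens}

/-- the open complement in `V` of the zero locus of an ideal of `Γ(X, V)` -/
def U𝔞 (𝔞 : Ideal Γ(X, V)) : X.Opens := ⨆ f : 𝔞, X.basicOpen (f : Γ(X, V))

theorem mem_U𝔞 {𝔞 : Ideal Γ(X, V)} {y : X} : y ∈ U𝔞 𝔞 ↔ ∃ f ∈ 𝔞, y ∈ X.basicOpen f := by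
  unfold U𝔞
  rw [Opens.mem_iSup]
  constructor
  · rintro ⟨f, hf⟩
    exact ⟨f.1, f.2, hf⟩
  · rintro ⟨f, hf, hy⟩
    exact ⟨⟨f, hf⟩, hy⟩

theorem U𝔞_le (𝔞 : Ideal Γ(X, V)) : U𝔞 𝔞 ≤ V := by
  intro y hy
  obtain ⟨f, -, hyf⟩ := mem_U𝔞.mp hy
  exact X.basicOpen_le f hyf

variable (K : ℕ → LSub F)

/-- the sequence is stationary over the open `W` -/
def Stat (W : X.Opens) : Prop := ∃ N, ∀ n, ∀ T ≤ W, (K n).obj T ≤ (K N).obj T

variable {K}

theorem Stat.mono {W W' : X.Opens} (h : W' ≤ W) (hW : Stat K W) : Stat K W' := by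
  obtain ⟨N, hN⟩ := hW
  exact ⟨N, fun n T hT => hN n T (hT.trans h)⟩

theorem Stat.sup (hK : Monotone K) {W₁ W₂ : X.Opens} (h₁ : Stat K W₁) (h₂ : Stat K W₂) :
    Stat K (W₁ ⊔ W₂) := by
  obtain ⟨N₁, hN₁⟩ := h₁
  obtain ⟨N₂, hN₂⟩ := h₂
  refine ⟨max N₁ N₂, fun n T hT s hs => ?_⟩
  apply (K (max N₁ N₂)).isLocal
  intro y hy
  rcases hT hy with hy₁ | hy₂
  · refine ⟨T ⊓ W₁, inf_le_left, ⟨hy, hy₁⟩, ?_⟩
    have h1 := hN₁ n (T ⊓ W₁) inf_le_right ((K n).res_mem inf_le_left hs)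
    exact (LSub.le_def.mp (hK (le_max_left N₁ N₂))) _ h1
  · refine ⟨T ⊓ W₂, inf_le_left, ⟨hy, hy₂⟩, ?_⟩
    have h1 := hN₂ n (T ⊓ W₂) inf_le_right ((K n).res_mem inf_le_left hs)
    exact (LSub.le_def.mp (hK (le_max_right N₁ N₂))) _ h1

theorem stat_bot : Stat K ⊥ := by
  refine ⟨0, fun n T hT s _ => ?_⟩
  apply (K 0).isLocal
  intro y hy
  exact absurd (hT hy) (by simp)

section Local

variable (S : LSub F) (𝔭 : Ideal Γ(X, V)) [𝔭.IsPrime]

/-- the sections over `V` which lie in `S` over some basic open `D(f)`, `f ∉ 𝔭` -/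
noncomputable def sat : Submodule Γ(X, V) Γ(F, V) where
  carrier := {t | ∃ f : Γ(X, V), f ∉ 𝔭 ∧ mres F (X.basicOpen_le f) t ∈ S.obj (X.basicOpen f)}
  zero_mem' := ⟨1, fun h => (Ideal.IsPrime.ne_top inferInstance) ((Ideal.eq_top_iff_one 𝔭).mpr h),
    by rw [map_zero]; exact Submodule.zero_mem _⟩
  add_mem' := by
    rintro a b ⟨f, hf, ha⟩ ⟨g, hg, hb⟩
    refine ⟨f * g, fun h => (Ideal.IsPrime.mem_or_mem inferInstance h).elim hf hg, ?_⟩
    have hle₁ : X.basicOpen (f * g) ≤ X.basicOpen f := by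
      rw [Scheme.basicOpen_mul]; exact inf_le_left
    have hle₂ : X.basicOpen (f * g) ≤ X.basicOpen g := by
      rw [Scheme.basicOpen_mul]; exact inf_le_right
    rw [map_add]
    refine Submodule.add_mem _ ?_ ?_
    · have := S.res_mem hle₁ ha
      rwa [mres_mres] at this
    · have := S.res_mem hle₂ hb
      rwa [mres_mres] at this
  smul_mem' := by
    rintro c a ⟨f, hf, ha⟩
    refine ⟨f, hf, ?_⟩
    rw [mres_smul]
    exact Submodule.smul_mem _ _ ha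

theorem sat_mono {S S' : LSub F} (h : S ≤ S') : sat S 𝔭 ≤ sat S' 𝔭 := by
  rintro t ⟨f, hf, ht⟩
  exact ⟨f, hf, LSub.le_def.mp h _ ht⟩

end Local

section Step

variable (hV : IsAffineOpen V) (hF : IsLocalizingOn F V) [IsNoetherianRing Γ(X, V)]
  [IsNoetherian Γ(X, V) Γ(F, V)] (hK : Monotone K)

include hV hF hK in
/-- the local step: near the zero locus of a prime `𝔭`, on a basic open `D(g)` with `g ∉ 𝔭`, the
sequence is stationary. -/
theorem exists_stat_near (𝔭 : Ideal Γ(X, V)) [𝔭.IsPrime] :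
    ∃ g : Γ(X, V), g ∉ 𝔭 ∧ ∃ N, ∀ n, ∀ T ≤ X.basicOpen g, ∀ s ∈ (K n).obj T, ∀ y ∈ T,
      (∀ f ∈ 𝔭, y ∉ X.basicOpen f) →
        ∃ (D : X.Opens) (hD : D ≤ T), y ∈ D ∧ mres F hD s ∈ (K N).obj D := by
  classical
  -- the chain of saturations stabilizes
  let c : ℕ →o Submodule Γ(X, V) Γ(F, V) :=
    ⟨fun n => sat (K n) 𝔭, fun a b hab => sat_mono 𝔭 (hK hab)⟩
  obtain ⟨N, hN⟩ := (monotone_stabilizes_iff_noetherian.mpr inferInstance) c
  -- a common denominator for generators of `sat (K N) 𝔭`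
  obtain ⟨gens, hgens⟩ := (IsNoetherian.noetherian (sat (K N) 𝔭) : (sat (K N) 𝔭).FG)
  have hmem : ∀ t ∈ gens, ∃ f : Γ(X, V), f ∉ 𝔭 ∧
      mres F (X.basicOpen_le f) t ∈ (K N).obj (X.basicOpen f) := by
    intro t ht
    have : t ∈ sat (K N) 𝔭 := by rw [← hgens]; exact Submodule.subset_span ht
    exact this
  choose! φ hφ hφmem using hmem
  let g : Γ(X, V) := ∏ t ∈ gens, φ t
  have hg : g ∉ 𝔭 := by
    intro h
    obtain ⟨t, ht, htp⟩ := (Ideal.IsPrime.prod_mem_iff (hp := inferInstance)).mp h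
    exact hφ t ht htp
  have hgle : ∀ t ∈ gens, X.basicOpen g ≤ X.basicOpen (φ t) := by
    intro t ht
    have : g = φ t * ∏ t' ∈ gens.erase t, φ t' := (Finset.mul_prod_erase gens φ ht).symm
    rw [this, Scheme.basicOpen_mul]
    exact inf_le_left
  -- `sat (K N) 𝔭` restricts into `K N` over `D(g)`
  have hsat : ∀ t ∈ sat (K N) 𝔭, mres F (X.basicOpen_le g) t ∈ (K N).obj (X.basicOpen g) := by
    intro t ht
    rw [← hgens] at ht
    induction ht using Submodule.span_induction with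
    | mem t ht =>
      have := (K N).res_mem (hgle t ht) (hφmem t ht)
      rwa [mres_mres] at this
    | zero => rw [map_zero]; exact Submodule.zero_mem _
    | add a b _ _ ha hb => rw [map_add]; exact Submodule.add_mem _ ha hb
    | smul r a _ ha => rw [mres_smul]; exact Submodule.smul_mem _ _ ha
  refine ⟨g, hg, N, fun n T hT s hs y hy hy𝔭 => ?_⟩
  by_cases hnN : n ≤ N
  · exact ⟨T, le_rfl, hy, by rw [mres_self]; exact LSub.le_def.mp (hK hnN) _ hs⟩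
  · have hNn : N ≤ n := le_of_not_ge hnN
    have hyV : y ∈ V := X.basicOpen_le g (hT hy)
    obtain ⟨h, hhle, hyh⟩ := hV.exists_basicOpen_le (V := T) ⟨y, hy⟩ hyV
    have hh𝔭 : h ∉ 𝔭 := fun hh => hy𝔭 h hh hyh
    obtain ⟨k, t, ht⟩ := hF.exists_restrict_eq_pow_smul h (mres F hhle s)
    change mres F (X.basicOpen_le h) t = (fres (X.basicOpen_le h) h) ^ k • mres F hhle s at ht
    have hsD : mres F hhle s ∈ (K n).obj (X.basicOpen h) := (K n).res_mem hhle hs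
    have htsat : t ∈ sat (K n) 𝔭 := ⟨h, hh𝔭, by rw [ht]; exact Submodule.smul_mem _ _ hsD⟩
    have htsatN : t ∈ sat (K N) 𝔭 := by
      have := hN n hNn
      change sat (K N) 𝔭 = sat (K n) 𝔭 at this
      rw [this]; exact htsat
    have h1 := hsat t htsatN
    have h2 := (K N).res_mem (hhle.trans hT) h1
    rw [mres_mres, ht] at h2
    exact ⟨X.basicOpen h, hhle, hyh,
      (K N).mem_of_isUnit_smul_mem ((isUnit_fres_basicOpen h).pow k) h2⟩

theorem U𝔞_sup_span_le (𝔞 : Ideal Γ(X, V)) (g : Γ(X, V)) :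
    U𝔞 (𝔞 ⊔ Ideal.span {g}) ≤ U𝔞 𝔞 ⊔ X.basicOpen g := by
  intro y hy
  obtain ⟨f, hf, hyf⟩ := mem_U𝔞.mp hy
  obtain ⟨a, ha, b, hb, rfl⟩ := Submodule.mem_sup.mp hf
  obtain ⟨r, rfl⟩ := Ideal.mem_span_singleton'.mp hb
  rcases X.basicOpen_add_le a (r * g) hyf with h1 | h2
  · exact Or.inl (mem_U𝔞.mpr ⟨a, ha, h1⟩)
  · rw [Scheme.basicOpen_mul] at h2
    exact Or.inr h2.2

theorem U𝔞_inf_le {𝔞 𝔟₁ 𝔟₂ : Ideal Γ(X, V)} (h : 𝔟₁ * 𝔟₂ ≤ 𝔞) :
    U𝔞 𝔟₁ ⊓ U𝔞 𝔟₂ ≤ U𝔞 𝔞 := by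
  rintro y ⟨hy₁, hy₂⟩
  obtain ⟨f₁, hf₁, hyf₁⟩ := mem_U𝔞.mp hy₁
  obtain ⟨f₂, hf₂, hyf₂⟩ := mem_U𝔞.mp hy₂
  refine mem_U𝔞.mpr ⟨f₁ * f₂, h (Ideal.mul_mem_mul hf₁ hf₂), ?_⟩
  rw [Scheme.basicOpen_mul]
  exact ⟨hyf₁, hyf₂⟩

include hV hF hK in
theorem stat_of_stat_inf (𝔞 : Ideal Γ(X, V)) :
    ∀ W ≤ V, Stat K (W ⊓ U𝔞 𝔞) → Stat K W := by
  induction 𝔞 using WellFoundedGT.induction with
  | ind 𝔞 ih =>
  intro W hW hstat
  by_cases htop : 𝔞 = ⊤
  · subst htop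
    refine hstat.mono ?_
    refine le_inf le_rfl ?_
    intro y hy
    refine mem_U𝔞.mpr ⟨1, Submodule.mem_top, ?_⟩
    rw [Scheme.basicOpen_of_isUnit X isUnit_one]
    exact hW hy
  by_cases hprime : 𝔞.IsPrime
  · obtain ⟨g, hg, N₁, hN₁⟩ := exists_stat_near hV hF hK 𝔞
    obtain ⟨N₀, hN₀⟩ := hstat
    have hstatg : Stat K (W ⊓ X.basicOpen g) := by
      refine ⟨max N₀ N₁, fun n T hT s hs => ?_⟩
      apply (K (max N₀ N₁)).isLocal
      intro y hy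
      by_cases hy𝔞 : ∃ f ∈ 𝔞, y ∈ X.basicOpen f
      · obtain ⟨f, hf, hyf⟩ := hy𝔞
        refine ⟨T ⊓ X.basicOpen f, inf_le_left, ⟨hy, hyf⟩, ?_⟩
        have hle : T ⊓ X.basicOpen f ≤ W ⊓ U𝔞 𝔞 :=
          le_inf (inf_le_left.trans (hT.trans inf_le_left))
            (fun z hz => mem_U𝔞.mpr ⟨f, hf, hz.2⟩)
        have h1 := hN₀ n _ hle ((K n).res_mem inf_le_left hs)
        exact LSub.le_def.mp (hK (le_max_left N₀ N₁)) _ h1
      · push Not at hy𝔞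
        obtain ⟨D, hD, hyD, hm⟩ := hN₁ n T (hT.trans inf_le_right) s hs y hy hy𝔞
        exact ⟨D, hD, hyD, LSub.le_def.mp (hK (le_max_right N₀ N₁)) _ hm⟩
    have hstat' : Stat K (W ⊓ U𝔞 (𝔞 ⊔ Ideal.span {g})) := by
      refine (Stat.sup hK ⟨N₀, hN₀⟩ hstatg).mono ?_
      intro y hy
      rcases U𝔞_sup_span_le 𝔞 g hy.2 with h1 | h2
      · exact Or.inl ⟨hy.1, h1⟩
      · exact Or.inr ⟨hy.1, h2⟩
    have hlt : 𝔞 < 𝔞 ⊔ Ideal.span {g} := by
      refine lt_of_le_of_ne le_sup_left fun h => hg ?_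
      rw [h]
      exact Ideal.mem_sup_right (Ideal.subset_span rfl)
    exact ih _ hlt W hW hstat'
  · -- `𝔞` is a proper ideal which is not prime
    rw [Ideal.isPrime_iff] at hprime
    push Not at hprime
    obtain ⟨a, b, hab, ha, hb⟩ := hprime htop
    have hlt₁ : 𝔞 < 𝔞 ⊔ Ideal.span {a} := by
      refine lt_of_le_of_ne le_sup_left fun h => ha ?_
      rw [h]
      exact Ideal.mem_sup_right (Ideal.subset_span rfl)
    have hlt₂ : 𝔞 < 𝔞 ⊔ Ideal.span {b} := by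
      refine lt_of_le_of_ne le_sup_left fun h => hb ?_
      rw [h]
      exact Ideal.mem_sup_right (Ideal.subset_span rfl)
    have hmul : (𝔞 ⊔ Ideal.span {a}) * (𝔞 ⊔ Ideal.span {b}) ≤ 𝔞 := by
      rw [Ideal.mul_le]
      intro x hx z hz
      obtain ⟨x₁, hx₁, x₂, hx₂, rfl⟩ := Submodule.mem_sup.mp hx
      obtain ⟨z₁, hz₁, z₂, hz₂, rfl⟩ := Submodule.mem_sup.mp hz
      obtain ⟨r, rfl⟩ := Ideal.mem_span_singleton'.mp hx₂
      obtain ⟨r', rfl⟩ := Ideal.mem_span_singleton'.mp hz₂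
      have e : (x₁ + r * a) * (z₁ + r' * b) =
          x₁ * (z₁ + r' * b) + z₁ * (r * a) + (r * r') * (a * b) := by ring
      rw [e]
      exact 𝔞.add_mem (𝔞.add_mem (𝔞.mul_mem_right _ hx₁) (𝔞.mul_mem_right _ hz₁))
        (𝔞.mul_mem_left _ hab)
    have h1 : Stat K (W ⊓ U𝔞 (𝔞 ⊔ Ideal.span {b})) := by
      refine ih _ hlt₁ _ (inf_le_left.trans hW) (hstat.mono ?_)
      intro y hy
      exact ⟨hy.1.1, U𝔞_inf_le hmul ⟨hy.2, hy.1.2⟩⟩
    exact ih _ hlt₂ W hW h1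

include hV hF hK in
/-- **ACC for arbitrary sub-`O_X`-modules over a Noetherian affine open**: an increasing sequence
of sub-`O_X`-modules of `F` is stationary over `V` as soon as `Γ(F, V)` is a Noetherian module
(and `F` localizes correctly on `V`). -/
theorem stat_top : Stat K V := by
  refine stat_of_stat_inf hV hF hK ⊥ V le_rfl (stat_bot.mono ?_)
  intro y hy
  obtain ⟨f, hf, hyf⟩ := mem_U𝔞.mp hy.2
  rw [Ideal.mem_bot] at hf
  subst hf
  rw [Scheme.basicOpen_zero] at hyf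
  exact hyf

end Step

end Groth.Agent.Helper19.NoethCore
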