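import Mathlib
import Groth.Prelude.Def_QCohCat
import Groth.Agent.Lib.Helper49.QCohLocal
import Groth.Agent.Lib.Helper1.PushSupport

/-!
# `QCoh X` is an abelian category with all small colimits (helper19)

Closure properties of the object property `QCohCat.isQCoh X` as Mathlib instances, giving
`Abelian (QCohCat.QCoh X)` and `HasColimitsOfSize.{u, u} (QCohCat.QCoh X)` for every scheme `X`.
-/

set_option autoImplicit false
universe u
open CategoryTheory CategoryTheory.Limits AlgebraicGeometry

namespace Groth.Agent.Helper19.QCohAbelian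

open Groth.Agent.Lib.Helper49
open scoped ZeroObject

variable (X : Scheme.{u})

instance : (QCohCat.isQCoh X).IsClosedUnderIsomorphisms where
  of_iso e h := isQuasicoherent_of_iso e h

instance : (QCohCat.isQCoh X).ContainsZero where
  exists_zero := ⟨0, isZero_zero _,
    Groth.Agent.Lib.Helper1.isQuasicoherent_of_isZero _ (isZero_zero _)⟩

instance : (QCohCat.isQCoh X).IsClosedUnderKernels where
  kernels_le := by
    rintro _ ⟨f, k, hk, ⟨hX, hY⟩⟩
    exact (QCohCat.isQCoh X).prop_of_iso
      (IsLimit.conePointUniqueUpToIso (kernelIsKernel f) hk) (isQuasicoherent_kernel f hX hY)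

instance : (QCohCat.isQCoh X).IsClosedUnderCokernels where
  cokernels_le := by
    rintro _ ⟨f, k, hk, ⟨hX, hY⟩⟩
    exact (QCohCat.isQCoh X).prop_of_iso
      (IsColimit.coconePointUniqueUpToIso (cokernelIsCokernel f) hk)
      (isQuasicoherent_cokernel f hX hY)

instance (J : Type u) [SmallCategory J] : (QCohCat.isQCoh X).IsClosedUnderColimitsOfShape J :=
  ObjectProperty.IsClosedUnderColimitsOfShape.mk' (by
    rintro _ ⟨F, hF⟩
    exact isQuasicoherent_colimit F hF)

instance (J : Type) [SmallCategory J] [FinCategory J] :
    (QCohCat.isQCoh X).IsClosedUnderLimitsOfShape J :=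
  ObjectProperty.IsClosedUnderLimitsOfShape.mk' (by
    rintro _ ⟨F, hF⟩
    exact isQuasicoherent_finite_limit F hF)

instance : (QCohCat.isQCoh X).IsClosedUnderFiniteProducts where
  isClosedUnderLimitsOfShape J _ := by
    have := Fintype.ofFinite J
    infer_instance

noncomputable instance : Abelian (QCohCat.QCoh X) := inferInstance

instance : HasColimitsOfSize.{u, u} (QCohCat.QCoh X) where

end Groth.Agent.Helper19.QCohAbelian
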