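import Mathlib
import Groth.Agent.Lib.Helper30.ModSAFT
import Groth.Agent.Lib.Helper42.HomColim
import Groth.Agent.Lib.Helper18.FPColim
import Groth.Agent.Lib.Helper19.QCohAbelian

/-!
# A small separating family of `QCoh X` and the special adjoint functor theorem (helper19)

Namespace `Groth.Agent.Helper19.QCohSep`.
* `freeOn R V`, `homEquivSec`, `homEquivSec_comp`: on a small site, the sheaf of modules freely
  generated by a section over `V` and `Hom(freeOn R V, M) ≃ M(V)`, natural in `M`.
* `exists_epi_of_isFiniteType`, `exists_epi_fin`: on a quasi-compact space a module of finite type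
  is a quotient of a finite coproduct of modules `freeOn R V`.
* `wellPowered`: sheaves of modules on a topological space form a well-powered category.
* `Idx`, `quot`, `exists_iso_quot`: modules of finite type have a small set of isomorphism classes.
* `sepProp`, `sepProp_isSeparating`: a small separating family of `QCoh X` for `X` qcqs.
* `isLeftAdjoint_of_preservesColimits`: cocontinuous functors on `QCoh X` are left adjoints.
-/

set_option autoImplicit false
universe u
open CategoryTheory CategoryTheory.Limits TopologicalSpace Opposite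

namespace Groth.Agent.Helper19.QCohSep

section Site

variable {C : Type u} [SmallCategory C] {J : GrothendieckTopology C} (R : Sheaf J RingCat.{u})

/-- the sheaf of modules freely generated by a section over `V` -/
noncomputable def freeOn (V : C) : SheafOfModules.{u} R :=
  (PresheafOfModules.sheafification.{u} (𝟙 R.obj)).obj
    ((PresheafOfModules.free R.obj).obj (yoneda.obj V))

/-- morphisms out of `freeOn R V` are sections over `V` -/
noncomputable def homEquivSec (V : C) (M : SheafOfModules.{u} R) :
    (freeOn R V ⟶ M) ≃ M.val.obj (op V) :=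
  ((PresheafOfModules.sheafificationAdjunction.{u} (𝟙 R.obj)).homEquiv _ M).trans
    PresheafOfModules.freeYonedaEquiv

theorem homEquivSec_comp (V : C) {M N : SheafOfModules.{u} R} (g : freeOn R V ⟶ M) (f : M ⟶ N) :
    homEquivSec R V N (g ≫ f) = f.val.app (op V) (homEquivSec R V M g) := by
  have h := Adjunction.homEquiv_naturality_right
    (PresheafOfModules.sheafificationAdjunction.{u} (𝟙 R.obj)) g f
  change PresheafOfModules.freeYonedaEquiv
    ((PresheafOfModules.sheafificationAdjunction.{u} (𝟙 R.obj)).homEquiv _ N (g ≫ f)) = _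
  rw [h]
  rfl

end Site

section Top

open Groth.Agent.Lib.Helper42 Groth.Agent.Lib.Helper42.FTLocal Groth.Agent.Lib.Helper42.HomColim

variable {X : TopCat.{u}} [CompactSpace X] {R : Sheaf (Opens.grothendieckTopology X) RingCat.{u}}

/-- on a quasi-compact space, a module of finite type is a quotient of a finite coproduct of
modules `freeOn R V`. -/
theorem exists_epi_of_isFiniteType (M : SheafOfModules.{u} R)
    (hM : SheafOfModules.IsFiniteType.{u} M) :
    ∃ (T : Type u) (_ : Fintype T) (V : T → Opens X)
      (π : (∐ fun a => freeOn R (V a)) ⟶ M), Epi π := by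
  have h := (isFiniteType_iff M).mp hM
  choose U hyU I hI s hs using h
  obtain ⟨t, ht⟩ := (isCompact_univ (X := X)).elim_nhds_subcover (fun y => (U y : Set X))
    (fun y _ => (U y).2.mem_nhds (hyU y))
  let T := Σ y : t, I y.1
  let V : T → Opens X := fun a => U a.1.1
  let σ : ∀ a : T, freeOn R (V a) ⟶ M := fun a => (homEquivSec R (V a) M).symm (s a.1.1 a.2)
  refine ⟨T, inferInstance, V, Sigma.desc σ, ⟨fun α β hαβ => ?_⟩⟩
  refine hom_ext_of_isLocGen α β fun z => ?_
  have hz : z ∈ ⋃ y ∈ t, (U y : Set X) := ht.2 (Set.mem_univ z)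
  simp only [Set.mem_iUnion] at hz
  obtain ⟨y, hy, hzy⟩ := hz
  refine ⟨U y, hzy, I y, hI y, s y, hs y, fun n => ?_⟩
  have h1 : σ ⟨⟨y, hy⟩, n⟩ ≫ α = σ ⟨⟨y, hy⟩, n⟩ ≫ β := by
    have := congrArg (fun q => Sigma.ι (fun a => freeOn R (V a)) ⟨⟨y, hy⟩, n⟩ ≫ q) hαβ
    simpa using this
  have h2 := congrArg (homEquivSec R (V ⟨⟨y, hy⟩, n⟩) _) h1
  rw [homEquivSec_comp, homEquivSec_comp] at h2
  simpa [σ] using h2

/-- the finite coproduct of the modules `freeOn R (V i)` -/
noncomputable def P (R : Sheaf (Opens.grothendieckTopology X) RingCat.{u}) (m : ℕ)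
    (V : Fin m → Opens X) : SheafOfModules.{u} R := ∐ fun i => freeOn R (V i)

theorem exists_epi_fin (M : SheafOfModules.{u} R) (hM : SheafOfModules.IsFiniteType.{u} M) :
    ∃ (m : ℕ) (V : Fin m → Opens X) (π : P R m V ⟶ M), Epi π := by
  obtain ⟨T, _, V, π, hπ⟩ := exists_epi_of_isFiniteType M hM
  let e := Fintype.equivFin T
  exact ⟨Fintype.card T, V ∘ e.symm,
    (Sigma.reindex e.symm (fun a => freeOn R (V a))).hom ≫ π, inferInstance⟩

omit [CompactSpace X] in
instance wellPowered : WellPowered.{u} (SheafOfModules.{u} R) :=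
  wellPowered_of_isDetecting
    (Groth.Agent.Lib.Helper30.ModSAFT.freeYonedaSh_isSeparating R).isDetecting

variable (X R) in
/-- a small type parametrising all quotients of the modules `P R m V` -/
def Idx : Type (u + 1) := Σ (m : ℕ) (V : Fin m → Opens X), Subobject (P R m V)

omit [CompactSpace X] in
instance : Small.{u} (Idx X R) := by
  unfold Idx
  infer_instance

/-- the quotient attached to an index -/
noncomputable def quot (t : Idx X R) : SheafOfModules.{u} R := cokernel t.2.2.arrow

theorem exists_iso_quot (M : SheafOfModules.{u} R) (hM : SheafOfModules.IsFiniteType.{u} M) :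
    ∃ t : Idx X R, Nonempty (quot t ≅ M) := by
  obtain ⟨m, V, π, hπ⟩ := exists_epi_fin M hM
  refine ⟨⟨m, V, kernelSubobject π⟩, ⟨?_⟩⟩
  have hlim : IsLimit (KernelFork.ofι (kernelSubobject π).arrow (kernelSubobject_arrow_comp π)) :=
    IsLimit.ofIsoLimit (kernelIsKernel π)
      (Fork.ext (kernelSubobjectIso π).symm (by simp))
  exact IsColimit.coconePointUniqueUpToIso (cokernelIsCokernel (kernelSubobject π).arrow)
    (Abelian.epiIsCokernelOfKernel _ hlim)

end Top

section Scheme

open AlgebraicGeometry Groth.Agent.Lib.Helper49 Groth.Agent.Lib.Helper18.FPM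
open Groth.Agent.Helper19.QCohAbelian

variable (X : Scheme.{u})

/-- index type of the separating family of `QCoh X` -/
def SepIdx : Type (u + 1) :=
  {t : Idx X.toPresheafedSpace.carrier X.ringCatSheaf // (QCohCat.isQCoh X) (quot t)}

instance : Small.{u} (SepIdx X) := by
  unfold SepIdx
  infer_instance

/-- the members of the separating family -/
noncomputable def sepObj (t : SepIdx X) : QCohCat.QCoh X := ⟨quot t.1, t.2⟩

/-- the separating family of `QCoh X`: the quasi-coherent quotients of finite coproducts of free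
modules on opens. -/
def sepProp : ObjectProperty (QCohCat.QCoh X) := .ofObj (sepObj X)

instance : ObjectProperty.Small.{u} (sepProp X) := by
  unfold sepProp
  infer_instance

theorem sepProp_isSeparating [CompactSpace X] [QuasiSeparatedSpace X] :
    (sepProp X).IsSeparating := by
  intro M N f₁ f₂ h
  obtain ⟨Mo, hMo⟩ := M
  have : Mo.IsQuasicoherent := hMo
  obtain ⟨J, _, _, _, D, c, ⟨hc⟩, hpt, hfp⟩ := exists_filtered_fp_colimit Mo
  subst hpt
  apply (QCohCat.isQCoh X).hom_ext
  refine hc.hom_ext fun j => ?_
  have hfpj := hfp j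
  have hft : SheafOfModules.IsFiniteType.{u} (R := X.ringCatSheaf) (D.obj j) := inferInstance
  obtain ⟨t, ⟨e⟩⟩ := exists_iso_quot (X := X.toPresheafedSpace.carrier) (R := X.ringCatSheaf)
    (D.obj j) hft
  have hq : (QCohCat.isQCoh X) (quot t) :=
    isQuasicoherent_of_iso e.symm (isQuasicoherent_of_isFinitePresentation (hfp j))
  have hmem : sepProp X (sepObj X ⟨t, hq⟩) := ObjectProperty.ofObj.mk (⟨t, hq⟩ : SepIdx X)
  let g : sepObj X ⟨t, hq⟩ ⟶ ⟨c.pt, hMo⟩ := (QCohCat.isQCoh X).homMk (e.hom ≫ c.ι.app j)
  have h1 := h (sepObj X ⟨t, hq⟩) hmem g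
  have h2 : (e.hom ≫ c.ι.app j) ≫ f₁.hom = (e.hom ≫ c.ι.app j) ≫ f₂.hom :=
    congrArg (fun q => q.hom) h1
  rw [Category.assoc, Category.assoc] at h2
  exact (cancel_epi e.hom).mp h2

/-- a functor out of `QCoh X` (`X` quasi-compact quasi-separated) which preserves small colimits
is a left adjoint. -/
theorem isLeftAdjoint_of_preservesColimits [CompactSpace X] [QuasiSeparatedSpace X]
    {A : Type*} [Category.{u} A] (F : QCohCat.QCoh X ⥤ A) [PreservesColimitsOfSize.{u, u} F] :
    F.IsLeftAdjoint := by
  have hsep := sepProp_isSeparating X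
  have hwp : WellPowered.{u} (QCohCat.QCoh X) := wellPowered_of_isDetecting hsep.isDetecting
  have hwp' : WellPowered.{u} (QCohCat.QCoh X)ᵒᵖ := inferInstance
  exact isLeftAdjoint_of_preservesColimits_of_isSeparating hsep F

end Scheme

end Groth.Agent.Helper19.QCohSep
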