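import Mathlib
import Groth.Agent.Lib.Helper19.QCohSep
import Groth.Agent.Lib.Helper45.SummandFree
import Groth.Prelude.Def_CxOX

/-!
# `j_! O_U` as the module freely generated by a section over the image of `j` (helper19)

Namespace `Groth.Agent.Helper19.Shriek`.
* `toUnit R V : freeOn R V ⟶ unit R` (the section `1` over `V`), `homEquivSec_toUnit`,
  `mono_toUnit` (a monomorphism when `V` is subterminal, e.g. on the site of opens of a space).
* `exists_iso_of_corep`: two objects corepresenting the same functor are isomorphic.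
* `shriekEquiv j M : (CxOX.extZeroUnit j ⟶ M) ≃ M(j(U))`, natural in `M` (`shriekEquiv_comp`).
* `exists_iso_freeOn j : CxOX.extZeroUnit j ≅ freeOn X.ringCatSheaf (j ''ᵁ ⊤)`.
-/

set_option autoImplicit false
universe u
open CategoryTheory CategoryTheory.Limits TopologicalSpace Opposite

namespace Groth.Agent.Helper19.Shriek

open Groth.Agent.Helper19.QCohSep

section Site

variable {C : Type u} [SmallCategory C] {J : GrothendieckTopology C} (R : Sheaf J RingCat.{u})

/-- the canonical map `freeOn R V ⟶ unit` corresponding to the section `1` over `V` -/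
noncomputable def toUnit (V : C) : freeOn R V ⟶ SheafOfModules.unit R :=
  (homEquivSec R V (SheafOfModules.unit R)).symm (1 : R.obj.obj (op V))

theorem homEquivSec_toUnit (V : C) :
    homEquivSec R V (SheafOfModules.unit R) (toUnit R V) = (1 : R.obj.obj (op V)) :=
  Equiv.apply_symm_apply _ _

/-- the presheaf-level map -/
noncomputable def toUnit₀ (V : C) :=
  (PresheafOfModules.sheafificationAdjunction.{u} (𝟙 R.obj)).homEquiv _ _ (toUnit R V)

theorem freeYonedaEquiv_toUnit₀ (V : C) :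
    PresheafOfModules.freeYonedaEquiv (toUnit₀ R V) = (1 : R.obj.obj (op V)) :=
  homEquivSec_toUnit R V

theorem toUnit₀_app_freeMk (V : C) (T : Cᵒᵖ) (f : T.unop ⟶ V) :
    (toUnit₀ R V).app T (ModuleCat.freeMk f) = (1 : R.obj.obj T) := by
  have h1 := PresheafOfModules.freeYonedaEquiv_symm_app _ V
    (PresheafOfModules.freeYonedaEquiv (toUnit₀ R V))
  rw [Equiv.symm_apply_apply, freeYonedaEquiv_toUnit₀] at h1
  have h2 := PresheafOfModules.naturality_apply (toUnit₀ R V) f.op (ModuleCat.freeMk (𝟙 V))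
  rw [h1] at h2
  have e1 : (((PresheafOfModules.free R.obj).obj (yoneda.obj V)).map f.op)
      (ModuleCat.freeMk (𝟙 V)) = ModuleCat.freeMk f := by
    have h := ModuleCat.freeDesc_apply (R := R.obj.obj (op V))
      (M := (ModuleCat.restrictScalars (R.obj.map f.op).hom).obj
        ((ModuleCat.free (R.obj.obj T)).obj ((yoneda.obj V).obj T)))
      (↾fun x => ModuleCat.freeMk ((yoneda.obj V).map f.op x)) (𝟙 V)
    refine h.trans ?_
    change ModuleCat.freeMk (f ≫ 𝟙 V) = ModuleCat.freeMk f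
    rw [Category.comp_id]
  have e2 : (((SheafOfModules.forget R ⋙ PresheafOfModules.restrictScalars (𝟙 R.obj)).obj
      (SheafOfModules.unit R)).map f.op) (1 : R.obj.obj (op V)) = (1 : R.obj.obj T) :=
    map_one (R.obj.map f.op).hom
  rw [e1, e2] at h2
  exact h2

theorem toUnit₀_app_injective (V : C) (hV : ∀ T : C, Subsingleton (T ⟶ V)) (T : Cᵒᵖ) :
    Function.Injective ((toUnit₀ R V).app T) := by
  by_cases hne : Nonempty (T.unop ⟶ V)
  · obtain ⟨f⟩ := hne
    have key : ∀ c : (T.unop ⟶ V) →₀ R.obj.obj T,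
        (toUnit₀ R V).app T c = c f := by
      intro c
      have hc : c = (c f) • (Finsupp.single f (1 : R.obj.obj T)) := by
        ext g
        have hg : g = f := (hV _).elim g f
        subst hg
        simp
      have h1 : (toUnit₀ R V).app T ((c f) • (ModuleCat.freeMk f :
          ((PresheafOfModules.free R.obj).obj (yoneda.obj V)).obj T)) =
          (c f) • (toUnit₀ R V).app T (ModuleCat.freeMk f) := map_smul _ _ _
      rw [toUnit₀_app_freeMk] at h1
      conv_lhs => rw [hc]
      refine h1.trans ?_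
      exact mul_one (c f)
    intro c c' h
    have h2 : (show (T.unop ⟶ V) →₀ R.obj.obj T from c) f =
        (show (T.unop ⟶ V) →₀ R.obj.obj T from c') f := by
      rw [← key, ← key]
      exact h
    change (show (T.unop ⟶ V) →₀ R.obj.obj T from c) = (show (T.unop ⟶ V) →₀ R.obj.obj T from c')
    ext g
    have hg : g = f := (hV _).elim g f
    subst hg
    exact h2
  · have : IsEmpty (T.unop ⟶ V) := not_nonempty_iff.mp hne
    intro c c' _
    exact Subsingleton.elim (α := (T.unop ⟶ V) →₀ R.obj.obj T) c c'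

theorem toUnit_eq (V : C) :
    toUnit R V = (PresheafOfModules.sheafification.{u} (𝟙 R.obj)).map (toUnit₀ R V) ≫
      (PresheafOfModules.sheafificationAdjunction.{u} (𝟙 R.obj)).counit.app _ := by
  have h := (PresheafOfModules.sheafificationAdjunction.{u} (𝟙 R.obj)).homEquiv_counit
    (g := toUnit₀ R V)
  rw [← h]
  exact (Equiv.symm_apply_apply _ _).symm

theorem mono_toUnit (V : C) (hV : ∀ T : C, Subsingleton (T ⟶ V)) : Mono (toUnit R V) := by
  have h0 : Mono (toUnit₀ R V) :=
    PresheafOfModules.mono_of_injective (fun T => toUnit₀_app_injective R V hV T)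
  rw [toUnit_eq]
  have h1 : Mono ((PresheafOfModules.sheafification.{u} (𝟙 R.obj)).map (toUnit₀ R V)) :=
    Functor.map_mono _ _
  exact @mono_comp _ _ _ _ _ _ h1 _ inferInstance

end Site


section Corep

variable {A : Type*} [Category A] {S : A → Type*} (Smap : ∀ {M N : A}, (M ⟶ N) → S M → S N)

/-- two objects corepresenting the same functor are isomorphic -/
theorem exists_iso_of_corep {P Q : A} (Φ : ∀ M, (P ⟶ M) ≃ S M) (Ψ : ∀ M, (Q ⟶ M) ≃ S M)
    (hΦ : ∀ {M N : A} (g : P ⟶ M) (f : M ⟶ N), Φ N (g ≫ f) = Smap f (Φ M g))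
    (hΨ : ∀ {M N : A} (g : Q ⟶ M) (f : M ⟶ N), Ψ N (g ≫ f) = Smap f (Ψ M g)) :
    ∃ e : P ≅ Q, ∀ (M : A) (g : Q ⟶ M), Φ M (e.hom ≫ g) = Ψ M g := by
  let α : Q ⟶ P := (Ψ P).symm (Φ P (𝟙 P))
  let β : P ⟶ Q := (Φ Q).symm (Ψ Q (𝟙 Q))
  have hα : Ψ P α = Φ P (𝟙 P) := Equiv.apply_symm_apply _ _
  have hβ : Φ Q β = Ψ Q (𝟙 Q) := Equiv.apply_symm_apply _ _
  have key : ∀ (M : A) (g : Q ⟶ M), Φ M (β ≫ g) = Ψ M g := by
    intro M g
    rw [hΦ, hβ, ← hΨ, Category.id_comp]
  refine ⟨⟨β, α, ?_, ?_⟩, key⟩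
  · apply (Φ P).injective
    rw [key, hα]
  · apply (Ψ Q).injective
    rw [hΨ, hα, ← hΦ, Category.id_comp, hβ]

end Corep

section Scheme

open AlgebraicGeometry

variable {U X : Scheme.{u}} (j : U ⟶ X) [IsOpenImmersion j]

/-- morphisms out of `j_! O_U` are sections over the image of `j` -/
noncomputable def shriekEquiv (M : X.Modules) :
    (CxOX.extZeroUnit j ⟶ M) ≃ M.val.obj (op (j ''ᵁ ⊤)) :=
  ((CxOX.extZeroAdj j).homEquiv _ M).trans <|
    (SheafOfModules.unitHomEquiv _).trans <|
      Groth.Agent.Lib.Helper45.SummandFree.sectionsEquiv (T := (⊤ : U.Opens)) Limits.isTerminalTop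
        ((Scheme.Modules.restrictFunctor j).obj M)

theorem shriekEquiv_comp {M N : X.Modules} (g : CxOX.extZeroUnit j ⟶ M) (f : M ⟶ N) :
    shriekEquiv j N (g ≫ f) = f.val.app (op (j ''ᵁ ⊤)) (shriekEquiv j M g) := by
  have h := Adjunction.homEquiv_naturality_right (CxOX.extZeroAdj j) g f
  change ((SheafOfModules.unitHomEquiv _) ((CxOX.extZeroAdj j).homEquiv _ N (g ≫ f))).val _ = _
  rw [h]
  rfl

/-- `j_! O_U` is the module freely generated by a section over the image of `j` -/
theorem exists_iso_freeOn :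
    ∃ e : CxOX.extZeroUnit j ≅ freeOn X.ringCatSheaf (j ''ᵁ ⊤),
      ∀ (M : X.Modules) (g : freeOn X.ringCatSheaf (j ''ᵁ ⊤) ⟶ M),
        shriekEquiv j M (e.hom ≫ g) = homEquivSec X.ringCatSheaf (j ''ᵁ ⊤) M g :=
  exists_iso_of_corep (A := X.Modules) (S := fun M => M.val.obj (op (j ''ᵁ ⊤)))
    (fun {M N : X.Modules} (f : M ⟶ N) (x : M.val.obj (op (j ''ᵁ ⊤))) =>
      (SheafOfModules.Hom.val f).app (op (j ''ᵁ ⊤)) x)
    (shriekEquiv j) (homEquivSec X.ringCatSheaf (j ''ᵁ ⊤))
    (fun g f => shriekEquiv_comp j g f) (fun g f => homEquivSec_comp _ _ g f)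

end Scheme

end Groth.Agent.Helper19.Shriek
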