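import Mathlib
import Groth.Agent.Lib.Helper19.NoethCore
import Groth.Agent.Lib.Helper19.Shriek
import Groth.Agent.Lib.Helper18.LSubImage
import Groth.Agent.Lib.Helper45.LocalizingOn

/-!
# `j_! O_U` is a Noetherian object for `U` affine in a locally Noetherian scheme (helper19)

Namespace `Groth.Agent.Helper19.ShriekNoeth`.
* `suppIn F V : LSub F`: the sections of `F` vanishing near every point outside the open `V`.
* `exists_factor_suppIn`: a morphism `freeOn V ⟶ M` factors through `suppIn M V`.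
* `acc_of_mono`: ACC for subobjects of `P`, given a monomorphism `P ⟶ O_X` with image supported
  in a Noetherian affine open `V`.
* `acc_freeOn`, `acc_extZeroUnit`.
-/

set_option autoImplicit false
set_option linter.unusedSectionVars false
universe u
open CategoryTheory CategoryTheory.Limits AlgebraicGeometry TopologicalSpace Opposite

namespace Groth.Agent.Helper19.ShriekNoeth

open Groth.Agent.Lib.Helper49 Groth.Agent.Lib.Helper45 Groth.Agent.Lib.Helper18.LSubM
open Groth.Agent.Lib.Helper18 Groth.Agent.Helper19.NoethCore Groth.Agent.Helper19.QCohSep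
open Groth.Agent.Helper19.Shriek

variable {X : Scheme.{u}}

/-- the sections of `F` vanishing near every point outside `V` -/
noncomputable def suppIn (F : X.Modules) (V : X.Opens) : LSub F where
  obj T :=
    { carrier := {t | ∀ x ∈ T, x ∉ V → ∃ (D : X.Opens) (hD : D ≤ T), x ∈ D ∧ mres F hD t = 0}
      zero_mem' := fun _ hx _ => ⟨T, le_rfl, hx, map_zero _⟩
      add_mem' := by
        intro s t hs ht x hx hxV
        obtain ⟨D₁, h₁, hx₁, e₁⟩ := hs x hx hxV
        obtain ⟨D₂, h₂, hx₂, e₂⟩ := ht x hx hxV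
        refine ⟨D₁ ⊓ D₂, inf_le_left.trans h₁, ⟨hx₁, hx₂⟩, ?_⟩
        have e₁' := congrArg (mres F (inf_le_left : D₁ ⊓ D₂ ≤ D₁)) e₁
        have e₂' := congrArg (mres F (inf_le_right : D₁ ⊓ D₂ ≤ D₂)) e₂
        rw [mres_mres, map_zero] at e₁' e₂'
        rw [map_add, e₁', e₂', add_zero]
      smul_mem' := by
        intro c t ht x hx hxV
        obtain ⟨D, h, hxD, e⟩ := ht x hx hxV
        refine ⟨D, h, hxD, ?_⟩
        rw [mres_smul, e, smul_zero] }
  res_mem := by
    intro U T h t ht x hx hxV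
    obtain ⟨D, hD, hxD, e⟩ := ht x (h hx) hxV
    refine ⟨D ⊓ T, inf_le_right, ⟨hxD, hx⟩, ?_⟩
    have e' := congrArg (mres F (inf_le_left : D ⊓ T ≤ D)) e
    rw [mres_mres, map_zero] at e'
    rw [mres_mres, e']
  isLocal := by
    intro U t H x hx hxV
    obtain ⟨T, hTU, hxT, hm⟩ := H x hx
    obtain ⟨D, hD, hxD, e⟩ := hm x hxT hxV
    refine ⟨D, hD.trans hTU, hxD, ?_⟩
    rw [mres_mres] at e
    exact e

theorem mem_suppIn_of_le (F : X.Modules) {V T : X.Opens} (h : T ≤ V) (t : Γ(F, T)) :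
    t ∈ (suppIn F V).obj T := fun _ hx hxV => absurd (h hx) hxV

/-- the module freely generated by a section over `V`, as an object of `X.Modules` -/
noncomputable abbrev freeV (V : X.Opens) : X.Modules := freeOn X.ringCatSheaf V

/-- morphisms out of `freeV V` are sections over `V` -/
noncomputable def secEquiv (V : X.Opens) (M : X.Modules) : (freeV V ⟶ M) ≃ Γ(M, V) :=
  homEquivSec X.ringCatSheaf V M

theorem secEquiv_comp (V : X.Opens) {M N : X.Modules} (g : freeV V ⟶ M) (f : M ⟶ N) :
    secEquiv V N (g ≫ f) = f.app V (secEquiv V M g) :=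
  homEquivSec_comp X.ringCatSheaf V g f

theorem secEquiv_zero (V : X.Opens) (M : X.Modules) : secEquiv V M 0 = 0 := by
  have h : (0 : freeV V ⟶ M) = (0 : freeV V ⟶ M) ≫ (0 : M ⟶ M) := by rw [comp_zero]
  rw [h, secEquiv_comp]
  rfl

/-- a morphism from the module freely generated by a section over `V` factors through an
`LSub` containing that section. -/
theorem exists_factor_of_mem {M : X.Modules} (E : LSub M) (V : X.Opens)
    (g : freeV V ⟶ M) (hg : secEquiv V M g ∈ E.obj V) :
    ∃ φ : freeV V ⟶ E.toModules, φ ≫ E.ι = g := by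
  have hz : g ≫ cokernel.π E.ι = 0 := by
    apply (secEquiv V _).injective
    rw [secEquiv_comp, secEquiv_zero]
    have h1 : secEquiv V M g = E.ι.app V (E.sec V _ hg) := (E.ι_app_sec V _ hg).symm
    rw [h1]
    change (E.ι ≫ cokernel.π E.ι).app V _ = 0
    rw [cokernel.condition]
    rfl
  exact ⟨Abelian.monoLift E.ι g hz, Abelian.monoLift_comp _ _ _⟩

theorem exists_factor_suppIn {M : X.Modules} (V : X.Opens) (g : freeV V ⟶ M) :
    ∃ φ : freeV V ⟶ (suppIn M V).toModules, φ ≫ (suppIn M V).ι = g :=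
  exists_factor_of_mem (suppIn M V) V g (mem_suppIn_of_le M le_rfl _)

theorem ofImage_le_suppIn {M : X.Modules} (V : X.Opens) (g : freeV V ⟶ M) :
    LSub.ofImage g ≤ suppIn M V := by
  obtain ⟨φ, hφ⟩ := exists_factor_suppIn V g
  intro T t ht
  apply (suppIn M V).isLocal
  intro x hx
  obtain ⟨D, hD, hxD, a, e⟩ := ht x hx
  refine ⟨D, hD, hxD, ?_⟩
  rw [← e, ← hφ]
  exact (suppIn M V).ι_app_mem D (φ.app D a)

theorem ofImage_comp_le {A B M : X.Modules} (f : A ⟶ B) (g : B ⟶ M) :
    LSub.ofImage (f ≫ g) ≤ LSub.ofImage g := by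
  intro T t ht x hx
  obtain ⟨D, hD, hxD, a, e⟩ := ht x hx
  exact ⟨D, hD, hxD, f.app D a, e⟩

theorem isQuasicoherent_structureModule (X : Scheme.{u}) :
    SheafOfModules.IsQuasicoherent.{u, u, u} (Coh.structureModule X) := by
  have e : SheafOfModules.free (R := X.ringCatSheaf) PUnit.{u+1} ≅
      SheafOfModules.unit X.ringCatSheaf :=
    Limits.coproductUniqueIso (fun _ : PUnit.{u+1} => SheafOfModules.unit X.ringCatSheaf)
  exact (SheafOfModules.isQuasicoherent X.ringCatSheaf).prop_of_iso e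
    (inferInstanceAs (SheafOfModules.free (R := X.ringCatSheaf) PUnit.{u+1}).IsQuasicoherent)

/-- **ACC** for subobjects of a module `P` embedded in `O_X` with image supported in a Noetherian
affine open `V`. -/
theorem acc_of_mono {P : X.Modules} (μ : P ⟶ Coh.structureModule X) [Mono μ] {V : X.Opens}
    (hV : IsAffineOpen V) [IsNoetherianRing Γ(X, V)]
    (hsupp : LSub.ofImage μ ≤ suppIn (Coh.structureModule X) V) (c : ℕ →o Subobject P) :
    ∃ n : ℕ, ∀ m : ℕ, n ≤ m → c n = c m := by
  let K : ℕ → LSub (Coh.structureModule X) := fun n => LSub.ofImage ((c n).arrow ≫ μ)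
  have hKle : ∀ {n m : ℕ}, c n ≤ c m → K n ≤ K m := by
    intro n m h
    have h1 : (c n).arrow ≫ μ = Subobject.ofLE _ _ h ≫ (c m).arrow ≫ μ := by
      rw [Subobject.ofLE_arrow_assoc]
    change LSub.ofImage ((c n).arrow ≫ μ) ≤ _
    rw [h1]
    exact ofImage_comp_le _ _
  have hK : Monotone K := fun n m h => hKle (c.monotone h)
  have : (Coh.structureModule X).IsQuasicoherent := isQuasicoherent_structureModule X
  have hF : IsLocalizingOn (Coh.structureModule X) V :=
    isLocalizingOn_of_isQuasicoherent hV _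
  have : IsNoetherian Γ(X, V) Γ(Coh.structureModule X, V) :=
    inferInstanceAs (IsNoetherian Γ(X, V) Γ(X, V))
  obtain ⟨N, hN⟩ := stat_top hV hF hK
  -- extend stationarity to all opens using the support condition
  have hall : ∀ n, K n ≤ K N := by
    intro n T t ht
    apply (K N).isLocal
    intro x hx
    by_cases hxV : x ∈ V
    · exact ⟨T ⊓ V, inf_le_left, ⟨hx, hxV⟩, hN n (T ⊓ V) inf_le_right
        ((K n).res_mem inf_le_left ht)⟩
    · have h1 : t ∈ (suppIn (Coh.structureModule X) V).obj T :=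
        hsupp T ((ofImage_comp_le _ _) T ht)
      obtain ⟨D, hD, hxD, e⟩ := h1 x hx hxV
      refine ⟨D, hD, hxD, ?_⟩
      rw [e]
      exact Submodule.zero_mem _
  refine ⟨N, fun m hm => le_antisymm (c.monotone hm) ?_⟩
  -- `c m ≤ c N` since `K m ≤ K N`
  obtain ⟨φ, hφ⟩ := exists_factor ((c m).arrow ≫ μ) ((c N).arrow ≫ μ) (by
    intro W a y hy
    have h1 : ((c m).arrow ≫ μ).app W a ∈ (K N).obj W :=
      hall m W (LSub.app_mem_ofImage _ W a)
    obtain ⟨D, hD, hyD, b, e⟩ := h1 y hy
    exact ⟨D, hD, hyD, b, e⟩)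
  refine Subobject.le_of_comm φ ?_
  rw [← cancel_mono μ, Category.assoc]
  exact hφ

/-- the canonical monomorphism `freeV V ⟶ O_X` -/
noncomputable def toO (V : X.Opens) : freeV V ⟶ Coh.structureModule X := toUnit X.ringCatSheaf V

instance mono_toO (V : X.Opens) : Mono (toO V) :=
  mono_toUnit X.ringCatSheaf V (fun _ => ⟨fun a b => Subsingleton.elim a b⟩)

/-- the module freely generated by a section over a Noetherian affine open is a Noetherian
object. -/
theorem acc_freeOn {V : X.Opens} (hV : IsAffineOpen V) [IsNoetherianRing Γ(X, V)]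
    (c : ℕ →o Subobject (freeV V)) :
    ∃ n : ℕ, ∀ m : ℕ, n ≤ m → c n = c m :=
  acc_of_mono (toO V) hV (ofImage_le_suppIn V _) c

/-- **`j_! O_U` is a Noetherian object** for an open immersion `j : U ⟶ X` from an affine scheme
into a locally Noetherian scheme. -/
theorem acc_extZeroUnit {U : Scheme.{u}} [IsLocallyNoetherian X] [IsAffine U] (j : U ⟶ X)
    [IsOpenImmersion j] (c : ℕ →o Subobject (CxOX.extZeroUnit j)) :
    ∃ n : ℕ, ∀ m : ℕ, n ≤ m → c n = c m := by
  obtain ⟨e, -⟩ := exists_iso_freeOn j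
  have hV : IsAffineOpen (j ''ᵁ ⊤) := (isAffineOpen_top U).image_of_isOpenImmersion j
  have : IsNoetherianRing Γ(X, j ''ᵁ ⊤) :=
    IsLocallyNoetherian.component_noetherian ⟨j ''ᵁ ⊤, hV⟩
  have e' : CxOX.extZeroUnit j ≅ freeV (j ''ᵁ ⊤) := e
  exact acc_of_mono (e'.hom ≫ toO (j ''ᵁ ⊤)) hV
    ((ofImage_comp_le _ _).trans (ofImage_le_suppIn (j ''ᵁ ⊤) _)) c

end Groth.Agent.Helper19.ShriekNoeth
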