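import Mathlib
import Groth.Agent.Lib.Helper19.ShriekNoeth
import Groth.Agent.Lib.Helper4.BaerFamily
import Groth.Agent.S0484

/-!
# Direct sums of injective `O_X`-modules on a locally Noetherian scheme (helper19)

Namespace `Groth.Agent.Helper19.NoethInj`.
* `proj I s : ∐ I ⟶ ∐ I`: the projection onto the coordinates in the finite set `s`.
* `finSub I : LSub (∐ I)`: the sections which are locally fixed by some `proj I s`;
  `mem_finSub`: every section is (sections of a direct sum are locally finite sums).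
* `exists_proj_eq`: a morphism from a Noetherian object to `∐ I` factors through a finite subsum.
* `isIso_of_lift_affine`: the modules `freeV V`, `V` affine open, form a detecting family.
* `injective_sigma`: on a locally Noetherian scheme, direct sums of injectives are injective.
-/

set_option autoImplicit false
set_option linter.unusedSectionVars false
universe u
open CategoryTheory CategoryTheory.Limits AlgebraicGeometry TopologicalSpace Opposite

namespace Groth.Agent.Helper19.NoethInj

open Groth.Agent.Lib.Helper49 Groth.Agent.Lib.Helper45 Groth.Agent.Lib.Helper18.LSubM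
open Groth.Agent.Lib.Helper18 Groth.Agent.Helper19.ShriekNoeth

variable {X : Scheme.{u}} {ι : Type u} (I : ι → X.Modules)

open Classical in
/-- the projection of `∐ I` onto the coordinates in the finite set `s` -/
noncomputable def proj (s : Finset ι) : ∐ I ⟶ ∐ I := ∑ j ∈ s, Sigma.π I j ≫ Sigma.ι I j

open Classical in
theorem ι_proj_of_mem {s : Finset ι} {j : ι} (h : j ∈ s) :
    Sigma.ι I j ≫ proj I s = Sigma.ι I j := by
  unfold proj
  rw [Preadditive.comp_sum, Finset.sum_eq_single j]
  · rw [← Category.assoc, Sigma.ι_π_eq_id, Category.id_comp]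
  · intro k _ hk
    rw [← Category.assoc, Sigma.ι_π_of_ne _ (Ne.symm hk), zero_comp]
  · intro h'
    exact absurd h h'

open Classical in
theorem ι_proj_of_not_mem {s : Finset ι} {j : ι} (h : j ∉ s) :
    Sigma.ι I j ≫ proj I s = 0 := by
  unfold proj
  rw [Preadditive.comp_sum]
  apply Finset.sum_eq_zero
  intro k hk
  have hne : j ≠ k := fun e => h (e ▸ hk)
  rw [← Category.assoc, Sigma.ι_π_of_ne _ hne, zero_comp]

theorem proj_proj {s s' : Finset ι} (h : s ⊆ s') : proj I s ≫ proj I s' = proj I s := by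
  apply Sigma.hom_ext
  intro j
  by_cases hj : j ∈ s
  · rw [← Category.assoc, ι_proj_of_mem I hj, ι_proj_of_mem I (h hj)]
  · rw [← Category.assoc, ι_proj_of_not_mem I hj, zero_comp]

/-- the section `v` over `D` is fixed by the projection onto `s` -/
def Fix (s : Finset ι) (D : X.Opens) (v : Γ(∐ I, D)) : Prop := (proj I s).app D v = v

variable {I}

theorem Fix.mono {s s' : Finset ι} {D D' : X.Opens} {v : Γ(∐ I, D)} (hv : Fix I s D v)
    (hs : s ⊆ s') (hD : D' ≤ D) : Fix I s' D' (mres _ hD v) := by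
  unfold Fix at hv ⊢
  have h1 : mres (∐ I) hD v = (proj I s).app D' (mres _ hD v) := by
    rw [app_mres, hv]
  rw [h1]
  change (proj I s ≫ proj I s').app D' _ = _
  rw [proj_proj I hs]

variable (I)

/-- the sections of `∐ I` which are locally fixed by a projection onto finitely many coordinates -/
noncomputable def finSub : LSub (∐ I) where
  obj T :=
    { carrier := {u | ∀ x ∈ T, ∃ (D : X.Opens) (hD : D ≤ T), x ∈ D ∧
        ∃ s : Finset ι, Fix I s D (mres _ hD u)}
      zero_mem' := fun _ hx => ⟨T, le_rfl, hx, ∅, by unfold Fix; rw [map_zero, map_zero]⟩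
      add_mem' := by
        classical
        intro a b ha hb x hx
        obtain ⟨D₁, h₁, hx₁, s₁, e₁⟩ := ha x hx
        obtain ⟨D₂, h₂, hx₂, s₂, e₂⟩ := hb x hx
        refine ⟨D₁ ⊓ D₂, inf_le_left.trans h₁, ⟨hx₁, hx₂⟩, s₁ ∪ s₂, ?_⟩
        have e₁' := e₁.mono (Finset.subset_union_left (s₂ := s₂)) (inf_le_left : D₁ ⊓ D₂ ≤ D₁)
        have e₂' := e₂.mono (Finset.subset_union_right (s₁ := s₁)) (inf_le_right : D₁ ⊓ D₂ ≤ D₂)
        rw [mres_mres] at e₁' e₂'
        unfold Fix at e₁' e₂' ⊢
        rw [map_add, map_add, e₁', e₂']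
      smul_mem' := by
        intro c a ha x hx
        obtain ⟨D, h, hxD, s, e⟩ := ha x hx
        refine ⟨D, h, hxD, s, ?_⟩
        unfold Fix at e ⊢
        rw [mres_smul, Scheme.Modules.Hom.app_smul, e] }
  res_mem := by
    intro U T h t ht x hx
    obtain ⟨D, hD, hxD, s, e⟩ := ht x (h hx)
    refine ⟨D ⊓ T, inf_le_right, ⟨hxD, hx⟩, s, ?_⟩
    have e' := e.mono (Finset.Subset.refl s) (inf_le_left : D ⊓ T ≤ D)
    rw [mres_mres] at e' ⊢
    exact e'
  isLocal := by
    intro U t H x hx
    obtain ⟨T, hTU, hxT, hm⟩ := H x hx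
    obtain ⟨D, hD, hxD, s, e⟩ := hm x hxT
    refine ⟨D, hD.trans hTU, hxD, s, ?_⟩
    rw [mres_mres] at e
    exact e

/-- sections of a direct sum are locally sections of a finite subsum -/
theorem mem_finSub (T : X.Opens) (u : Γ(∐ I, T)) : u ∈ (finSub I).obj T := by
  have H : ∀ j, ∃ ψ : I j ⟶ (finSub I).toModules, ψ ≫ (finSub I).ι = Sigma.ι I j := by
    intro j
    apply exists_factor
    intro W a y hy
    have hmem : (Sigma.ι I j).app W a ∈ (finSub I).obj W := by
      intro x hx
      refine ⟨W, le_rfl, hx, {j}, ?_⟩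
      unfold Fix
      rw [mres_self]
      change (Sigma.ι I j ≫ proj I {j}).app W a = _
      rw [ι_proj_of_mem I (Finset.mem_singleton_self j)]
    refine ⟨W, le_rfl, hy, (finSub I).sec W _ hmem, ?_⟩
    rw [LSub.ι_app_sec, mres_self]
  choose ψ hψ using H
  have h1 : Sigma.desc ψ ≫ (finSub I).ι = 𝟙 _ := by
    apply Sigma.hom_ext
    intro j
    rw [Sigma.ι_desc_assoc, hψ, Category.comp_id]
  have h2 : u = (finSub I).ι.app T ((Sigma.desc ψ).app T u) := by
    change u = (Sigma.desc ψ ≫ (finSub I).ι).app T u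
    rw [h1]
    rfl
  rw [h2]
  exact (finSub I).ι_app_mem T _

/-- a morphism from a Noetherian object to a direct sum factors through a finite subsum -/
theorem exists_proj_eq {N : X.Modules} [WellFoundedGT (Subobject N)] (φ : N ⟶ ∐ I) :
    ∃ s : Finset ι, φ ≫ proj I s = φ := by
  classical
  let S : Finset ι → Subobject N := fun s => kernelSubobject (φ ≫ (𝟙 _ - proj I s))
  have hmono : ∀ {s s' : Finset ι}, s ⊆ s' → S s ≤ S s' := by
    intro s s' h
    have e : φ ≫ (𝟙 _ - proj I s') = (φ ≫ (𝟙 _ - proj I s)) ≫ (𝟙 _ - proj I s') := by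
      rw [Category.assoc]
      congr 1
      rw [Preadditive.sub_comp, Preadditive.comp_sub, Preadditive.comp_sub, Category.id_comp,
        Category.comp_id, Category.id_comp, proj_proj I h]
      abel
    change kernelSubobject _ ≤ kernelSubobject _
    rw [e]
    exact kernelSubobject_comp_le _ _
  obtain ⟨_, ⟨s₀, rfl⟩, hmax⟩ := WellFounded.has_min (wellFounded_gt (α := Subobject N))
    (Set.range S) ⟨_, ⟨∅, rfl⟩⟩
  have hle : ∀ s, S s ≤ S s₀ := by
    intro s
    have h1 : S s ≤ S (s ∪ s₀) := hmono Finset.subset_union_left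
    have h2 : S s₀ ≤ S (s ∪ s₀) := hmono Finset.subset_union_right
    have h3 : S s₀ = S (s ∪ s₀) := eq_of_le_of_not_lt h2 (hmax _ ⟨_, rfl⟩)
    rw [h3]
    exact h1
  refine ⟨s₀, ?_⟩
  have hz : φ ≫ (𝟙 _ - proj I s₀) = 0 := by
    apply Scheme.Modules.hom_ext
    intro T
    ext t
    change (φ ≫ (𝟙 _ - proj I s₀)).app T t = 0
    apply eq_of_locally_eq
    intro x hx
    obtain ⟨D, hD, hxD, s, e⟩ := mem_finSub I T (φ.app T t) x hx
    refine ⟨D, hD, hxD, ?_⟩
    rw [map_zero, ← app_mres]
    let τ : freeV D ⟶ N := (secEquiv D N).symm (mres N hD t)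
    have hτ : secEquiv D N τ = mres N hD t := Equiv.apply_symm_apply _ _
    have h1 : τ ≫ (φ ≫ (𝟙 _ - proj I s)) = 0 := by
      apply (secEquiv D _).injective
      rw [secEquiv_comp, secEquiv_zero, hτ]
      change (𝟙 _ - proj I s).app D (φ.app D (mres N hD t)) = 0
      rw [app_mres, Scheme.Modules.Hom.sub_app]
      unfold Fix at e
      change mres _ hD (φ.app T t) - (proj I s).app D (mres _ hD (φ.app T t)) = 0
      rw [e, sub_self]
    have h2 : (S s).Factors τ := (kernelSubobject_factors_iff _ _).mpr h1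
    have h3 : (S s₀).Factors τ := Subobject.factors_of_le _ (hle s) h2
    have h4 : τ ≫ (φ ≫ (𝟙 _ - proj I s₀)) = 0 := (kernelSubobject_factors_iff _ _).mp h3
    have h5 := congrArg (secEquiv D _) h4
    rw [secEquiv_comp, secEquiv_zero, hτ] at h5
    exact h5
  rw [Preadditive.comp_sub, Category.comp_id, sub_eq_zero] at hz
  exact hz.symm

/-- the modules `freeV V`, `V` affine open, detect isomorphisms -/
theorem isIso_of_lift_affine {A B : X.Modules} (p : A ⟶ B) [Mono p]
    (h : ∀ (V : X.affineOpens) (f : freeV V.1 ⟶ B), ∃ a : freeV V.1 ⟶ A, a ≫ p = f) :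
    IsIso p := by
  have hepi : Epi p := by
    apply Abelian.epi_of_cokernel_π_eq_zero
    apply Scheme.Modules.hom_ext
    intro T
    ext t
    change (cokernel.π p).app T t = 0
    apply eq_of_locally_eq
    intro x hx
    obtain ⟨V, hV, hxV, hVT⟩ := Opens.isBasis_iff_nbhd.mp X.isBasis_affineOpens hx
    refine ⟨V, hVT, hxV, ?_⟩
    rw [map_zero, ← app_mres]
    obtain ⟨a, ha⟩ := h ⟨V, hV⟩ ((secEquiv V B).symm (mres B hVT t))
    have h1 := congrArg (secEquiv V B) ha
    rw [secEquiv_comp, Equiv.apply_symm_apply] at h1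
    rw [← h1]
    change (p ≫ cokernel.π p).app V _ = 0
    rw [cokernel.condition]
    rfl
  exact isIso_of_mono_of_epi p

/-- **Direct sums of injective `O_X`-modules are injective** on a locally Noetherian scheme. -/
theorem injective_sigma [IsLocallyNoetherian X] (hI : ∀ j, Injective (I j)) :
    Injective (∐ I) := by
  classical
  have hG : IsGrothendieckAbelian.{u} X.Modules := Groth.Agent.S0484.result _ X.ringCatSheaf
  have hne : Nonempty X.affineOpens := ⟨⟨⊥, isAffineOpen_bot X⟩⟩
  refine Groth.Agent.Lib.Helper4.BaerFamily.injective_of_family.{u}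
    (fun V : X.affineOpens => freeV V.1) (fun p _ h => isIso_of_lift_affine p h) (∐ I) ?_
  intro V S m _ φ
  have : IsNoetherianRing Γ(X, V.1) := IsLocallyNoetherian.component_noetherian V
  have hW : WellFoundedGT (Subobject (freeV V.1)) :=
    wellFoundedGT_iff_monotone_chain_condition.mpr (fun c => acc_freeOn V.2 c)
  have hS : WellFoundedGT (Subobject S) := by
    have hsm : StrictMono (Subobject.map m).obj :=
      (Subobject.map m).monotone.strictMono_of_injective (Subobject.map_obj_injective m)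
    exact hsm.wellFoundedGT
  obtain ⟨s, hs⟩ := exists_proj_eq I φ
  have H : ∀ j, ∃ ψ : freeV V.1 ⟶ I j, m ≫ ψ = φ ≫ Sigma.π I j := fun j =>
    Injective.factors (φ ≫ Sigma.π I j) m
  choose ψ hψ using H
  refine ⟨∑ j ∈ s, ψ j ≫ Sigma.ι I j, ?_⟩
  rw [Preadditive.comp_sum]
  have h1 : ∀ j ∈ s, m ≫ ψ j ≫ Sigma.ι I j = φ ≫ Sigma.π I j ≫ Sigma.ι I j := by
    intro j _
    rw [← Category.assoc, hψ, Category.assoc]
  rw [Finset.sum_congr rfl h1, ← Preadditive.comp_sum]
  exact hs

end Groth.Agent.Helper19.NoethInj
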