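import Mathlib
import Groth.Agent.Lib.Helper19.NoethInj

/-!
# Lattice toolkit for sub-`O_X`-modules (helper19)

Namespace `Groth.Agent.Helper19.Hull`.  Complements helper18's `LSub`:
* `IsBot A`, `Disj A B`, `bot M`;
* `csup c`: the union of a nonempty chain; `le_csup`, `disj_csup`;
* `exists_maximal_disj`: Zorn, a maximal `C ≥ A` disjoint from `B`;
* `comap θ C`;
* `mem_iff_cokernel_π_eq_zero`: `t ∈ K ↔ π(t) = 0` in `cokernel K.ι`;
* `univSec V`, `secEquiv_eq_app`: the universal section of `freeV V`;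
* `exists_section_ne_zero`: a nonzero module has a nonzero section;
* `mono_of_app_injective`.
-/

set_option autoImplicit false
set_option linter.unusedSectionVars false
universe u
open CategoryTheory CategoryTheory.Limits AlgebraicGeometry TopologicalSpace Opposite

namespace Groth.Agent.Helper19.Hull

open Groth.Agent.Lib.Helper49 Groth.Agent.Lib.Helper45 Groth.Agent.Lib.Helper18.LSubM
open Groth.Agent.Lib.Helper18 Groth.Agent.Helper19.ShriekNoeth

variable {X : Scheme.{u}} {M : X.Modules}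

/-- the sub-module has only zero sections -/
def IsBot (A : LSub M) : Prop := ∀ (T : X.Opens) (t : Γ(M, T)), t ∈ A.obj T → t = 0

/-- the two sub-modules have zero intersection -/
def Disj (A B : LSub M) : Prop := ∀ (T : X.Opens) (t : Γ(M, T)), t ∈ A.obj T → t ∈ B.obj T → t = 0

theorem Disj.symm {A B : LSub M} (h : Disj A B) : Disj B A := fun T t hb ha => h T t ha hb

theorem Disj.mono {A A' B B' : LSub M} (h : Disj A B) (hA : A' ≤ A) (hB : B' ≤ B) : Disj A' B' :=
  fun T t ha hb => h T t (hA T ha) (hB T hb)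

theorem IsBot.mono {A A' : LSub M} (h : IsBot A) (hA : A' ≤ A) : IsBot A' :=
  fun T t ha => h T t (hA T ha)

theorem isBot_of_le_of_disj {D A B : LSub M} (h : Disj A B) (h1 : D ≤ A) (h2 : D ≤ B) : IsBot D :=
  fun T t ht => h T t (h1 T ht) (h2 T ht)

/-- the zero sub-module -/
noncomputable def bot (M : X.Modules) : LSub M where
  obj _ := ⊥
  res_mem h t ht := by
    rw [Submodule.mem_bot] at ht ⊢
    rw [ht, map_zero]
  isLocal U t H := by
    rw [Submodule.mem_bot]
    apply eq_of_locally_eq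
    intro x hx
    obtain ⟨V, h, hxV, hm⟩ := H x hx
    rw [Submodule.mem_bot] at hm
    exact ⟨V, h, hxV, by rw [hm, map_zero]⟩

theorem bot_le (A : LSub M) : bot M ≤ A := by
  intro T t ht
  change t ∈ (⊥ : Submodule _ _) at ht
  rw [Submodule.mem_bot] at ht
  rw [ht]
  exact Submodule.zero_mem _

theorem isBot_bot : IsBot (bot M) := fun _ _ ht => (Submodule.mem_bot _).mp ht

theorem disj_bot_left (B : LSub M) : Disj (bot M) B := fun T t ht _ => isBot_bot T t ht

/-- the union of a nonempty chain of sub-modules -/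
noncomputable def csup (c : Set (LSub M)) (hc : IsChain (· ≤ ·) c) (hne : c.Nonempty) : LSub M where
  obj T :=
    { carrier := {t | ∀ x ∈ T, ∃ (D : X.Opens) (hD : D ≤ T), x ∈ D ∧ ∃ K ∈ c,
        mres M hD t ∈ (K : LSub M).obj D}
      zero_mem' := fun _ hx => by
        obtain ⟨K, hK⟩ := hne
        exact ⟨T, le_rfl, hx, K, hK, by rw [map_zero]; exact Submodule.zero_mem _⟩
      add_mem' := by
        intro a b ha hb x hx
        obtain ⟨D₁, h₁, hx₁, K₁, hK₁, e₁⟩ := ha x hx
        obtain ⟨D₂, h₂, hx₂, K₂, hK₂, e₂⟩ := hb x hx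
        have e₁' := K₁.res_mem (inf_le_left : D₁ ⊓ D₂ ≤ D₁) e₁
        have e₂' := K₂.res_mem (inf_le_right : D₁ ⊓ D₂ ≤ D₂) e₂
        rw [mres_mres] at e₁' e₂'
        rcases hc.total hK₁ hK₂ with h | h
        · refine ⟨D₁ ⊓ D₂, inf_le_left.trans h₁, ⟨hx₁, hx₂⟩, K₂, hK₂, ?_⟩
          rw [map_add]
          exact Submodule.add_mem _ (h _ e₁') e₂'
        · refine ⟨D₁ ⊓ D₂, inf_le_left.trans h₁, ⟨hx₁, hx₂⟩, K₁, hK₁, ?_⟩
          rw [map_add]
          exact Submodule.add_mem _ e₁' (h _ e₂')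
      smul_mem' := by
        intro r a ha x hx
        obtain ⟨D, h, hxD, K, hK, e⟩ := ha x hx
        refine ⟨D, h, hxD, K, hK, ?_⟩
        rw [mres_smul]
        exact Submodule.smul_mem _ _ e }
  res_mem := by
    intro U T h t ht x hx
    obtain ⟨D, hD, hxD, K, hK, e⟩ := ht x (h hx)
    refine ⟨D ⊓ T, inf_le_right, ⟨hxD, hx⟩, K, hK, ?_⟩
    have e' := K.res_mem (inf_le_left : D ⊓ T ≤ D) e
    rw [mres_mres] at e' ⊢
    exact e'
  isLocal := by
    intro U t H x hx
    obtain ⟨T, hTU, hxT, hm⟩ := H x hx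
    obtain ⟨D, hD, hxD, K, hK, e⟩ := hm x hxT
    refine ⟨D, hD.trans hTU, hxD, K, hK, ?_⟩
    rw [mres_mres] at e
    exact e

theorem le_csup {c : Set (LSub M)} (hc : IsChain (· ≤ ·) c) (hne : c.Nonempty) {K : LSub M}
    (hK : K ∈ c) : K ≤ csup c hc hne := by
  intro T t ht x hx
  exact ⟨T, le_rfl, hx, K, hK, by rwa [mres_self]⟩

theorem disj_csup {c : Set (LSub M)} (hc : IsChain (· ≤ ·) c) (hne : c.Nonempty) {B : LSub M}
    (h : ∀ K ∈ c, Disj K B) : Disj (csup c hc hne) B := by
  intro T t ht hb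
  apply eq_of_locally_eq
  intro x hx
  obtain ⟨D, hD, hxD, K, hK, e⟩ := ht x hx
  refine ⟨D, hD, hxD, ?_⟩
  rw [map_zero]
  exact h K hK D _ e (B.res_mem hD hb)

/-- **Zorn**: a maximal sub-module containing `A` and disjoint from `B`. -/
theorem exists_maximal_disj (A B : LSub M) (h : Disj A B) :
    ∃ C : LSub M, A ≤ C ∧ Disj C B ∧ ∀ C' : LSub M, C ≤ C' → Disj C' B → C' ≤ C := by
  obtain ⟨C, hAC, hC⟩ := zorn_le_nonempty₀ {C : LSub M | Disj C B} (by
    intro c hcs hc y hy
    exact ⟨csup c hc ⟨y, hy⟩, disj_csup hc ⟨y, hy⟩ (fun K hK => hcs hK),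
      fun z hz => le_csup hc ⟨y, hy⟩ hz⟩) A h
  exact ⟨C, hAC, hC.prop, fun C' hCC' hC' => hC.le_of_ge hC' hCC'⟩

/-- the preimage of a sub-module under a morphism -/
noncomputable def comap {M N : X.Modules} (θ : M ⟶ N) (C : LSub N) : LSub M where
  obj T :=
    { carrier := {t | θ.app T t ∈ C.obj T}
      zero_mem' := by
        change θ.app T 0 ∈ C.obj T
        rw [map_zero]
        exact Submodule.zero_mem _
      add_mem' := by
        intro a b ha hb
        change θ.app T (a + b) ∈ C.obj T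
        rw [map_add]
        exact Submodule.add_mem _ ha hb
      smul_mem' := by
        intro r a ha
        change θ.app T (r • a) ∈ C.obj T
        rw [Scheme.Modules.Hom.app_smul]
        exact Submodule.smul_mem _ _ ha }
  res_mem := by
    intro U T h t ht
    change θ.app T (mres M h t) ∈ C.obj T
    rw [app_mres]
    exact C.res_mem h ht
  isLocal := by
    intro U t H
    change θ.app U t ∈ C.obj U
    apply C.isLocal
    intro x hx
    obtain ⟨V, h, hxV, hm⟩ := H x hx
    refine ⟨V, h, hxV, ?_⟩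
    rw [← app_mres]
    exact hm

theorem mem_comap {M N : X.Modules} (θ : M ⟶ N) (C : LSub N) (T : X.Opens) (t : Γ(M, T)) :
    t ∈ (comap θ C).obj T ↔ θ.app T t ∈ C.obj T := Iff.rfl

/-- membership in a sub-module is vanishing in the quotient -/
theorem mem_iff_cokernel_π_eq_zero (K : LSub M) (T : X.Opens) (t : Γ(M, T)) :
    t ∈ K.obj T ↔ (cokernel.π K.ι).app T t = 0 := by
  constructor
  · intro ht
    have h1 : t = K.ι.app T (K.sec T t ht) := (K.ι_app_sec T t ht).symm
    rw [h1]
    change (K.ι ≫ cokernel.π K.ι).app T _ = 0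
    rw [cokernel.condition]
    rfl
  · intro ht
    let τ : freeV T ⟶ M := (secEquiv T M).symm t
    have hτ : secEquiv T M τ = t := Equiv.apply_symm_apply _ _
    have h1 : τ ≫ cokernel.π K.ι = 0 := by
      apply (secEquiv T _).injective
      rw [secEquiv_comp, secEquiv_zero, hτ, ht]
    have h2 : Abelian.monoLift K.ι τ h1 ≫ K.ι = τ := Abelian.monoLift_comp _ _ _
    have h3 := congrArg (secEquiv T M) h2
    rw [secEquiv_comp, hτ] at h3
    rw [← h3]
    exact K.ι_app_mem T _

/-- the universal section of `freeV V` -/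
noncomputable def univSec (V : X.Opens) : Γ(freeV V, V) := secEquiv V (freeV V) (𝟙 _)

theorem secEquiv_eq_app (V : X.Opens) {N : X.Modules} (g : freeV V ⟶ N) :
    secEquiv V N g = g.app V (univSec V) := by
  have h := secEquiv_comp V (𝟙 (freeV V)) g
  rw [Category.id_comp] at h
  exact h

/-- a module all of whose sections vanish is zero -/
theorem isZero_of_sections_eq_zero (N : X.Modules) (h : ∀ (T : X.Opens) (t : Γ(N, T)), t = 0) :
    IsZero N := by
  rw [IsZero.iff_id_eq_zero]
  apply Scheme.Modules.hom_ext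
  intro T
  ext t
  exact (h T _).trans (h T _).symm

theorem exists_section_ne_zero (N : X.Modules) (h : ¬ IsZero N) :
    ∃ (T : X.Opens) (t : Γ(N, T)), t ≠ 0 := by
  by_contra hcon
  push Not at hcon
  exact h (isZero_of_sections_eq_zero N hcon)

theorem sections_eq_zero_of_isZero (N : X.Modules) (h : IsZero N) (T : X.Opens) (t : Γ(N, T)) :
    t = 0 := by
  have h1 : (𝟙 N : N ⟶ N) = 0 := h.eq_of_src _ _
  have h2 : (𝟙 N : N ⟶ N).app T t = (0 : N ⟶ N).app T t := by rw [h1]
  exact h2

theorem mono_of_app_injective {A B : X.Modules} (m : A ⟶ B)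
    (h : ∀ (T : X.Opens) (a : Γ(A, T)), m.app T a = 0 → a = 0) : Mono m := by
  apply Preadditive.mono_of_cancel_zero
  intro P g hg
  apply Scheme.Modules.hom_ext
  intro T
  ext p
  apply h
  change (g ≫ m).app T p = 0
  rw [hg]
  rfl

theorem app_eq_zero_of_mono {A B : X.Modules} (m : A ⟶ B) [Mono m] (T : X.Opens) (a : Γ(A, T))
    (h : m.app T a = 0) : a = 0 := by
  let τ : freeV T ⟶ A := (secEquiv T A).symm a
  have hτ : secEquiv T A τ = a := Equiv.apply_symm_apply _ _
  have h1 : τ ≫ m = 0 := by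
    apply (secEquiv T _).injective
    rw [secEquiv_comp, secEquiv_zero, hτ, h]
  have h2 : τ = 0 := by rwa [← cancel_mono m, zero_comp]
  rw [← hτ, h2, secEquiv_zero]

end Groth.Agent.Helper19.Hull
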