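import Mathlib
import Groth.Agent.Lib.Helper49.HomAdj
import Groth.Agent.Lib.Helper45.EpiStalk
import Groth.Agent.Lib.Helper30.ModTensorAdj
import Groth.Agent.Lib.Helper19.Hull1
import Groth.Agent.Lib.Helper19.ShriekNoeth

/-!
# Local sections of the sheaf Hom (helper19)

Namespace `Groth.Agent.Helper19.ExtHom`.
* `hasSheafHom M`: `M ⊗ -` has a right adjoint (from helper30's `ModTensorAdj`).
* `tensorBi_map_tm`: `(M ⊗ ψ)(m ⊗ n) = m ⊗ ψ n`.
* `exists_local_section`: if `𝓗om(G, P) ⟶ 𝓗om(G, G)` is an epimorphism (for `g : P ⟶ G`), then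
  locally `g` has a section, given as a `LocHom G P V` of helper49.
-/

set_option autoImplicit false
universe u
open CategoryTheory CategoryTheory.Limits AlgebraicGeometry TopologicalSpace Opposite

namespace Groth.Agent.Helper19.ExtHom

open Groth.Agent.Lib.Helper45 Groth.Agent.Lib.Helper45.RefHullCoh
  Groth.Agent.Lib.Helper45.HomExtend Groth.Agent.Lib.Helper11.GenLocus
  Groth.Agent.Lib.Helper11.TensorFormulas Groth.Agent.Lib.Helper11.TensorMap
  Groth.Agent.Lib.Helper49.HomAdj
open Groth.Agent.Helper19.Hull Groth.Agent.Helper19.ShriekNoeth Groth.Agent.Helper19.Shriek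
  Groth.Agent.Helper19.QCohSep

variable {X : Scheme.{u}}

/-- `M ⊗ -` has a right adjoint, for every `O_X`-module `M`. -/
theorem hasSheafHom (M : X.Modules) : DCoh.HasSheafHom M := by
  have h : @Functor.IsLeftAdjoint X.Modules _ X.Modules _ ((ModSite.tensorBi X.sheaf).obj M) :=
    Groth.Agent.Lib.Helper30.ModTensorAdj.isLeftAdjoint_obj X.sheaf M
  exact h

theorem tensorBi_map_eq (M : X.Modules) {N N' : X.Modules} (ψ : N ⟶ N') :
    ((DCoh.tensorBi (X := X)).obj M).map ψ = tensorModMap (𝟙 M) ψ := by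
  rfl

theorem tensorBi_map_tm (M : X.Modules) {N N' : X.Modules} (ψ : N ⟶ N') (W : X.Opens)
    (m : Γ(M, W)) (n : Γ(N, W)) :
    (((DCoh.tensorBi (X := X)).obj M).map ψ).app W (tm M N W m n) = tm M N' W m (ψ.app W n) := by
  rw [tensorBi_map_eq]
  exact tensorModMap_tm (𝟙 M) ψ W m n

/-- `1` restricts to `1` in the structure module. -/
theorem toO_univSec_res (V W : X.Opens) (hW : W ≤ V) :
    (ShriekNoeth.toO V).app W ((freeV V).presheaf.map (homOfLE hW).op (univSec V)) =
      Groth.Agent.Lib.Helper11.GenLocus.toO W 1 := by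
  rw [← app_res' (ShriekNoeth.toO V) hW (univSec V), ← secEquiv_eq_app]
  have h1 : secEquiv V (Coh.structureModule X) (ShriekNoeth.toO V) = (1 : Γ(X, V)) :=
    homEquivSec_toUnit X.ringCatSheaf V
  rw [h1]
  exact map_one (X.presheaf.map (homOfLE hW).op).hom

/-- **Local sections from an epimorphism of sheaf Homs.** If `𝓗om(G, g) : 𝓗om(G, P) ⟶ 𝓗om(G, G)`
is an epimorphism, then locally `g : P ⟶ G` has a section. -/
theorem exists_local_section (G P : X.Modules) [DCoh.HasSheafHom G] (g : P ⟶ G)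
    (hepi : Epi ((DCoh.sheafHom G).map g)) (x : X) :
    ∃ (V : X.Opens) (_ : x ∈ V) (L : LocHom G P V),
      ∀ (W : X.Opens) (hW : W ≤ V) (s : Γ(G, W)), g.app W (L.θ W hW s) = s := by
  let T : X.Modules ⥤ X.Modules := (DCoh.tensorBi (X := X)).obj G
  let R : X.Modules ⥤ X.Modules := DCoh.sheafHom G
  let adj : T ⊣ R := DCoh.sheafHomAdj G
  let O : X.Modules := Coh.structureModule X
  let ρ : T.obj O ⟶ G := (tensorUnitIso G).hom
  let u : O ⟶ R.obj G := adj.homEquiv O G ρ
  let β : Γ(R.obj G, ⊤) := u.app ⊤ (Groth.Agent.Lib.Helper11.GenLocus.toO ⊤ 1)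
  have hls := (Groth.Agent.Lib.Helper45.epi_iff_isLocallySurjective (R.map g)).1 hepi
  rw [TopCat.Presheaf.isLocallySurjective_iff] at hls
  obtain ⟨V, hV, ⟨α, hα⟩, hxV⟩ := hls ⊤ β x trivial
  let a : freeV V ⟶ R.obj P := (secEquiv V _).symm α
  have ha : a ≫ R.map g = ShriekNoeth.toO V ≫ u := by
    apply (secEquiv V _).injective
    rw [secEquiv_comp, secEquiv_comp, Equiv.apply_symm_apply]
    have h1 : secEquiv V (Coh.structureModule X) (ShriekNoeth.toO V) = (1 : Γ(X, V)) :=
      homEquivSec_toUnit X.ringCatSheaf V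
    rw [h1]
    refine Eq.trans hα ?_
    change (R.obj G).presheaf.map (homOfLE hV).op (u.app ⊤ (Groth.Agent.Lib.Helper11.GenLocus.toO ⊤ 1)) =
      u.app V (1 : Γ(X, V))
    rw [app_res' u hV]
    congr 1
    exact map_one (X.presheaf.map (homOfLE hV).op).hom
  let lam : T.obj (freeV V) ⟶ P := (adj.homEquiv _ _).symm a
  have hlam : lam ≫ g = T.map (ShriekNoeth.toO V) ≫ ρ := by
    rw [← Adjunction.homEquiv_naturality_right_symm, ha,
      Adjunction.homEquiv_naturality_left_symm, Equiv.symm_apply_apply]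
  refine ⟨V, hxV, locHomOf lam (univSec V), fun W hW s => ?_⟩
  rw [locHomOf_θ]
  change (lam ≫ g).app W _ = s
  rw [hlam]
  change ρ.app W ((T.map (ShriekNoeth.toO V)).app W _) = s
  rw [tensorBi_map_tm, toO_univSec_res V W hW]
  have h := tensorUnitIso_hom_tm G W s 1
  rw [one_smul] at h
  exact h

end Groth.Agent.Helper19.ExtHom
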