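import Mathlib
import Groth.Agent.Lib.Helper19.Hull1

/-!
# Injective hulls inside an injective `O_X`-module (helper19)

Namespace `Groth.Agent.Helper19.Hull`.
* `exists_hull`: for `I` injective and `A : LSub I` there is a retract `E ⊇ A` of `I` in which `A`
  is essential.
* `HasMax N`: every nonempty set of sub-modules of `N` has a maximal element;
  `hasMax_ofImage`: images of `freeV V`, `V` Noetherian affine, have this property.
* `IsUniform U`, `exists_uniform`: a nonzero `N` with `HasMax N` contains a uniform sub-module.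
-/

set_option autoImplicit false
set_option linter.unusedSectionVars false
universe u
open CategoryTheory CategoryTheory.Limits AlgebraicGeometry TopologicalSpace Opposite

namespace Groth.Agent.Helper19.Hull

open Groth.Agent.Lib.Helper49 Groth.Agent.Lib.Helper45 Groth.Agent.Lib.Helper18.LSubM
open Groth.Agent.Lib.Helper18 Groth.Agent.Helper19.ShriekNoeth

variable {X : Scheme.{u}}

/-- **Injective hulls inside an injective module**: for `A ⊆ I` with `I` injective there is a
retract `E` of `I` containing `A` as an essential sub-module. -/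
theorem exists_hull {I : X.Modules} [Injective I] (A : LSub I) :
    ∃ (E : LSub I) (r : I ⟶ E.toModules), A ≤ E ∧ E.ι ≫ r = 𝟙 _ ∧
      ∀ D : LSub I, D ≤ E → Disj D A → IsBot D := by
  obtain ⟨C, -, hCA, hCmax⟩ := exists_maximal_disj (bot I) A (disj_bot_left A)
  obtain ⟨E, hAE, hEC, hEmax⟩ := exists_maximal_disj A C hCA.symm
  -- essentiality
  have hess : ∀ D : LSub I, D ≤ E → Disj D A → IsBot D := by
    intro D hDE hDA
    have h1 : Disj (C.sup D) A := by
      intro T t ht ha
      apply eq_of_locally_eq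
      intro x hx
      obtain ⟨W, hW, hxW, c, hc, d, hd, e⟩ := ht x hx
      refine ⟨W, hW, hxW, ?_⟩
      rw [map_zero]
      have hc0 : c = 0 := by
        apply hEC W c _ hc
        have : c = mres I hW t - d := by rw [e]; abel
        rw [this]
        exact Submodule.sub_mem _ (hAE W (A.res_mem hW ha)) (hDE W hd)
      rw [hc0, zero_add] at e
      rw [e]
      exact hDA W d hd (by rw [← e]; exact A.res_mem hW ha)
    have h2 : C.sup D ≤ C := hCmax _ (LSub.le_sup_left C D) h1
    exact isBot_of_le_of_disj hEC hDE ((LSub.le_sup_right C D).trans h2)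
  refine ⟨E, ?_⟩
  -- the map `E ⟶ I/C` is mono
  let m : E.toModules ⟶ cokernel C.ι := E.ι ≫ cokernel.π C.ι
  have hm : Mono m := by
    apply mono_of_app_injective
    intro T a ha
    have h1 : E.ι.app T a ∈ C.obj T := (mem_iff_cokernel_π_eq_zero C T _).mpr ha
    have h2 : E.ι.app T a = 0 := hEC T _ (E.ι_app_mem T a) h1
    apply E.ι_app_injective T
    rw [h2, map_zero]
  obtain ⟨g, hg⟩ := Injective.factors E.ι m
  let θ : I ⟶ I := cokernel.π C.ι ≫ g
  have hθC : ∀ (T : X.Opens) (c : Γ(I, T)), c ∈ C.obj T → θ.app T c = 0 := by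
    intro T c hc
    change g.app T ((cokernel.π C.ι).app T c) = 0
    rw [(mem_iff_cokernel_π_eq_zero C T c).mp hc, map_zero]
  have hθE : ∀ (T : X.Opens) (e : Γ(I, T)), e ∈ E.obj T → θ.app T e = e := by
    intro T e he
    have h1 : e = E.ι.app T (E.sec T e he) := (E.ι_app_sec T e he).symm
    rw [h1]
    change (E.ι ≫ cokernel.π C.ι ≫ g).app T _ = _
    rw [← Category.assoc]
    change (m ≫ g).app T _ = _
    rw [hg]
  -- the preimage of `C` under `θ` is `C`
  have hD : comap θ C ≤ C := by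
    apply hCmax
    · intro T c hc
      change θ.app T c ∈ C.obj T
      rw [hθC T c hc]
      exact Submodule.zero_mem _
    · intro T t ht ha
      have h1 : θ.app T t = t := hθE T t (hAE T ha)
      have h2 : θ.app T t ∈ C.obj T := ht
      rw [h1] at h2
      exact hEC T t (hAE T ha) h2
  -- the image of `θ` is `E`
  have hE' : LSub.ofImage θ ≤ E := by
    apply hEmax
    · intro T e he
      rw [← hθE T e he]
      exact LSub.app_mem_ofImage θ T e
    · intro T t ht hc
      apply eq_of_locally_eq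
      intro x hx
      obtain ⟨W, hW, hxW, s, hs⟩ := ht x hx
      refine ⟨W, hW, hxW, ?_⟩
      rw [map_zero, ← hs]
      apply hθC
      apply hD
      change θ.app W s ∈ C.obj W
      rw [hs]
      exact C.res_mem hW hc
  obtain ⟨r, hr⟩ := exists_factor θ E.ι (by
    intro W a y hy
    have h1 : θ.app W a ∈ E.obj W := hE' W (LSub.app_mem_ofImage θ W a)
    exact ⟨W, le_rfl, hy, E.sec W _ h1, by rw [LSub.ι_app_sec, mres_self]⟩)
  refine ⟨r, hAE, ?_, hess⟩
  rw [← cancel_mono E.ι, Category.assoc, hr, Category.id_comp]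
  change E.ι ≫ cokernel.π C.ι ≫ g = _
  rw [← Category.assoc]
  exact hg

variable {M : X.Modules}

/-- every nonempty set of sub-modules of `N` has a maximal element -/
def HasMax (N : LSub M) : Prop :=
  ∀ S : Set (LSub M), S.Nonempty → (∀ K ∈ S, K ≤ N) → ∃ K ∈ S, ∀ K' ∈ S, K ≤ K' → K' ≤ K

theorem le_of_mk_le_mk {P : X.Modules} {A B : LSub P}
    (h : Subobject.mk A.ι ≤ Subobject.mk B.ι) : A ≤ B := by
  intro T t ht
  have h1 : Subobject.ofMkLEMk A.ι B.ι h ≫ B.ι = A.ι := Subobject.ofMkLEMk_comp h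
  have h2 : t = A.ι.app T (A.sec T t ht) := (A.ι_app_sec T t ht).symm
  rw [h2, ← h1]
  exact B.ι_app_mem T _

theorem mk_le_mk_of_le {P : X.Modules} {A B : LSub P} (h : A ≤ B) :
    Subobject.mk A.ι ≤ Subobject.mk B.ι := by
  obtain ⟨φ, hφ⟩ := exists_factor A.ι B.ι (by
    intro W a y hy
    have h1 : A.ι.app W a ∈ B.obj W := h W (A.ι_app_mem W a)
    exact ⟨W, le_rfl, hy, B.sec W _ h1, by rw [LSub.ι_app_sec, mres_self]⟩)
  exact Subobject.mk_le_mk_of_comm φ hφ

/-- images of Noetherian objects have the maximal condition -/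
theorem hasMax_ofImage {P : X.Modules} [WellFoundedGT (Subobject P)] (g : P ⟶ M) :
    HasMax (LSub.ofImage g) := by
  intro S hS hSN
  let Φ : LSub M → Subobject P := fun K => Subobject.mk (comap g K).ι
  obtain ⟨_, ⟨K₀, hK₀, rfl⟩, hmax⟩ := WellFounded.has_min (wellFounded_gt (α := Subobject P))
    (Φ '' S) (hS.image Φ)
  refine ⟨K₀, hK₀, fun K' hK' hle => ?_⟩
  have h1 : Φ K₀ ≤ Φ K' := mk_le_mk_of_le (fun T t ht => hle T ht)
  have h2 : Φ K₀ = Φ K' := eq_of_le_of_not_lt h1 (hmax _ ⟨K', hK', rfl⟩)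
  have h3 : comap g K' ≤ comap g K₀ := le_of_mk_le_mk (le_of_eq h2.symm)
  intro T t ht
  apply K₀.isLocal
  intro x hx
  obtain ⟨W, hW, hxW, a, ha⟩ := hSN K' hK' T ht x hx
  refine ⟨W, hW, hxW, ?_⟩
  have h4 : a ∈ (comap g K').obj W := by
    change g.app W a ∈ K'.obj W
    rw [ha]
    exact K'.res_mem hW ht
  have h5 : g.app W a ∈ K₀.obj W := h3 W h4
  rwa [ha] at h5

/-- a nonzero sub-module any two nonzero sub-modules of which meet -/
def IsUniform (U : LSub M) : Prop :=
  ¬ IsBot U ∧ ∀ D₁ D₂ : LSub M, D₁ ≤ U → D₂ ≤ U → Disj D₁ D₂ → IsBot D₁ ∨ IsBot D₂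

theorem exists_uniform (N : LSub M) (hN : HasMax N) (hne : ¬ IsBot N) :
    ∃ U : LSub M, U ≤ N ∧ IsUniform U := by
  let S : Set (LSub M) := {A | A ≤ N ∧ ∃ B : LSub M, B ≤ N ∧ ¬ IsBot B ∧ Disj A B}
  obtain ⟨A, ⟨hAN, B, hBN, hB, hAB⟩, hmax⟩ := hN S
    ⟨bot M, bot_le N, N, le_rfl, hne, disj_bot_left N⟩ (fun K hK => hK.1)
  refine ⟨B, hBN, hB, fun D₁ D₂ h₁ h₂ hd => ?_⟩
  by_contra hcon
  push Not at hcon
  obtain ⟨hD₁, hD₂⟩ := hcon
  have h1 : Disj (A.sup D₁) D₂ := by
    intro T t ht hd₂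
    apply eq_of_locally_eq
    intro x hx
    obtain ⟨W, hW, hxW, a, ha, d, hd₁, e⟩ := ht x hx
    refine ⟨W, hW, hxW, ?_⟩
    rw [map_zero]
    have ha0 : a = 0 := by
      apply hAB W a ha
      have : a = mres M hW t - d := by rw [e]; abel
      rw [this]
      exact Submodule.sub_mem _ (h₂ W (D₂.res_mem hW hd₂)) (h₁ W hd₁)
    rw [ha0, zero_add] at e
    rw [e]
    exact hd W d hd₁ (by rw [← e]; exact D₂.res_mem hW hd₂)
  have h2 : A.sup D₁ ≤ N := by
    intro T t ht
    apply N.isLocal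
    intro x hx
    obtain ⟨W, hW, hxW, a, ha, d, hd₁, e⟩ := ht x hx
    refine ⟨W, hW, hxW, ?_⟩
    rw [e]
    exact Submodule.add_mem _ (hAN W ha) (hBN W (h₁ W hd₁))
  have h3 : A.sup D₁ ≤ A :=
    hmax (A.sup D₁) ⟨h2, D₂, h₂.trans hBN, hD₂, h1⟩ (LSub.le_sup_left A D₁)
  exact hD₁ (isBot_of_le_of_disj hAB ((LSub.le_sup_right A D₁).trans h3) h₁)

end Groth.Agent.Helper19.Hull
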