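import Mathlib
import Groth.Agent.Lib.Helper19.Hull2

/-!
# Indecomposable injective summands (helper19)

Namespace `Groth.Agent.Helper19.Hull`.
* `exists_indec_summand`: on a locally Noetherian scheme every nonzero injective `O_X`-module has
  an indecomposable (injective) direct summand.
-/

set_option autoImplicit false
set_option linter.unusedSectionVars false
universe u
open CategoryTheory CategoryTheory.Limits AlgebraicGeometry TopologicalSpace Opposite

namespace Groth.Agent.Helper19.Hull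

open Groth.Agent.Lib.Helper49 Groth.Agent.Lib.Helper45 Groth.Agent.Lib.Helper18.LSubM
open Groth.Agent.Lib.Helper18 Groth.Agent.Helper19.ShriekNoeth

variable {X : Scheme.{u}}

theorem ofImage_ι_le {M : X.Modules} (K : LSub M) : LSub.ofImage K.ι ≤ K := by
  intro T t ht
  apply K.isLocal
  intro x hx
  obtain ⟨W, hW, hxW, a, ha⟩ := ht x hx
  refine ⟨W, hW, hxW, ?_⟩
  rw [← ha]
  exact K.ι_app_mem W a

theorem ofImage_comp_ι_le {M A : X.Modules} (K : LSub M) (f : A ⟶ K.toModules) :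
    LSub.ofImage (f ≫ K.ι) ≤ K :=
  (ofImage_comp_le f K.ι).trans (ofImage_ι_le K)

/-- a nonzero module receives a nonzero map from some `freeV V`, `V` affine -/
theorem exists_affine_map_ne_zero (M : X.Modules) (hM : ¬ IsZero M) :
    ∃ (V : X.affineOpens) (g : freeV V.1 ⟶ M), secEquiv V.1 M g ≠ 0 := by
  obtain ⟨T, t, ht⟩ := exists_section_ne_zero M hM
  by_contra hcon
  push Not at hcon
  apply ht
  apply eq_of_locally_eq
  intro x hx
  obtain ⟨V, hV, hxV, hVT⟩ := Opens.isBasis_iff_nbhd.mp X.isBasis_affineOpens hx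
  refine ⟨V, hVT, hxV, ?_⟩
  have h := hcon ⟨V, hV⟩ ((secEquiv V M).symm (mres M hVT t))
  rw [Equiv.apply_symm_apply] at h
  rw [h, map_zero]

theorem biprod_aux {M : X.Modules} (E : LSub M) {A B : X.Modules}
    (e : E.toModules ≅ A ⊞ B) (W : X.Opens) (α' : Γ(A, W)) (β' : Γ(B, W))
    (h : ((biprod.inl : A ⟶ A ⊞ B) ≫ e.inv ≫ E.ι).app W α' =
      ((biprod.inr : B ⟶ A ⊞ B) ≫ e.inv ≫ E.ι).app W β') : α' = 0 := by
  have h3 : (e.inv ≫ E.ι).app W ((biprod.inl : A ⟶ A ⊞ B).app W α' -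
      (biprod.inr : B ⟶ A ⊞ B).app W β') = 0 := by
    rw [map_sub]
    have e1 : (e.inv ≫ E.ι).app W ((biprod.inl : A ⟶ A ⊞ B).app W α') =
        ((biprod.inl : A ⟶ A ⊞ B) ≫ e.inv ≫ E.ι).app W α' := rfl
    have e2 : (e.inv ≫ E.ι).app W ((biprod.inr : B ⟶ A ⊞ B).app W β') =
        ((biprod.inr : B ⟶ A ⊞ B) ≫ e.inv ≫ E.ι).app W β' := rfl
    rw [e1, e2, h, sub_self]
  have h4 := app_eq_zero_of_mono (e.inv ≫ E.ι) W _ h3
  have h5 := congrArg ((biprod.fst : A ⊞ B ⟶ A).app W) h4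
  rw [map_sub, map_zero] at h5
  have e3 : (biprod.fst : A ⊞ B ⟶ A).app W ((biprod.inl : A ⟶ A ⊞ B).app W α') = α' := by
    change ((biprod.inl : A ⟶ A ⊞ B) ≫ biprod.fst).app W α' = α'
    rw [biprod.inl_fst]
    rfl
  have e4 : (biprod.fst : A ⊞ B ⟶ A).app W ((biprod.inr : B ⟶ A ⊞ B).app W β') = 0 := by
    change ((biprod.inr : B ⟶ A ⊞ B) ≫ biprod.fst).app W β' = 0
    rw [biprod.inr_fst]
    rfl
  rw [e3, e4, sub_zero] at h5
  exact h5

/-- the summands of a decomposition of a sub-module are disjoint -/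
theorem disj_of_biprod {M : X.Modules} (E : LSub M) {A B : X.Modules}
    (e : E.toModules ≅ A ⊞ B) :
    Disj (LSub.ofImage ((biprod.inl : A ⟶ A ⊞ B) ≫ e.inv ≫ E.ι))
      (LSub.ofImage ((biprod.inr : B ⟶ A ⊞ B) ≫ e.inv ≫ E.ι)) := by
  intro T t h₁ h₂
  apply eq_of_locally_eq
  intro x hx
  obtain ⟨W₁, hW₁, hx₁, α, hα⟩ := h₁ x hx
  obtain ⟨W₂, hW₂, hx₂, β, hβ⟩ := h₂ x hx
  refine ⟨W₁ ⊓ W₂, inf_le_left.trans hW₁, ⟨hx₁, hx₂⟩, ?_⟩
  have hα' := congrArg (mres M (inf_le_left : W₁ ⊓ W₂ ≤ W₁)) hα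
  have hβ' := congrArg (mres M (inf_le_right : W₁ ⊓ W₂ ≤ W₂)) hβ
  rw [mres_mres, ← app_mres] at hα' hβ'
  have h0 := biprod_aux E e (W₁ ⊓ W₂) _ _ (hα'.trans hβ'.symm)
  rw [map_zero, ← hα', h0, map_zero]

theorem not_isBot_ofImage_of_mono {M A : X.Modules} (a : A ⟶ M) [Mono a] (hA : ¬ IsZero A) :
    ¬ IsBot (LSub.ofImage a) := by
  intro hb
  obtain ⟨T, α, hα⟩ := exists_section_ne_zero A hA
  exact hα (app_eq_zero_of_mono a T α (hb T _ (LSub.app_mem_ofImage a T α)))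

/-- **Every nonzero injective `O_X`-module on a locally Noetherian scheme has an indecomposable
direct summand.** -/
theorem exists_indec_summand [IsLocallyNoetherian X] {I : X.Modules} [Injective I]
    (hI : ¬ IsZero I) :
    ∃ (E : LSub I) (r : I ⟶ E.toModules), E.ι ≫ r = 𝟙 _ ∧ ¬ IsZero E.toModules ∧
      ∀ A B : X.Modules, Nonempty (E.toModules ≅ A ⊞ B) → IsZero A ∨ IsZero B := by
  obtain ⟨V, g, hg⟩ := exists_affine_map_ne_zero I hI
  have : IsNoetherianRing Γ(X, V.1) := IsLocallyNoetherian.component_noetherian V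
  have hW : WellFoundedGT (Subobject (freeV V.1)) :=
    wellFoundedGT_iff_monotone_chain_condition.mpr (fun c => acc_freeOn V.2 c)
  have hN : HasMax (LSub.ofImage g) := hasMax_ofImage g
  have hne : ¬ IsBot (LSub.ofImage g) := by
    intro hb
    apply hg
    rw [secEquiv_eq_app]
    exact hb V.1 _ (LSub.app_mem_ofImage g V.1 _)
  obtain ⟨U, -, hUne, hU⟩ := exists_uniform _ hN hne
  obtain ⟨E, r, hUE, hr, hess⟩ := exists_hull U
  refine ⟨E, r, hr, ?_, ?_⟩
  · intro hz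
    apply hUne
    intro T t ht
    have h1 : E.sec T t (hUE T ht) = 0 := sections_eq_zero_of_isZero _ hz T _
    rw [← E.ι_app_sec T t (hUE T ht), h1, map_zero]
  · rintro A B ⟨e⟩
    by_contra hcon
    push Not at hcon
    obtain ⟨hA, hB⟩ := hcon
    let a : A ⟶ I := (biprod.inl : A ⟶ A ⊞ B) ≫ e.inv ≫ E.ι
    let b : B ⟶ I := (biprod.inr : B ⟶ A ⊞ B) ≫ e.inv ≫ E.ι
    have ha : Mono a := mono_comp _ _
    have hb : Mono b := mono_comp _ _
    have hd : Disj (LSub.ofImage a) (LSub.ofImage b) := disj_of_biprod E e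
    have h1E : LSub.ofImage a ≤ E := by
      have := ofImage_comp_ι_le E ((biprod.inl : A ⟶ A ⊞ B) ≫ e.inv)
      rwa [Category.assoc] at this
    have h2E : LSub.ofImage b ≤ E := by
      have := ofImage_comp_ι_le E ((biprod.inr : B ⟶ A ⊞ B) ≫ e.inv)
      rwa [Category.assoc] at this
    have h1 : ¬ IsBot ((LSub.ofImage a).inf U) := by
      intro hb'
      apply not_isBot_ofImage_of_mono a hA
      apply hess _ h1E
      intro T t ht hu
      exact hb' T t ⟨ht, hu⟩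
    have h2 : ¬ IsBot ((LSub.ofImage b).inf U) := by
      intro hb'
      apply not_isBot_ofImage_of_mono b hB
      apply hess _ h2E
      intro T t ht hu
      exact hb' T t ⟨ht, hu⟩
    have h3 : Disj ((LSub.ofImage a).inf U) ((LSub.ofImage b).inf U) :=
      fun T t h h' => hd T t h.1 h'.1
    have h4 : (LSub.ofImage a).inf U ≤ U := fun T t (h : t ∈ (LSub.ofImage a).obj T ⊓ U.obj T) => h.2
    have h5 : (LSub.ofImage b).inf U ≤ U := fun T t (h : t ∈ (LSub.ofImage b).obj T ⊓ U.obj T) => h.2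
    rcases hU _ _ h4 h5 h3 with h | h
    · exact h1 h
    · exact h2 h

end Groth.Agent.Helper19.Hull
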