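import Mathlib
import Groth.Agent.Lib.Helper19.Hull3

/-!
# Injective `O_X`-modules on a locally Noetherian scheme are direct sums of indecomposable
injectives (helper19)

Namespace `Groth.Agent.Helper19.Hull`.
* `IsIndecInj K`, `Indep F`: indecomposable injective sub-modules, sectionwise independent
  families of sub-modules; `mono_sigma_of_indep`.
* `exists_decomposition`: the decomposition theorem (Matlis–Gabriel).
-/

set_option autoImplicit false
set_option linter.unusedSectionVars false
universe u
open CategoryTheory CategoryTheory.Limits AlgebraicGeometry TopologicalSpace Opposite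

namespace Groth.Agent.Helper19.Hull

open Groth.Agent.Lib.Helper49 Groth.Agent.Lib.Helper45 Groth.Agent.Lib.Helper18.LSubM
open Groth.Agent.Lib.Helper18 Groth.Agent.Helper19.ShriekNoeth Groth.Agent.Helper19.NoethInj

variable {X : Scheme.{u}}

theorem sum_app_apply' {M N : X.Modules} {ι : Type*} (s : Finset ι) (φ : ι → (M ⟶ N))
    (U : X.Opens) (m : Γ(M, U)) : (∑ i ∈ s, φ i).app U m = ∑ i ∈ s, (φ i).app U m := by
  classical
  induction s using Finset.induction_on with
  | empty => simp
  | insert a s ha ih =>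
    rw [Finset.sum_insert ha, Finset.sum_insert ha, Scheme.Modules.Hom.add_app]
    change (φ a).app U m + (∑ i ∈ s, φ i).app U m = _
    rw [ih]

section Generic

variable {ι : Type u} (J : ι → X.Modules)

open Classical in
/-- the projection of a direct sum onto a summand (with the decidability instance of `proj`) -/
noncomputable def comp (j : ι) : ∐ J ⟶ J j := Sigma.π J j

open Classical in
theorem ι_comp_self (j : ι) : Sigma.ι J j ≫ comp J j = 𝟙 _ := Sigma.ι_π_eq_id J j

open Classical in
theorem ι_comp_of_ne {j k : ι} (h : j ≠ k) : Sigma.ι J j ≫ comp J k = 0 := Sigma.ι_π_of_ne J h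

open Classical in
theorem proj_app (s : Finset ι) (W : X.Opens) (v : Γ(∐ J, W)) :
    (proj J s).app W v = ∑ j ∈ s, (Sigma.ι J j).app W ((comp J j).app W v) := by
  unfold proj
  rw [sum_app_apply']
  rfl

end Generic

variable {I : X.Modules}

/-- an indecomposable injective sub-module -/
def IsIndecInj (K : LSub I) : Prop :=
  Injective K.toModules ∧ ¬ IsZero K.toModules ∧
    ∀ A B : X.Modules, Nonempty (K.toModules ≅ A ⊞ B) → IsZero A ∨ IsZero B

/-- sectionwise independence of a family of sub-modules -/
def Indep (F : Set (LSub I)) : Prop :=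
  ∀ (s : Finset (LSub I)), (↑s : Set (LSub I)) ⊆ F → ∀ (T : X.Opens) (t : LSub I → Γ(I, T)),
    (∀ K ∈ s, t K ∈ K.obj T) → ∑ K ∈ s, t K = 0 → ∀ K ∈ s, t K = 0

/-- the modules of a family of sub-modules -/
noncomputable abbrev famMod (F : Set (LSub I)) : F → X.Modules := fun K => K.1.toModules

/-- the sum map of a family of sub-modules -/
noncomputable def famSum (F : Set (LSub I)) : ∐ famMod F ⟶ I := Sigma.desc (fun K : F => K.1.ι)

theorem ι_famSum (F : Set (LSub I)) (K : F) : Sigma.ι (famMod F) K ≫ famSum F = K.1.ι := by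
  unfold famSum
  rw [Sigma.ι_desc]

theorem mono_sigma_of_indep (F : Set (LSub I)) (hF : Indep F) : Mono (famSum F) := by
  classical
  apply mono_of_app_injective
  intro T u hu
  apply eq_of_locally_eq
  intro x hx
  obtain ⟨W, hW, hxW, s, hs⟩ := mem_finSub (famMod F) T u x hx
  refine ⟨W, hW, hxW, ?_⟩
  rw [map_zero]
  set v := mres (∐ famMod F) hW u with hv
  have hσv : (famSum F).app W v = 0 := by rw [hv, app_mres, hu, map_zero]
  -- `v` is the sum of its components in `s`
  have hsum : v = ∑ K ∈ s, (Sigma.ι (famMod F) K).app W ((comp (famMod F) K).app W v) := by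
    have h1 : (proj (famMod F) s).app W v = v := hs
    rw [proj_app] at h1
    exact h1.symm
  -- apply the sum map
  have h2 : ∑ K ∈ s, K.1.ι.app W ((comp (famMod F) K).app W v) = 0 := by
    rw [← hσv]
    conv_rhs => rw [hsum, map_sum]
    apply Finset.sum_congr rfl
    intro K _
    change _ = (Sigma.ι (famMod F) K ≫ famSum F).app W _
    rw [ι_famSum]
  -- independence
  let t : LSub I → Γ(I, W) := fun K =>
    if h : K ∈ F then K.ι.app W ((comp (famMod F) ⟨K, h⟩).app W v) else 0
  have ht : ∀ K : F, t K.1 = K.1.ι.app W ((comp (famMod F) K).app W v) := by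
    intro K
    simp only [t, dif_pos K.2]
  have h3 := hF (s.map (Function.Embedding.subtype _)) (by
      intro K hK
      simp only [Finset.coe_map, Function.Embedding.coe_subtype, Set.mem_image, Finset.mem_coe,
        Subtype.exists, exists_and_right, exists_eq_right] at hK
      exact hK.1) W t (by
      intro K hK
      simp only [Finset.mem_map, Function.Embedding.coe_subtype, Subtype.exists, exists_and_right,
        exists_eq_right] at hK
      obtain ⟨hKF, -⟩ := hK
      rw [ht ⟨K, hKF⟩]
      exact K.ι_app_mem W _) (by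
      rw [Finset.sum_map]
      simp only [Function.Embedding.coe_subtype]
      rw [← h2]
      exact Finset.sum_congr rfl (fun K _ => ht K))
  rw [hsum]
  apply Finset.sum_eq_zero
  intro K hK
  have h4 : t K.1 = 0 := h3 K.1 (by
    simp only [Finset.mem_map, Function.Embedding.coe_subtype, Subtype.exists, exists_and_right,
      exists_eq_right]
    exact ⟨K.2, hK⟩)
  rw [ht K] at h4
  have h5 : (comp (famMod F) K).app W v = 0 := by
    apply K.1.ι_app_injective W
    rw [h4, map_zero]
  rw [h5, map_zero]

theorem injective_of_retract {A B : X.Modules} [Injective B] (i : A ⟶ B) (r : B ⟶ A)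
    (h : i ≫ r = 𝟙 A) : Injective A :=
  ⟨fun g f _ => by
    obtain ⟨k, hk⟩ := Injective.factors (g ≫ i) f
    exact ⟨k ≫ r, by rw [← Category.assoc, hk, Category.assoc, h, Category.comp_id]⟩⟩

/-- **Decomposition of injectives** (Matlis, Gabriel): on a locally Noetherian scheme every
injective `O_X`-module is the direct sum of a family of indecomposable injective sub-modules. -/
theorem exists_decomposition [IsLocallyNoetherian X] (I : X.Modules) [Injective I] :
    ∃ F : Set (LSub I), (∀ K ∈ F, IsIndecInj K) ∧ Nonempty (I ≅ ∐ famMod F) := by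
  classical
  obtain ⟨F, hF⟩ := zorn_subset {F : Set (LSub I) | (∀ K ∈ F, IsIndecInj K) ∧ Indep F} (by
    intro c hcS hc
    refine ⟨⋃₀ c, ⟨?_, ?_⟩, fun s hs => Set.subset_sUnion_of_mem hs⟩
    · rintro K ⟨F, hFc, hKF⟩
      exact (hcS hFc).1 K hKF
    · intro s hs T t ht hsum
      by_cases hne : c.Nonempty
      · obtain ⟨F, hFc, hsF⟩ := DirectedOn.exists_mem_subset_of_finite_of_subset_sUnion hne
          hc.directedOn s.finite_toSet hs
        exact (hcS hFc).2 s hsF T t ht hsum
      · rw [Set.not_nonempty_iff_eq_empty] at hne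
        subst hne
        rw [Set.sUnion_empty] at hs
        intro K hK
        exact absurd (hs hK) (Set.notMem_empty K))
  obtain ⟨hFind, hFindep⟩ := hF.prop
  have hσ : Mono (famSum F) := mono_sigma_of_indep F hFindep
  have hJ : Injective (∐ famMod F) := injective_sigma (famMod F) (fun K => (hFind K.1 K.2).1)
  obtain ⟨ρ, hρ⟩ := Injective.factors (𝟙 (∐ famMod F)) (famSum F)
  -- `ρ` on the members of `F`
  have hρK : ∀ (K : F) (T : X.Opens) (τ : Γ(I, T)) (hτ : τ ∈ K.1.obj T),
      ρ.app T τ = (Sigma.ι (famMod F) K).app T (K.1.sec T τ hτ) := by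
    intro K T τ hτ
    have h1 : τ = (Sigma.ι (famMod F) K ≫ famSum F).app T (K.1.sec T τ hτ) := by
      rw [ι_famSum]
      exact (K.1.ι_app_sec T τ hτ).symm
    conv_lhs => rw [h1]
    change ((Sigma.ι (famMod F) K ≫ famSum F) ≫ ρ).app T _ = _
    rw [Category.assoc, hρ, Category.comp_id]
  by_cases hz : IsZero (kernel ρ)
  · have hρm : Mono ρ := Preadditive.mono_of_kernel_zero (hz.eq_of_src _ _)
    refine ⟨F, hFind, ⟨⟨ρ, famSum F, ?_, hρ⟩⟩⟩
    rw [← cancel_mono ρ, Category.assoc, hρ, Category.comp_id, Category.id_comp]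
  · exfalso
    -- the kernel of `ρ` is a retract of `I`
    have hp : (𝟙 I - ρ ≫ famSum F) ≫ ρ = 0 := by
      rw [Preadditive.sub_comp, Category.id_comp, Category.assoc, hρ, Category.comp_id, sub_self]
    have hp' : kernel.ι ρ ≫ kernel.lift ρ (𝟙 I - ρ ≫ famSum F) hp = 𝟙 _ := by
      rw [← cancel_mono (kernel.ι ρ), Category.assoc, kernel.lift_ι, Preadditive.comp_sub,
        Category.comp_id, kernel.condition_assoc, zero_comp, sub_zero, Category.id_comp]
    have hI' : Injective (kernel ρ) := injective_of_retract _ _ hp'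
    obtain ⟨E', r', hr', hE'ne, hE'ind⟩ := exists_indec_summand hz
    have hE'inj : Injective E'.toModules := injective_of_retract _ _ hr'
    let m : E'.toModules ⟶ I := E'.ι ≫ kernel.ι ρ
    have hm : Mono m := mono_comp _ _
    obtain ⟨E'', hE''⟩ : ∃ E'' : LSub I, E'' = LSub.ofImage m := ⟨_, rfl⟩
    obtain ⟨e, -⟩ : ∃ e : E''.toModules ≅ E'.toModules, e.hom ≫ m = E''.ι := by
      apply exists_iso_of_factor
      · intro W a' y hy
        have := E''.ι_app_mem W a'
        have hobj : E''.obj W = (LSub.ofImage m).obj W := by rw [hE'']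
        rw [hobj] at this
        obtain ⟨D, hD, hyD, a, ha⟩ := this y hy
        exact ⟨D, hD, hyD, a, ha⟩
      · intro W b y hy
        have hmem : m.app W b ∈ E''.obj W := by
          rw [hE'']
          exact LSub.app_mem_ofImage m W b
        exact ⟨W, le_rfl, hy, E''.sec W _ hmem, by rw [LSub.ι_app_sec, mres_self]⟩
    have hE''ind : IsIndecInj E'' :=
      ⟨Injective.of_iso e.symm hE'inj, fun h => hE'ne (h.of_iso e.symm),
        fun A B ⟨f⟩ => hE'ind A B ⟨e.symm ≪≫ f⟩⟩
    -- `ρ` kills `E''`
    have hρE : ∀ (T : X.Opens) (τ : Γ(I, T)), τ ∈ E''.obj T → ρ.app T τ = 0 := by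
      intro T τ hτ
      rw [hE''] at hτ
      apply eq_of_locally_eq
      intro x hx
      obtain ⟨W, hW, hxW, a, ha⟩ := hτ x hx
      refine ⟨W, hW, hxW, ?_⟩
      rw [map_zero, ← app_mres, ← ha]
      change ((E'.ι ≫ kernel.ι ρ) ≫ ρ).app W a = 0
      rw [Category.assoc, kernel.condition, comp_zero]
      rfl
    have hE''F : E'' ∉ F := by
      intro hmem
      obtain ⟨T, a, ha⟩ := exists_section_ne_zero _ hE''ind.2.1
      apply ha
      have h1 := hρK ⟨E'', hmem⟩ T _ (E''.ι_app_mem T a)
      rw [hρE T _ (E''.ι_app_mem T a)] at h1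
      have h2 := congrArg ((comp (famMod F) ⟨E'', hmem⟩).app T) h1
      rw [map_zero] at h2
      change 0 = (Sigma.ι (famMod F) ⟨E'', hmem⟩ ≫ comp (famMod F) ⟨E'', hmem⟩).app T _ at h2
      rw [ι_comp_self] at h2
      apply E''.ι_app_injective T
      rw [map_zero, ← E''.ι_app_sec T _ (E''.ι_app_mem T a)]
      have h3 : E''.sec T (E''.ι.app T a) (E''.ι_app_mem T a) = 0 := h2.symm
      rw [h3, map_zero]
    have hins : insert E'' F ∈ {F : Set (LSub I) | (∀ K ∈ F, IsIndecInj K) ∧ Indep F} := by
      refine ⟨?_, ?_⟩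
      · intro K hK
        rcases hK with rfl | hK
        · exact hE''ind
        · exact hFind K hK
      · intro s hs T t ht hsum
        have h0 : ∑ K ∈ s, ρ.app T (t K) = 0 := by rw [← map_sum, hsum, map_zero]
        have hF0 : ∀ K₀ ∈ s, K₀ ∈ F → t K₀ = 0 := by
          intro K₀ hK₀s hK₀
          have h1 := congrArg ((comp (famMod F) ⟨K₀, hK₀⟩).app T) h0
          rw [map_sum, map_zero, Finset.sum_eq_single K₀] at h1
          · rw [hρK ⟨K₀, hK₀⟩ T (t K₀) (ht K₀ hK₀s)] at h1
            change (Sigma.ι (famMod F) ⟨K₀, hK₀⟩ ≫ comp (famMod F) ⟨K₀, hK₀⟩).app T _ = 0 at h1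
            rw [ι_comp_self] at h1
            have h3 : K₀.sec T (t K₀) (ht K₀ hK₀s) = 0 := h1
            rw [← K₀.ι_app_sec T (t K₀) (ht K₀ hK₀s), h3, map_zero]
          · intro K hKs hne
            rcases hs hKs with rfl | hKF
            · rw [hρE T _ (ht _ hKs), map_zero]
            · rw [hρK ⟨K, hKF⟩ T (t K) (ht K hKs)]
              change (Sigma.ι (famMod F) ⟨K, hKF⟩ ≫ comp (famMod F) ⟨K₀, hK₀⟩).app T _ = 0
              rw [ι_comp_of_ne _ (fun h => hne (congrArg Subtype.val h))]
              rfl
          · intro h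
            exact absurd hK₀s h
        intro K hKs
        rcases hs hKs with rfl | hKF
        · have h1 : ∑ K' ∈ s, t K' = t K :=
            Finset.sum_eq_single_of_mem K hKs
              (fun K' hK's hne => hF0 K' hK's ((hs hK's).resolve_left hne))
          rw [← h1]
          exact hsum
        · exact hF0 K hKs hKF
    exact hE''F (hF.le_of_ge hins (Set.subset_insert _ _) (Set.mem_insert _ _))

end Groth.Agent.Helper19.Hull
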