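import Mathlib
import Groth.Agent.Lib.Helper19.Hull4
import Groth.Agent.S0485
import Groth.Agent.Lib.Helper18.LSubRestrict
import Groth.Agent.Lib.Helper45.ModulesBasic

/-!
# Injective hulls of `O_X`-modules and their restriction to opens (helper19)

Namespace `Groth.Agent.Helper19.QCohHull`.
* `CatEss m`: categorical essential morphisms (`Mono (m ≫ g) → Mono g`).
* `exists_catHull`: every `O_X`-module has an essential mono into an injective module.
* `suppIn H U`: the sub-module of sections supported in `U`.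
* `lEss_of_catEss`, `catEss_restrict`: essential monos restrict to essential monos on opens.
-/

set_option autoImplicit false
set_option linter.unusedSectionVars false
universe u
open CategoryTheory CategoryTheory.Limits AlgebraicGeometry TopologicalSpace Opposite

namespace Groth.Agent.Helper19.QCohHull

open Groth.Agent.Lib.Helper49 Groth.Agent.Lib.Helper45 Groth.Agent.Lib.Helper18.LSubM
open Groth.Agent.Lib.Helper18 Groth.Agent.Helper19.Hull

/-- categorical essential morphisms -/
def CatEss {C : Type*} [Category C] {A B : C} (m : A ⟶ B) : Prop :=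
  ∀ ⦃Z : C⦄ (g : B ⟶ Z), Mono (m ≫ g) → Mono g

theorem CatEss.of_iso_comp {C : Type*} [Category C] {A' A B : C} (e : A' ⟶ A) [IsIso e] {m : A ⟶ B}
    (h : CatEss m) : CatEss (e ≫ m) := by
  intro Z g hg
  apply h
  have : m ≫ g = inv e ≫ (e ≫ m) ≫ g := by simp
  rw [this]
  infer_instance

theorem CatEss.comp_iso {C : Type*} [Category C] {A B B' : C} {m : A ⟶ B} (e : B ⟶ B') [IsIso e]
    (h : CatEss m) : CatEss (m ≫ e) := by
  intro Z g hg
  have h1 : Mono (m ≫ (e ≫ g)) := by rwa [← Category.assoc]
  have h2 := h (e ≫ g) h1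
  have : g = inv e ≫ e ≫ g := by simp
  rw [this]
  infer_instance

variable {X : Scheme.{u}}

/-- **Injective hulls of `O_X`-modules**: every module has an essential monomorphism into an
injective module. -/
theorem exists_catHull (F : X.Modules) :
    ∃ (H : X.Modules) (m : F ⟶ H), Mono m ∧ Injective H ∧ CatEss m := by
  have hE : EnoughInjectives X.Modules :=
    Groth.Agent.S0485.result (Opens.grothendieckTopology X) X.ringCatSheaf
  let I : X.Modules := Injective.under F
  let a : F ⟶ I := Injective.ι F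
  obtain ⟨E, r, hAE, hr, hess⟩ := exists_hull (LSub.ofImage a)
  have hinj : Injective E.toModules := injective_of_retract E.ι r hr
  let m : F ⟶ E.toModules := a ≫ r
  have hm : m ≫ E.ι = a := by
    apply Scheme.Modules.hom_ext
    intro T
    ext t
    have h1 : a.app T t ∈ E.obj T := hAE T (LSub.app_mem_ofImage a T t)
    have h2 : E.ι.app T (E.sec T _ h1) = a.app T t := E.ι_app_sec T _ h1
    change E.ι.app T (r.app T (a.app T t)) = a.app T t
    rw [← h2]
    congr 1
    change (E.ι ≫ r).app T _ = _
    rw [hr]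
    rfl
  have hmono : Mono m := by
    have : Mono (m ≫ E.ι) := by rw [hm]; infer_instance
    exact mono_of_mono m E.ι
  refine ⟨E.toModules, m, hmono, hinj, ?_⟩
  intro Z g hg
  let K : LSub E.toModules := comap g (Hull.bot Z)
  let D : LSub I := LSub.ofImage (K.ι ≫ E.ι)
  have hDE : D ≤ E := ofImage_comp_ι_le E K.ι
  have hKg : ∀ (T : X.Opens) (k : Γ(K.toModules, T)), g.app T (K.ι.app T k) = 0 := by
    intro T k
    have h1 : K.ι.app T k ∈ K.obj T := K.ι_app_mem T k
    rw [mem_comap] at h1
    exact isBot_bot T _ h1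
  have hDA : Disj D (LSub.ofImage a) := by
    intro T t hD hA
    apply eq_of_locally_eq
    intro x hx
    obtain ⟨W₁, hW₁, hxW₁, k, hk⟩ := (LSub.mem_ofImage_iff _ T t).mp hD x hx
    obtain ⟨W₂, hW₂, hxW₂, f, hf⟩ := (LSub.mem_ofImage_iff _ T t).mp hA x hx
    refine ⟨W₁ ⊓ W₂, inf_le_left.trans hW₁, ⟨hxW₁, hxW₂⟩, ?_⟩
    let k' : Γ(K.toModules, W₁ ⊓ W₂) := mres K.toModules inf_le_left k
    let f' : Γ(F, W₁ ⊓ W₂) := mres F inf_le_right f
    have e1 : E.ι.app _ (K.ι.app _ k') = mres I (inf_le_left.trans hW₁) t := by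
      change (K.ι ≫ E.ι).app _ (mres K.toModules inf_le_left k) = _
      rw [app_mres, hk, mres_mres]
    have e2 : E.ι.app _ (m.app _ f') = mres I (inf_le_left.trans hW₁) t := by
      change (m ≫ E.ι).app _ (mres F inf_le_right f) = _
      rw [hm, app_mres, hf, mres_mres]
    have e3 : K.ι.app _ k' = m.app _ f' := E.ι_app_injective _ (e1.trans e2.symm)
    have e4 : (m ≫ g).app _ f' = 0 := by
      change g.app _ (m.app _ f') = 0
      rw [← e3]
      exact hKg _ k'
    have e5 : f' = 0 := app_eq_zero_of_mono (m ≫ g) _ f' e4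
    rw [← e2, e5, map_zero, map_zero, map_zero]
  have hbot : Hull.IsBot D := hess D hDE hDA
  apply Hull.mono_of_app_injective
  intro T e he
  have h1 : e ∈ K.obj T := by
    rw [mem_comap, he]
    exact Submodule.zero_mem _
  have h2 : E.ι.app T e ∈ D.obj T := by
    have := LSub.app_mem_ofImage (K.ι ≫ E.ι) T (K.sec T e h1)
    exact this
  have h3 : E.ι.app T e = 0 := hbot T _ h2
  apply E.ι_app_injective T
  rw [h3, map_zero]

/-- sections whose germs vanish outside `U` -/
noncomputable def suppIn (H : X.Modules) (U : X.Opens) : LSub H where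
  obj T :=
    { carrier := {t | ∀ (x : X) (hx : x ∈ T), x ∉ U → H.presheaf.germ T x hx t = 0}
      zero_mem' := by
        intro x hx _
        exact map_zero _
      add_mem' := by
        intro a b ha hb x hx hxU
        rw [map_add, ha x hx hxU, hb x hx hxU, add_zero]
      smul_mem' := by
        intro r a ha x hx hxU
        rw [germ_smul, ha x hx hxU, smul_zero] }
  res_mem := by
    intro T V h t ht x hx hxU
    rw [mres_apply, TopCat.Presheaf.germ_res_apply]
    exact ht x (h hx) hxU
  isLocal := by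
    intro T t Hloc x hx hxU
    obtain ⟨V, h, hxV, hm⟩ := Hloc x hx
    have h1 := hm x hxV hxU
    rwa [mres_apply, TopCat.Presheaf.germ_res_apply] at h1

theorem lEss_of_catEss {F H : X.Modules} (m : F ⟶ H) [Mono m] (hm : CatEss m) (D : LSub H)
    (hD : Disj D (LSub.ofImage m)) : Hull.IsBot D := by
  have h1 : Mono (m ≫ cokernel.π D.ι) := by
    apply Hull.mono_of_app_injective
    intro T φ hφ
    have h2 : m.app T φ ∈ D.obj T := (mem_iff_cokernel_π_eq_zero D T _).mpr hφ
    have h3 : m.app T φ = 0 := hD T _ h2 (LSub.app_mem_ofImage m T φ)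
    exact app_eq_zero_of_mono m T φ h3
  have h2 : Mono (cokernel.π D.ι) := hm _ h1
  have h3 : D.ι = 0 := by
    rw [← cancel_mono (cokernel.π D.ι), cokernel.condition, zero_comp]
  intro T t ht
  have h4 : D.ι.app T (D.sec T t ht) = t := D.ι_app_sec T t ht
  rw [← h4, h3]
  rfl

/-- **Restriction of essential monomorphisms to open subschemes** -/
theorem catEss_restrict {Y : Scheme.{u}} (f : Y ⟶ X) [IsOpenImmersion f] {F H : X.Modules}
    (m : F ⟶ H) [Mono m] (hm : CatEss m) :
    CatEss ((Scheme.Modules.restrictFunctor f).map m) := by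
  intro Z g hg
  let K : LSub (H.restrict f) := comap g (Hull.bot Z)
  let D : LSub H := (ofMono K.ι).inf (suppIn H f.opensRange)
  have hKg : ∀ (T : Y.Opens) (k : Γ(K.toModules, T)), g.app T (K.ι.app T k) = 0 := by
    intro T k
    have h1 : K.ι.app T k ∈ K.obj T := K.ι_app_mem T k
    rw [mem_comap] at h1
    exact isBot_bot T _ h1
  have hDA : Disj D (LSub.ofImage m) := by
    intro T t hD hA
    apply section_ext_germ
    intro x hx
    rw [map_zero]
    by_cases hxU : x ∈ f.opensRange
    · obtain ⟨W', hW', hxW', b, hb⟩ := (mem_ofMono_obj K.ι).mp hD.1 x ⟨hx, hxU⟩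
      obtain ⟨W₂, hW₂, hxW₂, φ, hφ⟩ := (LSub.mem_ofImage_iff _ T t).mp hA x hx
      let W'' : Y.Opens := W' ⊓ f ⁻¹ᵁ W₂
      have hxW'' : x ∈ f ''ᵁ W'' := mem_image_inf_preimage hxW' hxW₂
      have hle1 : f ''ᵁ W'' ≤ f ''ᵁ W' := f.image_mono inf_le_left
      have hle2 : f ''ᵁ W'' ≤ W₂ := (f.image_mono inf_le_right).trans (f.image_preimage_le W₂)
      let φ' : Γ(F.restrict f, W'') := mres F hle2 φ
      have e1 : ((Scheme.Modules.restrictFunctor f).map m).app W'' φ' =
          mres H (hle1.trans hW') t := by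
        change m.app (f ''ᵁ W'') (mres F hle2 φ) = _
        rw [app_mres, hφ, mres_mres]
      have e2 : appX K.ι W'' (mres K.toModules inf_le_left b) = mres H (hle1.trans hW') t := by
        rw [appX_mres, hb, mres_mres]
      have e3 : g.app W'' (((Scheme.Modules.restrictFunctor f).map m).app W'' φ') = 0 := by
        rw [e1, ← e2]
        exact hKg W'' _
      have e4 : φ' = 0 :=
        app_eq_zero_of_mono ((Scheme.Modules.restrictFunctor f).map m ≫ g) W'' φ' e3
      have e5 : mres H (hle1.trans hW') t = 0 := by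
        rw [← e1, e4]
        exact map_zero _
      have e6 := congrArg (H.presheaf.germ (f ''ᵁ W'') x hxW'') e5
      rw [mres_apply, TopCat.Presheaf.germ_res_apply, map_zero] at e6
      exact e6
    · exact hD.2 x hx hxU
  have hbot : Hull.IsBot D := lEss_of_catEss m hm D hDA
  apply Hull.mono_of_app_injective
  intro V s hs
  have h1 : s ∈ K.obj V := by
    rw [mem_comap, hs]
    exact Submodule.zero_mem _
  have h2 : appX K.ι V (K.sec V s h1) ∈ (ofMono K.ι).obj (f ''ᵁ V) := appX_mem_ofMono K.ι V _
  have h3 : appX K.ι V (K.sec V s h1) = (show Γ(H, f ''ᵁ V) from s) := rfl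
  have h4 : (show Γ(H, f ''ᵁ V) from s) ∈ D.obj (f ''ᵁ V) := by
    refine ⟨h3 ▸ h2, ?_⟩
    intro x hx hxU
    exact absurd (f.image_le_opensRange V hx) hxU
  exact hbot _ _ h4

end Groth.Agent.Helper19.QCohHull
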