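import Mathlib
import Groth.Agent.Lib.Helper19.ExtHom1
import Groth.Agent.Lib.Helper19.QCohHull1

/-!
# A locally split extension inside an essential extension is trivial (helper19)

Namespace `Groth.Agent.Helper19.ExtHom`.
* `imgLoc L p : LSub H`: the image of a local morphism `L : G|_V → P|_V` followed by `p : P ⟶ H`.
* `sections_eq_zero`: if `F ⟶ H` is essential with cokernel `Q`, `G ⊆ Q` with preimage `P ⊆ H`, and
  `P → G` has a section over `V`, then `G` has no nonzero sections over opens contained in `V`.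
-/

set_option autoImplicit false
universe u
open CategoryTheory CategoryTheory.Limits AlgebraicGeometry TopologicalSpace Opposite

namespace Groth.Agent.Helper19.ExtHom

open Groth.Agent.Lib.Helper49 Groth.Agent.Lib.Helper45 Groth.Agent.Lib.Helper18.LSubM
open Groth.Agent.Lib.Helper18 Groth.Agent.Helper19.Hull Groth.Agent.Helper19.QCohHull
open Groth.Agent.Lib.Helper49.HomAdj

variable {X : Scheme.{u}} {G P H : X.Modules} {V : X.Opens}

theorem res_pθ (L : LocHom G P V) (p : P ⟶ H) {W W' : X.Opens} (hW : W ≤ V) (h : W' ≤ W)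
    (s : Γ(G, W)) :
    mres H h (p.app W (L.θ W hW s)) = p.app W' (L.θ W' (h.trans hW) (mres G h s)) := by
  rw [← Groth.Agent.Lib.Helper11.TensorMap.app_mres]
  congr 1
  exact L.res hW h s

/-- the image of a local morphism `L : G|_V → P|_V` followed by `p : P ⟶ H` -/
noncomputable def imgLoc (L : LocHom G P V) (p : P ⟶ H) : LSub H where
  obj T :=
    { carrier := {t | ∀ x ∈ T, x ∈ V → ∃ (W : X.Opens) (hWT : W ≤ T) (hWV : W ≤ V), x ∈ W ∧
          ∃ s : Γ(G, W), mres H hWT t = p.app W (L.θ W hWV s)}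
      zero_mem' := by
        intro x hx hxV
        refine ⟨T ⊓ V, inf_le_left, inf_le_right, ⟨hx, hxV⟩, 0, ?_⟩
        rw [map_zero, map_zero, map_zero]
      add_mem' := by
        intro a b ha hb x hx hxV
        obtain ⟨W₁, h₁T, h₁V, hx₁, s₁, e₁⟩ := ha x hx hxV
        obtain ⟨W₂, h₂T, h₂V, hx₂, s₂, e₂⟩ := hb x hx hxV
        refine ⟨W₁ ⊓ W₂, inf_le_left.trans h₁T, inf_le_left.trans h₁V, ⟨hx₁, hx₂⟩,
          mres G inf_le_left s₁ + mres G inf_le_right s₂, ?_⟩
        rw [map_add, map_add, map_add, ← res_pθ L p h₁V inf_le_left s₁,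
          ← res_pθ L p h₂V inf_le_right s₂, ← e₁, ← e₂, mres_mres, mres_mres]
      smul_mem' := by
        intro r a ha x hx hxV
        obtain ⟨W₁, h₁T, h₁V, hx₁, s₁, e₁⟩ := ha x hx hxV
        refine ⟨W₁, h₁T, h₁V, hx₁, fres h₁T r • s₁, ?_⟩
        rw [mres_smul, e₁, L.smul, Scheme.Modules.Hom.app_smul] }
  res_mem := by
    intro T T' h t ht x hx hxV
    obtain ⟨W₁, h₁T, h₁V, hx₁, s₁, e₁⟩ := ht x (h hx) hxV
    refine ⟨W₁ ⊓ T', inf_le_right, inf_le_left.trans h₁V, ⟨hx₁, hx⟩, mres G inf_le_left s₁, ?_⟩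
    rw [mres_mres, ← res_pθ L p h₁V inf_le_left s₁, ← e₁, mres_mres]
  isLocal := by
    intro T t Hloc x hx hxV
    obtain ⟨T', h, hxT', hm⟩ := Hloc x hx
    obtain ⟨W₁, h₁T, h₁V, hx₁, s₁, e₁⟩ := hm x hxT' hxV
    refine ⟨W₁, h₁T.trans h, h₁V, hx₁, s₁, ?_⟩
    rw [← e₁, mres_mres]

/-- **A locally split sub-extension of an essential extension is trivial.** -/
theorem sections_eq_zero {F Q : X.Modules} (m : F ⟶ H) [Mono m] (hm : CatEss m)
    (π : H ⟶ Q) (hπ : m ≫ π = 0) (p : P ⟶ H) [Mono p] (g : P ⟶ G) (ι : G ⟶ Q) [Mono ι]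
    (hsq : p ≫ π = g ≫ ι) (L : LocHom G P V)
    (hL : ∀ (W : X.Opens) (hW : W ≤ V) (s : Γ(G, W)), g.app W (L.θ W hW s) = s)
    (W : X.Opens) (hW : W ≤ V) (s : Γ(G, W)) : s = 0 := by
  let D : LSub H := (suppIn H V).inf (imgLoc L p)
  have hD : Disj D (LSub.ofImage m) := by
    intro T t hDt hA
    apply section_ext_germ
    intro x hx
    rw [map_zero]
    by_cases hxV : x ∈ V
    · obtain ⟨W₁, hW₁T, hW₁V, hxW₁, s₁, hs₁⟩ := hDt.2 x hx hxV
      obtain ⟨W₂, hW₂, hxW₂, φ, hφ⟩ := (LSub.mem_ofImage_iff _ T t).mp hA x hx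
      have h3T : W₁ ⊓ W₂ ≤ T := inf_le_left.trans hW₁T
      have e1 : π.app (W₁ ⊓ W₂) (mres H h3T t) = 0 := by
        have : mres H h3T t = m.app (W₁ ⊓ W₂) (mres F inf_le_right φ) := by
          rw [Groth.Agent.Lib.Helper11.TensorMap.app_mres, hφ, mres_mres]
        rw [this]
        change (m ≫ π).app (W₁ ⊓ W₂) _ = 0
        rw [hπ]
        rfl
      have e0 : mres H h3T t = p.app (W₁ ⊓ W₂)
          (L.θ (W₁ ⊓ W₂) (inf_le_left.trans hW₁V) (mres G inf_le_left s₁)) := by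
        rw [← res_pθ L p hW₁V inf_le_left s₁, ← hs₁, mres_mres]
      have e2 : π.app (W₁ ⊓ W₂) (mres H h3T t) = ι.app (W₁ ⊓ W₂) (mres G inf_le_left s₁) := by
        rw [e0]
        change (p ≫ π).app (W₁ ⊓ W₂) _ = _
        rw [hsq]
        change ι.app (W₁ ⊓ W₂) (g.app (W₁ ⊓ W₂) _) = _
        rw [hL]
      have e3 : mres G inf_le_left s₁ = 0 :=
        app_eq_zero_of_mono ι _ _ (e2.symm.trans e1)
      have e4 : mres H h3T t = 0 := by
        rw [e0, e3, map_zero, map_zero]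
      have e6 := congrArg (H.presheaf.germ (W₁ ⊓ W₂) x ⟨hxW₁, hxW₂⟩) e4
      rw [mres_apply, TopCat.Presheaf.germ_res_apply, map_zero] at e6
      exact e6
    · exact hDt.1 x hx hxV
  have hbot := lEss_of_catEss m hm D hD
  have h1 : p.app W (L.θ W hW s) ∈ D.obj W := by
    refine ⟨fun x hx hxV => absurd (hW hx) hxV, fun x hx _ => ⟨W, le_rfl, hW, hx, s, ?_⟩⟩
    rw [mres_apply]
    change (H.presheaf.map (𝟙 _)) _ = _
    rw [H.presheaf.map_id]
    rfl
  have h2 := hbot W _ h1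
  have h3 : L.θ W hW s = 0 := app_eq_zero_of_mono p W _ h2
  rw [← hL W hW s, h3, map_zero]

end Groth.Agent.Helper19.ExtHom
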