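import Mathlib
import Groth.Agent.Lib.Helper28.SkyMod
import Groth.Agent.Lib.Helper30.StalkExactF

/-!
# Skyscraper modules are injective; isomorphisms on a basis (helper19)

Namespace `Groth.Agent.Helper19.InjTilde`.
* `injective_sky`: `sky_x N` is an injective `O_X`-module when `N` is an injective `O_{X,x}`-module.
* `isIso_of_basicOpen`: a morphism of `O_{Spec R}`-modules which is bijective on sections over all
  basic opens is an isomorphism.
* `unit_evApp`: the unit of the stalk/skyscraper adjunction sends a section to its germ.
-/

set_option autoImplicit false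
universe u
open CategoryTheory CategoryTheory.Limits AlgebraicGeometry TopologicalSpace Opposite

namespace Groth.Agent.Helper19.InjTilde

open Groth.Agent.Lib.Helper28.SkyMod Groth.Agent.Lib.Helper30.StalkExactF

section Sky

variable {X : Scheme.{u}} (x : X)

/-- skyscraper modules with injective value are injective -/
theorem injective_sky (N : ModuleCat.{u} (X.presheaf.stalk x)) [Injective N] :
    Injective ((skyFunctor x).obj N) :=
  Injective.injective_of_adjoint (stalkSkyAdj x) N

/-- the unit of the stalk/skyscraper adjunction sends a section to its germ -/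
theorem unit_evApp (M : X.Modules) (U : X.Opens) (hx : x ∈ U) (s : Γ(M, U)) :
    evApp (N := (DerSch.stalkFunctor X x).obj M) ((stalkSkyAdj x).unit.app M) U hx s =
      M.presheaf.germ U x hx s := by
  have h : (stalkSkyAdj x).unit.app M = toSky (𝟙 ((DerSch.stalkFunctor X x).obj M)) := by
    rw [← Adjunction.homEquiv_id]
    rfl
  rw [h, evApp_toSky]
  rfl

theorem unit_app_bijective_of_not_mem (M : X.Modules) (U : X.Opens) (hx : x ∉ U)
    (hs : Subsingleton Γ(M, U)) :
    Function.Bijective (((stalkSkyAdj x).unit.app M).app U).hom := by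
  constructor
  · intro a b _
    exact @Subsingleton.elim _ hs a b
  · intro t
    refine ⟨(0 : Γ(M, U)), ?_⟩
    refine Sec.ext (x := x) (N := (DerSch.stalkFunctor X x).obj M) (U := U) ?_
    intro h
    exact absurd h hx

theorem unit_app_bijective_of_mem (M : X.Modules) (U : X.Opens) (hx : x ∈ U)
    (h : Function.Bijective (M.presheaf.germ U x hx)) :
    Function.Bijective (((stalkSkyAdj x).unit.app M).app U).hom := by
  constructor
  · intro a b hab
    apply h.1
    rw [← unit_evApp, ← unit_evApp]
    exact congrArg (fun t => Sec.ev (x := x) (N := (DerSch.stalkFunctor X x).obj M) (U := U) t hx) hab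
  · intro t
    obtain ⟨a, ha⟩ := h.2 (Sec.ev (x := x) (N := (DerSch.stalkFunctor X x).obj M) (U := U) t hx)
    refine ⟨a, ?_⟩
    refine Sec.ext (x := x) (N := (DerSch.stalkFunctor X x).obj M) (U := U) ?_
    intro hx'
    rw [← unit_evApp] at ha
    exact ha

end Sky

section Basis

variable {R : CommRingCat.{u}}

/-- a morphism of modules on `Spec R` which is bijective over all basic opens is an isomorphism -/
theorem isIso_of_basicOpen {M N : (Spec R).Modules} (φ : M ⟶ N)
    (h : ∀ f : R, Function.Bijective (φ.app (PrimeSpectrum.basicOpen f)).hom) : IsIso φ := by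
  let F : TopCat.Sheaf Ab.{u} (Spec R) := ⟨M.presheaf, M.isSheaf⟩
  let G : TopCat.Sheaf Ab.{u} (Spec R) := ⟨N.presheaf, N.isSheaf⟩
  let f : F ⟶ G := ⟨φ.mapPresheaf⟩
  have hf : IsIso f := by
    refine TopCat.Sheaf.isIso_iff_isIso_basis (B := fun r : R => PrimeSpectrum.basicOpen r)
      PrimeSpectrum.isBasis_basic_opens (fun r => ?_)
    rw [ConcreteCategory.isIso_iff_bijective]
    exact h r
  rw [Scheme.Modules.Hom.isIso_iff_isIso_app]
  intro U
  have h1 : IsIso (f.hom.app (op U)) := by
    have : IsIso f.hom := @Functor.map_isIso _ _ _ _ _ _ (TopCat.Sheaf.forget _ _) f hf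
    infer_instance
  rw [ConcreteCategory.isIso_iff_bijective]
  exact (ConcreteCategory.isIso_iff_bijective _).mp h1

end Basis

end Groth.Agent.Helper19.InjTilde
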