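import Mathlib
import Groth.Agent.Lib.Helper19.InjTilde1

/-!
# `M~` as a skyscraper module (helper19)

Namespace `Groth.Agent.Helper19.InjTilde`.
* `bijective_of_isLocalizedModule`, `subsingleton_of_isLocalizedModule`: localization maps of
  modules on which the multiplicative set acts bijectively / nilpotently.
* `isIso_unit_tilde`: if every element of `M` is killed by a power of each `f ∈ p` and every
  `f ∉ p` acts bijectively on `M`, then `M~ ⟶ sky_p((M~)_p)` is an isomorphism.
-/

set_option autoImplicit false
universe u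
open CategoryTheory CategoryTheory.Limits AlgebraicGeometry TopologicalSpace Opposite

namespace Groth.Agent.Helper19.InjTilde

section Alg

variable {A : Type*} [CommRing A] (S : Submonoid A) {P Q : Type*} [AddCommGroup P] [Module A P]
  [AddCommGroup Q] [Module A Q] (g : P →ₗ[A] Q) [IsLocalizedModule S g]

include S in
theorem bijective_of_isLocalizedModule (h : ∀ s ∈ S, Function.Bijective (fun p : P => s • p)) :
    Function.Bijective g := by
  constructor
  · rw [injective_iff_map_eq_zero]
    intro p hp
    obtain ⟨s, hs⟩ := (IsLocalizedModule.eq_zero_iff S g).mp hp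
    apply (h s.1 s.2).1
    change (s : A) • p = (s : A) • (0 : P)
    rw [smul_zero]
    exact hs
  · intro y
    obtain ⟨⟨p, s⟩, hps⟩ := IsLocalizedModule.surj S g y
    obtain ⟨p', hp'⟩ := (h s.1 s.2).2 p
    refine ⟨p', ?_⟩
    have hu := IsLocalizedModule.map_units g s
    have hinj : Function.Injective (fun q : Q => (s : A) • q) :=
      ((Module.End.isUnit_iff _).mp hu).1
    apply hinj
    change (s : A) • g p' = (s : A) • y
    rw [← map_smul]
    change g ((fun p : P => (s : A) • p) p') = _
    rw [hp']
    exact hps.symm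

include S g in
theorem subsingleton_of_isLocalizedModule (h : ∀ p : P, ∃ s ∈ S, s • p = 0) : Subsingleton Q := by
  refine ⟨fun a b => ?_⟩
  have key : ∀ y : Q, y = 0 := by
    intro y
    obtain ⟨⟨p, s⟩, hps⟩ := IsLocalizedModule.surj S g y
    obtain ⟨t, ht, htp⟩ := h p
    have hu := IsLocalizedModule.map_units g (⟨t, ht⟩ * s)
    have hinj : Function.Injective (fun q : Q => ((⟨t, ht⟩ * s : S) : A) • q) :=
      ((Module.End.isUnit_iff _).mp hu).1
    apply hinj
    change ((⟨t, ht⟩ * s : S) : A) • y = ((⟨t, ht⟩ * s : S) : A) • (0 : Q)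
    rw [smul_zero, Submonoid.coe_mul, mul_smul]
    change t • ((s : A) • y) = 0
    have h2 : (s : A) • y = g p := hps
    rw [h2, ← map_smul, htp, map_zero]
  rw [key a, key b]

end Alg

open Groth.Agent.Lib.Helper28.SkyMod

section Tilde

variable {R : CommRingCat.{u}} (M : ModuleCat.{u} R)

/-- `M → Γ(M~, U)` as a linear map -/
noncomputable def toOpenL (U : (Spec R).Opens) : M →ₗ[R] Γ(tilde M, U) := (tilde.toOpen M U).hom

instance (f : R) : IsLocalizedModule (.powers f) (toOpenL M (PrimeSpectrum.basicOpen f)) :=
  inferInstanceAs (IsLocalizedModule.Away f (tilde.toOpen M (PrimeSpectrum.basicOpen f)).hom)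

theorem germ_toOpenL (U : (Spec R).Opens) (x : PrimeSpectrum.Top R) (hx : x ∈ U) (m : M) :
    (tilde M).presheaf.germ U x hx (toOpenL M U m) = (tilde.toStalk M x).hom m :=
  TopCat.Presheaf.germ_res_apply (tilde M).presheaf (homOfLE (le_top : U ≤ ⊤)) x hx
    (toOpenL M ⊤ m)

variable (x : PrimeSpectrum.Top R)

/-- if `M` is `f`-power torsion for `f ∈ p` and `f ∉ p` acts bijectively, then `M~` is the
skyscraper module at `p` with value its stalk -/
theorem isIso_unit_tilde
    (hT : ∀ f ∈ x.asIdeal, ∀ m : M, ∃ n : ℕ, f ^ n • m = 0)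
    (hB : ∀ f : R, f ∉ x.asIdeal → Function.Bijective (fun m : M => f • m)) :
    IsIso ((stalkSkyAdj (X := Spec R) x).unit.app (tilde M)) := by
  apply isIso_of_basicOpen
  intro f
  by_cases hf : f ∈ x.asIdeal
  · have hsub : Subsingleton Γ(tilde M, PrimeSpectrum.basicOpen f) :=
      subsingleton_of_isLocalizedModule (.powers f) (toOpenL M (PrimeSpectrum.basicOpen f))
        (fun m => by
          obtain ⟨n, hn⟩ := hT f hf m
          exact ⟨f ^ n, ⟨n, rfl⟩, hn⟩)
    exact unit_app_bijective_of_not_mem (X := Spec R) x (tilde M) (PrimeSpectrum.basicOpen f)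
      (fun h => h hf) hsub
  · have hxf : x ∈ PrimeSpectrum.basicOpen f := hf
    have h1 : Function.Bijective (toOpenL M (PrimeSpectrum.basicOpen f)) :=
      bijective_of_isLocalizedModule (.powers f) _ (by
        rintro s ⟨n, rfl⟩
        exact hB _ (fun h => hf (x.isPrime.mem_of_pow_mem n h)))
    have h2 : Function.Bijective (tilde.toStalk M x).hom :=
      bijective_of_isLocalizedModule x.asIdeal.primeCompl _ (fun s hs => hB s hs)
    have h3 : Function.Bijective ((tilde M).presheaf.germ (PrimeSpectrum.basicOpen f) x hxf) := by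
      have e : ⇑(ConcreteCategory.hom ((tilde M).presheaf.germ (PrimeSpectrum.basicOpen f) x hxf)) ∘
          ⇑(toOpenL M (PrimeSpectrum.basicOpen f)) = ⇑(tilde.toStalk M x).hom :=
        funext (germ_toOpenL M _ x hxf)
      rw [← e] at h2
      exact (Function.Bijective.of_comp_iff _ h1).mp h2
    exact unit_app_bijective_of_mem (X := Spec R) x (tilde M) (PrimeSpectrum.basicOpen f) hxf h3

end Tilde

end Groth.Agent.Helper19.InjTilde
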