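import Mathlib
import Groth.Agent.Lib.Helper19.InjTilde2
import Groth.Agent.Lib.Helper19.NoethInj
import Groth.Agent.Lib.Helper2.InjHullLocalize
import Groth.Agent.S0307
import Groth.Prelude.Def_FlatMod2

/-!
# `I~` is an injective `O`-module for `I` injective over a Noetherian ring (helper19)

Namespace `Groth.Agent.Helper19.InjTilde`.
* `injective_stalk_tilde`: stalks of `M~` are injective when `M` is (Noetherian ring).
* `injective_tilde_of_isIndecomposable`: `E~` is injective for `E` indecomposable injective.
* `injective_tilde`: `M~` is an injective object of `(Spec R).Modules` for `M` injective, `R` Noetherian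
  (Hartshorne, Residues and Duality II.7.14).
-/

set_option autoImplicit false
universe u
open CategoryTheory CategoryTheory.Limits AlgebraicGeometry TopologicalSpace Opposite

namespace Groth.Agent.Helper19.InjTilde

open Groth.Agent.Lib.Helper28.SkyMod

variable {R : CommRingCat.{u}} (M : ModuleCat.{u} R) (x : PrimeSpectrum.Top R)

noncomputable instance algStalk : Algebra R ((Spec R).presheaf.stalk x) :=
  inferInstanceAs (Algebra R ((structurePresheafInCommRingCat R).stalk x))

instance : IsLocalization.AtPrime ((Spec R).presheaf.stalk x) x.asIdeal :=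
  inferInstanceAs (IsLocalization.AtPrime ((structurePresheafInCommRingCat R).stalk x) x.asIdeal)

instance : IsScalarTower R ((Spec R).presheaf.stalk x) ((tilde M).presheaf.stalk x) :=
  inferInstanceAs (IsScalarTower R ((structurePresheafInCommRingCat R).stalk x)
      ↑(TopCat.Presheaf.stalk (moduleStructurePresheaf R M).presheaf x))

/-- the stalks of `M~` are injective modules when `M` is injective over a Noetherian ring -/
theorem injective_stalk_tilde [IsNoetherianRing R] [Module.Injective R M] :
    Module.Injective ((Spec R).presheaf.stalk x) ((tilde M).presheaf.stalk x) :=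
  Module.injective_of_isLocalizedModule x.asIdeal.primeCompl (tilde.toStalk M x).hom

/-- `E~` is injective for an indecomposable injective module `E` over a Noetherian ring -/
theorem injective_tilde_of_isIndecomposable [IsNoetherianRing R]
    (hE : InjHull.IsIndecomposable R M) (hinj : Module.Injective R M) : Injective (tilde M) := by
  obtain ⟨p, hp, f, hf⟩ :=
    Groth.Agent.Lib.Helper2.exists_isInjectiveHull_quot_of_isIndecomposable hE hinj
  let y : PrimeSpectrum.Top R := ⟨p, hp⟩
  have hT : ∀ g ∈ y.asIdeal, ∀ m : M, ∃ n : ℕ, g ^ n • m = 0 := by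
    intro g hg m
    obtain ⟨n, hn⟩ := Groth.Agent.Lib.Helper2.isPowerTorsion_of_isInjectiveHull_quot p hf m
    exact ⟨n, hn _ (Ideal.pow_mem_pow hg n)⟩
  have hB : ∀ g : R, g ∉ y.asIdeal → Function.Bijective (fun m : M => g • m) := by
    intro g hg
    exact ⟨Groth.Agent.Lib.Helper2.smul_injective_of_notMem p hf.toIsEssentialInj g hg,
      Groth.Agent.Lib.Helper2.smul_surjective_of_notMem p hf g hg⟩
  have hiso := isIso_unit_tilde M y hT hB
  have hN : Injective ((DerSch.stalkFunctor (Spec R) y).obj (tilde M)) := by
    have := injective_stalk_tilde M y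
    exact Module.injective_object_of_injective_module (R := (Spec R).presheaf.stalk y)
      (M := (tilde M).presheaf.stalk y)
  have hs := injective_sky (X := Spec R) y ((DerSch.stalkFunctor (Spec R) y).obj (tilde M))
  exact Injective.of_iso (asIso ((stalkSkyAdj (X := Spec R) y).unit.app (tilde M))).symm hs

/-- **`I~` is an injective `O_{Spec R}`-module** for `I` injective over a Noetherian ring `R`. -/
theorem injective_tilde [IsNoetherianRing R] (hinj : Module.Injective R M) :
    Injective (tilde M) := by
  classical
  obtain ⟨ι, E, hint, hE⟩ := Groth.Agent.S0307.result R M hinj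
  let Z : ι → ModuleCat.{u} R := fun i => ModuleCat.of R (E i)
  let e1 : (DirectSum ι fun i => E i) ≃ₗ[R] M :=
    LinearEquiv.ofBijective (DirectSum.coeLinearMap E) hint
  let i1 : ∐ Z ≅ M := (ModuleCat.coprodIsoDirectSum Z) ≪≫ e1.toModuleIso
  have : IsLocallyNoetherian (Spec R) := inferInstance
  have h1 : Injective (∐ fun i => (tilde.functor R).obj (Z i)) :=
    Groth.Agent.Helper19.NoethInj.injective_sigma (X := Spec R) _
      (fun i => injective_tilde_of_isIndecomposable (Z i) (hE i).1 (hE i).2)
  let i2 : (tilde.functor R).obj (∐ Z) ≅ ∐ fun i => (tilde.functor R).obj (Z i) :=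
    PreservesCoproduct.iso (tilde.functor R) Z
  exact Injective.of_iso (i2.symm ≪≫ (tilde.functor R).mapIso i1) h1

end Groth.Agent.Helper19.InjTilde
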