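import Mathlib
import Groth.Agent.Lib.Helper19.InjTilde3
import Groth.Agent.Lib.Helper45.QCohStalk
import Groth.Agent.Lib.Helper49.QCohLocal
import Groth.Agent.Lib.Helper49.AffineHom
import Groth.Agent.Lib.Helper45.ModulesBasic
import Groth.Agent.S11156
import Groth.Agent.S11327

/-!
# Injectivity of quasi-coherent modules on locally Noetherian schemes, affine-locally (helper19)

Namespace `Groth.Agent.Helper19.InjTilde`.
* `injective_iff_injective_Γ`: on `Spec R`, `R` Noetherian, a quasi-coherent `G` is injective iff
  `Γ(G, ⊤)` is an injective `R`-module.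
* `injective_restrict_iff_injective_sections`: `F|_U` injective iff `Γ(F, U)` injective over `Γ(X, U)`.
* `injective_iff_injective_stalks`: R&D II.7.17 (i) ⇔ (iv).
-/

set_option autoImplicit false
universe u
open CategoryTheory CategoryTheory.Limits AlgebraicGeometry TopologicalSpace Opposite

namespace Groth.Agent.Helper19.InjTilde

open Groth.Agent.Lib.Helper45 Groth.Agent.Lib.Helper49

variable {X : Scheme.{u}} {U : X.Opens} (hU : IsAffineOpen U) (F : X.Modules)

theorem injective_restrict_fromSpec_iff :
    Injective (F.restrict hU.fromSpec) ↔ Injective ((Scheme.Modules.restrictFunctor U.ι).obj F) := by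
  let E := restrictEquivalence hU.isoSpec.symm
  have e : F.restrict hU.fromSpec ≅ E.functor.obj ((Scheme.Modules.restrictFunctor U.ι).obj F) :=
    (Scheme.Modules.restrictFunctorComp hU.isoSpec.inv U.ι).app F
  rw [← E.map_injective_iff]
  exact ⟨fun h => Injective.of_iso e h, fun h => Injective.of_iso e.symm h⟩

theorem image_top_fromSpec : hU.fromSpec ''ᵁ ⊤ = U := by
  rw [Scheme.Hom.image_top_eq_opensRange, hU.opensRange_fromSpec]

/-- global sections of `F|_{Spec Γ(X,U)}` are the sections of `F` over `U`, linearly -/
noncomputable def sectionsEquiv :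
    Γ(F.restrict hU.fromSpec, (⊤ : (Spec Γ(X, U)).Opens)) ≃ₗ[Γ(X, U)] Γ(F, U) where
  toFun m := F.presheaf.map (eqToHom (image_top_fromSpec hU).symm).op
    ((F.restrictAppIso hU.fromSpec ⊤).hom m)
  map_add' a b := by rw [map_add, map_add]
  map_smul' r m := by
    rw [smul_restrict_fromSpec hU F ⊤ r m]
    simp only [RingHom.id_apply]
    rw [← ConcreteCategory.comp_apply (F.restrictAppIso hU.fromSpec ⊤).inv, Iso.inv_hom_id,
      ConcreteCategory.id_apply, Scheme.Modules.map_smul]
    congr 1
    rw [← ConcreteCategory.comp_apply, ← Functor.map_comp]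
    exact congrArg (fun k => (ConcreteCategory.hom k) r) (X.presheaf.map_id _)
  invFun t := (F.restrictAppIso hU.fromSpec ⊤).inv
    (F.presheaf.map (eqToHom (image_top_fromSpec hU)).op t)
  left_inv m := by
    dsimp only
    rw [← ConcreteCategory.comp_apply (F.presheaf.map _) (F.presheaf.map _), ← Functor.map_comp]
    have h : (eqToHom (image_top_fromSpec hU).symm).op ≫ (eqToHom (image_top_fromSpec hU)).op =
        𝟙 (op (hU.fromSpec ''ᵁ ⊤)) := rfl
    rw [h, F.presheaf.map_id, ConcreteCategory.id_apply,
      ← ConcreteCategory.comp_apply, Iso.hom_inv_id, ConcreteCategory.id_apply]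
  right_inv t := by
    dsimp only
    rw [← ConcreteCategory.comp_apply (F.restrictAppIso hU.fromSpec ⊤).inv, Iso.inv_hom_id,
      ConcreteCategory.id_apply, ← ConcreteCategory.comp_apply, ← Functor.map_comp]
    have h : (eqToHom (image_top_fromSpec hU)).op ≫ (eqToHom (image_top_fromSpec hU).symm).op =
        𝟙 (op U) := rfl
    rw [h, F.presheaf.map_id, ConcreteCategory.id_apply]

section Alg
theorem injective_of_linearEquiv {A : Type u} [CommRing A] {P Q : Type u} [AddCommGroup P] [Module A P]
    [AddCommGroup Q] [Module A Q] (e : P ≃ₗ[A] Q) (h : Module.Injective A P) :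
    Module.Injective A Q := by
  rw [← Module.Baer.iff_injective] at h ⊢
  exact (Module.Baer.congr e).mp h
end Alg

section Spec

variable {R : CommRingCat.{u}} (G : (Spec R).Modules) [hG : G.IsQuasicoherent]

/-- on `Spec R`, `R` Noetherian: a quasi-coherent module is injective iff its global sections are -/
theorem injective_iff_injective_Γ [IsNoetherianRing R] :
    Injective G ↔ Module.Injective R (moduleSpecΓFunctor.obj G) := by
  constructor
  · intro h
    have := preservesFiniteLimits_tilde R
    have h1 : Injective (moduleSpecΓFunctor.obj G) :=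
      Injective.injective_of_adjoint (tilde.adjunction (R := R)) G
    have h2 : Injective (ModuleCat.of R (moduleSpecΓFunctor.obj G)) := h1
    exact @Module.injective_module_of_injective_object R (moduleSpecΓFunctor.obj G) _ _ _ h2
  · intro h
    have h1 : Injective (tilde (moduleSpecΓFunctor.obj G)) :=
      injective_tilde (moduleSpecΓFunctor.obj G) h
    have : IsIso G.fromTildeΓ := Scheme.Modules.isIso_fromTildeΓ_of_isQuasicoherent G
    exact Injective.of_iso (asIso G.fromTildeΓ) h1

end Spec

include hU in
/-- for an affine open `U` with Noetherian coordinate ring and `F` quasi-coherent, `F|_U` is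
injective iff `Γ(F, U)` is an injective `Γ(X, U)`-module -/
theorem injective_restrict_iff_injective_sections [F.IsQuasicoherent] [IsNoetherianRing Γ(X, U)] :
    Injective ((Scheme.Modules.restrictFunctor U.ι).obj F) ↔ Module.Injective Γ(X, U) Γ(F, U) := by
  rw [← injective_restrict_fromSpec_iff hU F, injective_iff_injective_Γ]
  exact ⟨fun h => injective_of_linearEquiv (sectionsEquiv hU F) h,
    fun h => injective_of_linearEquiv (sectionsEquiv hU F).symm h⟩

section Alg2

variable {A : Type u} [CommRing A]

set_option backward.defeqAttrib.useBackward true in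
attribute [local instance] RingHomInvPair.of_ringEquiv in
/-- transfer of injectivity from an abstract localization at a prime to the concrete one -/
theorem injective_localizedModule_of_injective (P : Ideal A) [P.IsPrime]
    {Aₚ : Type u} [CommRing Aₚ] [Algebra A Aₚ] [IsLocalization.AtPrime Aₚ P]
    {M Mₚ : Type u} [AddCommGroup M] [Module A M] [AddCommGroup Mₚ] [Module A Mₚ] [Module Aₚ Mₚ]
    [IsScalarTower A Aₚ Mₚ] (f : M →ₗ[A] Mₚ) [IsLocalizedModule P.primeCompl f]
    (h : Module.Injective Aₚ Mₚ) :
    Module.Injective (Localization.AtPrime P) (LocalizedModule P.primeCompl M) := by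
  refine Module.Injective.of_ringEquiv (M := Mₚ)
    (IsLocalization.algEquiv P.primeCompl Aₚ (Localization.AtPrime P)).toRingEquiv
    { __ := IsLocalizedModule.linearEquiv P.primeCompl f
        (LocalizedModule.mkLinearMap P.primeCompl M)
      map_smul' := ?_ }
  · intro r m
    obtain ⟨r, s, rfl⟩ := IsLocalization.exists_mk'_eq P.primeCompl r
    apply ((Module.End.isUnit_iff _).mp
      (IsLocalizedModule.map_units (LocalizedModule.mkLinearMap P.primeCompl M) s)).1
    dsimp
    simp only [← map_smul, ← smul_assoc, IsLocalization.smul_mk'_self, algebraMap_smul,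
      IsLocalization.map_id_mk']

end Alg2

section Stalks

attribute [local instance] stalkModuleSections

include hU in
/-- `Γ(F, U)` is injective as soon as the stalks of `F` at the points of `U` are -/
theorem injective_sections_of_injective_stalks [F.IsQuasicoherent] [IsNoetherianRing Γ(X, U)]
    (h : ∀ x : U, Module.Injective (X.presheaf.stalk (x : X)) (F.presheaf.stalk (x : X))) :
    Module.Injective Γ(X, U) Γ(F, U) := by
  apply Module.injective_of_localization_maximal
  intro I hI
  obtain ⟨x, hx⟩ := exists_primeIdealOf_eq hU ⟨I, hI.isPrime⟩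
  have hI' : I = (hU.primeIdealOf x).asIdeal := by rw [hx]
  subst hI'
  have := hU.isLocalization_stalk x
  have := isLocalizedModule_germₗ hU F x
  exact injective_localizedModule_of_injective _ (germₗ F x) (h x)

include hU in
/-- the stalks of `F` at the points of `U` are injective as soon as `Γ(F, U)` is -/
theorem injective_stalk_of_injective_sections [F.IsQuasicoherent] [IsNoetherianRing Γ(X, U)]
    (h : Module.Injective Γ(X, U) Γ(F, U)) (x : U) :
    Module.Injective (X.presheaf.stalk (x : X)) (F.presheaf.stalk (x : X)) := by
  have := hU.isLocalization_stalk x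
  have := isLocalizedModule_germₗ hU F x
  exact Module.injective_of_isLocalizedModule (hU.primeIdealOf x).asIdeal.primeCompl (germₗ F x)

end Stalks

/-- **R&D II.7.17 (i) ⇔ (iv)**: a quasi-coherent module on a locally Noetherian scheme is injective
iff all its stalks are injective modules over the local rings. -/
theorem injective_iff_injective_stalks [IsLocallyNoetherian X] [F.IsQuasicoherent] :
    Injective F ↔ ∀ x : X, Module.Injective (X.presheaf.stalk x) (F.presheaf.stalk x) := by
  constructor
  · intro hF x
    obtain ⟨V, hV, hxV, -⟩ := exists_isAffineOpen_mem_and_subset (U := ⊤) (x := x) (by simp)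
    have := IsLocallyNoetherian.component_noetherian (X := X) ⟨V, hV⟩
    have h1 : Injective ((Scheme.Modules.restrictFunctor V.ι).obj F) :=
      Groth.Agent.S11327.result X V F hF
    exact injective_stalk_of_injective_sections hV F
      ((injective_restrict_iff_injective_sections hV F).mp h1) ⟨x, hxV⟩
  · intro h
    apply Groth.Agent.S11156.result
    intro x
    obtain ⟨V, hV, hxV, -⟩ := exists_isAffineOpen_mem_and_subset (U := ⊤) (x := x) (by simp)
    have := IsLocallyNoetherian.component_noetherian (X := X) ⟨V, hV⟩
    exact ⟨V, hxV, (injective_restrict_iff_injective_sections hV F).mpr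
      (injective_sections_of_injective_stalks hV F fun y => h y)⟩

end Groth.Agent.Helper19.InjTilde
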