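import Mathlib
import Groth.Agent.Lib.Helper19.InjTilde3
import Groth.Prelude.Def_Wider
import Groth.Agent.Lib.Helper19.Hull1

/-!
# Essential extensions and `~` (helper19)

Namespace `Groth.Agent.Helper19.QCohHull`.
* `exists_smul_mem_of_essential`: essential extensions localize over a Noetherian ring.
* `catEss_tilde_map`: `M~ ⟶ E~` is essential when `M ⟶ E` is (Noetherian ring).
-/

set_option autoImplicit false
set_option linter.unusedSectionVars false
universe u
open CategoryTheory CategoryTheory.Limits AlgebraicGeometry TopologicalSpace Opposite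

namespace Groth.Agent.Helper19.QCohHull

section Alg

variable {A : Type*} [CommRing A] [IsNoetherianRing A] (S : Submonoid A)
  {E E' : Type*} [AddCommGroup E] [Module A E] [AddCommGroup E'] [Module A E']
  (loc : E →ₗ[A] E') [IsLocalizedModule S loc]

include S in
/-- essential extensions localize (Noetherian ring), elementwise form -/
theorem exists_smul_mem_of_essential (N : Submodule A E)
    (hN : ∀ N' : Submodule A E, N' ≠ ⊥ → N' ⊓ N ≠ ⊥) (t : E') (ht : t ≠ 0) :
    ∃ (r : A) (n : E), n ∈ N ∧ loc n = r • t ∧ r • t ≠ 0 := by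
  obtain ⟨⟨e, s⟩, hes⟩ := IsLocalizedModule.surj S loc t
  change (s : A) • t = loc e at hes
  have hinj : ∀ s : S, Function.Injective (fun q : E' => (s : A) • q) := fun s =>
    ((Module.End.isUnit_iff _).mp (IsLocalizedModule.map_units loc s)).1
  -- maximal annihilator
  let ann : S → Ideal A := fun s => (Submodule.span A {(s : A) • e}).annihilator
  obtain ⟨I, ⟨s₀, rfl⟩, hmax⟩ := wellFounded_gt.has_min (Set.range ann) ⟨_, ⟨1, rfl⟩⟩
  let e₀ : E := (s₀ : A) • e
  have hclaim : ∀ b : A, loc (b • e₀) = 0 → b • e₀ = 0 := by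
    intro b hb
    obtain ⟨s, hs⟩ := (IsLocalizedModule.eq_zero_iff S loc).mp hb
    have hle : ann s₀ ≤ ann (s * s₀) := by
      intro c hc
      rw [Submodule.mem_annihilator_span_singleton] at hc ⊢
      rw [Submonoid.coe_mul, mul_smul, smul_comm, hc, smul_zero]
    have hb' : b ∈ ann (s * s₀) := by
      rw [Submodule.mem_annihilator_span_singleton, Submonoid.coe_mul, mul_smul, smul_comm]
      exact hs
    have heq : ann (s * s₀) = ann s₀ := by
      by_contra hne
      exact hmax _ ⟨s * s₀, rfl⟩ (lt_of_le_of_ne hle (Ne.symm hne))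
    rw [heq, Submodule.mem_annihilator_span_singleton] at hb'
    exact hb'
  have hloce : loc e ≠ 0 := by
    intro h0
    rw [h0] at hes
    apply ht
    apply hinj s
    change (s : A) • t = (s : A) • (0 : E')
    rw [smul_zero, hes]
  have he₀ : e₀ ≠ 0 := by
    intro h0
    have h1 : loc e₀ = 0 := by rw [h0, map_zero]
    rw [map_smul] at h1
    apply hloce
    apply hinj s₀
    change (s₀ : A) • loc e = (s₀ : A) • (0 : E')
    rw [smul_zero, h1]
  have hspan : Submodule.span A {e₀} ≠ ⊥ := by
    rw [Ne, Submodule.span_singleton_eq_bot]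
    exact he₀
  have h2 := hN _ hspan
  rw [Ne, Submodule.eq_bot_iff] at h2
  push Not at h2
  obtain ⟨y, ⟨hy1, hy2⟩, hy0⟩ := h2
  obtain ⟨r, rfl⟩ := Submodule.mem_span_singleton.mp hy1
  refine ⟨r * s₀ * s, r • e₀, hy2, ?_, ?_⟩
  · rw [mul_smul, hes, mul_smul, ← map_smul, ← map_smul]
  · rw [mul_smul, hes, mul_smul, ← map_smul, ← map_smul]
    exact fun h => hy0 (hclaim r h)

end Alg

section Tilde

open Groth.Agent.Lib.Helper49 Groth.Agent.Lib.Helper18.LSubM Groth.Agent.Helper19.InjTilde

variable {R : CommRingCat.{u}} [IsNoetherianRing R] {M E : ModuleCat.{u} R} (i : M ⟶ E)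

theorem tilde_map_app_toOpenL (U : (Spec R).Opens) (m : M) :
    (tilde.map i).app U (toOpenL M U m) = toOpenL E U (i.hom m) := by
  have h0 := tilde.toOpen_map_app i U
  exact congrFun (congrArg (fun t => ⇑(ModuleCat.Hom.hom t)) h0) m

theorem app_smul_Spec {P Q : (Spec R).Modules} (g : P ⟶ Q) (U : (Spec R).Opens) (r : R)
    (x : Γ(P, U)) : g.app U (r • x) = r • g.app U x := by
  rw [Scheme.Modules.smul_Spec_def, Scheme.Modules.smul_Spec_def]
  exact Scheme.Modules.Hom.app_smul g _ x

/-- `M~ ⟶ E~` is an essential monomorphism when `M ⟶ E` is an essential injection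
(`R` Noetherian) -/
theorem catEss_tilde_map (hi : InjHull.IsEssentialInj i.hom) :
    ∀ ⦃Z : (Spec R).Modules⦄ (g : tilde E ⟶ Z), Mono (tilde.map i ≫ g) → Mono g := by
  intro Z g hg
  have key : ∀ (f : R) (t : Γ(tilde E, PrimeSpectrum.basicOpen f)),
      g.app (PrimeSpectrum.basicOpen f) t = 0 → t = 0 := by
    intro f t hgt
    by_contra ht
    obtain ⟨r, n, hn, hloc, hne⟩ := exists_smul_mem_of_essential (.powers f)
      (toOpenL E (PrimeSpectrum.basicOpen f)) (LinearMap.range i.hom) hi.essential t ht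
    obtain ⟨m, rfl⟩ := hn
    let μ : Γ(tilde M, PrimeSpectrum.basicOpen f) := toOpenL M (PrimeSpectrum.basicOpen f) m
    have h1 : (tilde.map i).app (PrimeSpectrum.basicOpen f) μ = r • t := by
      rw [tilde_map_app_toOpenL, hloc]
    have h2 : (tilde.map i ≫ g).app (PrimeSpectrum.basicOpen f) μ = 0 := by
      change g.app _ ((tilde.map i).app _ μ) = 0
      rw [h1, app_smul_Spec, hgt, smul_zero]
    have h3 : μ = 0 := Hull.app_eq_zero_of_mono (tilde.map i ≫ g) _ μ h2
    apply hne
    rw [← h1, h3, map_zero]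
  apply Hull.mono_of_app_injective
  intro T t hgt
  apply eq_of_locally_eq
  intro x hx
  obtain ⟨_, ⟨_, ⟨f, rfl⟩, rfl⟩, hxf, hfT⟩ :=
    PrimeSpectrum.isBasis_basic_opens.exists_subset_of_mem_open hx T.2
  refine ⟨PrimeSpectrum.basicOpen f, hfT, hxf, ?_⟩
  rw [map_zero]
  apply key
  rw [app_mres, hgt, map_zero]

end Tilde

end Groth.Agent.Helper19.QCohHull
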