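import Mathlib
import Groth.Agent.Lib.Helper19.InjTilde4
import Groth.Agent.Lib.Helper19.QCohHull1
import Groth.Agent.Lib.Helper19.QCohHull2
import Groth.Agent.S0299

/-!
# Quasi-coherent injectives on locally Noetherian schemes (helper19)

Namespace `Groth.Agent.Helper19.QCohHull`.
* `isQuasicoherent_of_catEss`: an injective essential extension of a quasi-coherent module is
  quasi-coherent (`X` locally Noetherian).
* `exists_qcoh_injective`: every quasi-coherent module embeds in a quasi-coherent injective
  `O_X`-module.
* `injective_of_injective_qcoh`: injectives of `QCoh(X)` are injective `O_X`-modules (R&D II.7.18).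
-/

set_option autoImplicit false
set_option linter.unusedSectionVars false
universe u
open CategoryTheory CategoryTheory.Limits AlgebraicGeometry TopologicalSpace Opposite

namespace Groth.Agent.Helper19.QCohHull

open Groth.Agent.Lib.Helper49 Groth.Agent.Helper19.InjTilde

/-- on `Spec R`, `R` Noetherian: an injective essential extension of a quasi-coherent module is
quasi-coherent -/
theorem isQuasicoherent_of_catEss_Spec {R : CommRingCat.{u}} [IsNoetherianRing R]
    {G H' : (Spec R).Modules} [G.IsQuasicoherent] (m' : G ⟶ H') [Mono m'] (hH : Injective H')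
    (hm : CatEss m') : H'.IsQuasicoherent := by
  have hiso : IsIso G.fromTildeΓ := Scheme.Modules.isIso_fromTildeΓ_of_isQuasicoherent G
  obtain ⟨M, ⟨ε⟩⟩ : ∃ M : ModuleCat.{u} R, Nonempty (tilde M ≅ G) :=
    ⟨moduleSpecΓFunctor.obj G, ⟨@asIso _ _ _ _ G.fromTildeΓ hiso⟩⟩
  obtain ⟨E, i, hi₀⟩ : ∃ (E : ModuleCat.{u} R) (i : M ⟶ E), InjHull.IsInjectiveHull i.hom := by
    obtain ⟨E₀, _, _, i₀, hi₀⟩ := Groth.Agent.S0299.result R M
    exact ⟨ModuleCat.of R E₀, ModuleCat.ofHom i₀, hi₀⟩
  have hEinj : Injective (tilde E) := injective_tilde E hi₀.isInjective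
  have hpres := preservesFiniteLimits_tilde R
  have himono : Mono i := (ModuleCat.mono_iff_injective i).mpr hi₀.injective
  have htmono : Mono (tilde.map i) := by
    change Mono ((tilde.functor R).map i)
    infer_instance
  let s : tilde E ⟶ H' := Injective.factorThru (ε.hom ≫ m') (tilde.map i)
  have hs : tilde.map i ≫ s = ε.hom ≫ m' := Injective.comp_factorThru _ _
  have hsmono : Mono s := by
    apply catEss_tilde_map i hi₀.toIsEssentialInj s
    rw [hs]
    infer_instance
  let ρ : H' ⟶ tilde E := Injective.factorThru (𝟙 (tilde E)) s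
  have hρ : s ≫ ρ = 𝟙 _ := Injective.comp_factorThru _ _
  have hρmono : Mono ρ := by
    apply hm ρ
    have h1 : m' ≫ ρ = ε.inv ≫ tilde.map i := by
      rw [← cancel_epi ε.hom, ← Category.assoc, ← hs, Category.assoc, hρ, Category.comp_id,
        Iso.hom_inv_id_assoc]
    rw [h1]
    infer_instance
  have hsplit : IsSplitEpi ρ := ⟨⟨⟨s, hρ⟩⟩⟩
  have hρiso : IsIso ρ := isIso_of_mono_of_isSplitEpi ρ
  exact isQuasicoherent_of_iso (asIso ρ).symm inferInstance

variable {X : Scheme.{u}}

/-- **R&D II.7.18**: on a locally Noetherian scheme, an injective essential extension of a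
quasi-coherent module is quasi-coherent. -/
theorem isQuasicoherent_of_catEss [IsLocallyNoetherian X] {F H : X.Modules} [F.IsQuasicoherent]
    (m : F ⟶ H) [Mono m] (hH : Injective H) (hm : CatEss m) : H.IsQuasicoherent := by
  refine isQuasicoherent_of_forall_fromSpec H fun U => ?_
  have hN : IsNoetherianRing Γ(X, U.1) := IsLocallyNoetherian.component_noetherian U
  have h1 : Injective (H.restrict U.2.fromSpec) :=
    (injective_restrict_fromSpec_iff U.2 H).mpr (Groth.Agent.S11327.result X U.1 H hH)
  have h2 : CatEss ((Scheme.Modules.restrictFunctor U.2.fromSpec).map m) :=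
    catEss_restrict U.2.fromSpec m hm
  have h3 : (F.restrict U.2.fromSpec).IsQuasicoherent := inferInstance
  have h4 : Mono ((Scheme.Modules.restrictFunctor U.2.fromSpec).map m) := inferInstance
  exact isQuasicoherent_of_catEss_Spec (R := Γ(X, U.1))
    ((Scheme.Modules.restrictFunctor U.2.fromSpec).map m) h1 h2

/-- every quasi-coherent module on a locally Noetherian scheme embeds into a quasi-coherent
injective `O_X`-module (its injective hull) -/
theorem exists_qcoh_injective [IsLocallyNoetherian X] (F : X.Modules) [F.IsQuasicoherent] :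
    ∃ (H : X.Modules) (m : F ⟶ H), Mono m ∧ Injective H ∧ H.IsQuasicoherent := by
  obtain ⟨H, m, hmono, hinj, hess⟩ := exists_catHull F
  exact ⟨H, m, hmono, hinj, isQuasicoherent_of_catEss m hinj hess⟩

/-- **R&D II.7.18**: injective objects of `QCoh(X)` are injective `O_X`-modules
(`X` locally Noetherian). -/
theorem injective_of_injective_qcoh [IsLocallyNoetherian X]
    (J : ObjectProperty.FullSubcategory (fun M : X.Modules => SheafOfModules.IsQuasicoherent M))
    (hJ : Injective J) : Injective J.obj := by
  have hq : J.obj.IsQuasicoherent := J.property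
  obtain ⟨H, m, hmono, hinj, hHq⟩ := exists_qcoh_injective J.obj
  let H' : ObjectProperty.FullSubcategory
    (fun M : X.Modules => SheafOfModules.IsQuasicoherent M) := ⟨H, hHq⟩
  let m' : J ⟶ H' := ObjectProperty.homMk m
  have hm' : Mono m' := by
    apply (ObjectProperty.ι _).mono_of_mono_map
    exact hmono
  let ρ' : H' ⟶ J := Injective.factorThru (𝟙 J) m'
  have hρ' : m' ≫ ρ' = 𝟙 J := Injective.comp_factorThru _ _
  have hρ : m ≫ ρ'.hom = 𝟙 J.obj := congrArg (fun k => k.hom) hρ'
  exact Hull.injective_of_retract m ρ'.hom hρ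

end Groth.Agent.Helper19.QCohHull
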