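import Mathlib
import Groth.Agent.Lib.Helper19.ExtHom2
import Groth.Agent.Lib.Helper19.QCohHull3
import Groth.Agent.Lib.Helper19.Hull3
import Groth.Agent.Lib.Helper18.LocNoethCover
import Groth.Agent.Lib.Helper11.AffineCrit2

/-!
# Injectivity of a quasi-coherent module from vanishing of `𝓔xt¹(G, F)`, `G` coherent (helper19)

Namespace `Groth.Agent.Helper19.ExtHom`.
* `injective_of_ext_vanishing`: on a locally Noetherian scheme, a quasi-coherent `F` with
  `𝓔xt¹(G, F) = 0` for every coherent `G` is an injective `O_X`-module.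
-/

set_option autoImplicit false
universe u
open CategoryTheory CategoryTheory.Limits AlgebraicGeometry TopologicalSpace Opposite

namespace Groth.Agent.Helper19.ExtHom

open Groth.Agent.Lib.Helper49 Groth.Agent.Lib.Helper45 Groth.Agent.Lib.Helper18.LSubM
open Groth.Agent.Lib.Helper18 Groth.Agent.Helper19.Hull Groth.Agent.Helper19.QCohHull
open Groth.Agent.Lib.Helper49.HomAdj Groth.Agent.Helper19.ShriekNoeth

variable {X : Scheme.{u}}

/-- the preimage of a subobject of the cokernel of `m` is an extension by the source of `m` -/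
theorem shortExact_pullback {F H G : X.Modules} (m : F ⟶ H) [Mono m] (ι : G ⟶ cokernel m)
    (f : F ⟶ pullback (cokernel.π m) ι)
    (hf1 : f ≫ pullback.fst (cokernel.π m) ι = m)
    (hf2 : f ≫ pullback.snd (cokernel.π m) ι = 0) :
    (ShortComplex.mk f (pullback.snd (cokernel.π m) ι) hf2).ShortExact := by
  have hmono : Mono f := mono_of_mono_fac hf1
  have hepi : Epi (pullback.snd (cokernel.π m) ι) := inferInstance
  have hex : (ShortComplex.mk f (pullback.snd (cokernel.π m) ι) hf2).Exact := by
    apply ShortComplex.exact_of_f_is_kernel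
    refine KernelFork.IsLimit.ofι _ _
      (fun {T} t ht => Abelian.monoLift m (t ≫ pullback.fst (cokernel.π m) ι) ?_) ?_ ?_
    · rw [Category.assoc, pullback.condition, ← Category.assoc, ht, zero_comp]
    · intro T t ht
      apply pullback.hom_ext
      · rw [Category.assoc, hf1, Abelian.monoLift_comp]
      · rw [Category.assoc, hf2, comp_zero, ht]
    · intro T t ht l hl
      rw [← cancel_mono m, Abelian.monoLift_comp, ← hl, Category.assoc, hf1]
  exact { exact := hex, mono_f := hmono, epi_g := hepi }

theorem exists_noetherianSpace_nhd [IsLocallyNoetherian X] (x : X) :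
    ∃ U : X.Opens, x ∈ U ∧ NoetherianSpace (U : Set X) := by
  obtain ⟨V, hV, hxV, -⟩ := exists_isAffineOpen_mem_and_subset (U := ⊤) (x := x) (by simp)
  have hN : IsNoetherianRing Γ(X, V) := IsLocallyNoetherian.component_noetherian (X := X) ⟨V, hV⟩
  exact ⟨V, hxV, noetherianSpace_of_isAffineOpen V hV⟩

/-- **Injectivity from vanishing of `𝓔xt¹(G, F)` for coherent `G`.** -/
theorem injective_of_ext_vanishing [IsLocallyNoetherian X] [HasInjectiveResolutions X.Modules]
    (F : X.Modules) [F.IsQuasicoherent]
    (h : ∀ (G : X.Modules) [DCoh.HasSheafHom G] [(DCoh.sheafHom G).Additive],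
      Coh.IsCoh G → IsZero (((DCoh.sheafHom G).rightDerived 1).obj F)) : Injective F := by
  obtain ⟨H, m, hm, hH, hess⟩ := exists_catHull F
  have := hm
  have hHq : H.IsQuasicoherent := isQuasicoherent_of_catEss m hH hess
  suffices hepi : Epi m by
    have : IsIso m := isIso_of_mono_of_epi m
    exact Injective.of_iso (asIso m).symm hH
  by_contra hne
  have hQ : ¬ IsZero (cokernel m) := by
    intro hz
    apply hne
    apply Preadditive.epi_of_cancel_zero
    intro Z k hk
    rw [← cokernel.π_desc m k hk, hz.eq_of_src (cokernel.desc m k hk) 0, comp_zero]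
  have hQq : (cokernel m).IsQuasicoherent := isQuasicoherent_cokernel m inferInstance hHq
  obtain ⟨⟨U, hU⟩, τ, hτ⟩ := exists_affine_map_ne_zero (cokernel m) hQ
  obtain ⟨K, hKq, hKf, hKs⟩ :=
    Groth.Agent.Lib.Helper18.LSubM.exists_sub_through_section_of_locallyNoetherianSpace
      (fun x => exists_noetherianSpace_nhd x) (F := cokernel m) hU (secEquiv U (cokernel m) τ)
  have hG : Coh.IsCoh K.toModules := ⟨hKq, hKf⟩
  have : DCoh.HasSheafHom K.toModules := hasSheafHom K.toModules
  have : (DCoh.sheafHom K.toModules).Additive :=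
    (DCoh.sheafHomAdj K.toModules).right_adjoint_additive
  have : PreservesFiniteLimits (DCoh.sheafHom K.toModules) := by
    have := (DCoh.sheafHomAdj K.toModules).rightAdjoint_preservesLimits
    infer_instance
  have hz := h K.toModules hG
  let f : F ⟶ pullback (cokernel.π m) K.ι :=
    pullback.lift m 0 (by rw [cokernel.condition, zero_comp])
  have hf1 : f ≫ pullback.fst (cokernel.π m) K.ι = m := pullback.lift_fst _ _ _
  have hf2 : f ≫ pullback.snd (cokernel.π m) K.ι = 0 := pullback.lift_snd _ _ _
  have hS := shortExact_pullback m K.ι f hf1 hf2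
  have hepi2 : Epi ((DCoh.sheafHom K.toModules).map (pullback.snd (cokernel.π m) K.ι)) :=
    Groth.Agent.Lib.Helper11.AffineCrit2.epi_map_of_isZero_rightDerived_one
      (DCoh.sheafHom K.toModules) _ hS hz
  apply hτ
  have key : ∀ (W : X.Opens) (s : Γ(K.toModules, W)), s = 0 := by
    intro W s
    apply section_ext_germ
    intro x hx
    rw [map_zero]
    obtain ⟨V, hxV, L, hL⟩ := exists_local_section K.toModules _ _ hepi2 x
    have h0 := sections_eq_zero m hess (cokernel.π m) (cokernel.condition m)
      (pullback.fst (cokernel.π m) K.ι) (pullback.snd (cokernel.π m) K.ι) K.ι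
      pullback.condition L hL (W ⊓ V) inf_le_right (mres K.toModules inf_le_left s)
    have e6 := congrArg (K.toModules.presheaf.germ (W ⊓ V) x ⟨hx, hxV⟩) h0
    rw [mres_apply, TopCat.Presheaf.germ_res_apply, map_zero] at e6
    exact e6
  have h1 : K.sec U _ hKs = 0 := key U _
  have h2 := congrArg (K.ι.app U) h1
  rwa [K.ι_app_sec, map_zero] at h2

end Groth.Agent.Helper19.ExtHom
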