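import Mathlib

/-!
# Finitely presented modules are compact objects (helper19)

Namespace `Groth.Agent.Helper19.FPCompact`.
* `exists_factor_of_fp`: a linear map from a finitely presented module to a filtered colimit of
  modules factors through a stage.
-/

set_option autoImplicit false
universe u

open CategoryTheory CategoryTheory.Limits

namespace Groth.Agent.Helper19.FPCompact

variable {A : Type u} [CommRing A] {J : Type u} [SmallCategory J] [IsFiltered J]
  (D : J ⥤ ModuleCat.{u} A) (c : Cocone D) (hc : IsColimit c)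

include hc in
theorem exists_rep (x : c.pt) : ∃ (j : J) (y : D.obj j), (c.ι.app j).hom y = x :=
  Concrete.isColimit_exists_rep D hc x

include hc in
theorem exists_map_eq_zero {j : J} (z : D.obj j) (hz : (c.ι.app j).hom z = 0) :
    ∃ (k : J) (v : j ⟶ k), (D.map v).hom z = 0 := by
  have h : (c.ι.app j).hom z = (c.ι.app j).hom 0 := by rw [hz, map_zero]
  obtain ⟨k, v, w, hvw⟩ := Concrete.isColimit_exists_of_rep_eq D hc z (0 : D.obj j) h
  refine ⟨k, v, ?_⟩
  have : (D.map v).hom z = (D.map w).hom 0 := hvw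
  rw [this, map_zero]

theorem ι_map {i j : J} (u : i ⟶ j) (y : D.obj i) :
    (c.ι.app j).hom ((D.map u).hom y) = (c.ι.app i).hom y := by
  have := c.w u
  rw [← this]
  rfl

include hc in
/-- finitely many elements in the kernel die at a common later stage -/
theorem exists_map_eq_zero_finset {j0 : J} (s : Finset (D.obj j0))
    (hs : ∀ r ∈ s, (c.ι.app j0).hom r = 0) :
    ∃ (j : J) (u : j0 ⟶ j), ∀ r ∈ s, (D.map u).hom r = 0 := by
  classical
  induction s using Finset.induction_on with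
  | empty => exact ⟨j0, 𝟙 j0, fun r hr => absurd hr (Finset.notMem_empty r)⟩
  | insert r s hr ih =>
    obtain ⟨j, u, hu⟩ := ih (fun r' hr' => hs r' (Finset.mem_insert_of_mem hr'))
    have hz : (c.ι.app j).hom ((D.map u).hom r) = 0 := by
      rw [ι_map]
      exact hs r (Finset.mem_insert_self r s)
    obtain ⟨k, v, hv⟩ := exists_map_eq_zero D c hc _ hz
    refine ⟨k, u ≫ v, ?_⟩
    intro r' hr'
    have hcomp : (D.map (u ≫ v)).hom r' = (D.map v).hom ((D.map u).hom r') := by
      rw [D.map_comp]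
      rfl
    rw [hcomp]
    rcases Finset.mem_insert.1 hr' with rfl | h
    · exact hv
    · rw [hu r' h, map_zero]

include hc in
/-- a linear map from a finite free module to the colimit lifts to a stage -/
theorem exists_lift_free (n : ℕ) (q : (Fin n → A) →ₗ[A] c.pt) :
    ∃ (j : J) (ψ : (Fin n → A) →ₗ[A] D.obj j), (c.ι.app j).hom ∘ₗ ψ = q := by
  classical
  choose jk yk hyk using fun k : Fin n => exists_rep D c hc (q (Pi.single k 1))
  obtain ⟨j0, hj0⟩ := IsFiltered.sup_objs_exists (Finset.univ.image jk)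
  have hu : ∀ k : Fin n, Nonempty (jk k ⟶ j0) := fun k =>
    hj0 (Finset.mem_image_of_mem jk (Finset.mem_univ k))
  let u : ∀ k : Fin n, jk k ⟶ j0 := fun k => (hu k).some
  let y' : Fin n → D.obj j0 := fun k => (D.map (u k)).hom (yk k)
  refine ⟨j0, (Pi.basisFun A (Fin n)).constr A y', ?_⟩
  apply (Pi.basisFun A (Fin n)).ext
  intro k
  rw [LinearMap.comp_apply, Module.Basis.constr_basis]
  change (c.ι.app j0).hom ((D.map (u k)).hom (yk k)) = q ((Pi.basisFun A (Fin n)) k)
  rw [ι_map, hyk k, Pi.basisFun_apply]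

include hc in
/-- **Compactness of finitely presented modules.** -/
theorem exists_factor_of_fp (P : Type u) [AddCommGroup P] [Module A P]
    [Module.FinitePresentation A P] (f : P →ₗ[A] c.pt) :
    ∃ (j : J) (g : P →ₗ[A] D.obj j), (c.ι.app j).hom ∘ₗ g = f := by
  classical
  obtain ⟨n, K, e, hK⟩ := Module.FinitePresentation.exists_fin A P
  obtain ⟨s, hs⟩ := hK
  let q : (Fin n → A) →ₗ[A] c.pt := f ∘ₗ e.symm.toLinearMap ∘ₗ K.mkQ
  have hqK : ∀ r ∈ K, q r = 0 := by
    intro r hr
    have h0 : K.mkQ r = 0 := (Submodule.Quotient.mk_eq_zero K).2 hr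
    change f (e.symm (K.mkQ r)) = 0
    rw [h0, map_zero, map_zero]
  obtain ⟨j0, ψ₀, hψ₀⟩ := exists_lift_free D c hc n q
  have hs' : ∀ r ∈ s.image ψ₀, (c.ι.app j0).hom r = 0 := by
    intro r hr
    obtain ⟨r0, hr0, rfl⟩ := Finset.mem_image.1 hr
    have h1 : (c.ι.app j0).hom (ψ₀ r0) = q r0 := by
      rw [← hψ₀]
      rfl
    rw [h1]
    apply hqK
    rw [← hs]
    exact Submodule.subset_span hr0
  obtain ⟨j, u, hu⟩ := exists_map_eq_zero_finset D c hc (s.image ψ₀) hs'
  let ψ₁ : (Fin n → A) →ₗ[A] D.obj j := (D.map u).hom ∘ₗ ψ₀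
  have hK1 : K ≤ LinearMap.ker ψ₁ := by
    rw [← hs, Submodule.span_le]
    intro r hr
    rw [SetLike.mem_coe, LinearMap.mem_ker]
    exact hu (ψ₀ r) (Finset.mem_image_of_mem ψ₀ hr)
  let ψ : ((Fin n → A) ⧸ K) →ₗ[A] D.obj j := K.liftQ ψ₁ hK1
  refine ⟨j, ψ ∘ₗ e.toLinearMap, ?_⟩
  have h2 : ((c.ι.app j).hom ∘ₗ ψ) ∘ₗ K.mkQ = (f ∘ₗ e.symm.toLinearMap) ∘ₗ K.mkQ := by
    apply LinearMap.ext
    intro r
    change (c.ι.app j).hom (K.liftQ ψ₁ hK1 (Submodule.Quotient.mk r)) = q r
    rw [Submodule.liftQ_apply]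
    change (c.ι.app j).hom ((D.map u).hom (ψ₀ r)) = q r
    rw [ι_map, ← hψ₀]
    rfl
  have h3 : (c.ι.app j).hom ∘ₗ ψ = f ∘ₗ e.symm.toLinearMap :=
    (LinearMap.cancel_right (Submodule.mkQ_surjective K)).1 h2
  apply LinearMap.ext
  intro x
  have h4 := LinearMap.congr_fun h3 (e x)
  simp only [LinearMap.comp_apply, LinearEquiv.coe_coe, LinearEquiv.symm_apply_apply] at h4
  exact h4

end Groth.Agent.Helper19.FPCompact
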