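import Mathlib
import Groth.Agent.Lib.Helper31.FPColimit

/-!
# Functors on modules determined by finitely presented modules (helper19)

Namespace `Groth.Agent.Helper19.FPFunctor`.
* `exists_filtered_fp_cocone`: every module is a small filtered colimit of finitely presented modules.
* `map_add_of_fp`, `additive_of_fp`: a functor on modules commuting with filtered colimits which is
  additive on finitely presented modules is additive.
* `preservesCoproducts_of_finite_of_filtered`: preserving finite coproducts and filtered colimits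
  implies preserving coproducts.
-/

set_option autoImplicit false
universe u u' v' w

open CategoryTheory CategoryTheory.Limits

namespace Groth.Agent.Helper19.FPFunctor

section Colim

variable (A : Type u) [CommRing A]

theorem exists_filtered_fp_cocone (M : ModuleCat.{u} A) :
    ∃ (J : Type u) (_ : SmallCategory J) (_ : IsFiltered J) (D : J ⥤ ModuleCat.{u} A)
      (t : D ⟶ (Functor.const J).obj M),
      Nonempty (IsColimit (Cocone.mk M t)) ∧ ∀ j, Module.FinitePresentation A (D.obj j) := by
  obtain ⟨ι, hpre, hdir, hne, hdec, G, hG1, hG2, f, hds, hfp, ⟨e⟩⟩ :=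
    Groth.Agent.Lib.Helper31.FPColimit.exists_directLimit_finitePresentation A M
  have hfil : IsFiltered ι := inferInstance
  let c := ModuleCat.directLimitCocone G f
  have hc : IsColimit c := ModuleCat.directLimitIsColimit G f
  let e' : c.pt ≅ M := e.toModuleIso
  refine ⟨ι, inferInstance, hfil, ModuleCat.directLimitDiagram G f, (c.extend e'.hom).ι, ⟨?_⟩, ?_⟩
  · exact IsColimit.extendIso e'.hom hc
  · intro j
    exact hfp j

end Colim

section Additive

variable {A : Type u} [CommRing A] {B : Type u'} [Category.{v'} B] [Preadditive B]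
  (F' : ModuleCat.{u} A ⥤ B)

/-- additivity between finitely presented modules -/
theorem map_add_fp_fp
    [(ObjectProperty.ι (fun M : ModuleCat.{u} A => Module.FinitePresentation A M) ⋙ F').Additive]
    {P Q : ModuleCat.{u} A} (hP : Module.FinitePresentation A P)
    (hQ : Module.FinitePresentation A Q) (f g : P ⟶ Q) :
    F'.map (f + g) = F'.map f + F'.map g := by
  let P' : ObjectProperty.FullSubcategory
    (fun M : ModuleCat.{u} A => Module.FinitePresentation A M) := ⟨P, hP⟩
  let Q' : ObjectProperty.FullSubcategory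
    (fun M : ModuleCat.{u} A => Module.FinitePresentation A M) := ⟨Q, hQ⟩
  let f' : P' ⟶ Q' := ObjectProperty.homMk f
  let g' : P' ⟶ Q' := ObjectProperty.homMk g
  have h := (ObjectProperty.ι (fun M : ModuleCat.{u} A => Module.FinitePresentation A M) ⋙
    F').map_add (f := f') (g := g')
  exact h

theorem map_add_of_fp
    [(ObjectProperty.ι (fun M : ModuleCat.{u} A => Module.FinitePresentation A M) ⋙ F').Additive]
    {P N : ModuleCat.{u} A} (hP : Module.FinitePresentation A P) (f g : P ⟶ N) :
    F'.map (f + g) = F'.map f + F'.map g := by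
  let Q : ModuleCat.{u} A := ModuleCat.of A (P × P)
  have hQ : Module.FinitePresentation A Q := by
    change Module.FinitePresentation A (P × P)
    infer_instance
  let inl : P ⟶ Q := ModuleCat.ofHom (LinearMap.inl A P P)
  let inr : P ⟶ Q := ModuleCat.ofHom (LinearMap.inr A P P)
  let fst : Q ⟶ P := ModuleCat.ofHom (LinearMap.fst A P P)
  let snd : Q ⟶ P := ModuleCat.ofHom (LinearMap.snd A P P)
  let Δ : P ⟶ Q := ModuleCat.ofHom (LinearMap.prod LinearMap.id LinearMap.id)
  have h1 : fst ≫ inl + snd ≫ inr = 𝟙 Q := by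
    apply ModuleCat.hom_ext
    apply LinearMap.ext
    intro x
    change ((x.1, (0 : P)) : P × P) + ((0 : P), x.2) = x
    ext <;> simp
  have h2 : inl ≫ (fst ≫ f + snd ≫ g) = f := by
    ext x
    change f.hom x + g.hom 0 = f.hom x
    simp
  have h3 : inr ≫ (fst ≫ f + snd ≫ g) = g := by
    ext x
    change f.hom 0 + g.hom x = g.hom x
    simp
  have h4 : Δ ≫ fst = 𝟙 P := by
    ext x
    rfl
  have h5 : Δ ≫ snd = 𝟙 P := by
    ext x
    rfl
  have h6 : Δ ≫ (fst ≫ f + snd ≫ g) = f + g := by
    rw [Preadditive.comp_add, ← Category.assoc, ← Category.assoc, h4, h5, Category.id_comp,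
      Category.id_comp]
  have key : F'.map (fst ≫ f + snd ≫ g) = F'.map (fst ≫ f) + F'.map (snd ≫ g) := by
    have e1 : F'.map (fst ≫ f + snd ≫ g) =
        F'.map (fst ≫ inl + snd ≫ inr) ≫ F'.map (fst ≫ f + snd ≫ g) := by
      rw [h1, F'.map_id, Category.id_comp]
    rw [e1, map_add_fp_fp F' hQ hQ, Preadditive.add_comp, ← F'.map_comp, ← F'.map_comp,
      Category.assoc, Category.assoc, h2, h3]
  rw [← h6, F'.map_comp, key, Preadditive.comp_add, ← F'.map_comp, ← F'.map_comp,
    ← Category.assoc, ← Category.assoc, h4, h5, Category.id_comp, Category.id_comp]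

theorem additive_of_fp [PreservesFilteredColimitsOfSize.{u, u} F']
    [(ObjectProperty.ι (fun M : ModuleCat.{u} A => Module.FinitePresentation A M) ⋙ F').Additive] :
    F'.Additive := by
  constructor
  intro M N f g
  obtain ⟨J, _, _, D, t, ⟨hc⟩, hfp⟩ := exists_filtered_fp_cocone A M
  have hc' := isColimitOfPreserves F' hc
  apply hc'.hom_ext
  intro j
  simp only [Functor.mapCocone_ι_app]
  rw [Preadditive.comp_add, ← F'.map_comp, ← F'.map_comp, ← F'.map_comp, Preadditive.comp_add]
  exact map_add_of_fp F' (hfp j) _ _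

end Additive

section Coprod

open CoproductsFromFiniteFiltered

/-- abstract form: a cocone on a discrete diagram is sent to a colimit as soon as it is exhausted by
a diagram `D` of "finite stages" whose colimit is preserved and whose stages are sent to coproducts -/
theorem nonempty_isColimit_mapCocone_of_stages {C : Type*} [Category C] {B : Type*} [Category B]
    (F : C ⥤ B) {α : Type w} {J : Type*} [Category J] (D : J ⥤ C) (c : Cocone D)
    (hc : IsColimit (F.mapCocone c)) (K : Discrete α ⥤ C) (τ : ∀ j, K.obj j ⟶ c.pt)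
    (mem : J → Discrete α → Prop)
    (mem_mono : ∀ {S S' : J}, (S ⟶ S') → ∀ {j}, mem S j → mem S' j)
    (inj : ∀ (S : J) (j : Discrete α), mem S j → (K.obj j ⟶ D.obj S))
    (inj_map : ∀ {S S' : J} (h : S ⟶ S') (j : Discrete α) (hj : mem S j),
      inj S j hj ≫ D.map h = inj S' j (mem_mono h hj))
    (inj_c : ∀ (S : J) (j : Discrete α) (hj : mem S j), inj S j hj ≫ c.ι.app S = τ j)
    (covers : ∀ j, ∃ S, mem S j)
    (hfin : ∀ (S : J) (T : B) (g : ∀ j, mem S j → (F.obj (K.obj j) ⟶ T)),
      ∃! u : F.obj (D.obj S) ⟶ T, ∀ j hj, F.map (inj S j hj) ≫ u = g j hj) :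
    Nonempty (IsColimit (F.mapCocone (Cocone.mk c.pt (Discrete.natTrans τ)))) := by
  classical
  -- maps out of the stages
  choose φ hφ hφu using hfin
  have hext : ∀ (S : J) {T : B} (a b : F.obj (D.obj S) ⟶ T),
      (∀ j hj, F.map (inj S j hj) ≫ a = F.map (inj S j hj) ≫ b) → a = b := by
    intro S T a b h
    have h1 := hφu S T (fun j hj => F.map (inj S j hj) ≫ b) a h
    have h2 := hφu S T (fun j hj => F.map (inj S j hj) ≫ b) b (fun _ _ => rfl)
    exact h1.trans h2.symm
  have hnat : ∀ (s : Cocone (K ⋙ F)) {S S' : J} (h : S ⟶ S'),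
      F.map (D.map h) ≫ φ S' s.pt (fun j _ => s.ι.app j) = φ S s.pt (fun j _ => s.ι.app j) := by
    intro s S S' h
    apply hext
    intro j hj
    have e1 : F.map (inj S j hj) ≫ F.map (D.map h) = F.map (inj S' j (mem_mono h hj)) := by
      rw [← F.map_comp, inj_map]
    have e2 := hφ S' s.pt (fun j _ => s.ι.app j) j (mem_mono h hj)
    have e3 := hφ S s.pt (fun j _ => s.ι.app j) j hj
    rw [← Category.assoc, e1]
    exact e2.trans e3.symm
  let ψ : ∀ s : Cocone (K ⋙ F), Cocone (D ⋙ F) := fun s =>
    { pt := s.pt
      ι :=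
        { app := fun S => φ S s.pt (fun j _ => s.ι.app j)
          naturality := by
            intro S S' h
            have := hnat s h
            simp only [Functor.comp_map, Functor.const_obj_obj, Functor.const_obj_map,
              Category.comp_id]
            exact this } }
  have hψ : ∀ (s : Cocone (K ⋙ F)) (S : J),
      F.map (c.ι.app S) ≫ hc.desc (ψ s) = φ S s.pt (fun j _ => s.ι.app j) := fun s S =>
    hc.fac (ψ s) S
  have hτ : ∀ (S : J) (j : Discrete α) (hj : mem S j),
      F.map (inj S j hj) ≫ F.map (c.ι.app S) = F.map (τ j) := by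
    intro S j hj
    rw [← F.map_comp]
    exact congrArg F.map (inj_c S j hj)
  refine ⟨{ desc := fun s => hc.desc (ψ s), fac := ?_, uniq := ?_ }⟩
  · intro s j
    obtain ⟨S, hj⟩ := covers j
    change F.map (τ j) ≫ hc.desc (ψ s) = s.ι.app j
    rw [← hτ S j hj, Category.assoc, hψ]
    exact hφ S s.pt (fun j _ => s.ι.app j) j hj
  · intro s m hm
    apply hc.hom_ext
    intro S
    refine Eq.trans ?_ (hψ s S).symm
    apply hext
    intro j hj
    have e3 := hφ S s.pt (fun j _ => s.ι.app j) j hj
    have e4 : F.map (τ j) ≫ m = s.ι.app j := hm j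
    change F.map (inj S j hj) ≫ F.map (c.ι.app S) ≫ m = F.map (inj S j hj) ≫ φ S s.pt _
    rw [e3, ← Category.assoc, hτ, e4]

variable {C : Type*} [Category C] {B : Type*} [Category B] (F : C ⥤ B)
  {α : Type w} [HasFiniteCoproducts C]

theorem ι_finiteSubcoproductsCocone (f : α → C) [HasCoproduct f] (S : Finset (Discrete α))
    (x : S) :
    Sigma.ι (fun x : S => (Discrete.functor f).obj x) x ≫ (finiteSubcoproductsCocone f).ι.app S =
      Sigma.ι f x.1.as := by
  simp [finiteSubcoproductsCocone]

theorem ι_liftToFinsetObj_map (K : Discrete α ⥤ C) {S S' : Finset (Discrete α)} (h : S ⟶ S')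
    (x : S) :
    Sigma.ι (fun x : S => K.obj x) x ≫ (liftToFinsetObj K).map h =
      Sigma.ι (fun x : S' => K.obj x) ⟨x.1, h.down.down x.2⟩ := by
  simp [liftToFinsetObj]

/-- a functor preserving finite coproducts and filtered colimits preserves coproducts -/
theorem nonempty_isColimit_mapCocone_sigma (f : α → C) [HasCoproduct f]
    [HasColimitsOfShape (Finset (Discrete α)) C]
    [PreservesFiniteCoproducts F] [PreservesColimitsOfShape (Finset (Discrete α)) F] :
    Nonempty (IsColimit (F.mapCocone (colimit.cocone (Discrete.functor f)))) := by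
  classical
  have hc : IsColimit (F.mapCocone (finiteSubcoproductsCocone f)) :=
    isColimitOfPreserves F (isColimitFiniteSubproductsCocone f)
  have hS : ∀ S : Finset (Discrete α), IsColimit
      (F.mapCocone (colimit.cocone (Discrete.functor fun x : S => (Discrete.functor f).obj x))) :=
    fun S => isColimitOfPreserves F (colimit.isColimit _)
  have key := nonempty_isColimit_mapCocone_of_stages F (liftToFinsetObj (Discrete.functor f))
    (finiteSubcoproductsCocone f) hc (Discrete.functor f)
    (fun j => colimit.ι (Discrete.functor f) j)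
    (fun S j => j ∈ S) (@fun S S' h j hj => h.down.down hj)
    (fun S j hj => Sigma.ι (fun x : S => (Discrete.functor f).obj x) ⟨j, hj⟩)
    (fun h j hj => ι_liftToFinsetObj_map (Discrete.functor f) h ⟨j, hj⟩)
    (fun S j hj => ?_) (fun j => ⟨{j}, by simp⟩) (fun S T g => ?_)
  · obtain ⟨hk⟩ := key
    refine ⟨IsColimit.ofIsoColimit hk (Cocone.ext (Iso.refl _) ?_)⟩
    intro j
    exact Category.comp_id _
  · have := ι_finiteSubcoproductsCocone f S ⟨j, hj⟩
    refine this.trans ?_
    cases j
    rfl
  · refine ⟨(hS S).desc (Cocone.mk T (Discrete.natTrans fun x => g x.as.1 x.as.2)), ?_, ?_⟩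
    · intro j hj
      exact (hS S).fac (Cocone.mk T (Discrete.natTrans fun x => g x.as.1 x.as.2)) ⟨⟨j, hj⟩⟩
    · intro u hu
      apply (hS S).hom_ext
      rintro ⟨⟨j, hj⟩⟩
      rw [(hS S).fac]
      exact hu j hj

theorem preservesCoproducts_of_finite_of_filtered [HasColimitsOfShape (Discrete α) C]
    [HasColimitsOfShape (Finset (Discrete α)) C]
    [PreservesFiniteCoproducts F] [PreservesColimitsOfShape (Finset (Discrete α)) F] :
    PreservesColimitsOfShape (Discrete α) F := by
  constructor
  intro K
  have e : K ≅ Discrete.functor (fun a => K.obj ⟨a⟩) := Discrete.natIsoFunctor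
  have : PreservesColimit (Discrete.functor (fun a => K.obj ⟨a⟩)) F :=
    preservesColimit_of_preserves_colimit_cocone (colimit.isColimit _)
      (nonempty_isColimit_mapCocone_sigma F (fun a => K.obj ⟨a⟩)).some
  exact preservesColimit_of_iso_diagram F e.symm

end Coprod

end Groth.Agent.Helper19.FPFunctor
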