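import Mathlib
import Groth.Agent.Lib.Helper19.FPFunctor
import Groth.Agent.Lib.Helper19.FPCompact
import Groth.Agent.Lib.Helper19.CokerColim
import Groth.Agent.Lib.Helper15.FunMorNat

/-!
# Right exactness of functors on modules from right exactness on f.p. modules (helper19)

Namespace `Groth.Agent.Helper19.FPRightExact`.
-/

set_option autoImplicit false
universe u u' v'

open CategoryTheory CategoryTheory.Limits

namespace Groth.Agent.Helper19.FPRightExact

open Groth.Agent.Lib.Helper15.FPMod Groth.Agent.Lib.Helper15.FPFree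

variable {A : Type u} [CommRing A] {B : Type u'} [Category.{v'} B] [Preadditive B]
  (F' : ModuleCat.{u} A ⥤ B)

section StepC

variable [F'.PreservesZeroMorphisms] [PreservesFiniteColimits (ObjectProperty.ι (fp A) ⋙ F')]
  [(ObjectProperty.ι (fp A) ⋙ F').PreservesZeroMorphisms]

/-- Step C: cokernels of maps between f.p. modules are preserved -/
theorem preservesCokernel_fp_fp {M N : ModuleCat.{u} A} (hM : Module.FinitePresentation A M)
    (hN : Module.FinitePresentation A N) (f : M ⟶ N) :
    PreservesColimit (parallelPair f 0) F' := by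
  let M' : Cfp A := ⟨M, hM⟩
  let N' : Cfp A := ⟨N, hN⟩
  let f' : M' ⟶ N' := ObjectProperty.homMk f
  have hQ : fp A (cokernel f) := (fp A).prop_cokernel f hM hN
  let Q' : Cfp A := ⟨cokernel f, hQ⟩
  let π' : N' ⟶ Q' := ObjectProperty.homMk (cokernel.π f)
  have w' : f' ≫ π' = 0 := by
    apply (ObjectProperty.ι (fp A)).map_injective
    exact cokernel.condition f
  have h1 : IsColimit ((ObjectProperty.ι (fp A)).mapCocone (CokernelCofork.ofπ π' w')) :=
    (isColimitMapCoconeCoforkEquiv' (ObjectProperty.ι (fp A)) w').symm (cokernelIsCokernel f)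
  have h2 : IsColimit (CokernelCofork.ofπ π' w') := isColimitOfReflects (ObjectProperty.ι (fp A)) h1
  have h3 : IsColimit ((ObjectProperty.ι (fp A) ⋙ F').mapCocone (CokernelCofork.ofπ π' w')) :=
    isColimitOfPreserves _ h2
  have h4 := isColimitMapCoconeCoforkEquiv' (ObjectProperty.ι (fp A) ⋙ F') w' h3
  apply preservesColimit_of_preserves_colimit_cocone (cokernelIsCokernel f)
  exact (isColimitMapCoconeCoforkEquiv' F' (cokernel.condition f)).symm h4

end StepC

section StepBA

variable [F'.PreservesZeroMorphisms] [PreservesFilteredColimitsOfSize.{u, u} F']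

/-- Step B: from maps between f.p. modules to maps with f.p. source -/
theorem preservesCokernel_fp_of
    (hC : ∀ {M N : ModuleCat.{u} A} (_ : Module.FinitePresentation A M)
      (_ : Module.FinitePresentation A N) (f : M ⟶ N), PreservesColimit (parallelPair f 0) F')
    {M N : ModuleCat.{u} A} (hM : Module.FinitePresentation A M) (f : M ⟶ N) :
    PreservesColimit (parallelPair f 0) F' := by
  obtain ⟨J, _, _, D, t, ⟨hc⟩, hfp⟩ :=
    Groth.Agent.Helper19.FPFunctor.exists_filtered_fp_cocone A N
  haveI := hM
  obtain ⟨j0, g, hg⟩ :=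
    Groth.Agent.Helper19.FPCompact.exists_factor_of_fp D (Cocone.mk N t) hc M f.hom
  have hg' : ModuleCat.ofHom g ≫ t.app j0 = f := by
    apply ModuleCat.hom_ext
    exact hg
  let Md : Under j0 ⥤ ModuleCat.{u} A := (Functor.const (Under j0)).obj M
  let Nd : Under j0 ⥤ ModuleCat.{u} A := Under.forget j0 ⋙ D
  let φ : Md ⟶ Nd :=
    { app := fun u => ModuleCat.ofHom g ≫ D.map u.hom
      naturality := by
        intro u v w
        have h1 : u.hom ≫ w.right = v.hom := Under.w w
        change 𝟙 M ≫ ModuleCat.ofHom g ≫ D.map v.hom =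
          (ModuleCat.ofHom g ≫ D.map u.hom) ≫ D.map w.right
        rw [Category.id_comp, Category.assoc, ← D.map_comp, h1] }
  haveI : IsConnected (Under j0) := IsFiltered.isConnected _
  have hcM : IsColimit (constCocone (Under j0) M) := isColimitConstCocone _ _
  let cN : Cocone Nd := (Cocone.mk N t).whisker (Under.forget j0)
  have hcN : IsColimit cN :=
    (Functor.Final.isColimitWhiskerEquiv (Under.forget j0) (Cocone.mk N t)).symm hc
  refine Groth.Agent.Helper19.CokerColim.preservesCokernel_of_colimit F' φ
    (constCocone (Under j0) M) hcM cN hcN f ?_ (fun u => hC hM (hfp u.right) _)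
  intro u
  change 𝟙 M ≫ f = (ModuleCat.ofHom g ≫ D.map u.hom) ≫ t.app u.right
  have h2 : D.map u.hom ≫ t.app u.right = t.app j0 := by
    have := t.naturality u.hom
    simpa using this
  rw [Category.id_comp, Category.assoc, h2, hg']

/-- Step A: from maps with f.p. source to all maps -/
theorem preservesCokernel_of
    (hB : ∀ {M N : ModuleCat.{u} A} (_ : Module.FinitePresentation A M) (f : M ⟶ N),
      PreservesColimit (parallelPair f 0) F')
    {M N : ModuleCat.{u} A} (f : M ⟶ N) :
    PreservesColimit (parallelPair f 0) F' := by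
  obtain ⟨J, _, _, D, t, ⟨hc⟩, hfp⟩ :=
    Groth.Agent.Helper19.FPFunctor.exists_filtered_fp_cocone A M
  let φ : D ⟶ (Functor.const J).obj N := t ≫ (Functor.const J).map f
  haveI : IsConnected J := IsFiltered.isConnected _
  have hcN : IsColimit (constCocone J N) := isColimitConstCocone _ _
  refine Groth.Agent.Helper19.CokerColim.preservesCokernel_of_colimit F' φ
    (Cocone.mk M t) hc (constCocone J N) hcN f ?_ (fun j => hB (hfp j) _)
  intro j
  change t.app j ≫ f = (t.app j ≫ f) ≫ 𝟙 N
  rw [Category.comp_id]

end StepBA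

section Main

variable [HasFiniteBiproducts B] [HasCokernels B] [HasFilteredColimitsOfSize.{u, u} B]
  [PreservesFilteredColimitsOfSize.{u, u} F']
  [PreservesFiniteColimits (ObjectProperty.ι (fp A) ⋙ F')]

theorem additive : F'.Additive := by
  haveI : (ObjectProperty.ι (fp A) ⋙ F').Additive :=
    Groth.Agent.Lib.Helper15.FunMorNat.additive (ObjectProperty.ι (fp A) ⋙ F')
  exact Groth.Agent.Helper19.FPFunctor.additive_of_fp F'

theorem preservesFiniteColimits : PreservesFiniteColimits F' := by
  haveI : (ObjectProperty.ι (fp A) ⋙ F').Additive :=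
    Groth.Agent.Lib.Helper15.FunMorNat.additive (ObjectProperty.ι (fp A) ⋙ F')
  haveI : F'.Additive := additive F'
  haveI : HasZeroObject B := hasZeroObject_of_hasFiniteBiproducts B
  have hC : ∀ {M N : ModuleCat.{u} A} (_ : Module.FinitePresentation A M)
      (_ : Module.FinitePresentation A N) (f : M ⟶ N), PreservesColimit (parallelPair f 0) F' :=
    fun hM hN f => preservesCokernel_fp_fp F' hM hN f
  have hB : ∀ {M N : ModuleCat.{u} A} (_ : Module.FinitePresentation A M) (f : M ⟶ N),
      PreservesColimit (parallelPair f 0) F' :=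
    fun hM f => preservesCokernel_fp_of F' hC hM f
  haveI : ∀ {M N : ModuleCat.{u} A} (f : M ⟶ N), PreservesColimit (parallelPair f 0) F' :=
    fun f => preservesCokernel_of F' hB f
  exact Functor.preservesFiniteColimits_of_preservesCokernels F'

end Main

end Groth.Agent.Helper19.FPRightExact
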