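import Mathlib
import Groth.Prelude.Def_FlatMod2
import Groth.Prelude.Def_CxOX
import Groth.Agent.Lib.Helper30.StalkExactF
import Groth.Agent.Lib.Helper45.RefHullStalk
import Groth.Agent.Lib.Helper19.Hull1
import Groth.Agent.Lib.Helper19.ShriekNoeth

/-!
# Coproducts of the modules `j_! O_U` are flat, and every module is a quotient of one (helper19)

Namespace `Groth.Agent.Helper19.FlatShriek`.
-/

set_option autoImplicit false
universe u
open CategoryTheory CategoryTheory.Limits AlgebraicGeometry TopologicalSpace Opposite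

namespace Groth.Agent.Helper19.FlatShriek

open Groth.Agent.Lib.Helper49 Groth.Agent.Lib.Helper45 Groth.Agent.Lib.Helper18.LSubM
open Groth.Agent.Helper19.Hull Groth.Agent.Helper19.ShriekNoeth Groth.Agent.Helper19.Shriek
  Groth.Agent.Helper19.QCohSep Groth.Agent.Lib.Helper30.StalkExactF

variable {X : Scheme.{u}}

/-- germs of sections of `freeV V` vanish outside `V` -/
theorem germ_freeV_eq_zero (V : X.Opens) (x : X) (hx : x ∉ V) (T : X.Opens) (hxT : x ∈ T)
    (t : Γ(freeV V, T)) : (freeV V).presheaf.germ T x hxT t = 0 := by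
  obtain ⟨φ, hφ⟩ := exists_factor_suppIn V (𝟙 (freeV V))
  have h1 : t = (suppIn (freeV V) V).ι.app T (φ.app T t) := by
    change t = (φ ≫ (suppIn (freeV V) V).ι).app T t
    rw [hφ]
    rfl
  have h2 : t ∈ (suppIn (freeV V) V).obj T := by
    rw [h1]
    exact (suppIn (freeV V) V).ι_app_mem T _
  obtain ⟨D, hD, hxD, e⟩ := h2 x hxT hx
  have e6 := congrArg ((freeV V).presheaf.germ D x hxD) e
  rw [mres_apply, TopCat.Presheaf.germ_res_apply, map_zero] at e6
  exact e6

theorem subsingleton_stalk_freeV (V : X.Opens) (x : X) (hx : x ∉ V) :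
    Subsingleton ((freeV V).presheaf.stalk x) := by
  refine ⟨fun a b => ?_⟩
  obtain ⟨Ta, hxa, ta, rfl⟩ := TopCat.Presheaf.exists_germ_eq (freeV V).presheaf a
  obtain ⟨Tb, hxb, tb, rfl⟩ := TopCat.Presheaf.exists_germ_eq (freeV V).presheaf b
  rw [germ_freeV_eq_zero V x hx, germ_freeV_eq_zero V x hx]

/-- the stalk map of `freeV V ⟶ O_X` at a point of `V` is bijective -/
theorem stalk_toO_bijective (V : X.Opens) (x : X) (hx : x ∈ V) :
    Function.Bijective ((DerSch.stalkFunctor X x).map (ShriekNoeth.toO V)) := by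
  refine ⟨stalkFunctor_map_injective x (ShriekNoeth.toO V), fun b => ?_⟩
  obtain ⟨T, hxT, s, rfl⟩ :=
    TopCat.Presheaf.exists_germ_eq (Coh.structureModule X).presheaf b
  have hW : T ⊓ V ≤ V := inf_le_right
  let a : Γ(X, T ⊓ V) := X.presheaf.map (homOfLE (inf_le_left : T ⊓ V ≤ T)).op s
  refine ⟨(freeV V).presheaf.germ (T ⊓ V) x ⟨hxT, hx⟩
    (a • (freeV V).presheaf.map (homOfLE hW).op (univSec V)), ?_⟩
  rw [DerSch.stalkFunctor_map_germ, Scheme.Modules.Hom.app_smul]
  have h1 : (ShriekNoeth.toO V).app (T ⊓ V) ((freeV V).presheaf.map (homOfLE hW).op (univSec V)) =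
      (1 : Γ(X, T ⊓ V)) := by
    have hnat : (Coh.structureModule X).presheaf.map (homOfLE hW).op
        ((ShriekNoeth.toO V).app V (univSec V)) =
        (ShriekNoeth.toO V).app (T ⊓ V) ((freeV V).presheaf.map (homOfLE hW).op (univSec V)) :=
      (congrArg (fun g => g.hom (univSec V))
        ((ShriekNoeth.toO V).mapPresheaf.naturality (homOfLE hW).op)).symm
    rw [← hnat, ← secEquiv_eq_app]
    have h2 : secEquiv V (Coh.structureModule X) (ShriekNoeth.toO V) = (1 : Γ(X, V)) :=
      homEquivSec_toUnit X.ringCatSheaf V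
    rw [h2]
    exact map_one (X.presheaf.map (homOfLE hW).op).hom
  rw [h1]
  have h3 : (a • (1 : Γ(X, T ⊓ V)) : Γ(Coh.structureModule X, T ⊓ V)) =
      (Coh.structureModule X).presheaf.map (homOfLE (inf_le_left : T ⊓ V ≤ T)).op s :=
    mul_one a
  have h4 : (Coh.structureModule X).presheaf.germ (T ⊓ V) x ⟨hxT, hx⟩
      ((a • (1 : Γ(X, T ⊓ V)) : Γ(Coh.structureModule X, T ⊓ V))) =
      (Coh.structureModule X).presheaf.germ (T ⊓ V) x ⟨hxT, hx⟩
        ((Coh.structureModule X).presheaf.map (homOfLE (inf_le_left : T ⊓ V ≤ T)).op s) :=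
    congrArg _ h3
  exact h4.trans (TopCat.Presheaf.germ_res_apply (Coh.structureModule X).presheaf
    (homOfLE (inf_le_left : T ⊓ V ≤ T)) x ⟨hxT, hx⟩ s)

/-- the stalks of `freeV V` are flat -/
theorem flat_stalk_freeV (V : X.Opens) (x : X) :
    Module.Flat (X.presheaf.stalk x) ((DerSch.stalkFunctor X x).obj (freeV V)) := by
  by_cases hx : x ∈ V
  · let e₁ : ((DerSch.stalkFunctor X x).obj (freeV V)) ≃ₗ[X.presheaf.stalk x]
        ((DerSch.stalkFunctor X x).obj (Coh.structureModule X)) :=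
      LinearEquiv.ofBijective ((DerSch.stalkFunctor X x).map (ShriekNoeth.toO V)).hom
        (stalk_toO_bijective V x hx)
    exact Module.Flat.of_linearEquiv (e₁.trans (Groth.Agent.Lib.Helper45.RefHullStalk.unitStalkEquiv x))
  · have : Subsingleton ((DerSch.stalkFunctor X x).obj (freeV V)) :=
      subsingleton_stalk_freeV V x hx
    infer_instance

/-- flatness of stalks passes to coproducts -/
theorem flat_stalk_sigma {ι : Type u} (M : ι → X.Modules) (x : X)
    (h : ∀ i, Module.Flat (X.presheaf.stalk x) ((DerSch.stalkFunctor X x).obj (M i))) :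
    Module.Flat (X.presheaf.stalk x) ((DerSch.stalkFunctor X x).obj (∐ M)) := by
  classical
  let e₁ : (DerSch.stalkFunctor X x).obj (∐ M) ≅ ∐ fun i => (DerSch.stalkFunctor X x).obj (M i) :=
    PreservesCoproduct.iso (DerSch.stalkFunctor X x) M
  let e₂ := ModuleCat.coprodIsoDirectSum (fun i => (DerSch.stalkFunctor X x).obj (M i))
  exact Module.Flat.of_linearEquiv ((e₁ ≪≫ e₂).toLinearEquiv)

theorem flat_stalk_of_iso {M N : X.Modules} (e : M ≅ N) (x : X)
    (h : Module.Flat (X.presheaf.stalk x) ((DerSch.stalkFunctor X x).obj N)) :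
    Module.Flat (X.presheaf.stalk x) ((DerSch.stalkFunctor X x).obj M) :=
  Module.Flat.of_linearEquiv (((DerSch.stalkFunctor X x).mapIso e).toLinearEquiv)

/-- **Every `O_X`-module is a quotient of a flat coproduct of modules `j_! O_U`.** -/
theorem exists_flat_cover (F : X.Modules) :
    ∃ (ι : Type u) (U : ι → X.Opens) (p : (∐ fun i => CxOX.extZeroUnit (U i).ι) ⟶ F),
      Epi p ∧ FlatMod.IsFlat (∐ fun i => CxOX.extZeroUnit (U i).ι) := by
  let ι : Type u := Σ V : X.Opens, Γ(F, V)
  let U : ι → X.Opens := fun i => i.1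
  have hU : ∀ i : ι, (U i).ι ''ᵁ ⊤ = U i := fun i => (U i).ι_image_top
  choose e he using fun i : ι => exists_iso_freeOn (U i).ι
  let σ : ∀ i : ι, CxOX.extZeroUnit (U i).ι ⟶ F := fun i =>
    (e i).hom ≫ (secEquiv ((U i).ι ''ᵁ ⊤) F).symm (mres F (le_of_eq (hU i)) i.2)
  refine ⟨ι, U, Sigma.desc σ, ⟨fun {N} α β hαβ => ?_⟩, fun x => ?_⟩
  · apply Scheme.Modules.hom_ext
    intro T
    ext t
    have h1 : σ ⟨T, t⟩ ≫ α = σ ⟨T, t⟩ ≫ β := by
      have := congrArg (fun q => Sigma.ι (fun i : ι => CxOX.extZeroUnit (U i).ι) ⟨T, t⟩ ≫ q) hαβ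
      simpa using this
    have h2 : (secEquiv ((U ⟨T, t⟩).ι ''ᵁ ⊤) F).symm (mres F (le_of_eq (hU ⟨T, t⟩)) t) ≫ α =
        (secEquiv ((U ⟨T, t⟩).ι ''ᵁ ⊤) F).symm (mres F (le_of_eq (hU ⟨T, t⟩)) t) ≫ β := by
      rw [← cancel_epi (e ⟨T, t⟩).hom]
      simpa [σ] using h1
    have h3 := congrArg (secEquiv ((U ⟨T, t⟩).ι ''ᵁ ⊤) N) h2
    rw [secEquiv_comp, secEquiv_comp, Equiv.apply_symm_apply] at h3
    -- transport along the equality of opens
    have key : ∀ (V' : X.Opens) (h : V' = T),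
        α.app V' (mres F (le_of_eq h) t) = β.app V' (mres F (le_of_eq h) t) →
          α.app T t = β.app T t := by
      intro V' h hh
      subst h
      have e0 : mres F (le_of_eq (rfl : V' = V')) t = t := by
        rw [mres_apply]
        change (F.presheaf.map (𝟙 _)) t = t
        rw [F.presheaf.map_id]
        rfl
      rwa [e0] at hh
    exact key _ (hU ⟨T, t⟩) h3
  · have h1 : ∀ i : ι, Module.Flat (X.presheaf.stalk x)
        ((DerSch.stalkFunctor X x).obj (CxOX.extZeroUnit (U i).ι)) := fun i =>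
      flat_stalk_of_iso (e i) x (flat_stalk_freeV _ x)
    exact flat_stalk_sigma (fun i => CxOX.extZeroUnit (U i).ι) x h1

end Groth.Agent.Helper19.FlatShriek
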