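import Mathlib
import Groth.Agent.Lib.Helper19.FpqcModDesc

/-!
# Base change `X_T = X ×_S T` of module maps: descent along fpqc families of `T`
-/

set_option autoImplicit false
universe u
open CategoryTheory CategoryTheory.Limits AlgebraicGeometry Opposite TopologicalSpace

noncomputable section

namespace Groth.Agent.Helper19.FpqcModDesc

variable {X S : Scheme.{u}} (f : X ⟶ S)

/-- the map `X_{T'} ⟶ X_T` induced by `h : T' ⟶ T` over `S`. -/
def bcMap {T' T : Over S} (h : T' ⟶ T) : pullback f T'.hom ⟶ pullback f T.hom :=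
  pullback.map f T'.hom f T.hom (𝟙 X) h.left (𝟙 S) (by simp) (by simp)

variable {T' T : Over S} (h : T' ⟶ T)

@[reassoc (attr := simp)]
lemma bcMap_fst : bcMap f h ≫ pullback.fst f T.hom = pullback.fst f T'.hom := by
  delta bcMap pullback.map
  rw [pullback.lift_fst, Category.comp_id]

@[reassoc (attr := simp)]
lemma bcMap_snd : bcMap f h ≫ pullback.snd f T.hom = pullback.snd f T'.hom ≫ h.left := by
  delta bcMap pullback.map
  rw [pullback.lift_snd]

lemma isPullback_bcMap :
    IsPullback (bcMap f h) (pullback.snd f T'.hom) (pullback.snd f T.hom) h.left := by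
  have big : IsPullback (bcMap f h ≫ pullback.fst f T.hom) (pullback.snd f T'.hom) f
      (h.left ≫ T.hom) := by
    rw [bcMap_fst, Over.w h]
    exact IsPullback.of_hasPullback _ _
  exact IsPullback.of_right big (bcMap_snd f h) (IsPullback.of_hasPullback f T.hom)

instance flat_bcMap [Flat h.left] : Flat (bcMap f h) :=
  MorphismProperty.of_isPullback (P := @Flat) (isPullback_bcMap f h).flip ‹_›

/-- `(X_T → X)^* ⋙ (X_{T'} → X_T)^* ≅ (X_{T'} → X)^*`. -/
def bcIso : Scheme.Modules.pullback (pullback.fst f T.hom) ⋙ Scheme.Modules.pullback (bcMap f h) ≅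
    Scheme.Modules.pullback (pullback.fst f T'.hom) :=
  Scheme.Modules.pullbackComp _ _ ≪≫ Scheme.Modules.pullbackCongr (bcMap_fst f h)

lemma exists_preimage_bcMap (x : ↥(pullback f T.hom)) (t' : ↥T'.left)
    (ht : h.left.base t' = (pullback.snd f T.hom).base x) :
    ∃ z : ↥(pullback f T'.hom), (bcMap f h).base z = x := by
  obtain ⟨w, hw1, hw2⟩ := Scheme.Pullback.exists_preimage_pullback
    (f := pullback.snd f T.hom) (g := h.left) x t' ht.symm
  let e := (isPullback_bcMap f h).isoPullback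
  refine ⟨e.inv.base w, ?_⟩
  have h1 : e.inv ≫ bcMap f h = pullback.fst _ _ := (isPullback_bcMap f h).isoPullback_inv_fst
  rw [← hw1, ← h1]
  rfl

variable {F G : X.Modules} (u : F ⟶ G)

section conj

variable {C D : Type*} [Category C] [Category D] {F₁ F₂ : C ⥤ D} {A B : C} (φ : A ⟶ B)

lemma mono_map_iff_of_natIso (e : F₁ ≅ F₂) : Mono (F₁.map φ) ↔ Mono (F₂.map φ) :=
  (MorphismProperty.monomorphisms D).arrow_mk_iso_iff
    (Arrow.isoMk (e.app A) (e.app B) (by simp))

lemma epi_map_iff_of_natIso (e : F₁ ≅ F₂) : Epi (F₁.map φ) ↔ Epi (F₂.map φ) :=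
  (MorphismProperty.epimorphisms D).arrow_mk_iso_iff
    (Arrow.isoMk (e.app A) (e.app B) (by simp))

lemma isIso_map_iff_of_natIso (e : F₁ ≅ F₂) : IsIso (F₁.map φ) ↔ IsIso (F₂.map φ) :=
  (MorphismProperty.isomorphisms D).arrow_mk_iso_iff
    (Arrow.isoMk (e.app A) (e.app B) (by simp))

lemma map_eq_zero_iff_of_natIso [Limits.HasZeroMorphisms D] (e : F₁ ≅ F₂) : F₁.map φ = 0 ↔ F₂.map φ = 0 := by
  have h1 : F₂.map φ = e.inv.app A ≫ F₁.map φ ≫ e.hom.app B := by simp
  have h2 : F₁.map φ = e.hom.app A ≫ F₂.map φ ≫ e.inv.app B := by simp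
  constructor
  · intro h; rw [h1, h]; simp
  · intro h; rw [h2, h]; simp

end conj

end Groth.Agent.Helper19.FpqcModDesc
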