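import Mathlib
import Groth.Prelude.Def_FlatFun
import Groth.Agent.Lib.Helper19.FpqcModDesc2

/-!
# fpqc sheaf property of the sub-presheaves `FlatFun.genPSp S P` of the final presheaf
-/

set_option autoImplicit false
universe u
open CategoryTheory CategoryTheory.Limits AlgebraicGeometry Opposite TopologicalSpace

noncomputable section

namespace Groth.Agent.Helper19.FpqcModDesc

variable {S : Scheme.{u}}

/-- A condition `P` on schemes over `S`, stable under morphisms over `S` and descending along jointly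
surjective families of flat morphisms, generates an fpqc sheaf. -/
theorem isSheaf_genPSp (P : Over S → Prop)
    (hstab : ∀ ⦃T T₀ : Over S⦄ (_ : T ⟶ T₀), P T₀ → P T)
    (hdesc : ∀ (T : Over S) {ι : Type (u + 1)} (W : ι → Scheme.{u}) (h : ∀ i, W i ⟶ T.left),
      (∀ x, ∃ i, x ∈ Set.range (h i)) → (∀ i, Flat (h i)) →
      (∀ i, P (Over.mk (h i ≫ T.hom))) → P T) :
    Presheaf.IsSheaf (QuotSh.J Scheme.fpqcPrecoverage S) (FlatFun.genPSp S P) := by
  rw [isSheaf_iff_isSheaf_of_type]
  intro T R hR x hx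
  have hPT : P T := by
    rw [GrothendieckTopology.mem_over_iff,
      Precoverage.mem_toGrothendieck_iff_of_isStableUnderComposition] at hR
    obtain ⟨R₀, hR₀, hle⟩ := hR
    obtain ⟨𝒰, rfl⟩ := Precoverage.mem_iff_exists_zeroHypercover.mp hR₀
    have hc := (AlgebraicGeometry.Scheme.ofArrows_mem_precoverage_iff (P := @Flat)).1 hR₀.2
    refine hdesc T 𝒰.X 𝒰.f hc.1 hc.2 (fun i => ?_)
    have h1 : (Sieve.overEquiv T R) (𝒰.f i) := hle _ _ (Presieve.ofArrows.mk i)
    rw [Sieve.overEquiv_iff] at h1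
    exact (FlatFun.genPSp_nonempty_iff_of_stable P hstab _).mp ⟨x _ h1⟩
  obtain ⟨t⟩ := FlatFun.genPSp_nonempty_of P hPT
  exact ⟨t, fun Y f hf => Subsingleton.elim _ _, fun t' _ => Subsingleton.elim _ _⟩

variable {X : Scheme.{u}} (f : X ⟶ S) {F G : X.Modules} (u : F ⟶ G)

/-- joint surjectivity of the base-changed family -/
lemma bcMap_jointly_surjective (T : Over S) {ι : Type*} (W : ι → Scheme.{u})
    (h : ∀ i, W i ⟶ T.left) (hs : ∀ x, ∃ i, x ∈ Set.range (h i)) :
    ∀ y : ↥(pullback f T.hom), ∃ (i : ι)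
      (z : ↥(pullback f (Over.mk (h i ≫ T.hom)).hom)),
      (bcMap f (Over.homMk (h i) : Over.mk (h i ≫ T.hom) ⟶ T)).base z = y := by
  intro y
  obtain ⟨i, t', ht'⟩ := hs ((pullback.snd f T.hom).base y)
  obtain ⟨z, hz⟩ := exists_preimage_bcMap f
    (Over.homMk (h i) : Over.mk (h i ≫ T.hom) ⟶ T) y t' ht'
  exact ⟨i, z, hz⟩

theorem isSheaf_isoFunctor :
    Presheaf.IsSheaf (QuotSh.J Scheme.fpqcPrecoverage S)
      (FlatFun.genPSp S (fun T => IsIso ((Scheme.Modules.pullback (pullback.fst f T.hom)).map u))) := by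
  apply isSheaf_genPSp
  · intro T T₀ k hk
    rw [← isIso_map_iff_of_natIso u (bcIso f k)]
    change IsIso ((Scheme.Modules.pullback (bcMap f k)).map
      ((Scheme.Modules.pullback (pullback.fst f T₀.hom)).map u))
    have := hk
    infer_instance
  · intro T ι W h hs hfl hP
    have : ∀ i, Flat (Over.homMk (h i) : Over.mk (h i ≫ T.hom) ⟶ T).left := hfl
    refine isIso_of_forall_pullback _
      (fun i => bcMap f (Over.homMk (h i) : Over.mk (h i ≫ T.hom) ⟶ T))
      (bcMap_jointly_surjective f T W h hs) (fun i => ?_)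
    exact (isIso_map_iff_of_natIso u (bcIso f _)).mpr (hP i)

theorem isSheaf_surjFunctor :
    Presheaf.IsSheaf (QuotSh.J Scheme.fpqcPrecoverage S)
      (FlatFun.genPSp S (fun T => Epi ((Scheme.Modules.pullback (pullback.fst f T.hom)).map u))) := by
  apply isSheaf_genPSp
  · intro T T₀ k hk
    rw [← epi_map_iff_of_natIso u (bcIso f k)]
    have : (Scheme.Modules.pullback (bcMap f k)).IsLeftAdjoint :=
      (Scheme.Modules.pullbackPushforwardAdjunction _).isLeftAdjoint
    change Epi ((Scheme.Modules.pullback (bcMap f k)).map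
      ((Scheme.Modules.pullback (pullback.fst f T₀.hom)).map u))
    have := hk
    infer_instance
  · intro T ι W h hs hfl hP
    have : ∀ i, Flat (Over.homMk (h i) : Over.mk (h i ≫ T.hom) ⟶ T).left := hfl
    refine epi_of_forall_pullback _
      (fun i => bcMap f (Over.homMk (h i) : Over.mk (h i ≫ T.hom) ⟶ T))
      (bcMap_jointly_surjective f T W h hs) (fun i => ?_)
    exact (epi_map_iff_of_natIso u (bcIso f _)).mpr (hP i)

theorem isSheaf_zeroFunctor :
    Presheaf.IsSheaf (QuotSh.J Scheme.fpqcPrecoverage S)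
      (FlatFun.genPSp S (fun T => (Scheme.Modules.pullback (pullback.fst f T.hom)).map u = 0)) := by
  apply isSheaf_genPSp
  · intro T T₀ k hk
    rw [← map_eq_zero_iff_of_natIso u (bcIso f k)]
    change (Scheme.Modules.pullback (bcMap f k)).map
      ((Scheme.Modules.pullback (pullback.fst f T₀.hom)).map u) = 0
    rw [hk, Functor.map_zero]
  · intro T ι W h hs hfl hP
    have : ∀ i, Flat (Over.homMk (h i) : Over.mk (h i ≫ T.hom) ⟶ T).left := hfl
    refine eq_zero_of_forall_pullback _
      (fun i => bcMap f (Over.homMk (h i) : Over.mk (h i ≫ T.hom) ⟶ T))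
      (bcMap_jointly_surjective f T W h hs) (fun i => ?_)
    exact (map_eq_zero_iff_of_natIso u (bcIso f _)).mpr (hP i)

end Groth.Agent.Helper19.FpqcModDesc
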