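import Mathlib
import Groth.Agent.Lib.Helper43.GaGm

/-!
# Homomorphisms `𝔾_a ⟶ 𝔾_m` over a reduced base are trivial
-/

set_option autoImplicit false
universe u
open CategoryTheory MonoidalCategory CartesianMonoidalCategory MonObj AlgebraicGeometry
  CategoryTheory.Limits

namespace Groth.Agent.Helper19.GaGmHom

open Polynomial Groth.Agent.Lib.Helper43

variable {S : Scheme.{u}}

lemma ΓSpecIso_inv_injective {B : CommRingCat.{u}} {a b : B}
    (h : (Scheme.ΓSpecIso B).inv.hom a = (Scheme.ΓSpecIso B).inv.hom b) : a = b := by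
  have h1 := congr_arg (Scheme.ΓSpecIso B).hom.hom h
  have h2 : ∀ c : B, (Scheme.ΓSpecIso B).hom.hom ((Scheme.ΓSpecIso B).inv.hom c) = c := fun c =>
    congr_arg (fun φ => φ.hom c) (Scheme.ΓSpecIso B).inv_hom_id
  rwa [h2, h2] at h1

lemma ΓSpecIso_inv_hom {B : CommRingCat.{u}} (v : Γ(Spec B, ⊤)) :
    (Scheme.ΓSpecIso B).inv.hom ((Scheme.ΓSpecIso B).hom.hom v) = v :=
  congr_arg (fun φ => φ.hom v) (Scheme.ΓSpecIso B).hom_inv_id

lemma specMap_appTop_inv {A B : CommRingCat.{u}} (ρ : A ⟶ B) (a : A) :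
    (Spec.map ρ).appTop.hom ((Scheme.ΓSpecIso A).inv.hom a) =
      (Scheme.ΓSpecIso B).inv.hom (ρ.hom a) :=
  (congr_arg (fun φ => φ.hom a) (Scheme.ΓSpecIso_inv_naturality ρ)).symm

/-- `R[X]` as an object of `CommRingCat`. -/
noncomputable abbrev PR (R : CommRingCat.{u}) : CommRingCat.{u} := CommRingCat.of (Polynomial R)

/-- `Spec R[X]` over `S`, for `s : Spec R ⟶ S`. -/
noncomputable abbrev TT {R : CommRingCat.{u}} (s : Spec R ⟶ S) : Over S :=
  Over.mk (Spec.map (CommRingCat.ofHom (C : R →+* Polynomial R)) ≫ s)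

/-- a unit of `R[X]` over a reduced ring is constant. -/
lemma unit_eq_C {R : Type*} [CommRing R] [IsReduced R] {v : Polynomial R} (hv : IsUnit v) :
    v = C (v.coeff 0) := by
  have h := (Polynomial.isUnit_iff_coeff_isUnit_isNilpotent.1 hv).2
  ext i
  by_cases hi : i = 0
  · subst hi; simp
  · rw [coeff_C, if_neg hi]
    exact (h i hi).eq_zero

/-- Lemma A: on the universal point over an affine reduced chart, a unit-preserving map to `𝔾_m`
is trivial. -/
lemma univ_comp_eq_one {R : CommRingCat.{u}} [IsReduced R] (s : Spec R ⟶ S)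
    (φ : Red.Ga S ⟶ Red.Gm S) [IsMonHom φ] (t : TT s ⟶ Red.Ga S)
    (ht : Red.gaFn t = (Scheme.ΓSpecIso (PR R)).inv.hom X) : t ≫ φ = 1 := by
  apply gmFn_injective
  rw [gmFn_one]
  -- the unit
  set u : Γ(Spec (PR R), ⊤) := Red.gmFn (t ≫ φ) with hu
  have hunit : IsUnit u := isUnit_gmFn (t ≫ φ)
  set v : Polynomial R := (Scheme.ΓSpecIso (PR R)).hom.hom u with hv
  have hvu : (Scheme.ΓSpecIso (PR R)).inv.hom v = u := ΓSpecIso_inv_hom u
  have hvunit : IsUnit v := hunit.map _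
  have hvC := unit_eq_C hvunit
  -- zero section
  let ev0 : PR R ⟶ R := CommRingCat.ofHom (Polynomial.evalRingHom (0 : R))
  have hev0 : CommRingCat.ofHom (C : R →+* Polynomial R) ≫ ev0 = 𝟙 R := by
    apply CommRingCat.hom_ext
    apply RingHom.ext
    intro a
    show Polynomial.eval 0 (C a) = a
    simp
  let z : Over.mk s ⟶ TT s := Over.homMk (Spec.map ev0) (by
    show Spec.map ev0 ≫ Spec.map _ ≫ s = s
    rw [← Category.assoc, ← Spec.map_comp, hev0, Spec.map_id, Category.id_comp])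
  have hz1 : z ≫ t = 1 := by
    apply gaFn_injective
    rw [gaFn_comp, gaFn_one, ht]
    show (Spec.map ev0).appTop.hom _ = 0
    rw [specMap_appTop_inv]
    simp [ev0]
  have hz2 : Red.gmFn (z ≫ t ≫ φ) = 1 := by
    rw [← Category.assoc, hz1, MonObj.one_comp φ, gmFn_one]
  rw [gmFn_comp] at hz2
  have hz3 : (Spec.map ev0).appTop.hom u = 1 := hz2
  rw [← hvu, specMap_appTop_inv] at hz3
  have hr : v.coeff 0 = 1 := by
    have h1 : (Scheme.ΓSpecIso R).inv.hom (ev0.hom v) = (Scheme.ΓSpecIso R).inv.hom 1 := by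
      rw [hz3, map_one]
    have h2 := ΓSpecIso_inv_injective h1
    rw [hvC] at h2
    simpa [ev0] using h2
  rw [← hvu, hvC, hr, map_one, map_one]

/-- Lemma B: an affine-scheme valued point of `𝔾_a` lying over an affine chart factors through the
universal point of the chart. -/
lemma exists_factor {R B : CommRingCat.{u}} (s : Spec R ⟶ S) (f : Spec B ⟶ (Red.Ga S).left)
    (β : R ⟶ B) (hβ : Spec.map β ≫ s = f ≫ (Red.Ga S).hom) (t : TT s ⟶ Red.Ga S)
    (ht : Red.gaFn t = (Scheme.ΓSpecIso (PR R)).inv.hom X) :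
    ∃ w : Over.mk (f ≫ (Red.Ga S).hom) ⟶ TT s,
      w ≫ t = (Over.homMk f rfl : Over.mk (f ≫ (Red.Ga S).hom) ⟶ Red.Ga S) := by
  set ii : Over.mk (f ≫ (Red.Ga S).hom) ⟶ Red.Ga S := Over.homMk f rfl with hii
  let b : B := (Scheme.ΓSpecIso B).hom.hom (Red.gaFn ii)
  have hb : (Scheme.ΓSpecIso B).inv.hom b = Red.gaFn ii := ΓSpecIso_inv_hom _
  let ρ : PR R ⟶ B := CommRingCat.ofHom (eval₂RingHom β.hom b)
  have hρ : CommRingCat.ofHom (C : R →+* Polynomial R) ≫ ρ = β := by
    apply CommRingCat.hom_ext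
    apply RingHom.ext
    intro a
    show eval₂ β.hom b (C a) = _
    rw [eval₂_C]
  have hρX : ρ.hom X = b := by
    show eval₂ β.hom b X = _
    rw [eval₂_X]
  let w : Over.mk (f ≫ (Red.Ga S).hom) ⟶ TT s := Over.homMk (Spec.map ρ) (by
    show Spec.map ρ ≫ Spec.map _ ≫ s = f ≫ (Red.Ga S).hom
    rw [← Category.assoc, ← Spec.map_comp, hρ, hβ])
  refine ⟨w, ?_⟩
  apply gaFn_injective
  rw [gaFn_comp, ht, ← hb, ← hρX]
  exact specMap_appTop_inv ρ X

theorem hom_eq_one [IsReduced S] (φ : Red.Ga S ⟶ Red.Gm S) [IsMonHom φ] : φ = 1 := by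
  apply Over.OverMorphism.ext
  refine Scheme.Cover.hom_ext (S.affineOpenCover.openCover.pullback₁ (Red.Ga S).hom) _ _
    fun i => ?_
  refine Scheme.Cover.hom_ext
    ((pullback (Red.Ga S).hom (S.affineOpenCover.f i)).affineOpenCover.openCover) _ _ fun k => ?_
  -- notation
  let R : CommRingCat.{u} := S.affineOpenCover.X i
  let s : Spec R ⟶ S := S.affineOpenCover.f i
  let Q := pullback (Red.Ga S).hom s
  let B : CommRingCat.{u} := Q.affineOpenCover.X k
  let g : Spec B ⟶ Q := Q.affineOpenCover.f k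
  let f : Spec B ⟶ (Red.Ga S).left := g ≫ pullback.fst _ _
  let β : R ⟶ B := Spec.preimage (g ≫ pullback.snd _ _)
  have hβ : Spec.map β ≫ s = f ≫ (Red.Ga S).hom := by
    show Spec.map (Spec.preimage _) ≫ s = (g ≫ pullback.fst _ _) ≫ _
    rw [Spec.map_preimage, Category.assoc, Category.assoc, pullback.condition]
  have hred : IsReduced R := by
    have : IsOpenImmersion s := S.affineOpenCover.map_prop i
    have h1 : IsReduced (Spec R) := isReduced_of_isOpenImmersion s
    exact (affine_isReduced_iff R).1 h1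
  obtain ⟨t, ht⟩ := gaFn_surjective (S := S) (X := TT s) ((Scheme.ΓSpecIso (PR R)).inv.hom X)
  obtain ⟨w, hw⟩ := exists_factor s f β hβ t ht
  have h1 : t ≫ φ = 1 := univ_comp_eq_one s φ t ht
  have h2' : ∀ (ii : Over.mk (f ≫ (Red.Ga S).hom) ⟶ Red.Ga S), w ≫ t = ii →
      ii ≫ φ = ii ≫ 1 := by
    intro ii hii
    subst hii
    exact (Category.assoc w t φ).trans ((congr_arg (fun m => w ≫ m) h1).trans
      ((MonObj.comp_one w).trans (MonObj.comp_one (w ≫ t)).symm))
  have h2 := h2' _ hw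
  have h3 := congr_arg (fun m => m.left) h2
  simp only [Over.comp_left, Over.homMk_left] at h3
  show g ≫ pullback.fst _ _ ≫ φ.left = g ≫ pullback.fst _ _ ≫ _
  rw [← Category.assoc, ← Category.assoc]
  exact h3

end Groth.Agent.Helper19.GaGmHom
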