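import Mathlib

/-!
# Units of Laurent polynomial rings over a domain

`LaurentPolynomial.isUnit_iff_of_isDomain`: over a domain `R`, the units of `R[T;T⁻¹]` are the
`C r * T n` with `r` a unit of `R`.  Also an extensionality lemma for ring homomorphisms out of
`R[T;T⁻¹]`.
-/

set_option autoImplicit false

open Polynomial hiding C

namespace Groth.Agent.Helper19.LaurentUnits

open LaurentPolynomial

variable {R : Type*} [CommRing R]

/-- two ring homomorphisms out of `R[T;T⁻¹]` agreeing on constants and on `T` are equal. -/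
lemma ringHom_ext' {S : Type*} [CommRing S] {f g : R[T;T⁻¹] →+* S}
    (hC : ∀ a, f (LaurentPolynomial.C a) = g (LaurentPolynomial.C a)) (hT : f (T 1) = g (T 1)) : f = g := by
  apply IsLocalization.ringHom_ext (Submonoid.powers (X : R[X]))
  apply Polynomial.ringHom_ext
  · intro a
    simp only [RingHom.comp_apply, LaurentPolynomial.algebraMap_eq_toLaurent,
      Polynomial.toLaurent_C]
    exact hC a
  · simp only [RingHom.comp_apply, LaurentPolynomial.algebraMap_eq_toLaurent,
      Polynomial.toLaurent_X]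
    exact hT

lemma isUnit_C_mul_T {r : R} (hr : IsUnit r) (n : ℤ) : IsUnit (LaurentPolynomial.C r * T n : R[T;T⁻¹]) :=
  (hr.map (LaurentPolynomial.C : R →+* R[T;T⁻¹])).mul (isUnit_T n)

/-- over a domain, the units of the Laurent polynomial ring are the monomials with unit
coefficient. -/
theorem exists_eq_C_mul_T_of_isUnit [IsDomain R] {f : R[T;T⁻¹]} (hf : IsUnit f) :
    ∃ (r : R) (n : ℤ), IsUnit r ∧ f = LaurentPolynomial.C r * T n := by
  obtain ⟨g, hfg⟩ := hf.exists_right_inv
  obtain ⟨a, p, hp⟩ := f.exists_T_pow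
  obtain ⟨b, q, hq⟩ := g.exists_T_pow
  have hpq : p * q = X ^ (a + b) := by
    apply Polynomial.toLaurent_injective
    rw [map_mul, hp, hq, Polynomial.toLaurent_X_pow]
    calc f * T a * (g * T b) = (f * g) * (T a * T b) := by ring
      _ = T (a + b) := by rw [hfg, one_mul, ← T_add]
      _ = T ((a + b : ℕ) : ℤ) := by push_cast; rfl
  have hdvd : p ∣ X ^ (a + b) := ⟨q, hpq.symm⟩
  obtain ⟨i, _, hi⟩ := (dvd_prime_pow Polynomial.prime_X _).1 hdvd
  obtain ⟨u, hu⟩ := hi.symm
  obtain ⟨r, hr, hru⟩ := Polynomial.isUnit_iff.1 u.isUnit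
  refine ⟨r, (i : ℤ) - a, hr, ?_⟩
  have h1 : f * T a = T i * LaurentPolynomial.C r := by
    rw [← hp, ← hu, map_mul, Polynomial.toLaurent_X_pow, ← hru, Polynomial.toLaurent_C]
  calc f = f * T a * T (-a) := by rw [mul_assoc, ← T_add, add_neg_cancel, T_zero, mul_one]
    _ = T i * LaurentPolynomial.C r * T (-a) := by rw [h1]
    _ = LaurentPolynomial.C r * (T i * T (-a)) := by ring
    _ = LaurentPolynomial.C r * T (i - a) := by rw [← T_add, sub_eq_add_neg]

end Groth.Agent.Helper19.LaurentUnits
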