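import Mathlib
import Groth.Agent.Lib.Helper19.LaurentUnits

/-!
# The only group structure on the punctured line with unit `T = 1` is the multiplicative group
-/

set_option autoImplicit false
universe u
open CategoryTheory MonoidalCategory CartesianMonoidalCategory MonObj GrpObj AlgebraicGeometry
  CategoryTheory.Limits

namespace Groth.Agent.Helper19.GmUnique

open LaurentPolynomial Groth.Agent.Helper19.LaurentUnits

variable (k : Type u) [Field k]

/-- `k[T, T⁻¹]` as an object of `CommRingCat`. -/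
noncomputable abbrev AA : CommRingCat.{u} := CommRingCat.of (LaurentPolynomial k)

/-- `k[T, T⁻¹][Y, Y⁻¹]` as an object of `CommRingCat`. -/
noncomputable abbrev LL : CommRingCat.{u} := CommRingCat.of (LaurentPolynomial (LaurentPolynomial k))

/-- the structure map `k ⟶ k[T, T⁻¹]`. -/
noncomputable abbrev algA : CommRingCat.of k ⟶ AA k :=
  CommRingCat.ofHom (algebraMap k (LaurentPolynomial k))

variable {k}

/-- the `T`-coordinate of a morphism to `Spec k[T, T⁻¹]`. -/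
noncomputable def tc {X : Scheme.{u}} (f : X ⟶ Spec (AA k)) : Γ(X, ⊤) :=
  f.appTop.hom ((Scheme.ΓSpecIso (AA k)).inv.hom (T 1))

/-- the ring map `k[T, T⁻¹] ⟶ Γ(X, ⊤)` of a morphism to `Spec k[T, T⁻¹]`. -/
noncomputable def coordHom {X : Scheme.{u}} (f : X ⟶ Spec (AA k)) : AA k ⟶ Γ(X, ⊤) :=
  (Scheme.ΓSpecIso (AA k)).inv ≫ f.appTop

lemma coordHom_T {X : Scheme.{u}} (f : X ⟶ Spec (AA k)) : (coordHom f).hom (T 1) = tc f := rfl

lemma tc_comp {X Y : Scheme.{u}} (φ : Y ⟶ X) (f : X ⟶ Spec (AA k)) :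
    tc (φ ≫ f) = φ.appTop.hom (tc f) := rfl

lemma algA_comp_coordHom {X : Scheme.{u}} (f : X ⟶ Spec (AA k)) :
    algA k ≫ coordHom f =
      (Scheme.ΓSpecIso (CommRingCat.of k)).inv ≫ (f ≫ Spec.map (algA k)).appTop := by
  rw [coordHom, Scheme.Hom.comp_appTop, Scheme.ΓSpecIso_inv_naturality_assoc]

/-- morphisms to `Spec k[T, T⁻¹]` over `k` are determined by their `T`-coordinate. -/
lemma ext_of_tc {X : Scheme.{u}} {f₁ f₂ : X ⟶ Spec (AA k)}
    (h₁ : f₁ ≫ Spec.map (algA k) = f₂ ≫ Spec.map (algA k)) (h₂ : tc f₁ = tc f₂) : f₁ = f₂ := by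
  apply ext_to_Spec
  change coordHom f₁ = coordHom f₂
  ext1
  apply ringHom_ext'
  · intro a
    have h := algA_comp_coordHom f₁
    rw [h₁, ← algA_comp_coordHom f₂] at h
    exact congr_arg (fun φ => φ.hom a) h
  · exact h₂

lemma isUnit_tc {X : Scheme.{u}} (f : X ⟶ Spec (AA k)) : IsUnit (tc f) :=
  (isUnit_T (R := k) 1).map (coordHom f).hom

/-- `T`-coordinate of `Spec.map ρ`. -/
lemma tc_specMap {B : CommRingCat.{u}} (ρ : AA k ⟶ B) :
    tc (Spec.map ρ) = (Scheme.ΓSpecIso B).inv.hom (ρ.hom (T 1)) := by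
  have := Scheme.ΓSpecIso_inv_naturality ρ
  exact (congr_arg (fun φ => φ.hom (T 1)) this).symm

/-- the morphism to `Spec B` attached to a ring map `B ⟶ Γ(X, ⊤)`. -/
noncomputable def toSpecOf {X : Scheme.{u}} {B : CommRingCat.{u}} (ρ : B ⟶ Γ(X, ⊤)) :
    X ⟶ Spec B := X.toSpecΓ ≫ Spec.map ρ

lemma ΓSpecIso_inv_toSpecOf_appTop {X : Scheme.{u}} {B : CommRingCat.{u}} (ρ : B ⟶ Γ(X, ⊤)) :
    (Scheme.ΓSpecIso B).inv ≫ (toSpecOf ρ).appTop = ρ := by
  rw [toSpecOf, Scheme.Hom.comp_appTop, Scheme.toSpecΓ_appTop,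
    ← Scheme.ΓSpecIso_inv_naturality_assoc, Iso.inv_hom_id, Category.comp_id]

lemma toSpecOf_eq {X : Scheme.{u}} {B : CommRingCat.{u}} (f : X ⟶ Spec B) :
    f = toSpecOf ((Scheme.ΓSpecIso B).inv ≫ f.appTop) := by
  rw [toSpecOf, Spec.map_comp, ← Scheme.toSpecΓ_naturality_assoc, toSpecΓ_SpecMap_ΓSpecIso_inv,
    Category.comp_id]

section Group

variable {G : Over (Spec (CommRingCat.of k))} (e : G.left ≅ Spec (AA k))

/-- the `T`-coordinate of a point of `G`. -/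
noncomputable def ct {S : Over (Spec (CommRingCat.of k))} (f : S ⟶ G) : Γ(S.left, ⊤) :=
  tc (f.left ≫ e.hom)

lemma ct_comp {S S' : Over (Spec (CommRingCat.of k))} (φ : S' ⟶ S) (f : S ⟶ G) :
    ct e (φ ≫ f) = φ.left.appTop.hom (ct e f) := rfl

lemma isUnit_ct {S : Over (Spec (CommRingCat.of k))} (f : S ⟶ G) : IsUnit (ct e f) :=
  isUnit_tc _

variable (he : e.hom ≫ Spec.map (algA k) = G.hom)

include he in
lemma ext_ct {S : Over (Spec (CommRingCat.of k))} {f₁ f₂ : S ⟶ G} (h : ct e f₁ = ct e f₂) :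
    f₁ = f₂ := by
  apply Over.OverMorphism.ext
  rw [← cancel_mono e.hom]
  apply ext_of_tc _ h
  rw [Category.assoc, Category.assoc, he, Over.w f₁, Over.w f₂]

/-- the `B`-point of `G` attached to a `k`-algebra map `k[T, T⁻¹] ⟶ B`. -/
noncomputable def ptB {B : CommRingCat.{u}} (sB : CommRingCat.of k ⟶ B) (ρ : AA k ⟶ B)
    (hρ : algA k ≫ ρ = sB) : Over.mk (Spec.map sB) ⟶ G :=
  Over.homMk (Spec.map ρ ≫ e.inv) (by
    rw [← he]
    simp [← Spec.map_comp, hρ])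

lemma ct_ptB {B : CommRingCat.{u}} (sB : CommRingCat.of k ⟶ B) (ρ : AA k ⟶ B)
    (hρ : algA k ≫ ρ = sB) :
    ct e (ptB e he sB ρ hρ) = (Scheme.ΓSpecIso B).inv.hom (ρ.hom (T 1)) := by
  have h1 : (ptB e he sB ρ hρ).left ≫ e.hom = Spec.map ρ := by
    simp [ptB]
  rw [ct, ← tc_specMap]
  exact congr_arg tc h1

/-- the morphism from `S` to `Spec B` over `k` attached to a `k`-algebra map `B ⟶ Γ(S, ⊤)`. -/
noncomputable def toS₀ {B : CommRingCat.{u}} (sB : CommRingCat.of k ⟶ B)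
    (S : Over (Spec (CommRingCat.of k))) (ρ₂ : B ⟶ Γ(S.left, ⊤))
    (hρ₂ : sB ≫ ρ₂ = (Scheme.ΓSpecIso (CommRingCat.of k)).inv ≫ S.hom.appTop) :
    S ⟶ Over.mk (Spec.map sB) :=
  Over.homMk (toSpecOf ρ₂) (by
    show toSpecOf ρ₂ ≫ Spec.map sB = S.hom
    rw [toSpecOf, Category.assoc, ← Spec.map_comp, hρ₂]
    exact (toSpecOf_eq S.hom).symm)

/-- the coordinate of a `B`-point, as an element of `B`. -/
noncomputable def co {B : CommRingCat.{u}} {sB : CommRingCat.of k ⟶ B}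
    (x : Over.mk (Spec.map sB) ⟶ G) : B :=
  (Scheme.ΓSpecIso B).hom.hom (ct e x)

lemma ct_eq_co {B : CommRingCat.{u}} {sB : CommRingCat.of k ⟶ B}
    (x : Over.mk (Spec.map sB) ⟶ G) :
    ct e x = (Scheme.ΓSpecIso B).inv.hom (co e x) := by
  have := congr_arg (fun φ => φ.hom (ct e x)) (Scheme.ΓSpecIso B).hom_inv_id
  exact this.symm

lemma ct_toS₀ {B : CommRingCat.{u}} (sB : CommRingCat.of k ⟶ B)
    (S : Over (Spec (CommRingCat.of k))) (ρ₂ : B ⟶ Γ(S.left, ⊤))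
    (hρ₂ : sB ≫ ρ₂ = (Scheme.ΓSpecIso (CommRingCat.of k)).inv ≫ S.hom.appTop)
    (x : Over.mk (Spec.map sB) ⟶ G) :
    ct e (toS₀ sB S ρ₂ hρ₂ ≫ x) = ρ₂.hom (co e x) := by
  rw [ct_comp, ct_eq_co]
  have := congr_arg (fun φ => φ.hom (co e x)) (ΓSpecIso_inv_toSpecOf_appTop ρ₂)
  exact this

lemma co_ptB {B : CommRingCat.{u}} (sB : CommRingCat.of k ⟶ B) (ρ : AA k ⟶ B)
    (hρ : algA k ≫ ρ = sB) : co e (ptB e he sB ρ hρ) = ρ.hom (T 1) := by
  rw [co, ct_ptB]
  exact congr_arg (fun φ => φ.hom (ρ.hom (T 1))) (Scheme.ΓSpecIso B).inv_hom_id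

lemma isUnit_co {B : CommRingCat.{u}} {sB : CommRingCat.of k ⟶ B}
    (x : Over.mk (Spec.map sB) ⟶ G) : IsUnit (co e x) :=
  (isUnit_ct e x).map (Scheme.ΓSpecIso B).hom.hom

variable [GrpObj G]

lemma ct_one (hunit : ct e η[G] = 1) (S : Over (Spec (CommRingCat.of k))) :
    ct e (1 : S ⟶ G) = 1 := by
  rw [Hom.one_def, ct_comp, hunit, map_one]

/-- the structure map `k ⟶ k[T, T⁻¹][Y, Y⁻¹]`. -/
noncomputable abbrev sL : CommRingCat.of k ⟶ LL k :=
  algA k ≫ CommRingCat.ofHom (C : LaurentPolynomial k →+* LaurentPolynomial (LaurentPolynomial k))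

/-- the `k`-algebra map `k[T, T⁻¹] ⟶ k[T, T⁻¹][Y, Y⁻¹]`, `T ↦ Y`. -/
noncomputable def yA : AA k ⟶ LL k :=
  CommRingCat.ofHom (eval₂ ((C : LaurentPolynomial k →+* LaurentPolynomial (LaurentPolynomial k)).comp
    (C : k →+* LaurentPolynomial k)) (isUnit_T 1).unit)

lemma yA_T : (yA (k := k)).hom (T 1) = T 1 := by
  simp [yA]

lemma hyA : algA k ≫ yA = sL (k := k) := by
  ext a
  simp [yA]

/-- the universal first point. -/
noncomputable def g₀ : Over.mk (Spec.map (sL (k := k))) ⟶ G :=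
  ptB e he sL (CommRingCat.ofHom C) rfl

/-- the universal second point. -/
noncomputable def h₀ : Over.mk (Spec.map (sL (k := k))) ⟶ G :=
  ptB e he sL yA hyA

/-- the universal product coordinate. -/
noncomputable def W : LaurentPolynomial (LaurentPolynomial k) :=
  co e (g₀ e he * h₀ e he)

lemma ct_mul_of_ρ₂ {S : Over (Spec (CommRingCat.of k))} (g h : S ⟶ G)
    (ρ₂ : LL k ⟶ Γ(S.left, ⊤))
    (hρ₂ : sL ≫ ρ₂ = (Scheme.ΓSpecIso (CommRingCat.of k)).inv ≫ S.hom.appTop)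
    (hg : ρ₂.hom (C (T 1)) = ct e g) (hh : ρ₂.hom (T 1) = ct e h) :
    ct e (g * h) = ρ₂.hom (W e he) := by
  have h1 : toS₀ sL S ρ₂ hρ₂ ≫ g₀ e he = g := by
    apply ext_ct e he
    rw [ct_toS₀, g₀, co_ptB]
    exact hg
  have h2 : toS₀ sL S ρ₂ hρ₂ ≫ h₀ e he = h := by
    apply ext_ct e he
    rw [ct_toS₀, h₀, co_ptB, yA_T]
    exact hh
  rw [← h1, ← h2, ← MonObj.comp_mul, ct_toS₀]
  rfl

omit [GrpObj G] in
include he in
lemma exists_ρ₂ {S : Over (Spec (CommRingCat.of k))} (g h : S ⟶ G) :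
    ∃ (ρ₂ : LL k ⟶ Γ(S.left, ⊤))
      (_ : sL ≫ ρ₂ = (Scheme.ΓSpecIso (CommRingCat.of k)).inv ≫ S.hom.appTop),
      ρ₂.hom (C (T 1)) = ct e g ∧ ρ₂.hom (T 1) = ct e h := by
  refine ⟨CommRingCat.ofHom (eval₂ (coordHom (g.left ≫ e.hom)).hom (isUnit_ct e h).unit), ?_, ?_, ?_⟩
  · have h1 : CommRingCat.ofHom (C : LaurentPolynomial k →+* LaurentPolynomial (LaurentPolynomial k)) ≫
        CommRingCat.ofHom (eval₂ (coordHom (g.left ≫ e.hom)).hom (isUnit_ct e h).unit) =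
        coordHom (g.left ≫ e.hom) := by
      apply CommRingCat.hom_ext
      apply RingHom.ext
      intro a
      simp
    rw [sL, Category.assoc, h1, algA_comp_coordHom, Category.assoc, he, Over.w g]
  · show eval₂ _ _ (C (T 1)) = _
    rw [eval₂_C]
    rfl
  · show eval₂ _ _ (T 1) = _
    rw [eval₂_T, zpow_one]
    rfl

end Group

section Main

lemma unit_T_zpow {R : Type*} [CommRing R] (n : ℤ) :
    (((isUnit_T (R := R) 1).unit ^ n : (LaurentPolynomial R)ˣ) : LaurentPolynomial R) = T n := by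
  have hinv : (((isUnit_T (R := R) 1).unit⁻¹ : (LaurentPolynomial R)ˣ) : LaurentPolynomial R) =
      T (-1) := by
    apply Units.inv_eq_of_mul_eq_one_right
    rw [IsUnit.unit_spec, ← T_add, add_neg_cancel, T_zero]
  induction n using Int.induction_on with
  | zero => rw [zpow_zero, Units.val_one, T_zero]
  | succ n ih => rw [zpow_add_one, Units.val_mul, ih, IsUnit.unit_spec, T_add]
  | pred n ih => rw [zpow_sub_one, Units.val_mul, ih, hinv, sub_eq_add_neg, T_add]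

lemma ΓSpecIso_inv_injective {B : CommRingCat.{u}} {a b : B}
    (h : (Scheme.ΓSpecIso B).inv.hom a = (Scheme.ΓSpecIso B).inv.hom b) : a = b := by
  have h1 := congr_arg (Scheme.ΓSpecIso B).hom.hom h
  have h2 : ∀ c : B, (Scheme.ΓSpecIso B).hom.hom ((Scheme.ΓSpecIso B).inv.hom c) = c := fun c =>
    congr_arg (fun φ => φ.hom c) (Scheme.ΓSpecIso B).inv_hom_id
  rwa [h2, h2] at h1

variable {G : Over (Spec (CommRingCat.of k))} (e : G.left ≅ Spec (AA k))
  (he : e.hom ≫ Spec.map (algA k) = G.hom) [GrpObj G]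

/-- the tautological point of `G` over `Spec k[T,T⁻¹]`. -/
noncomputable def gam : Over.mk (Spec.map (algA k)) ⟶ G :=
  ptB e he (algA k) (𝟙 _) (Category.comp_id _)

omit [GrpObj G] in
lemma ct_gam : ct e (gam e he) = (Scheme.ΓSpecIso (AA k)).inv.hom (T 1) :=
  ct_ptB e he (algA k) (𝟙 _) (Category.comp_id _)

lemma test (ev : LL k ⟶ AA k) (hev : sL ≫ ev = algA k) (g h : Over.mk (Spec.map (algA k)) ⟶ G)
    (hg : (Scheme.ΓSpecIso (AA k)).inv.hom (ev.hom (C (T 1))) = ct e g)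
    (hh : (Scheme.ΓSpecIso (AA k)).inv.hom (ev.hom (T 1)) = ct e h) :
    ct e (g * h) = (Scheme.ΓSpecIso (AA k)).inv.hom (ev.hom (W e he)) := by
  refine ct_mul_of_ρ₂ e he g h (ev ≫ (Scheme.ΓSpecIso (AA k)).inv) ?_ hg hh
  rw [← Category.assoc, hev]
  exact Scheme.ΓSpecIso_inv_naturality (algA k)

/-- `Y ↦ 1`. -/
noncomputable def ev₁ : LL k ⟶ AA k :=
  CommRingCat.ofHom (eval₂ (RingHom.id _) 1)

lemma hev₁ : sL ≫ ev₁ = algA k := by
  apply CommRingCat.hom_ext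
  apply RingHom.ext
  intro a
  simp [ev₁]

/-- `T ↦ 1` on `k[T, T⁻¹]`. -/
noncomputable def εA : LaurentPolynomial k →+* LaurentPolynomial k :=
  eval₂ (C : k →+* LaurentPolynomial k) 1

/-- `T ↦ 1, Y ↦ T`. -/
noncomputable def ev₂ : LL k ⟶ AA k :=
  CommRingCat.ofHom (eval₂ εA (isUnit_T 1).unit)

lemma hev₂ : sL ≫ ev₂ = algA k := by
  apply CommRingCat.hom_ext
  apply RingHom.ext
  intro a
  simp [ev₂, εA]

include he in
theorem W_eq (hunit : ct e η[G] = 1) : W e he = C (T 1) * T 1 := by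
  obtain ⟨a, n, -, hW⟩ := exists_eq_C_mul_T_of_isUnit (isUnit_co e (g₀ e he * h₀ e he))
  change W e he = C a * T n at hW
  -- first test
  have t1 := test e he ev₁ hev₁ (gam e he) 1 (by
      rw [ct_gam]
      congr 1
      simp [ev₁]) (by
      rw [ct_one e hunit]
      have : (ev₁ (k := k)).hom (T 1) = 1 := by simp [ev₁]
      rw [this, map_one])
  rw [_root_.mul_one, ct_gam] at t1
  have ha : a = T 1 := by
    have := ΓSpecIso_inv_injective t1
    rw [hW] at this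
    simpa [ev₁] using this.symm
  subst ha
  -- second test
  have t2 := test e he ev₂ hev₂ 1 (gam e he) (by
      rw [ct_one e hunit]
      have : (ev₂ (k := k)).hom (C (T 1)) = 1 := by simp [ev₂, εA]
      rw [this, map_one]) (by
      rw [ct_gam]
      congr 1
      simp [ev₂])
  rw [_root_.one_mul, ct_gam] at t2
  have hn : n = 1 := by
    have h3 := ΓSpecIso_inv_injective t2
    rw [hW] at h3
    have h4 : (ev₂ (k := k)).hom (C (T 1) * T n) = T n := by
      show eval₂ _ _ _ = _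
      rw [eval₂_C_mul_T, unit_T_zpow]
      simp [εA]
    rw [h4] at h3
    have := congr_arg LaurentPolynomial.degree h3
    rw [degree_T, degree_T] at this
    exact_mod_cast this.symm
  rw [hW, hn]

include he in
/-- the product of two points of `G` has as `T`-coordinate the product of the `T`-coordinates. -/
theorem ct_mul (hunit : ct e η[G] = 1) {S : Over (Spec (CommRingCat.of k))} (g h : S ⟶ G) :
    ct e (g * h) = ct e g * ct e h := by
  obtain ⟨ρ₂, hρ₂, hg, hh⟩ := exists_ρ₂ e he g h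
  rw [ct_mul_of_ρ₂ e he g h ρ₂ hρ₂ hg hh, W_eq e he hunit, map_mul, hg, hh]

end Main

end Groth.Agent.Helper19.GmUnique
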