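import Mathlib
import Groth.Agent.Lib.Helper19.GmUnique
import Groth.Agent.Lib.Helper43.GaGm

/-!
# A group law on the affine line over a field is determined by its unit section
-/

set_option autoImplicit false
universe u
open CategoryTheory MonoidalCategory CartesianMonoidalCategory MonObj GrpObj AlgebraicGeometry
  CategoryTheory.Limits

namespace Groth.Agent.Helper19.GaUnique

open Polynomial
open Groth.Agent.Helper19.GmUnique (toSpecOf ΓSpecIso_inv_toSpecOf_appTop toSpecOf_eq toS₀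
  ΓSpecIso_inv_injective)

variable (k : Type u) [Field k]

/-- `k[X]` as an object of `CommRingCat`. -/
noncomputable abbrev PA : CommRingCat.{u} := CommRingCat.of (Polynomial k)

/-- `k[X][Y]` as an object of `CommRingCat`. -/
noncomputable abbrev PL : CommRingCat.{u} := CommRingCat.of (Polynomial (Polynomial k))

/-- the structure map `k ⟶ k[X]`. -/
noncomputable abbrev algP : CommRingCat.of k ⟶ PA k :=
  CommRingCat.ofHom (C : k →+* Polynomial k)

variable {k}

/-- the `X`-coordinate of a morphism to `Spec k[X]`. -/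
noncomputable def tc {Z : Scheme.{u}} (f : Z ⟶ Spec (PA k)) : Γ(Z, ⊤) :=
  f.appTop.hom ((Scheme.ΓSpecIso (PA k)).inv.hom X)

/-- the ring map `k[X] ⟶ Γ(Z, ⊤)` of a morphism to `Spec k[X]`. -/
noncomputable def coordHom {Z : Scheme.{u}} (f : Z ⟶ Spec (PA k)) : PA k ⟶ Γ(Z, ⊤) :=
  (Scheme.ΓSpecIso (PA k)).inv ≫ f.appTop

lemma coordHom_X {Z : Scheme.{u}} (f : Z ⟶ Spec (PA k)) : (coordHom f).hom X = tc f := rfl

lemma tc_comp {Z Y : Scheme.{u}} (φ : Y ⟶ Z) (f : Z ⟶ Spec (PA k)) :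
    tc (φ ≫ f) = φ.appTop.hom (tc f) := rfl

lemma algP_comp_coordHom {Z : Scheme.{u}} (f : Z ⟶ Spec (PA k)) :
    algP k ≫ coordHom f =
      (Scheme.ΓSpecIso (CommRingCat.of k)).inv ≫ (f ≫ Spec.map (algP k)).appTop := by
  rw [coordHom, Scheme.Hom.comp_appTop, Scheme.ΓSpecIso_inv_naturality_assoc]

/-- morphisms to `Spec k[X]` over `k` are determined by their `X`-coordinate. -/
lemma ext_of_tc {Z : Scheme.{u}} {f₁ f₂ : Z ⟶ Spec (PA k)}
    (h₁ : f₁ ≫ Spec.map (algP k) = f₂ ≫ Spec.map (algP k)) (h₂ : tc f₁ = tc f₂) : f₁ = f₂ := by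
  apply ext_to_Spec
  change coordHom f₁ = coordHom f₂
  ext1
  apply Polynomial.ringHom_ext
  · intro a
    have h := algP_comp_coordHom f₁
    rw [h₁, ← algP_comp_coordHom f₂] at h
    exact congr_arg (fun φ => φ.hom a) h
  · exact h₂

/-- `X`-coordinate of `Spec.map ρ`. -/
lemma tc_specMap {B : CommRingCat.{u}} (ρ : PA k ⟶ B) :
    tc (Spec.map ρ) = (Scheme.ΓSpecIso B).inv.hom (ρ.hom X) := by
  have := Scheme.ΓSpecIso_inv_naturality ρ
  exact (congr_arg (fun φ => φ.hom X) this).symm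

section Group

variable {G : Over (Spec (CommRingCat.of k))} (e : G.left ≅ Spec (PA k))

/-- the `X`-coordinate of a point of `G`. -/
noncomputable def ct {S : Over (Spec (CommRingCat.of k))} (f : S ⟶ G) : Γ(S.left, ⊤) :=
  tc (f.left ≫ e.hom)

lemma ct_comp {S S' : Over (Spec (CommRingCat.of k))} (φ : S' ⟶ S) (f : S ⟶ G) :
    ct e (φ ≫ f) = φ.left.appTop.hom (ct e f) := rfl

variable (he : e.hom ≫ Spec.map (algP k) = G.hom)

include he in
lemma ext_ct {S : Over (Spec (CommRingCat.of k))} {f₁ f₂ : S ⟶ G} (h : ct e f₁ = ct e f₂) :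
    f₁ = f₂ := by
  apply Over.OverMorphism.ext
  rw [← cancel_mono e.hom]
  apply ext_of_tc _ h
  rw [Category.assoc, Category.assoc, he, Over.w f₁, Over.w f₂]

/-- the `B`-point of `G` attached to a `k`-algebra map `k[X] ⟶ B`. -/
noncomputable def ptB {B : CommRingCat.{u}} (sB : CommRingCat.of k ⟶ B) (ρ : PA k ⟶ B)
    (hρ : algP k ≫ ρ = sB) : Over.mk (Spec.map sB) ⟶ G :=
  Over.homMk (Spec.map ρ ≫ e.inv) (by
    rw [← he]
    simp [← Spec.map_comp, hρ])

lemma ct_ptB {B : CommRingCat.{u}} (sB : CommRingCat.of k ⟶ B) (ρ : PA k ⟶ B)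
    (hρ : algP k ≫ ρ = sB) :
    ct e (ptB e he sB ρ hρ) = (Scheme.ΓSpecIso B).inv.hom (ρ.hom X) := by
  have h1 : (ptB e he sB ρ hρ).left ≫ e.hom = Spec.map ρ := by
    simp [ptB]
  rw [ct, ← tc_specMap]
  exact congr_arg tc h1

/-- the coordinate of a `B`-point, as an element of `B`. -/
noncomputable def co {B : CommRingCat.{u}} {sB : CommRingCat.of k ⟶ B}
    (x : Over.mk (Spec.map sB) ⟶ G) : B :=
  (Scheme.ΓSpecIso B).hom.hom (ct e x)

lemma ct_eq_co {B : CommRingCat.{u}} {sB : CommRingCat.of k ⟶ B}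
    (x : Over.mk (Spec.map sB) ⟶ G) :
    ct e x = (Scheme.ΓSpecIso B).inv.hom (co e x) := by
  have := congr_arg (fun φ => φ.hom (ct e x)) (Scheme.ΓSpecIso B).hom_inv_id
  exact this.symm

lemma ct_toS₀ {B : CommRingCat.{u}} (sB : CommRingCat.of k ⟶ B)
    (S : Over (Spec (CommRingCat.of k))) (ρ₂ : B ⟶ Γ(S.left, ⊤))
    (hρ₂ : sB ≫ ρ₂ = (Scheme.ΓSpecIso (CommRingCat.of k)).inv ≫ S.hom.appTop)
    (x : Over.mk (Spec.map sB) ⟶ G) :
    ct e (toS₀ sB S ρ₂ hρ₂ ≫ x) = ρ₂.hom (co e x) := by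
  rw [ct_comp, ct_eq_co]
  have := congr_arg (fun φ => φ.hom (co e x)) (ΓSpecIso_inv_toSpecOf_appTop ρ₂)
  exact this

lemma co_ptB {B : CommRingCat.{u}} (sB : CommRingCat.of k ⟶ B) (ρ : PA k ⟶ B)
    (hρ : algP k ≫ ρ = sB) : co e (ptB e he sB ρ hρ) = ρ.hom X := by
  rw [co, ct_ptB]
  exact congr_arg (fun φ => φ.hom (ρ.hom X)) (Scheme.ΓSpecIso B).inv_hom_id

/-- the structure map `k ⟶ k[X][Y]`. -/
noncomputable abbrev sL : CommRingCat.of k ⟶ PL k :=
  algP k ≫ CommRingCat.ofHom (C : Polynomial k →+* Polynomial (Polynomial k))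

/-- the `k`-algebra map `k[X] ⟶ k[X][Y]`, `X ↦ Y`. -/
noncomputable def yA : PA k ⟶ PL k :=
  CommRingCat.ofHom (Polynomial.mapRingHom (C : k →+* Polynomial k))

lemma yA_X : (yA (k := k)).hom X = X := by
  simp [yA]

lemma hyA : algP k ≫ yA = sL (k := k) := by
  ext a
  simp [yA]

/-- the universal first point. -/
noncomputable def g₀ : Over.mk (Spec.map (sL (k := k))) ⟶ G :=
  ptB e he sL (CommRingCat.ofHom C) rfl

/-- the universal second point. -/
noncomputable def h₀ : Over.mk (Spec.map (sL (k := k))) ⟶ G :=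
  ptB e he sL yA hyA

lemma co_g₀ : co e (g₀ e he) = C X := co_ptB e he _ _ _

lemma co_h₀ : co e (h₀ e he) = X := by
  rw [h₀, co_ptB, yA_X]

variable [GrpObj G]

/-- the universal product coordinate. -/
noncomputable def W : Polynomial (Polynomial k) :=
  co e (g₀ e he * h₀ e he)

lemma ct_mul_of_ρ₂ {S : Over (Spec (CommRingCat.of k))} (g h : S ⟶ G)
    (ρ₂ : PL k ⟶ Γ(S.left, ⊤))
    (hρ₂ : sL ≫ ρ₂ = (Scheme.ΓSpecIso (CommRingCat.of k)).inv ≫ S.hom.appTop)
    (hg : ρ₂.hom (C X) = ct e g) (hh : ρ₂.hom X = ct e h) :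
    ct e (g * h) = ρ₂.hom (W e he) := by
  have h1 : toS₀ sL S ρ₂ hρ₂ ≫ g₀ e he = g := by
    apply ext_ct e he
    rw [ct_toS₀, co_g₀]
    exact hg
  have h2 : toS₀ sL S ρ₂ hρ₂ ≫ h₀ e he = h := by
    apply ext_ct e he
    rw [ct_toS₀, co_h₀]
    exact hh
  rw [← h1, ← h2, ← MonObj.comp_mul, ct_toS₀]
  rfl

omit [GrpObj G] in
include he in
lemma exists_ρ₂ {S : Over (Spec (CommRingCat.of k))} (g h : S ⟶ G) :
    ∃ (ρ₂ : PL k ⟶ Γ(S.left, ⊤))
      (_ : sL ≫ ρ₂ = (Scheme.ΓSpecIso (CommRingCat.of k)).inv ≫ S.hom.appTop),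
      ρ₂.hom (C X) = ct e g ∧ ρ₂.hom X = ct e h := by
  refine ⟨CommRingCat.ofHom (eval₂RingHom (coordHom (g.left ≫ e.hom)).hom (ct e h)), ?_, ?_, ?_⟩
  · have h1 : CommRingCat.ofHom (C : Polynomial k →+* Polynomial (Polynomial k)) ≫
        CommRingCat.ofHom (eval₂RingHom (coordHom (g.left ≫ e.hom)).hom (ct e h)) =
        coordHom (g.left ≫ e.hom) := by
      apply CommRingCat.hom_ext
      apply RingHom.ext
      intro a
      simp
    rw [sL, Category.assoc, h1, algP_comp_coordHom, Category.assoc, he, Over.w g]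
  · show eval₂ _ _ (C X) = _
    rw [eval₂_C]
    rfl
  · show eval₂ _ _ X = _
    rw [eval₂_X]

/-- the product of two `B`-points in coordinates. -/
lemma co_mul {B : CommRingCat.{u}} (sB : CommRingCat.of k ⟶ B)
    (g h : Over.mk (Spec.map sB) ⟶ G) :
    co e (g * h) = eval₂ (eval₂RingHom sB.hom (co e g)) (co e h) (W e he) := by
  have key := ct_mul_of_ρ₂ e he g h
    (CommRingCat.ofHom (eval₂RingHom (eval₂RingHom sB.hom (co e g)) (co e h)) ≫
      (Scheme.ΓSpecIso B).inv) (by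
      have h1 : sL ≫ CommRingCat.ofHom (eval₂RingHom (eval₂RingHom sB.hom (co e g)) (co e h)) =
          sB := by
        apply CommRingCat.hom_ext
        apply RingHom.ext
        intro a
        simp
      rw [← Category.assoc, h1]
      exact Scheme.ΓSpecIso_inv_naturality sB) (by
      rw [ct_eq_co]
      show (Scheme.ΓSpecIso B).inv.hom (eval₂ _ _ (C X)) = _
      rw [eval₂_C]
      show (Scheme.ΓSpecIso B).inv.hom (eval₂ _ _ X) = _
      rw [eval₂_X]) (by
      rw [ct_eq_co]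
      show (Scheme.ΓSpecIso B).inv.hom (eval₂ _ _ X) = _
      rw [eval₂_X])
  rw [ct_eq_co] at key
  exact ΓSpecIso_inv_injective key

/-- coordinate in `k` of a `k`-point of `G`. -/
noncomputable def ua (η₀ : 𝟙_ (Over (Spec (CommRingCat.of k))) ⟶ G) : k :=
  (Scheme.ΓSpecIso (CommRingCat.of k)).hom.hom (ct e η₀)

lemma co_one {B : CommRingCat.{u}} (sB : CommRingCat.of k ⟶ B) :
    co e (1 : Over.mk (Spec.map sB) ⟶ G) = sB.hom (ua e η[G]) := by
  have h0 : ct e η[G] = (Scheme.ΓSpecIso (CommRingCat.of k)).inv.hom (ua e η[G]) :=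
    (congr_arg (fun φ => φ.hom (ct e η[G])) (Scheme.ΓSpecIso (CommRingCat.of k)).hom_inv_id).symm
  have h1 : ct e (1 : Over.mk (Spec.map sB) ⟶ G) =
      (Scheme.ΓSpecIso B).inv.hom (sB.hom (ua e η[G])) := by
    rw [Hom.one_def, ct_comp, h0]
    have hl : (toUnit (Over.mk (Spec.map sB))).left = Spec.map sB := by
      have := Over.w (toUnit (Over.mk (Spec.map sB)))
      exact (Category.comp_id _).symm.trans this
    rw [hl]
    exact (congr_arg (fun φ => φ.hom (ua e η[G])) (Scheme.ΓSpecIso_inv_naturality sB)).symm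
  rw [co, h1]
  exact congr_arg (fun φ => φ.hom (sB.hom (ua e η[G]))) (Scheme.ΓSpecIso B).inv_hom_id

/-- the tautological point of `G` over `Spec k[X]`. -/
noncomputable def gam : Over.mk (Spec.map (algP k)) ⟶ G :=
  ptB e he (algP k) (𝟙 _) (Category.comp_id _)

omit [GrpObj G] in
lemma co_gam : co e (gam e he) = X := co_ptB e he _ _ _

end Group

section Alg

lemma alg_key (F Q : Polynomial (Polynomial k)) (a : k) (h1 : F.comp Q = X)
    (h2 : F.eval (C a) = X)
    (h3 : eval₂ (eval₂RingHom (C : k →+* Polynomial k) (C a)) X F = X) :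
    F = X + C (X - C a) := by
  have hd : F.natDegree * Q.natDegree = 1 := by
    rw [← natDegree_comp, h1, natDegree_X]
  have hF : F.natDegree = 1 := Nat.eq_one_of_mul_eq_one_right hd
  have hQ : Q.natDegree = 1 := Nat.eq_one_of_mul_eq_one_left hd
  have eF := Polynomial.eq_X_add_C_of_natDegree_le_one (le_of_eq hF)
  have eQ := Polynomial.eq_X_add_C_of_natDegree_le_one (le_of_eq hQ)
  generalize F.coeff 1 = f₁ at eF
  generalize F.coeff 0 = f₀ at eF
  generalize Q.coeff 1 = q₁ at eQ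
  generalize Q.coeff 0 = q₀ at eQ
  subst eF eQ
  have hc : (C f₁ * X + C f₀ : Polynomial (Polynomial k)).comp (C q₁ * X + C q₀) =
      C (f₁ * q₁) * X + C (f₁ * q₀ + f₀) := by
    simp only [Polynomial.add_comp, Polynomial.mul_comp, Polynomial.C_comp, Polynomial.X_comp, map_add, map_mul]
    ring
  have h11 : f₁ * q₁ = 1 := by
    have := congr_arg (fun p => p.coeff 1) (hc.symm.trans h1)
    simpa using this
  obtain ⟨c, hc0, hcf⟩ := Polynomial.isUnit_iff.1 (IsUnit.of_mul_eq_one _ h11)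
  subst hcf
  have h2' : C c * C a + f₀ = X := by
    simpa using h2
  have hf₀ : f₀ = X - C c * C a := by rw [← h2']; ring
  subst hf₀
  have h3' : C c * X + (C a - C c * C a) = (X : Polynomial k) := by
    simpa using h3
  have hc1 : c = 1 := by
    have := congr_arg (fun p => p.coeff 1) h3'
    simpa using this
  subst hc1
  simp

end Alg

section Main

variable {G : Over (Spec (CommRingCat.of k))} (e : G.left ≅ Spec (PA k))
  (he : e.hom ≫ Spec.map (algP k) = G.hom) [GrpObj G]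

theorem W_eq : W e he = X + C (X - C (ua e η[G])) := by
  refine alg_key (W e he) (co e ((g₀ e he)⁻¹ * h₀ e he)) (ua e η[G]) ?_ ?_ ?_
  · have h := co_mul e he sL (g₀ e he) ((g₀ e he)⁻¹ * h₀ e he)
    rw [mul_inv_cancel_left, co_h₀, co_g₀] at h
    have hC : eval₂RingHom (sL (k := k)).hom (C X) =
        (C : Polynomial k →+* Polynomial (Polynomial k)) := by
      apply Polynomial.ringHom_ext
      · intro a
        simp
      · simp
    rw [hC] at h
    exact h.symm
  · have h := co_mul e he (algP k) (gam e he) 1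
    rw [_root_.mul_one, co_gam, co_one] at h
    have hC : eval₂RingHom (algP k).hom X = RingHom.id (Polynomial k) := by
      apply Polynomial.ringHom_ext
      · intro a
        simp
      · simp
    rw [hC] at h
    exact h.symm
  · have h := co_mul e he (algP k) 1 (gam e he)
    rw [_root_.one_mul, co_gam, co_one] at h
    exact h.symm

end Main

section Final

/-- a group law on a `k`-scheme isomorphic to the affine line is determined by its unit. -/
theorem mul_eq_of_one_eq {G : Over (Spec (CommRingCat.of k))} (e : G.left ≅ Spec (PA k))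
    (he : e.hom ≫ Spec.map (algP k) = G.hom) (h₁ h₂ : GrpObj G) (h0 : h₁.one = h₂.one) :
    h₁.mul = h₂.mul := by
  have hW : @W k _ G e he h₁ = @W k _ G e he h₂ := by
    rw [@W_eq k _ G e he h₁, @W_eq k _ G e he h₂, h0]
  have key : ∀ (S : Over (Spec (CommRingCat.of k))) (g h : S ⟶ G),
      lift g h ≫ h₁.mul = lift g h ≫ h₂.mul := by
    intro S g h
    apply ext_ct e he
    obtain ⟨ρ₂, hρ₂, hg, hh⟩ := exists_ρ₂ e he g h
    have t1 := @ct_mul_of_ρ₂ k _ G e he h₁ S g h ρ₂ hρ₂ hg hh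
    have t2 := @ct_mul_of_ρ₂ k _ G e he h₂ S g h ρ₂ hρ₂ hg hh
    rw [hW] at t1
    exact t1.trans t2.symm
  have := key (G ⊗ G) (fst G G) (snd G G)
  rwa [lift_fst_snd, Category.id_comp, Category.id_comp] at this

end Final

section GaIso

open Groth.Agent.Lib.Helper43

variable (k)

/-- `𝔾_a` over `Spec k` (the object of the statement). -/
noncomputable abbrev GG : Over (Spec (CommRingCat.of k)) := Red.Ga (Spec (CommRingCat.of k))

/-- `Spec k[X]` over `Spec k`. -/
noncomputable abbrev AO : Over (Spec (CommRingCat.of k)) := Over.mk (Spec.map (algP k))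

lemma exists_t₀ : ∃ t₀ : AO k ⟶ GG k, Red.gaFn t₀ = (Scheme.ΓSpecIso (PA k)).inv.hom X :=
  gaFn_surjective (S := Spec (CommRingCat.of k)) (X := AO k) _

/-- the ring map `k[X] ⟶ Γ(𝔾_a)`. -/
noncomputable def ρG : PA k ⟶ Γ((GG k).left, ⊤) :=
  CommRingCat.ofHom (eval₂RingHom ((Scheme.ΓSpecIso (CommRingCat.of k)).inv ≫ (GG k).hom.appTop).hom
    (Red.gaFn (𝟙 (GG k))))

lemma ρG_X : (ρG k).hom X = Red.gaFn (𝟙 (GG k)) := by
  show eval₂ _ _ X = _
  rw [eval₂_X]

lemma hρG : algP k ≫ ρG k = (Scheme.ΓSpecIso (CommRingCat.of k)).inv ≫ (GG k).hom.appTop := by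
  apply CommRingCat.hom_ext
  apply RingHom.ext
  intro a
  show eval₂ _ _ (C a) = _
  rw [eval₂_C]

/-- the morphism `𝔾_a ⟶ Spec k[X]` over `k`. -/
noncomputable def backO : GG k ⟶ AO k := toS₀ (algP k) (GG k) (ρG k) (hρG k)

lemma backO_left : (backO k).left = toSpecOf (ρG k) := rfl

lemma tc_backO : tc (backO k).left = Red.gaFn (𝟙 (GG k)) := by
  rw [backO_left, ← ρG_X]
  exact congr_arg (fun φ => φ.hom X) (ΓSpecIso_inv_toSpecOf_appTop (ρG k))

theorem exists_iso : ∃ (e : (GG k).left ≅ Spec (PA k)), e.hom ≫ Spec.map (algP k) = (GG k).hom := by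
  obtain ⟨t₀, ht₀⟩ := exists_t₀ k
  have h1 : backO k ≫ t₀ = 𝟙 (GG k) := by
    apply gaFn_injective
    rw [gaFn_comp, ht₀]
    exact tc_backO k
  have h2 : t₀ ≫ backO k = 𝟙 (AO k) := by
    apply Over.OverMorphism.ext
    apply ext_of_tc
    · have := Over.w (t₀ ≫ backO k)
      refine Eq.trans this ?_
      exact (Category.id_comp _).symm
    · rw [Over.comp_left, tc_comp, tc_backO, ← gaFn_comp, Category.comp_id, ht₀]
      show _ = Scheme.Hom.appTop (𝟙 _) _
      simp
  refine ⟨⟨(backO k).left, t₀.left, ?_, ?_⟩, Over.w (backO k)⟩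
  · have := congr_arg (fun f => f.left) h1
    exact this
  · have := congr_arg (fun f => f.left) h2
    exact this

end GaIso

end Groth.Agent.Helper19.GaUnique
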