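import Mathlib
import Groth.Agent.Lib.Helper18.LSubZorn
import Groth.Agent.Lib.Helper18.LSubFactor
import Groth.Agent.Lib.Helper19.QCohSep
import Groth.Agent.S0485

/-!
# Gabber's lemma: `QCoh X` has a small separating family for every scheme `X` (helper19)

Namespace `Groth.Agent.Helper19.Gabber`.
* `gen W v : LSub F`: the sub-`O_X`-module of `F` generated by a family of local sections
  `v t ∈ Γ(F, W t)`; `v_mem_gen`, `hom_ext_gen`, `exists_epi_gen` (it is a quotient of
  `∐ freeOn (W t)`).
* `IsClosedFam`, `gen_good`, `gen_isQuasicoherent`: if the family is closed under "clearing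
  denominators" then the generated submodule is quasi-coherent.
* `Tree X`, `loc`, `val`, `isClosedFam_tree`, `exists_qcoh_sub`: every section of a quasi-coherent
  module over an affine open `V₀` lies in a quasi-coherent submodule which is a quotient of a fixed
  module `Pobj X V₀` (no cardinal arithmetic: the index set is an inductive type).
* `gProp X`, `gProp_isSeparating`: a small separating family of `QCoh X`.
* `isLeftAdjoint_of_preservesColimits`: special adjoint functor theorem for `QCoh X`.
* `ι_isLeftAdjoint` (the coherator exists), `enoughInjectives`.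
-/

set_option autoImplicit false
universe u
open CategoryTheory CategoryTheory.Limits AlgebraicGeometry TopologicalSpace Opposite

namespace Groth.Agent.Helper19.Gabber

open Groth.Agent.Lib.Helper49 Groth.Agent.Lib.Helper45 Groth.Agent.Lib.Helper18.LSubM
open Groth.Agent.Lib.Helper18

variable {X : Scheme.{u}} {F : X.Modules}

section Gen

variable {τ : Type u} (W : τ → X.Opens) (v : ∀ t, Γ(F, W t))

/-- the span over `D` of the restrictions of those `v t` which are defined on `D` -/
noncomputable def spanAt (D : X.Opens) : Submodule Γ(X, D) Γ(F, D) :=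
  Submodule.span Γ(X, D) {s | ∃ (t : τ) (h : D ≤ W t), s = mres F h (v t)}

theorem mres_mem_spanAt {D D' : X.Opens} (h : D' ≤ D) {s : Γ(F, D)} (hs : s ∈ spanAt W v D) :
    mres F h s ∈ spanAt W v D' := by
  induction hs using Submodule.span_induction with
  | mem y hy =>
    obtain ⟨t, ht, rfl⟩ := hy
    rw [mres_mres]
    exact Submodule.subset_span ⟨t, h.trans ht, rfl⟩
  | zero => rw [map_zero]; exact Submodule.zero_mem _
  | add a b _ _ ha hb => rw [map_add]; exact Submodule.add_mem _ ha hb
  | smul r a _ ha => rw [mres_smul]; exact Submodule.smul_mem _ _ ha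

/-- the sub-`O_X`-module of `F` generated by the local sections `v t` -/
noncomputable def gen : LSub F where
  obj T :=
    { carrier := {s | ∀ x ∈ T, ∃ (D : X.Opens) (hD : D ≤ T), x ∈ D ∧ mres F hD s ∈ spanAt W v D}
      zero_mem' := by
        intro x hx
        exact ⟨T, le_rfl, hx, by rw [map_zero]; exact Submodule.zero_mem _⟩
      add_mem' := by
        intro a b ha hb x hx
        obtain ⟨D₁, h₁, hx₁, hm₁⟩ := ha x hx
        obtain ⟨D₂, h₂, hx₂, hm₂⟩ := hb x hx
        refine ⟨D₁ ⊓ D₂, inf_le_left.trans h₁, ⟨hx₁, hx₂⟩, ?_⟩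
        rw [map_add]
        refine Submodule.add_mem _ ?_ ?_
        · have := mres_mem_spanAt W v (inf_le_left : D₁ ⊓ D₂ ≤ D₁) hm₁
          rwa [mres_mres] at this
        · have := mres_mem_spanAt W v (inf_le_right : D₁ ⊓ D₂ ≤ D₂) hm₂
          rwa [mres_mres] at this
      smul_mem' := by
        intro c a ha x hx
        obtain ⟨D, hD, hxD, hm⟩ := ha x hx
        refine ⟨D, hD, hxD, ?_⟩
        rw [mres_smul]
        exact Submodule.smul_mem _ _ hm }
  res_mem := by
    intro U V h s hs x hx
    obtain ⟨D, hD, hxD, hm⟩ := hs x (h hx)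
    refine ⟨D ⊓ V, inf_le_right, ⟨hxD, hx⟩, ?_⟩
    have := mres_mem_spanAt W v (inf_le_left : D ⊓ V ≤ D) hm
    rw [mres_mres] at this
    rw [mres_mres]
    exact this
  isLocal := by
    intro U s H x hx
    obtain ⟨V, hV, hxV, hm⟩ := H x hx
    obtain ⟨D, hD, hxD, hm'⟩ := hm x hxV
    refine ⟨D, hD.trans hV, hxD, ?_⟩
    rw [mres_mres] at hm'
    exact hm'

theorem mem_gen_obj {T : X.Opens} {s : Γ(F, T)} :
    s ∈ (gen W v).obj T ↔
      ∀ x ∈ T, ∃ (D : X.Opens) (hD : D ≤ T), x ∈ D ∧ mres F hD s ∈ spanAt W v D := Iff.rfl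

theorem spanAt_le_gen_obj (D : X.Opens) : spanAt W v D ≤ (gen W v).obj D := by
  intro s hs x hx
  exact ⟨D, le_rfl, hx, by rw [mres_self]; exact hs⟩

theorem v_mem_gen (t : τ) : v t ∈ (gen W v).obj (W t) :=
  spanAt_le_gen_obj W v (W t) (Submodule.subset_span ⟨t, le_rfl, by rw [mres_self]⟩)

/-- closure property of the family (Gabber): every `v t` lies, locally on `W t ⊓ V` for `V` affine,
in the span of the restrictions of the sections over `V` of the generated submodule. -/
def IsClosedFam : Prop :=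
  ∀ (t : τ) (V : X.Opens), IsAffineOpen V → ∀ x ∈ W t ⊓ V,
    ∃ (D : X.Opens) (hDW : D ≤ W t) (hDV : D ≤ V), x ∈ D ∧
      mres F hDW (v t) ∈ spanRes ((gen W v).obj V) hDV

variable {W v}

theorem gen_obj_eq_ext (hcl : IsClosedFam W v) {V : X.Opens} (hV : IsAffineOpen V)
    {T : X.Opens} (hT : T ≤ V) :
    (gen W v).obj T = (LSubM.ext V ((gen W v).obj V)).obj T := by
  apply le_antisymm
  · intro s hs
    rw [LSubM.mem_ext_obj]
    intro x hx
    obtain ⟨D, hD, hxD, hm⟩ := hs x hx.1
    -- predicate on sections over `D`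
    have key : ∀ y ∈ spanAt W v D, ∃ (D' : X.Opens) (hD' : D' ≤ D), x ∈ D' ∧
        mres F hD' y ∈ spanRes ((gen W v).obj V) ((hD'.trans hD).trans hT) := by
      intro y hy
      induction hy using Submodule.span_induction with
      | mem y hy =>
        obtain ⟨t, ht, rfl⟩ := hy
        obtain ⟨D₁, h₁W, h₁V, hx₁, hm₁⟩ := hcl t V hV x ⟨ht hxD, hx.2⟩
        refine ⟨D₁ ⊓ D, inf_le_right, ⟨hx₁, hxD⟩, ?_⟩
        have := mres_mem_spanRes_of_mem_spanRes h₁V (inf_le_left : D₁ ⊓ D ≤ D₁) hm₁
        rw [mres_mres] at this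
        rw [mres_mres]
        exact this
      | zero => exact ⟨D, le_rfl, hxD, by rw [map_zero]; exact Submodule.zero_mem _⟩
      | add a b _ _ ha hb =>
        obtain ⟨D₁, h₁, hx₁, hm₁⟩ := ha
        obtain ⟨D₂, h₂, hx₂, hm₂⟩ := hb
        refine ⟨D₁ ⊓ D₂, inf_le_left.trans h₁, ⟨hx₁, hx₂⟩, ?_⟩
        rw [map_add]
        refine Submodule.add_mem _ ?_ ?_
        · have := mres_mem_spanRes_of_mem_spanRes ((h₁.trans hD).trans hT)
            (inf_le_left : D₁ ⊓ D₂ ≤ D₁) hm₁
          rwa [mres_mres] at this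
        · have := mres_mem_spanRes_of_mem_spanRes ((h₂.trans hD).trans hT)
            (inf_le_right : D₁ ⊓ D₂ ≤ D₂) hm₂
          rwa [mres_mres] at this
      | smul r a _ ha =>
        obtain ⟨D₁, h₁, hx₁, hm₁⟩ := ha
        refine ⟨D₁, h₁, hx₁, ?_⟩
        rw [mres_smul]
        exact Submodule.smul_mem _ _ hm₁
    obtain ⟨D', hD', hxD', hm'⟩ := key _ hm
    refine ⟨D', hD'.trans hD, (hD'.trans hD).trans hT, hxD', ?_⟩
    rw [mres_mres] at hm'
    exact hm'
  · intro s hs
    rw [LSubM.mem_ext_obj] at hs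
    apply (gen W v).isLocal
    intro x hx
    obtain ⟨D, hDT, hDV, hxD, hm⟩ := hs x ⟨hx, hT hx⟩
    refine ⟨D, hDT, hxD, ?_⟩
    have hle : spanRes ((gen W v).obj V) hDV ≤ (gen W v).obj D := (gen W v).spanRes_le hDV
    exact hle hm

theorem gen_good (hcl : IsClosedFam W v) {V : X.Opens} (hV : IsAffineOpen V)
    (hF : IsLocalizingOn F V) : (gen W v).Good V := by
  have hgood : (LSubM.ext V ((gen W v).obj V)).Good V := by
    intro f t ht
    obtain ⟨m, hm⟩ := LSubM.exists_pow_smul_mem_of_mres_mem_ext hV hF _ f t ht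
    exact ⟨m, by rw [LSubM.ext_obj_self hV hF]; exact hm⟩
  exact LSub.Good.of_eq_on (fun T' hT' => gen_obj_eq_ext hcl hV hT') hgood

theorem gen_isQuasicoherent [F.IsQuasicoherent] (hcl : IsClosedFam W v) :
    (gen W v).toModules.IsQuasicoherent :=
  (gen W v).isQuasicoherent_toModules
    (fun T hT => isLocalizingOn_of_isQuasicoherent hT F) {T | IsAffineOpen T} (fun _ h => h)
    (fun x => by
      obtain ⟨T, hT, hxT, -⟩ := Opens.isBasis_iff_nbhd.mp (X.isBasis_affineOpens)
        (show x ∈ (⊤ : X.Opens) from trivial)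
      exact ⟨T, hT, hxT⟩)
    (fun T hT => gen_good hcl hT (isLocalizingOn_of_isQuasicoherent hT F))

variable (W v) in
/-- morphisms out of the generated submodule are determined by the images of the generators -/
theorem hom_ext_gen {N : X.Modules} (α β : (gen W v).toModules ⟶ N)
    (hσ : ∀ t, α.app (W t) ((gen W v).sec (W t) (v t) (v_mem_gen W v t)) =
      β.app (W t) ((gen W v).sec (W t) (v t) (v_mem_gen W v t))) : α = β := by
  let S := gen W v
  ext T s
  refine eq_of_locally_eq N _ _ fun x hx => ?_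
  obtain ⟨D, hD, hxD, hm⟩ := S.ι_app_mem T s x hx
  refine ⟨D, hD, hxD, ?_⟩
  rw [← app_mres, ← app_mres]
  have key : ∀ (y : Γ(F, D)) (hy : y ∈ spanAt W v D),
      α.app D (S.sec D y (spanAt_le_gen_obj W v D hy)) =
        β.app D (S.sec D y (spanAt_le_gen_obj W v D hy)) := by
    intro y hy
    induction hy using Submodule.span_induction with
    | mem y hy =>
      obtain ⟨t, ht, rfl⟩ := hy
      have e : S.sec D (mres F ht (v t)) (spanAt_le_gen_obj W v D
          (Submodule.subset_span ⟨t, ht, rfl⟩)) =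
          mres S.toModules ht (S.sec (W t) (v t) (v_mem_gen W v t)) := rfl
      rw [e, app_mres, app_mres, hσ t]
    | zero =>
      have e : S.sec D 0 (spanAt_le_gen_obj W v D (Submodule.zero_mem _)) = 0 := rfl
      rw [e, map_zero, map_zero]
    | add a b ha hb iha ihb =>
      have e : S.sec D (a + b) (spanAt_le_gen_obj W v D (Submodule.add_mem _ ha hb)) =
          S.sec D a (spanAt_le_gen_obj W v D ha) + S.sec D b (spanAt_le_gen_obj W v D hb) := rfl
      rw [e, map_add, map_add, iha, ihb]
    | smul r a ha iha =>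
      have e : S.sec D (r • a) (spanAt_le_gen_obj W v D (Submodule.smul_mem _ r ha)) =
          r • S.sec D a (spanAt_le_gen_obj W v D ha) := rfl
      rw [e, Scheme.Modules.Hom.app_smul, Scheme.Modules.Hom.app_smul, iha]
  have e : mres S.toModules hD s = S.sec D (mres F hD (S.ι.app T s))
      (spanAt_le_gen_obj W v D hm) := rfl
  rw [e]
  exact key _ hm

variable (W v) in
/-- the generated submodule is a quotient of the coproduct of the free modules on the `W t` -/
theorem exists_epi_gen :
    ∃ π : (∐ fun t => QCohSep.freeOn X.ringCatSheaf (W t)) ⟶ (gen W v).toModules, Epi π := by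
  let S := gen W v
  let σ : ∀ t, QCohSep.freeOn X.ringCatSheaf (W t) ⟶ S.toModules := fun t =>
    (QCohSep.homEquivSec X.ringCatSheaf (W t) S.toModules).symm
      (S.sec (W t) (v t) (v_mem_gen W v t))
  refine ⟨Sigma.desc σ, ⟨fun {N} α β h => hom_ext_gen W v (N := N) α β fun t => ?_⟩⟩
  have h1 : σ t ≫ α = σ t ≫ β := by
    have := congrArg (fun q => Sigma.ι (fun t => QCohSep.freeOn X.ringCatSheaf (W t)) t ≫ q) h
    simpa using this
  have h2 := congrArg (QCohSep.homEquivSec X.ringCatSheaf (W t) N) h1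
  rw [QCohSep.homEquivSec_comp, QCohSep.homEquivSec_comp] at h2
  simp only [σ, Equiv.apply_symm_apply] at h2
  exact h2

end Gen

section Tree

variable (X) in
/-- the index set of Gabber's closure process: iterated choices of an affine open and a function
on it. -/
inductive Tree : Type u
  | root : Tree
  | node : Tree → (V : X.affineOpens) → Γ(X, V.1) → Tree

variable (V₀ : X.affineOpens)

/-- the affine open on which the section attached to a tree lives -/
def loc : Tree X → X.affineOpens
  | .root => V₀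
  | .node _ V _ => V

variable [F.IsQuasicoherent] (m₀ : Γ(F, V₀.1))

theorem exists_val (V : X.affineOpens) (f : Γ(X, V.1)) {U : X.Opens} (s : Γ(F, U))
    (h : X.basicOpen f ≤ U) :
    ∃ (n : ℕ) (s' : Γ(F, V.1)), mres F (X.basicOpen_le f) s' =
      (fres (X.basicOpen_le f) f) ^ n • mres F h s :=
  (isLocalizingOn_of_isQuasicoherent V.2 F).exists_restrict_eq_pow_smul f (mres F h s)

open Classical in
/-- the section attached to a tree -/
noncomputable def val : (t : Tree X) → Γ(F, (loc V₀ t).1)
  | .root => m₀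
  | .node p V f =>
    if h : X.basicOpen f ≤ (loc V₀ p).1 then (exists_val V f (val p) h).choose_spec.choose else 0

theorem val_node_spec (p : Tree X) (V : X.affineOpens) (f : Γ(X, V.1))
    (h : X.basicOpen f ≤ (loc V₀ p).1) :
    ∃ n : ℕ, mres F (X.basicOpen_le f) (val V₀ m₀ (.node p V f)) =
      (fres (X.basicOpen_le f) f) ^ n • mres F h (val V₀ m₀ p) := by
  refine ⟨(exists_val V f (val V₀ m₀ p) h).choose, ?_⟩
  have := (exists_val V f (val V₀ m₀ p) h).choose_spec.choose_spec
  rw [val, dif_pos h]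
  exact this

theorem isClosedFam_tree : IsClosedFam (fun t => (loc V₀ t).1) (val V₀ m₀) := by
  intro t V hV x hx
  obtain ⟨f, hfle, hxf⟩ := hV.exists_basicOpen_le (V := (loc V₀ t).1 ⊓ V) ⟨x, hx⟩ hx.2
  have hDW : X.basicOpen f ≤ (loc V₀ t).1 := hfle.trans inf_le_left
  refine ⟨X.basicOpen f, hDW, X.basicOpen_le f, hxf, ?_⟩
  obtain ⟨n, hn⟩ := val_node_spec V₀ m₀ t ⟨V, hV⟩ f hDW
  have hmem : val V₀ m₀ (.node t ⟨V, hV⟩ f) ∈
      (gen (fun t => (loc V₀ t).1) (val V₀ m₀)).obj V :=
    v_mem_gen (fun t => (loc V₀ t).1) (val V₀ m₀) (.node t ⟨V, hV⟩ f)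
  have h1 := mres_mem_spanRes (X.basicOpen_le f) hmem
  rw [hn] at h1
  exact (Submodule.smul_mem_iff_of_isUnit _ ((isUnit_fres_basicOpen f).pow n)).mp h1

/-- **Gabber's lemma**, in the form used here: every section of a quasi-coherent module over an
affine open lies in a quasi-coherent submodule which is a quotient of a module depending only
on the affine open. -/
theorem exists_qcoh_sub :
    ∃ S : LSub F, S.toModules.IsQuasicoherent ∧ m₀ ∈ S.obj V₀.1 ∧
      ∃ π : (∐ fun t : Tree X => QCohSep.freeOn X.ringCatSheaf (loc V₀ t).1) ⟶ S.toModules,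
        Epi π :=
  ⟨gen (fun t => (loc V₀ t).1) (val V₀ m₀), gen_isQuasicoherent (isClosedFam_tree V₀ m₀),
    v_mem_gen (fun t => (loc V₀ t).1) (val V₀ m₀) .root,
    exists_epi_gen (fun t => (loc V₀ t).1) (val V₀ m₀)⟩

end Tree

section Sep

/-- an epimorphism in an abelian category is the cokernel of its kernel subobject -/
noncomputable def cokernelKernelSubobjectIso {A : Type*} [Category A] [Abelian A] {P M : A}
    (π : P ⟶ M) [Epi π] : cokernel (kernelSubobject π).arrow ≅ M :=
  IsColimit.coconePointUniqueUpToIso (cokernelIsCokernel (kernelSubobject π).arrow)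
    (Abelian.epiIsCokernelOfKernel _
      (IsLimit.ofIsoLimit (kernelIsKernel π)
        (Fork.ext (kernelSubobjectIso π).symm (by simp)) :
        IsLimit (KernelFork.ofι (kernelSubobject π).arrow (kernelSubobject_arrow_comp π))))

variable (X)

/-- the module of which all the members of the separating family are quotients -/
noncomputable def Pobj (V₀ : X.affineOpens) : SheafOfModules.{u} X.ringCatSheaf :=
  ∐ fun t : Tree X => QCohSep.freeOn X.ringCatSheaf (loc V₀ t).1

/-- index type of the separating family of `QCoh X` -/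
def GIdx : Type (u + 1) :=
  {t : Σ V₀ : X.affineOpens, Subobject (Pobj X V₀) // (QCohCat.isQCoh X) (cokernel t.2.arrow)}

instance : Small.{u} (GIdx X) := by
  unfold GIdx
  infer_instance

/-- the members of the separating family -/
noncomputable def gObj (t : GIdx X) : QCohCat.QCoh X := ⟨cokernel t.1.2.arrow, t.2⟩

/-- the separating family of `QCoh X` for an arbitrary scheme `X` -/
def gProp : ObjectProperty (QCohCat.QCoh X) := .ofObj (gObj X)

instance : ObjectProperty.Small.{u} (gProp X) := by
  unfold gProp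
  infer_instance

theorem gProp_isSeparating : (gProp X).IsSeparating := by
  intro M N f₁ f₂ h
  obtain ⟨Mo, hMo⟩ := M
  have : Mo.IsQuasicoherent := hMo
  apply (QCohCat.isQCoh X).hom_ext
  -- agreement on sections over affine opens
  have key : ∀ (V₀ : X.affineOpens) (m₀ : Γ(Mo, V₀.1)),
      f₁.hom.app V₀.1 m₀ = f₂.hom.app V₀.1 m₀ := by
    intro V₀ m₀
    obtain ⟨S, hS, hm₀, π, hπ⟩ := exists_qcoh_sub V₀ m₀
    let e := cokernelKernelSubobjectIso π
    have hq : (QCohCat.isQCoh X) (cokernel (kernelSubobject π).arrow) :=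
      isQuasicoherent_of_iso e.symm hS
    let t : GIdx X := ⟨⟨V₀, kernelSubobject π⟩, hq⟩
    have hmem : gProp X (gObj X t) := ObjectProperty.ofObj.mk t
    let g : gObj X t ⟶ ⟨Mo, hMo⟩ := (QCohCat.isQCoh X).homMk (e.hom ≫ S.ι)
    have h1 := h (gObj X t) hmem g
    have h2 : (e.hom ≫ S.ι) ≫ f₁.hom = (e.hom ≫ S.ι) ≫ f₂.hom := congrArg (fun q => q.hom) h1
    rw [Category.assoc, Category.assoc] at h2
    have h3 : S.ι ≫ f₁.hom = S.ι ≫ f₂.hom := (cancel_epi e.hom).mp h2
    have h4 := congrArg (fun q => q.app V₀.1 (S.sec V₀.1 m₀ hm₀)) h3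
    exact h4
  ext T s
  refine eq_of_locally_eq _ _ _ fun x hx => ?_
  obtain ⟨V, hV, hxV, hVT⟩ := Opens.isBasis_iff_nbhd.mp (X.isBasis_affineOpens) hx
  refine ⟨V, hVT, hxV, ?_⟩
  rw [← app_mres, ← app_mres]
  exact key ⟨V, hV⟩ _

/-- the special adjoint functor theorem for `QCoh X`, `X` an arbitrary scheme -/
theorem isLeftAdjoint_of_preservesColimits {A : Type*} [Category.{u} A]
    (G : QCohCat.QCoh X ⥤ A) [PreservesColimitsOfSize.{u, u} G] : G.IsLeftAdjoint := by
  have hsep := gProp_isSeparating X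
  have hwp : WellPowered.{u} (QCohCat.QCoh X) := wellPowered_of_isDetecting hsep.isDetecting
  have hwp' : WellPowered.{u} (QCohCat.QCoh X)ᵒᵖ := inferInstance
  exact isLeftAdjoint_of_preservesColimits_of_isSeparating hsep G

instance : PreservesColimitsOfSize.{u, u} (QCohCat.isQCoh X).ι where
  preservesColimitsOfShape := inferInstance

/-- the inclusion `QCoh X ⥤ X.Modules` has a right adjoint (the coherator) -/
theorem ι_isLeftAdjoint : (QCohCat.isQCoh X).ι.IsLeftAdjoint :=
  isLeftAdjoint_of_preservesColimits X _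

/-- `QCoh X` has enough injectives -/
theorem enoughInjectives : EnoughInjectives (QCohCat.QCoh X) := by
  have hL := ι_isLeftAdjoint X
  have adj := Adjunction.ofIsLeftAdjoint (QCohCat.isQCoh X).ι
  have h1 : (QCohCat.isQCoh X).ι.PreservesMonomorphisms :=
    (QCohCat.isQCoh X).preservesMonomorphisms_ι_of_isNormalEpiCategory
  have h2 : EnoughInjectives X.Modules :=
    Groth.Agent.S0485.result (Opens.grothendieckTopology X) X.ringCatSheaf
  exact EnoughInjectives.of_adjunction adj

end Sep

end Groth.Agent.Helper19.Gabber
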