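import Mathlib

/-!
# Generators of a module from local generators on an open cover (pure algebra part, helper19)

Namespace `Groth.Agent.Helper19.GenCover`.
-/

set_option autoImplicit false
universe u

open PrimeSpectrum

namespace Groth.Agent.Helper19.GenCover

variable {R : Type u} [CommRing R] {M : Type u} [AddCommGroup M] [Module R M]

/-- `N` generates `M` locally at the prime `p`. -/
def LocGen (N : Submodule R M) (p : PrimeSpectrum R) : Prop :=
  ∀ m : M, ∃ r : R, r ∉ p.asIdeal ∧ r • m ∈ N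

theorem LocGen.mono {N N' : Submodule R M} (h : N ≤ N') {p : PrimeSpectrum R} (hp : LocGen N p) :
    LocGen N' p := fun m => by
  obtain ⟨r, hr, hm⟩ := hp m
  exact ⟨r, hr, h hm⟩

/-- uniform multiplier for a finite module -/
theorem LocGen.exists_uniform [Module.Finite R M] {N : Submodule R M} {p : PrimeSpectrum R}
    (hp : LocGen N p) : ∃ r : R, r ∉ p.asIdeal ∧ ∀ m : M, r • m ∈ N := by
  classical
  obtain ⟨s, hs⟩ := (Module.Finite.fg_top : (⊤ : Submodule R M).FG)
  choose r hr hrm using hp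
  refine ⟨∏ q ∈ s, r q, ?_, ?_⟩
  · intro h
    obtain ⟨q, _, hq⟩ := (Ideal.IsPrime.prod_mem_iff (hp := p.isPrime)).1 h
    exact hr q hq
  · have key : (⊤ : Submodule R M) ≤ N.comap ((∏ q ∈ s, r q) • (LinearMap.id : M →ₗ[R] M)) := by
      rw [← hs, Submodule.span_le]
      intro q hq
      rw [SetLike.mem_coe, Submodule.mem_comap, LinearMap.smul_apply, LinearMap.id_apply]
      obtain ⟨c, hc⟩ := Finset.dvd_prod_of_mem r hq
      rw [hc, mul_comm, mul_smul]
      exact N.smul_mem c (hrm q)
    intro m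
    have := key (Submodule.mem_top : m ∈ ⊤)
    rwa [Submodule.mem_comap, LinearMap.smul_apply, LinearMap.id_apply] at this

theorem isOpen_setOf_locGen [Module.Finite R M] (N : Submodule R M) :
    IsOpen {p : PrimeSpectrum R | LocGen N p} := by
  rw [isOpen_iff_forall_mem_open]
  intro p hp
  obtain ⟨r, hr, hrm⟩ := LocGen.exists_uniform hp
  refine ⟨(basicOpen r : Set (PrimeSpectrum R)), ?_, (basicOpen r).isOpen, hr⟩
  intro q hq m
  exact ⟨r, hq, hrm m⟩

theorem eq_top_of_forall_locGen (N : Submodule R M) (h : ∀ p, LocGen N p) : N = ⊤ := by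
  rw [eq_top_iff]
  intro m _
  by_contra hm
  let J : Ideal R := N.colon (Submodule.span R {m})
  have hJ : J ≠ ⊤ := by
    intro hJ
    have h1 : (1 : R) ∈ J := by rw [hJ]; exact Submodule.mem_top
    rw [Submodule.mem_colon] at h1
    have := h1 m (Submodule.mem_span_singleton_self m)
    rw [one_smul] at this
    exact hm this
  obtain ⟨𝔪, hmax, hle⟩ := Ideal.exists_le_maximal J hJ
  obtain ⟨r, hr, hrm⟩ := h ⟨𝔪, hmax.isPrime⟩ m
  apply hr
  apply hle
  rw [Submodule.mem_colon]
  intro x hx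
  obtain ⟨c, rfl⟩ := Submodule.mem_span_singleton.1 hx
  rw [smul_comm]
  exact N.smul_mem c hrm

/-- Cayley–Hamilton form of Nakayama, local at a prime. -/
theorem exists_notMem_smul_eq_zero {Q : Type u} [AddCommGroup Q] [Module R Q] [Module.Finite R Q]
    (p : PrimeSpectrum R) (w : R) (hw : w ∉ p.asIdeal)
    (h : ∀ q : Q, w • q ∈ p.asIdeal • (⊤ : Submodule R Q)) :
    ∃ r : R, r ∉ p.asIdeal ∧ ∀ q : Q, r • q = 0 := by
  classical
  let f : Module.End R Q := algebraMap R (Module.End R Q) w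
  have hf : LinearMap.range f ≤ p.asIdeal • (⊤ : Submodule R Q) := by
    rintro _ ⟨q, rfl⟩
    exact h q
  obtain ⟨P, hmonic, -, hcoeff, hP⟩ :=
    LinearMap.exists_monic_and_natDegree_eq_and_coeff_mem_pow_and_aeval_eq_zero R f p.asIdeal hf
  refine ⟨P.eval w, ?_, ?_⟩
  · rw [Polynomial.eval_eq_sum_range, Finset.sum_range_succ]
    intro hmem
    have hlow : ∑ i ∈ Finset.range P.natDegree, P.coeff i * w ^ i ∈ p.asIdeal := by
      apply Ideal.sum_mem
      intro i hi
      apply Ideal.mul_mem_right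
      have h1 := hcoeff i
      have h2 : 1 ≤ P.natDegree - i := by
        have := Finset.mem_range.1 hi
        omega
      exact Ideal.pow_le_self (Nat.one_le_iff_ne_zero.1 h2) h1
    have h3 : P.coeff P.natDegree * w ^ P.natDegree ∈ p.asIdeal :=
      (Ideal.add_mem_iff_right _ hlow).1 hmem
    rw [Polynomial.Monic.coeff_natDegree hmonic, one_mul] at h3
    exact hw (p.isPrime.mem_of_pow_mem _ h3)
  · intro q
    have h1 : Polynomial.aeval f P = algebraMap R (Module.End R Q) (P.eval w) :=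
      Polynomial.aeval_algebraMap_apply_eq_algebraMap_eval w P
    rw [hP] at h1
    have h2 := congrArg (fun g : Module.End R Q => g q) h1
    simp only [LinearMap.zero_apply, Module.algebraMap_end_apply] at h2
    exact h2.symm

variable (M) in
/-- elements which lie in `p • M` after multiplication by an element outside `p` -/
def Sat (p : PrimeSpectrum R) : Submodule R M where
  carrier := {x | ∃ v : R, v ∉ p.asIdeal ∧ v • x ∈ p.asIdeal • (⊤ : Submodule R M)}
  add_mem' := by
    rintro x y ⟨v, hv, hx⟩ ⟨v', hv', hy⟩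
    refine ⟨v * v', fun h => (p.isPrime.mem_or_mem h).elim hv hv', ?_⟩
    rw [smul_add]
    apply Submodule.add_mem
    · rw [mul_comm, mul_smul]
      exact Submodule.smul_mem _ _ hx
    · rw [mul_smul]
      exact Submodule.smul_mem _ _ hy
  zero_mem' := ⟨1, fun h => p.isPrime.ne_top ((Ideal.eq_top_iff_one _).2 h), by
    rw [smul_zero]; exact Submodule.zero_mem _⟩
  smul_mem' := by
    rintro c x ⟨v, hv, hx⟩
    refine ⟨v, hv, ?_⟩
    rw [smul_comm]
    exact Submodule.smul_mem _ _ hx

theorem mem_sat_of_mem_smul_top (p : PrimeSpectrum R) {x : M}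
    (hx : x ∈ p.asIdeal • (⊤ : Submodule R M)) : x ∈ Sat M p :=
  ⟨1, fun h => p.isPrime.ne_top ((Ideal.eq_top_iff_one _).2 h), by rwa [one_smul]⟩

theorem smul_mem_sat_of_mem (p : PrimeSpectrum R) {c : R} (hc : c ∈ p.asIdeal) (x : M) :
    c • x ∈ Sat M p :=
  mem_sat_of_mem_smul_top p (Submodule.smul_mem_smul hc Submodule.mem_top)

theorem mem_sat_of_smul_eq_zero (p : PrimeSpectrum R) {v : R} (hv : v ∉ p.asIdeal) {x : M}
    (hx : v • x = 0) : x ∈ Sat M p :=
  ⟨v, hv, by rw [hx]; exact Submodule.zero_mem _⟩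

/-- Nakayama: if `u • t j ≡ a j` modulo `Sat p` with `u ∉ p` and the `a j` generate locally at `p`,
so do the `t j`. -/
theorem locGen_of_sat [Module.Finite R M] (p : PrimeSpectrum R) {n : ℕ} (a t : Fin n → M) (u : R)
    (hsat : ∀ j, u • t j - a j ∈ Sat M p)
    (ha : LocGen (Submodule.span R (Set.range a)) p) :
    LocGen (Submodule.span R (Set.range t)) p := by
  classical
  set N := Submodule.span R (Set.range t) with hN
  -- each `a j` lies in `N + p M` after multiplication
  have h1 : ∀ j, ∃ v : R, v ∉ p.asIdeal ∧ v • a j ∈ N ⊔ p.asIdeal • (⊤ : Submodule R M) := by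
    intro j
    obtain ⟨v, hv, hvm⟩ := hsat j
    refine ⟨v, hv, ?_⟩
    have : v • a j = v • (u • t j) - v • (u • t j - a j) := by
      rw [smul_sub]; abel
    rw [this]
    apply Submodule.sub_mem
    · apply Submodule.mem_sup_left
      exact N.smul_mem _ (N.smul_mem _ (Submodule.subset_span ⟨j, rfl⟩))
    · exact Submodule.mem_sup_right hvm
  choose v hv hva using h1
  let V : R := ∏ j, v j
  have hV : V ∉ p.asIdeal := by
    intro h
    obtain ⟨j, _, hj⟩ := (Ideal.IsPrime.prod_mem_iff (hp := p.isPrime)).1 h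
    exact hv j hj
  have h2 : ∀ x ∈ Submodule.span R (Set.range a),
      V • x ∈ N ⊔ p.asIdeal • (⊤ : Submodule R M) := by
    intro x hx
    induction hx using Submodule.span_induction with
    | mem x hx =>
      obtain ⟨j, rfl⟩ := hx
      obtain ⟨c, hc⟩ := Finset.dvd_prod_of_mem v (Finset.mem_univ j)
      change (∏ j, v j) • a j ∈ _
      rw [hc, mul_comm, mul_smul]
      exact Submodule.smul_mem _ c (hva j)
    | zero => rw [smul_zero]; exact Submodule.zero_mem _
    | add x y _ _ hx hy => rw [smul_add]; exact Submodule.add_mem _ hx hy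
    | smul c x _ hx => rw [smul_comm]; exact Submodule.smul_mem _ c hx
  -- pass to the quotient
  let Q := M ⧸ N
  have h3 : LocGen (p.asIdeal • (⊤ : Submodule R Q)) p := by
    intro q
    obtain ⟨m, rfl⟩ := N.mkQ_surjective q
    obtain ⟨r, hr, hrm⟩ := ha m
    refine ⟨V * r, fun h => (p.isPrime.mem_or_mem h).elim hV hr, ?_⟩
    have h4 := h2 _ hrm
    rw [← mul_smul] at h4
    have h5 : N.mkQ ((V * r) • m) ∈ Submodule.map N.mkQ (N ⊔ p.asIdeal • (⊤ : Submodule R M)) :=
      Submodule.mem_map_of_mem h4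
    rw [Submodule.map_sup, Submodule.map_smul'', Submodule.map_top, Submodule.range_mkQ] at h5
    have h6 : Submodule.map N.mkQ N = ⊥ := by
      rw [eq_bot_iff]
      rintro _ ⟨y, hy, rfl⟩
      rw [Submodule.mem_bot, Submodule.mkQ_apply, Submodule.Quotient.mk_eq_zero]
      exact hy
    rw [h6, bot_sup_eq] at h5
    rw [← map_smul]
    exact h5
  obtain ⟨w, hw, hwq⟩ := LocGen.exists_uniform h3
  obtain ⟨r, hr, hrq⟩ := exists_notMem_smul_eq_zero (Q := Q) p w hw hwq
  intro m
  refine ⟨r, hr, ?_⟩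
  have := hrq (N.mkQ m)
  rw [← map_smul, Submodule.mkQ_apply, Submodule.Quotient.mk_eq_zero] at this
  exact this

/-- Gluing local generators over a closed set by a partition of unity. -/
theorem exists_lift {ι : Type*} [Fintype ι] [Module.Finite R M] (I : Ideal R) (f : ι → R) {n : ℕ}
    (a : ι → Fin n → M) (N : ℕ)
    (hcov : ∀ p : PrimeSpectrum R, I ≤ p.asIdeal → ∃ l, f l ∉ p.asIdeal)
    (hcompat : ∀ l l' j, ∃ K : ℕ, (f l * f l') ^ K • (f l' ^ N • a l j - f l ^ N • a l' j) = 0)
    (hgen : ∀ l (p : PrimeSpectrum R), f l ∉ p.asIdeal →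
      LocGen (Submodule.span R (Set.range (a l))) p) :
    ∃ t : Fin n → M, ∀ p : PrimeSpectrum R, I ≤ p.asIdeal →
      LocGen (Submodule.span R (Set.range t)) p := by
  classical
  have htop : I ⊔ Ideal.span (Set.range fun l => f l ^ (N + 1)) = ⊤ := by
    by_contra hne
    obtain ⟨𝔪, hmax, hle⟩ := Ideal.exists_le_maximal _ hne
    obtain ⟨l, hl⟩ := hcov ⟨𝔪, hmax.isPrime⟩ (le_sup_left.trans hle)
    apply hl
    apply hmax.isPrime.mem_of_pow_mem (N + 1)
    apply hle
    apply Ideal.mem_sup_right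
    exact Ideal.subset_span ⟨l, rfl⟩
  have h1 : (1 : R) ∈ I ⊔ Ideal.span (Set.range fun l => f l ^ (N + 1)) := by
    rw [htop]; exact Submodule.mem_top
  obtain ⟨i, hi, y, hy, hiy⟩ := Submodule.mem_sup.1 h1
  obtain ⟨g, hg⟩ := (Ideal.mem_span_range_iff_exists_fun).1 hy
  have hone : i + ∑ l, g l * f l ^ (N + 1) = 1 := by rw [hg]; exact hiy
  refine ⟨fun j => ∑ l, (g l * f l) • a l j, ?_⟩
  intro p hp
  obtain ⟨l0, hl0⟩ := hcov p hp
  refine locGen_of_sat p (a l0) _ (f l0 ^ N) ?_ (hgen l0 p hl0)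
  intro j
  have e1 : a l0 j = i • a l0 j + ∑ l, (g l * f l ^ (N + 1)) • a l0 j := by
    rw [← Finset.sum_smul, ← add_smul, hone, one_smul]
  have e2 : f l0 ^ N • ∑ l, (g l * f l) • a l j = ∑ l, (g l * f l) • (f l0 ^ N • a l j) := by
    rw [Finset.smul_sum]
    apply Finset.sum_congr rfl
    intro l _
    rw [smul_comm]
  have e3 : ∑ l, (g l * f l) • (f l0 ^ N • a l j - f l ^ N • a l0 j) =
      ∑ l, (g l * f l) • (f l0 ^ N • a l j) - ∑ l, (g l * f l ^ (N + 1)) • a l0 j := by
    rw [← Finset.sum_sub_distrib]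
    apply Finset.sum_congr rfl
    intro l _
    rw [smul_sub, ← mul_smul (g l * f l) (f l ^ N)]
    congr 2
    ring
  have key : f l0 ^ N • ∑ l, (g l * f l) • a l j - a l0 j =
      ∑ l, (g l * f l) • (f l0 ^ N • a l j - f l ^ N • a l0 j) - i • a l0 j := by
    rw [e3, e2]
    nth_rewrite 1 [e1]
    abel
  rw [key]
  apply Submodule.sub_mem
  · apply Submodule.sum_mem
    intro l _
    by_cases hl : f l ∈ p.asIdeal
    · exact smul_mem_sat_of_mem p (Ideal.mul_mem_left _ _ hl) _
    · apply Submodule.smul_mem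
      obtain ⟨K, hK⟩ := hcompat l l0 j
      refine mem_sat_of_smul_eq_zero p (v := (f l * f l0) ^ K) ?_ hK
      intro h
      exact (p.isPrime.mem_or_mem (p.isPrime.mem_of_pow_mem _ h)).elim hl hl0
  · exact smul_mem_sat_of_mem p (hp hi) _

/-- Induction over the members of a finite open cover. -/
theorem exists_generators [Module.Finite R M] (n m : ℕ) (U : Fin m → Set (PrimeSpectrum R))
    (hUo : ∀ i, IsOpen (U i)) (hU : ∀ p, ∃ i, p ∈ U i)
    (H : ∀ i (I : Ideal R), zeroLocus (I : Set R) ⊆ U i →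
      ∃ t : Fin n → M, ∀ p : PrimeSpectrum R, I ≤ p.asIdeal →
        LocGen (Submodule.span R (Set.range t)) p) :
    ∃ s : Fin (n * m) → M, Submodule.span R (Set.range s) = ⊤ := by
  classical
  have P : ∀ k : ℕ, k ≤ m → ∀ T : Set (PrimeSpectrum R), IsClosed T →
      (∀ p ∈ T, ∃ i : Fin m, i.val < k ∧ p ∈ U i) →
      ∃ s : Fin (n * k) → M, ∀ p ∈ T, LocGen (Submodule.span R (Set.range s)) p := by
    intro k
    induction k with
    | zero =>
      intro _ T _ hT
      refine ⟨fun _ => 0, fun p hp => ?_⟩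
      obtain ⟨i, hi, _⟩ := hT p hp
      exact absurd hi (Nat.not_lt_zero _)
    | succ k ih =>
      intro hk T hTc hT
      let i0 : Fin m := ⟨k, hk⟩
      -- the part of `T` outside `U i0`
      have hT'c : IsClosed (T ∩ (U i0)ᶜ) := hTc.inter (hUo i0).isClosed_compl
      have hT' : ∀ p ∈ T ∩ (U i0)ᶜ, ∃ i : Fin m, i.val < k ∧ p ∈ U i := by
        rintro p ⟨hpT, hpU⟩
        obtain ⟨i, hi, hpi⟩ := hT p hpT
        refine ⟨i, ?_, hpi⟩
        rcases Nat.lt_succ_iff_lt_or_eq.1 hi with h | h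
        · exact h
        · exfalso
          apply hpU
          have : i = i0 := Fin.ext h
          rw [← this]
          exact hpi
      obtain ⟨s', hs'⟩ := ih (Nat.le_of_succ_le hk) _ hT'c hT'
      let W : Set (PrimeSpectrum R) := {p | LocGen (Submodule.span R (Set.range s')) p}
      have hW : IsOpen W := isOpen_setOf_locGen _
      have hT''c : IsClosed (T ∩ Wᶜ) := hTc.inter hW.isClosed_compl
      obtain ⟨I, hI⟩ := (isClosed_iff_zeroLocus_ideal _).1 hT''c
      have hsub : zeroLocus (I : Set R) ⊆ U i0 := by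
        rw [← hI]
        rintro p ⟨hpT, hpW⟩
        by_contra hpU
        exact hpW (hs' p ⟨hpT, hpU⟩)
      obtain ⟨t, ht⟩ := H i0 I hsub
      have hcast : n * (k + 1) = n * k + n := by ring
      refine ⟨fun x => Fin.append s' t (Fin.cast hcast x), ?_⟩
      intro p hpT
      by_cases hpW : p ∈ W
      · refine LocGen.mono ?_ hpW
        rw [Submodule.span_le]
        rintro _ ⟨x, rfl⟩
        apply Submodule.subset_span
        refine ⟨Fin.cast hcast.symm (Fin.castAdd n x), ?_⟩
        change Fin.append s' t (Fin.cast hcast (Fin.cast hcast.symm (Fin.castAdd n x))) = s' x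
        rw [Fin.cast_cast, Fin.cast_eq_self, Fin.append_left]
      · have hpI : p ∈ zeroLocus (I : Set R) := by
          rw [← hI]
          exact ⟨hpT, hpW⟩
        have hpI' : I ≤ p.asIdeal := (mem_zeroLocus p I).1 hpI
        refine LocGen.mono ?_ (ht p hpI')
        rw [Submodule.span_le]
        rintro _ ⟨x, rfl⟩
        apply Submodule.subset_span
        refine ⟨Fin.cast hcast.symm (Fin.natAdd (n * k) x), ?_⟩
        change Fin.append s' t (Fin.cast hcast (Fin.cast hcast.symm (Fin.natAdd (n * k) x))) = t x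
        rw [Fin.cast_cast, Fin.cast_eq_self, Fin.append_right]
  obtain ⟨s, hs⟩ := P m le_rfl Set.univ isClosed_univ (fun p _ => by
    obtain ⟨i, hi⟩ := hU p
    exact ⟨i, i.isLt, hi⟩)
  exact ⟨s, eq_top_of_forall_locGen _ (fun p => hs p (Set.mem_univ p))⟩

end Groth.Agent.Helper19.GenCover
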