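import Mathlib
import Groth.Prelude.Def_FlatMod2
import Groth.Agent.Lib.Helper19.GenCover

/-!
# Generators of a module from local generators on an open cover (sheaf part, helper19)

Namespace `Groth.Agent.Helper19.GenCoverSheaf`.
-/

set_option autoImplicit false
universe u
open CategoryTheory AlgebraicGeometry TopologicalSpace Opposite PrimeSpectrum

namespace Groth.Agent.Helper19.GenCoverSheaf

open Groth.Agent.Helper19.GenCover

variable {R : CommRingCat.{u}} (M : ModuleCat.{u} R)

/-- restriction of sections of `M~` -/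
noncomputable abbrev res {U V : (Spec R).Opens} (h : V ≤ U) (x : Γ(tilde M, U)) : Γ(tilde M, V) :=
  (tilde M).presheaf.map (homOfLE h).op x

theorem res_res {U V W : (Spec R).Opens} (h : V ≤ U) (h' : W ≤ V) (x : Γ(tilde M, U)) :
    res M h' (res M h x) = res M (h'.trans h) x := by
  change ((tilde M).presheaf.map (homOfLE h).op ≫ (tilde M).presheaf.map (homOfLE h').op) x = _
  rw [← Functor.map_comp]
  rfl

theorem res_smul {U V : (Spec R).Opens} (h : V ≤ U) (r : R) (x : Γ(tilde M, U)) :
    res M h (r • x) = r • res M h x :=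
  Scheme.Modules.map_smul_Spec _ r x

theorem res_smul' {U V : (Spec R).Opens} (h : V ≤ U) (c : Γ(Spec R, U)) (x : Γ(tilde M, U)) :
    res M h (c • x) = ((Spec R).presheaf.map (homOfLE h).op c) • res M h x :=
  Scheme.Modules.map_smul (tilde M) (homOfLE h) c x

theorem res_sum {U V : (Spec R).Opens} (h : V ≤ U) {ι : Type*} (t : Finset ι)
    (g : ι → Γ(tilde M, U)) : res M h (∑ i ∈ t, g i) = ∑ i ∈ t, res M h (g i) :=
  map_sum (ConcreteCategory.hom ((tilde M).presheaf.map (homOfLE h).op)) g t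

/-- the localization map to sections -/
noncomputable abbrev toO (U : (Spec R).Opens) (m : M) : Γ(tilde M, U) :=
  (tilde.toOpen M U).hom m

theorem res_toO {U V : (Spec R).Opens} (h : V ≤ U) (m : M) : res M h (toO M U m) = toO M V m :=
  rfl

theorem toO_smul (U : (Spec R).Opens) (r : R) (m : M) : toO M U (r • m) = r • toO M U m :=
  (tilde.toOpen M U).hom.map_smul r m

theorem toO_sub (U : (Spec R).Opens) (m m' : M) : toO M U (m - m') = toO M U m - toO M U m' :=
  (tilde.toOpen M U).hom.map_sub m m'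

theorem toO_sum (U : (Spec R).Opens) {ι : Type*} (s : Finset ι) (g : ι → M) :
    toO M U (∑ i ∈ s, g i) = ∑ i ∈ s, toO M U (g i) :=
  map_sum (tilde.toOpen M U).hom g s

/-- sections over a basic open have numerators -/
theorem exists_num (f : R) (x : Γ(tilde M, basicOpen f)) :
    ∃ (a : M) (N : ℕ), f ^ N • x = toO M (basicOpen f) a := by
  obtain ⟨⟨a, ⟨c, N, hN⟩⟩, h⟩ :=
    IsLocalizedModule.surj (Submonoid.powers f) (tilde.toOpen M (basicOpen f)).hom x
  refine ⟨a, N, ?_⟩
  dsimp only at hN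
  subst hN
  exact h

theorem exists_pow_smul_eq_zero (f : R) (b : M) (hb : toO M (basicOpen f) b = 0) :
    ∃ K : ℕ, f ^ K • b = 0 := by
  obtain ⟨⟨c, K, hK⟩, h⟩ :=
    (IsLocalizedModule.eq_zero_iff (Submonoid.powers f) (tilde.toOpen M (basicOpen f)).hom).1 hb
  refine ⟨K, ?_⟩
  dsimp only at hK
  subst hK
  exact h

/-- local generation of `M~` over `U` by the sections `s` -/
def LG (U : (Spec R).Opens) {n : ℕ} (s : Fin n → Γ(tilde M, U)) : Prop :=
  ∀ (m : M) (p : PrimeSpectrum R), p ∈ U → ∃ (h : R) (hh : basicOpen h ≤ U), p ∈ basicOpen h ∧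
    toO M (basicOpen h) m ∈
      Submodule.span Γ(Spec R, basicOpen h) (Set.range fun j => res M hh (s j))

theorem locGen_of_LG (U : (Spec R).Opens) {n : ℕ} (s : Fin n → Γ(tilde M, U)) (hLG : LG M U s)
    (f : R) (hf : basicOpen f ≤ U) (a : Fin n → M) (N : ℕ)
    (ha : ∀ j, f ^ N • res M hf (s j) = toO M (basicOpen f) (a j))
    (p : PrimeSpectrum R) (hp : f ∉ p.asIdeal) :
    LocGen (Submodule.span R (Set.range a)) p := by
  classical
  intro m
  obtain ⟨h, hh, hph, hmem⟩ := hLG m p (hf hp)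
  obtain ⟨c, hc⟩ := (Submodule.mem_span_range_iff_exists_fun _).1 hmem
  obtain ⟨⟨b, K, hK⟩, hb⟩ := IsLocalization.exist_integer_multiples (Submonoid.powers h)
    (Finset.univ : Finset (Fin n)) c
  dsimp only at hK
  subst hK
  have hb' : ∀ j, ∃ r : R, algebraMap R Γ(Spec R, basicOpen h) r = h ^ K • c j :=
    fun j => hb j (Finset.mem_univ j)
  choose r hr using hb'
  -- the relation over `D(h)`
  have e1 : h ^ K • toO M (basicOpen h) m = ∑ j, r j • res M hh (s j) := by
    rw [← hc, Finset.smul_sum]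
    apply Finset.sum_congr rfl
    intro j _
    rw [← smul_assoc, ← hr j, algebraMap_smul]
  -- restrict to `D(h * f)`
  have hWh : basicOpen (h * f) ≤ basicOpen h := by
    rw [PrimeSpectrum.basicOpen_mul]; exact inf_le_left
  have hWf : basicOpen (h * f) ≤ basicOpen f := by
    rw [PrimeSpectrum.basicOpen_mul]; exact inf_le_right
  have e2 : h ^ K • toO M (basicOpen (h * f)) m =
      ∑ j, r j • res M (hWh.trans hh) (s j) := by
    have := congrArg (res M hWh) e1
    rw [res_smul, res_toO, res_sum] at this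
    rw [this]
    apply Finset.sum_congr rfl
    intro j _
    rw [res_smul, res_res]
  have e3 : ∀ j, f ^ N • res M (hWh.trans hh) (s j) = toO M (basicOpen (h * f)) (a j) := by
    intro j
    have := congrArg (res M hWf) (ha j)
    rw [res_smul, res_res, res_toO] at this
    exact this
  have e4 : toO M (basicOpen (h * f)) (f ^ N • h ^ K • m - ∑ j, r j • a j) = 0 := by
    rw [toO_sub, toO_smul, toO_smul, e2, toO_sum, Finset.smul_sum, sub_eq_zero]
    apply Finset.sum_congr rfl
    intro j _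
    rw [toO_smul, smul_comm, e3]
  obtain ⟨K', hK'⟩ := exists_pow_smul_eq_zero M (h * f) _ e4
  refine ⟨(h * f) ^ K' * (f ^ N * h ^ K), ?_, ?_⟩
  · intro hmem'
    have hh' : h ∉ p.asIdeal := hph
    rcases p.isPrime.mem_or_mem hmem' with h1 | h1
    · rcases p.isPrime.mem_or_mem (p.isPrime.mem_of_pow_mem _ h1) with h2 | h2
      · exact hh' h2
      · exact hp h2
    · rcases p.isPrime.mem_or_mem h1 with h2 | h2
      · exact hp (p.isPrime.mem_of_pow_mem _ h2)
      · exact hh' (p.isPrime.mem_of_pow_mem _ h2)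
  · rw [smul_sub, sub_eq_zero] at hK'
    rw [mul_smul, mul_smul, hK']
    apply Submodule.smul_mem
    apply Submodule.sum_mem
    intro j _
    exact Submodule.smul_mem _ _ (Submodule.subset_span ⟨j, rfl⟩)

/-- local generators over `U` give, over any closed subset of `Spec R` inside `U`, global
elements generating `M` at all its points -/
theorem exists_locGen_of_sections [Module.Finite R M] (U : (Spec R).Opens) {n : ℕ}
    (s : Fin n → Γ(tilde M, U)) (hLG : LG M U s) (I : Ideal R)
    (hI : ∀ p : PrimeSpectrum R, p ∈ zeroLocus (I : Set R) → p ∈ U) :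
    ∃ t : Fin n → M, ∀ p : PrimeSpectrum R, I ≤ p.asIdeal →
      LocGen (Submodule.span R (Set.range t)) p := by
  classical
  have hcpt : IsCompact (zeroLocus (I : Set R)) := (isClosed_zeroLocus _).isCompact
  have hbasis : ∀ p : PrimeSpectrum R, p ∈ zeroLocus (I : Set R) →
      ∃ f : R, p ∈ basicOpen f ∧ basicOpen f ≤ U := by
    intro p hp
    obtain ⟨_, ⟨f, rfl⟩, hpf, hfU⟩ :=
      (Opens.isBasis_iff_nbhd.1 (PrimeSpectrum.isBasis_basic_opens (R := R))) (hI p hp)
    exact ⟨f, hpf, hfU⟩
  choose F hF1 hF2 using hbasis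
  obtain ⟨T, hT⟩ := hcpt.elim_finite_subcover
    (fun q : zeroLocus (I : Set R) => (basicOpen (F q.1 q.2) : Set (PrimeSpectrum R)))
    (fun q => (basicOpen (F q.1 q.2)).isOpen)
    (fun p hp => Set.mem_iUnion.2 ⟨⟨p, hp⟩, hF1 p hp⟩)
  let f : T → R := fun l => F l.1.1 l.1.2
  have hfU : ∀ l : T, basicOpen (f l) ≤ U := fun l => hF2 l.1.1 l.1.2
  have hnum : ∀ (l : T) (j : Fin n), ∃ (a : M) (N : ℕ),
      f l ^ N • res M (hfU l) (s j) = toO M (basicOpen (f l)) a :=
    fun l j => exists_num M (f l) _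
  choose a₀ N₀ ha₀ using hnum
  let Ntot : ℕ := ∑ l, ∑ j, N₀ l j
  have hle : ∀ l j, N₀ l j ≤ Ntot := by
    intro l j
    calc N₀ l j ≤ ∑ j, N₀ l j :=
          Finset.single_le_sum (f := fun j => N₀ l j) (fun _ _ => Nat.zero_le _) (Finset.mem_univ j)
      _ ≤ Ntot :=
          Finset.single_le_sum (f := fun l => ∑ j, N₀ l j) (fun _ _ => Nat.zero_le _)
            (Finset.mem_univ l)
  let a : T → Fin n → M := fun l j => f l ^ (Ntot - N₀ l j) • a₀ l j
  have ha : ∀ l j, f l ^ Ntot • res M (hfU l) (s j) = toO M (basicOpen (f l)) (a l j) := by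
    intro l j
    have h1 : Ntot = (Ntot - N₀ l j) + N₀ l j := (Nat.sub_add_cancel (hle l j)).symm
    rw [toO_smul, ← ha₀ l j, ← mul_smul, ← pow_add, ← h1]
  refine exists_lift I f a Ntot ?_ ?_ ?_
  · intro p hp
    have hp' : p ∈ zeroLocus (I : Set R) := (mem_zeroLocus p I).2 hp
    obtain ⟨q, hq⟩ := Set.mem_iUnion.1 (hT hp')
    obtain ⟨hqT, hpq⟩ := Set.mem_iUnion.1 hq
    exact ⟨⟨q, hqT⟩, hpq⟩
  · intro l l' j
    have hWl : basicOpen (f l * f l') ≤ basicOpen (f l) := by
      rw [PrimeSpectrum.basicOpen_mul]; exact inf_le_left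
    have hWl' : basicOpen (f l * f l') ≤ basicOpen (f l') := by
      rw [PrimeSpectrum.basicOpen_mul]; exact inf_le_right
    apply exists_pow_smul_eq_zero M (f l * f l')
    have h1 := congrArg (res M hWl) (ha l j)
    have h2 := congrArg (res M hWl') (ha l' j)
    rw [res_smul, res_res, res_toO] at h1 h2
    rw [toO_sub, toO_smul M _ (f l' ^ Ntot) (a l j), toO_smul M _ (f l ^ Ntot) (a l' j), ← h1, ← h2,
      smul_comm, sub_self]
  · intro l p hp
    exact locGen_of_LG M U s hLG (f l) (hfU l) (a l) Ntot (ha l) p hp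

end Groth.Agent.Helper19.GenCoverSheaf
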