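import Mathlib
import Groth.Prelude.Def_FlatMod2
import Groth.Agent.Lib.Helper19.GenCoverSheaf
import Groth.Agent.Lib.Helper45.EpiStalk
import Groth.Agent.Lib.Helper49.FreeMod

/-!
# From an epimorphism `O_U^n ⟶ M~|_U` to locally generating sections (helper19)

Namespace `Groth.Agent.Helper19.GenCoverBridge`.
-/

set_option autoImplicit false
universe u
open CategoryTheory CategoryTheory.Limits AlgebraicGeometry TopologicalSpace Opposite PrimeSpectrum

namespace Groth.Agent.Helper19.GenCoverBridge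

open Groth.Agent.Lib.Helper49

section General

variable {Y : Scheme.{u}} {F : Y.Modules} {n : ℕ} (φ : FlatMod.freeMod Y n ⟶ F)

/-- the unit section of the structure module -/
noncomputable def oneS (W : Y.Opens) : Γ(Coh.structureModule Y, W) :=
  (unitSectionsEquiv Y W).symm 1

theorem oneS_res {V W : Y.Opens} (h : W ≤ V) :
    (Coh.structureModule Y).presheaf.map (homOfLE h).op (oneS V) = oneS W := by
  change (Y.presheaf.map (homOfLE h).op).hom (1 : Γ(Y, V)) = (1 : Γ(Y, W))
  exact map_one _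

theorem smul_oneS (W : Y.Opens) (r : Γ(Y, W)) :
    r • oneS W = (unitSectionsEquiv Y W).symm r := by
  unfold oneS
  rw [← LinearEquiv.map_smul, smul_eq_mul, mul_one]

/-- the image of the `j`-th basis section -/
noncomputable def one (j : Fin n) (W : Y.Opens) : Γ(F, W) :=
  ((freeι Y n j ≫ φ).app W).hom (oneS W)

theorem one_res (j : Fin n) {V W : Y.Opens} (h : W ≤ V) :
    F.presheaf.map (homOfLE h).op (one φ j V) = one φ j W := by
  have h1 := (NatTrans.naturality_apply (freeι Y n j ≫ φ).mapPresheaf (homOfLE h).op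
    (oneS V)).symm
  refine h1.trans ?_
  change ((freeι Y n j ≫ φ).app W).hom
    ((Coh.structureModule Y).presheaf.map (homOfLE h).op (oneS V)) = _
  rw [oneS_res]
  rfl

/-- the `j`-th coordinate of a section of the free module -/
noncomputable def coef (j : Fin n) (W : Y.Opens) (b : Γ(FlatMod.freeMod Y n, W)) : Γ(Y, W) :=
  unitSectionsEquiv Y W (((freeπ Y n j).app W).hom b)

theorem app_eq_sum (W : Y.Opens) (b : Γ(FlatMod.freeMod Y n, W)) :
    (φ.app W).hom b = ∑ j, coef j W b • one φ j W := by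
  have h1 : b = ∑ j, ((freeι Y n j).app W).hom (((freeπ Y n j).app W).hom b) :=
    ((sectionsFreeEquiv Y n W).left_inv b).symm
  conv_lhs => rw [h1]
  rw [map_sum]
  apply Finset.sum_congr rfl
  intro j _
  have h2 := Scheme.Modules.Hom.app_smul (freeι Y n j ≫ φ) (coef j W b) (oneS W)
  rw [smul_oneS] at h2
  unfold coef at h2
  rw [LinearEquiv.symm_apply_apply] at h2
  exact h2

theorem locally_span_of_epi [Epi φ] (V : Y.Opens) (t : Γ(F, V)) (x : Y) (hx : x ∈ V) :
    ∃ (W : Y.Opens) (hWV : W ≤ V), x ∈ W ∧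
      F.presheaf.map (homOfLE hWV).op t ∈
        Submodule.span Γ(Y, W) (Set.range fun j => one φ j W) := by
  have h := (Groth.Agent.Lib.Helper45.epi_iff_isLocallySurjective φ).1 inferInstance
  rw [TopCat.Presheaf.isLocallySurjective_iff] at h
  obtain ⟨W, hWV, ⟨b, hb⟩, hxW⟩ := h V t x hx
  refine ⟨W, hWV, hxW, ?_⟩
  have hb' : (φ.app W).hom b = F.presheaf.map (homOfLE hWV).op t := hb
  rw [← hb', app_eq_sum]
  apply Submodule.sum_mem
  intro j _
  exact Submodule.smul_mem _ _ (Submodule.subset_span ⟨j, rfl⟩)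

end General

section Spec

open Groth.Agent.Helper19.GenCoverSheaf

variable {R : CommRingCat.{u}} (M : ModuleCat.{u} R) (U : (Spec R).Opens) {n : ℕ}
  (φ : FlatMod.freeMod (↑U) n ⟶ (tilde M).restrict U.ι)

/-- the generating sections over `U` -/
noncomputable def sec (j : Fin n) : Γ(tilde M, U) :=
  res M (le_of_eq U.ι_image_top.symm) (one φ j ⊤)

/-- restriction from sections of the restricted sheaf over `W'` to sections of `M~` over `V` -/
noncomputable def resR {W' : (↑U : Scheme.{u}).Opens} {V : (Spec R).Opens}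
    (hV : V ≤ U.ι ''ᵁ W') : Γ((tilde M).restrict U.ι, W') →+ Γ(tilde M, V) :=
  (AddCommGrpCat.Hom.hom ((tilde M).presheaf.map (homOfLE hV).op) :
    Γ(tilde M, U.ι ''ᵁ W') →+ Γ(tilde M, V))

theorem resR_smul {W' : (↑U : Scheme.{u}).Opens} {V : (Spec R).Opens} (hV : V ≤ U.ι ''ᵁ W')
    (c : Γ((↑U : Scheme.{u}), W')) (y : Γ((tilde M).restrict U.ι, W')) :
    resR M U hV (c • y) =
      ((Spec R).presheaf.map (homOfLE hV).op ((U.ι.appIso W').inv c)) • resR M U hV y :=
  res_smul' M hV ((U.ι.appIso W').inv c) y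

theorem res_mem_span {W' : (↑U : Scheme.{u}).Opens} {V : (Spec R).Opens} (hV : V ≤ U.ι ''ᵁ W')
    (A : Set Γ((tilde M).restrict U.ι, W')) (y : Γ((tilde M).restrict U.ι, W'))
    (hy : y ∈ Submodule.span Γ((↑U : Scheme.{u}), W') A) :
    resR M U hV y ∈ Submodule.span Γ(Spec R, V) ((fun z => resR M U hV z) '' A) := by
  induction hy using Submodule.span_induction with
  | mem z hz => exact Submodule.subset_span ⟨z, hz, rfl⟩
  | zero =>
    rw [map_zero]
    exact Submodule.zero_mem _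
  | add z w _ _ hz hw =>
    rw [map_add]
    exact Submodule.add_mem _ hz hw
  | smul c z _ hz =>
    rw [resR_smul]
    exact Submodule.smul_mem _ _ hz

theorem LG_sec [Epi φ] : LG M U (sec M U φ) := by
  intro m p hp
  let x' : (↑U : Scheme.{u}) := ⟨p, hp⟩
  let t' : Γ((tilde M).restrict U.ι, ⊤) := toO M (U.ι ''ᵁ ⊤) m
  obtain ⟨W', hW', hxW', hmem⟩ := locally_span_of_epi φ ⊤ t' x' trivial
  have hpW : p ∈ U.ι ''ᵁ W' := ⟨x', hxW', rfl⟩
  obtain ⟨_, ⟨h, rfl⟩, hph, hhW⟩ :=
    (Opens.isBasis_iff_nbhd.1 (PrimeSpectrum.isBasis_basic_opens (R := R))) hpW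
  have hWU : U.ι ''ᵁ W' ≤ U := by
    rintro _ ⟨z, _, rfl⟩
    exact z.2
  have hh : basicOpen h ≤ U := hhW.trans hWU
  refine ⟨h, hh, hph, ?_⟩
  have h1 := res_mem_span M U hhW _ _ hmem
  have h2 : resR M U hhW (((tilde M).restrict U.ι).presheaf.map (homOfLE hW').op t') =
      toO M (basicOpen h) m := rfl
  rw [h2] at h1
  refine Submodule.span_mono ?_ h1
  rintro _ ⟨_, ⟨j, rfl⟩, rfl⟩
  refine ⟨j, ?_⟩
  dsimp only
  rw [← one_res φ j (le_top : W' ≤ ⊤)]
  unfold sec
  rw [res_res]
  exact (res_res M _ hhW (one φ j ⊤)).symm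

end Spec

end Groth.Agent.Helper19.GenCoverBridge
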