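import Mathlib
import Groth.Agent.Lib.Helper19.GmUnique
import Groth.Agent.Lib.Helper43.GaGm

/-!
# A group law on `𝔾_m` over a field is determined by its unit section
-/

set_option autoImplicit false
universe u
open CategoryTheory MonoidalCategory CartesianMonoidalCategory MonObj GrpObj AlgebraicGeometry
  CategoryTheory.Limits

namespace Groth.Agent.Helper19.GmUnique2

open LaurentPolynomial Groth.Agent.Helper19.LaurentUnits Groth.Agent.Helper19.GmUnique

variable {k : Type u} [Field k]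

section Scale

/-- the unit `C c * T` of `k[T, T⁻¹]`. -/
noncomputable def cT (c : kˣ) : (LaurentPolynomial k)ˣ :=
  (Units.map (C : k →+* LaurentPolynomial k).toMonoidHom c) * (isUnit_T 1).unit

lemma cT_val (c : kˣ) : ((cT c : (LaurentPolynomial k)ˣ) : LaurentPolynomial k) = C (c : k) * T 1 := rfl

/-- `T ↦ C c * T`. -/
noncomputable def scale (c : kˣ) : AA k ⟶ AA k :=
  CommRingCat.ofHom (eval₂ (C : k →+* LaurentPolynomial k) (cT c))

lemma scale_T (c : kˣ) : (scale c).hom (T 1) = C (c : k) * T 1 := by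
  show eval₂ _ _ (T 1) = _
  rw [eval₂_T, zpow_one, cT_val]

lemma scale_C (c : kˣ) (a : k) : (scale c).hom (C a) = C a := by
  show eval₂ _ _ (C a) = _
  rw [eval₂_C]

lemma algA_scale (c : kˣ) : algA k ≫ scale c = algA k := by
  apply CommRingCat.hom_ext
  apply RingHom.ext
  intro a
  exact scale_C c a

lemma scale_comp (c d : kˣ) (h : c * d = 1) : scale c ≫ scale d = 𝟙 (AA k) := by
  apply CommRingCat.hom_ext
  apply ringHom_ext'
  · intro a
    show (scale d).hom ((scale c).hom (C a)) = C a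
    rw [scale_C, scale_C]
  · show (scale d).hom ((scale c).hom (T 1)) = T 1
    rw [scale_T, map_mul, scale_C, scale_T, ← _root_.mul_assoc, ← map_mul]
    have : (c : k) * (d : k) = 1 := by rw [← Units.val_mul, h, Units.val_one]
    rw [this, map_one, _root_.one_mul]

/-- the scaling automorphism of `Spec k[T, T⁻¹]`. -/
noncomputable def sIso (c : kˣ) : Spec (AA k) ≅ Spec (AA k) where
  hom := Spec.map (scale c)
  inv := Spec.map (scale c⁻¹)
  hom_inv_id := by
    rw [← Spec.map_comp, scale_comp c⁻¹ c (inv_mul_cancel c), Spec.map_id]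
  inv_hom_id := by
    rw [← Spec.map_comp, scale_comp c c⁻¹ (mul_inv_cancel c), Spec.map_id]

variable {G : Over (Spec (CommRingCat.of k))} (e : G.left ≅ Spec (AA k))
  (he : e.hom ≫ Spec.map (algA k) = G.hom)

include he in
lemma he_scale (c : kˣ) : (e ≪≫ sIso c).hom ≫ Spec.map (algA k) = G.hom := by
  show (e.hom ≫ Spec.map (scale c)) ≫ Spec.map (algA k) = G.hom
  rw [Category.assoc, ← Spec.map_comp, algA_scale, he]

include he in
lemma ct_scale (c : kˣ) {S : Over (Spec (CommRingCat.of k))} (f : S ⟶ G) :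
    ct (e ≪≫ sIso c) f =
      ((Scheme.ΓSpecIso (CommRingCat.of k)).inv ≫ S.hom.appTop).hom (c : k) * ct e f := by
  have h1 : ct (e ≪≫ sIso c) f = (coordHom (f.left ≫ e.hom)).hom ((scale c).hom (T 1)) := by
    show tc (f.left ≫ e.hom ≫ Spec.map (scale c)) = _
    rw [← Category.assoc, tc_comp, tc_specMap]
    rfl
  rw [h1, scale_T, map_mul]
  congr 1
  have h2 := algA_comp_coordHom (f.left ≫ e.hom)
  rw [Category.assoc, he, Over.w f] at h2
  exact congr_arg (fun φ => φ.hom (c : k)) h2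

include he in
lemma exists_normalized (η₀ : 𝟙_ (Over (Spec (CommRingCat.of k))) ⟶ G) :
    ∃ (e' : G.left ≅ Spec (AA k)) (_ : e'.hom ≫ Spec.map (algA k) = G.hom), ct e' η₀ = 1 := by
  have hu : IsUnit (ct e η₀) := isUnit_ct e η₀
  let u : Γ(Spec (CommRingCat.of k), ⊤) := ct e η₀
  let a : k := (Scheme.ΓSpecIso (CommRingCat.of k)).hom.hom u
  have ha : IsUnit a := IsUnit.map (Scheme.ΓSpecIso (CommRingCat.of k)).hom.hom hu
  have hau : (Scheme.ΓSpecIso (CommRingCat.of k)).inv.hom a = u :=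
    congr_arg (fun φ => φ.hom u) (Scheme.ΓSpecIso (CommRingCat.of k)).hom_inv_id
  refine ⟨e ≪≫ sIso ha.unit⁻¹, he_scale e he _, ?_⟩
  rw [ct_scale e he]
  have h1 : (𝟙_ (Over (Spec (CommRingCat.of k)))).hom.appTop = 𝟙 _ := by
    show Scheme.Hom.appTop (𝟙 (Spec (CommRingCat.of k))) = 𝟙 _
    simp
  rw [h1, Category.comp_id]
  show (Scheme.ΓSpecIso (CommRingCat.of k)).inv.hom ((ha.unit⁻¹ : kˣ) : k) * u = 1
  rw [← hau, ← map_mul, Units.inv_mul_eq_one.2 ha.unit_spec.symm, map_one]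

end Scale

section Main

/-- a group law on a `k`-scheme isomorphic to the punctured line is determined by its unit. -/
theorem mul_eq_of_one_eq {G : Over (Spec (CommRingCat.of k))} (e : G.left ≅ Spec (AA k))
    (he : e.hom ≫ Spec.map (algA k) = G.hom) (h₁ h₂ : GrpObj G) (h0 : h₁.one = h₂.one) :
    h₁.mul = h₂.mul := by
  obtain ⟨e', he', hunit₁⟩ := exists_normalized e he h₁.one
  have hunit₂ : ct e' h₂.one = 1 := h0 ▸ hunit₁
  have key : ∀ (S : Over (Spec (CommRingCat.of k))) (g h : S ⟶ G),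
      lift g h ≫ h₁.mul = lift g h ≫ h₂.mul := by
    intro S g h
    apply ext_ct e' he'
    have t1 := @ct_mul k _ G e' he' h₁ hunit₁ S g h
    have t2 := @ct_mul k _ G e' he' h₂ hunit₂ S g h
    exact t1.trans t2.symm
  have := key (G ⊗ G) (fst G G) (snd G G)
  rwa [lift_fst_snd, Category.id_comp, Category.id_comp] at this

end Main

section GmIso

open Groth.Agent.Lib.Helper43

variable (k)

/-- `𝔾_m` over `Spec k` (the object of the statement). -/
noncomputable abbrev GG : Over (Spec (CommRingCat.of k)) := Red.Gm (Spec (CommRingCat.of k))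

/-- `Spec k[T, T⁻¹]` over `Spec k`. -/
noncomputable abbrev AO : Over (Spec (CommRingCat.of k)) := Over.mk (Spec.map (algA k))

lemma exists_t₀ : ∃ t₀ : AO k ⟶ GG k, Red.gmFn t₀ = (Scheme.ΓSpecIso (AA k)).inv.hom (T 1) := by
  have hu : IsUnit ((Scheme.ΓSpecIso (AA k)).inv.hom (T 1)) := (isUnit_T 1).map _
  obtain ⟨t, ht⟩ := gmFn_surjective (S := Spec (CommRingCat.of k)) (X := AO k) hu.unit
  exact ⟨t, ht⟩

/-- the ring map `k[T, T⁻¹] ⟶ Γ(𝔾_m)`. -/
noncomputable def ρG : AA k ⟶ Γ((GG k).left, ⊤) :=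
  CommRingCat.ofHom (eval₂ ((Scheme.ΓSpecIso (CommRingCat.of k)).inv ≫ (GG k).hom.appTop).hom
    (isUnit_gmFn (𝟙 (GG k))).unit)

lemma ρG_T : (ρG k).hom (T 1) = Red.gmFn (𝟙 (GG k)) := by
  show eval₂ _ _ (T 1) = _
  rw [eval₂_T, zpow_one]
  rfl

lemma hρG : algA k ≫ ρG k = (Scheme.ΓSpecIso (CommRingCat.of k)).inv ≫ (GG k).hom.appTop := by
  apply CommRingCat.hom_ext
  apply RingHom.ext
  intro a
  show eval₂ _ _ (C a) = _
  rw [eval₂_C]

/-- the morphism `𝔾_m ⟶ Spec k[T, T⁻¹]` over `k`. -/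
noncomputable def backO : GG k ⟶ AO k := toS₀ (algA k) (GG k) (ρG k) (hρG k)

lemma backO_left : (backO k).left = toSpecOf (ρG k) := rfl

lemma tc_backO : tc (backO k).left = Red.gmFn (𝟙 (GG k)) := by
  rw [backO_left, ← ρG_T]
  exact congr_arg (fun φ => φ.hom (T 1)) (ΓSpecIso_inv_toSpecOf_appTop (ρG k))

theorem exists_iso : ∃ (e : (GG k).left ≅ Spec (AA k)), e.hom ≫ Spec.map (algA k) = (GG k).hom := by
  obtain ⟨t₀, ht₀⟩ := exists_t₀ k
  have h1 : backO k ≫ t₀ = 𝟙 (GG k) := by
    apply gmFn_injective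
    rw [gmFn_comp, ht₀]
    exact tc_backO k
  have h2 : t₀ ≫ backO k = 𝟙 (AO k) := by
    apply Over.OverMorphism.ext
    apply ext_of_tc
    · have := Over.w (t₀ ≫ backO k)
      refine Eq.trans this ?_
      exact (Category.id_comp _).symm
    · rw [Over.comp_left, tc_comp, tc_backO, ← gmFn_comp, Category.comp_id, ht₀]
      show _ = Scheme.Hom.appTop (𝟙 _) _
      simp
  refine ⟨⟨(backO k).left, t₀.left, ?_, ?_⟩, Over.w (backO k)⟩
  · have := congr_arg (fun f => f.left) h1
    exact this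
  · have := congr_arg (fun f => f.left) h2
    exact this

end GmIso

end Groth.Agent.Helper19.GmUnique2
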