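import Mathlib
import Groth.Agent.Lib.Helper19.InjTilde4

/-!
# Sections of injective `O_X`-modules over affine opens (helper19)

Namespace `Groth.Agent.Helper19.InjStalk`.
* `injective_of_isLocalization`: an injective module over a localization is injective over the base.
* `injective_sections_of_injective`: `Γ(I, U)` is an injective `Γ(X, U)`-module for `I` injective
  and `U` affine (no Noetherian hypothesis).
-/

set_option autoImplicit false
set_option linter.unusedSectionVars false
universe u
open CategoryTheory CategoryTheory.Limits AlgebraicGeometry TopologicalSpace Opposite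

namespace Groth.Agent.Helper19.InjStalk

open Groth.Agent.Lib.Helper45 Groth.Agent.Lib.Helper49 Groth.Agent.Helper19.InjTilde

section Alg

variable {A B : Type u} [CommRing A] [CommRing B] [Algebra A B] (S : Submonoid A)
  [IsLocalization S B] {M : Type u} [AddCommGroup M] [Module A M] [Module B M]
  [IsScalarTower A B M]

include S in
/-- an injective module over a localization is injective over the base ring -/
theorem injective_of_isLocalization (h : Module.Injective B M) : Module.Injective A M := by
  apply Module.Baer.injective
  intro 𝔠 g
  let 𝔠' : Submodule B B := Submodule.localized' B S (Algebra.linearMap A B) 𝔠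
  let toLoc : 𝔠 →ₗ[A] 𝔠' := 𝔠.toLocalized' B S (Algebra.linearMap A B)
  have hunits : ∀ s : S, IsUnit (algebraMap A (Module.End A M) s) := by
    intro s
    have := isLocalizedModule_id S M B
    exact IsLocalizedModule.map_units (LinearMap.id : M →ₗ[A] M) s
  let g' : 𝔠' →ₗ[A] M := IsLocalizedModule.lift S toLoc g hunits
  have hg' : ∀ c : 𝔠, g' (toLoc c) = g c := IsLocalizedModule.lift_apply S toLoc g hunits
  let g'' : 𝔠' →ₗ[B] M := g'.extendScalarsOfIsLocalization S B
  obtain ⟨G, hG⟩ := Module.Baer.of_injective h 𝔠' g''
  refine ⟨(G.restrictScalars A).comp (Algebra.linearMap A B), ?_⟩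
  intro c hc
  have h1 : (Algebra.linearMap A B c) ∈ 𝔠' := (toLoc ⟨c, hc⟩).2
  have h2 := hG (Algebra.linearMap A B c) h1
  change G (Algebra.linearMap A B c) = g ⟨c, hc⟩
  rw [h2, ← hg' ⟨c, hc⟩]
  rfl

end Alg

section Spec

variable {R : CommRingCat.{u}} (G : (Spec R).Modules)

theorem injective_Γ_of_injective (h : Injective G) :
    Module.Injective R (moduleSpecΓFunctor.obj G) := by
  have := preservesFiniteLimits_tilde R
  have h1 : Injective (moduleSpecΓFunctor.obj G) :=
    Injective.injective_of_adjoint (tilde.adjunction (R := R)) G
  have h2 : Injective (ModuleCat.of R (moduleSpecΓFunctor.obj G)) := h1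
  exact @Module.injective_module_of_injective_object R (moduleSpecΓFunctor.obj G) _ _ _ h2

end Spec

variable {X : Scheme.{u}} {U : X.Opens} (hU : IsAffineOpen U) (I : X.Modules)

include hU in
/-- sections of an injective `O_X`-module over an affine open form an injective module -/
theorem injective_sections_of_injective (hI : Injective I) :
    Module.Injective Γ(X, U) Γ(I, U) := by
  have h1 : Injective ((Scheme.Modules.restrictFunctor U.ι).obj I) :=
    Groth.Agent.S11327.result X U I hI
  have h2 := (injective_restrict_fromSpec_iff hU I).mpr h1
  exact injective_of_linearEquiv (sectionsEquiv hU I) (injective_Γ_of_injective _ h2)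

end Groth.Agent.Helper19.InjStalk
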