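import Mathlib
import Groth.Agent.Lib.Helper19.InjStalk1

/-!
# Stalks of injective `O_X`-modules on locally Noetherian schemes (helper19)

Namespace `Groth.Agent.Helper19.InjStalk`.
* `exists_common_sections`, `exists_common_vanishing`: finitely many germs / vanishing germs spread
  out to a common neighbourhood.
* `baer_stalk`, `injective_stalk_of_injective`: R&D II.7.12.
-/

set_option autoImplicit false
set_option linter.unusedSectionVars false
universe u
open CategoryTheory CategoryTheory.Limits AlgebraicGeometry TopologicalSpace Opposite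

namespace Groth.Agent.Helper19.InjStalk

open Groth.Agent.Lib.Helper45 Groth.Agent.Lib.Helper49 Groth.Agent.Helper19.InjTilde

variable {X : Scheme.{u}}

theorem germ_mres (F : X.Modules) {W V : X.Opens} (h : V ≤ W) (x : X) (hx : x ∈ V) (s : Γ(F, W)) :
    F.presheaf.germ V x hx (mres F h s) = F.presheaf.germ W x (h hx) s := by
  rw [mres_apply, TopCat.Presheaf.germ_res_apply]

/-- finitely many germs are represented on a common neighbourhood -/
theorem exists_common_sections (F : X.Modules) (x : X) (W₀ : X.Opens) (hx : x ∈ W₀) :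
    ∀ {n : ℕ} (y : Fin n → F.presheaf.stalk x),
    ∃ (W : X.Opens) (_ : W ≤ W₀) (hxW : x ∈ W) (s : Fin n → Γ(F, W)),
      ∀ i, F.presheaf.germ W x hxW (s i) = y i := by
  intro n
  induction n with
  | zero => exact fun y => ⟨W₀, le_rfl, hx, Fin.elim0, fun i => Fin.elim0 i⟩
  | succ n ih =>
    intro y
    obtain ⟨W, hW, hxW, s, hs⟩ := ih (fun i => y i.succ)
    obtain ⟨V, hxV, t, ht⟩ := TopCat.Presheaf.exists_germ_eq F.presheaf (y 0)
    refine ⟨W ⊓ V, inf_le_left.trans hW, ⟨hxW, hxV⟩,
      Fin.cons (mres F inf_le_right t) (fun i => mres F inf_le_left (s i)), ?_⟩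
    intro i
    refine Fin.cases ?_ (fun j => ?_) i
    · rw [Fin.cons_zero, germ_mres]
      exact ht
    · rw [Fin.cons_succ, germ_mres]
      exact hs j

/-- finitely many sections with vanishing germs vanish on a common neighbourhood -/
theorem exists_common_vanishing (F : X.Modules) (x : X) (W : X.Opens) (hxW : x ∈ W) :
    ∀ {k : ℕ} (r : Fin k → Γ(F, W)) (_ : ∀ j, F.presheaf.germ W x hxW (r j) = 0),
    ∃ (W' : X.Opens) (hW' : W' ≤ W) (_ : x ∈ W'), ∀ j, mres F hW' (r j) = 0 := by
  intro k
  induction k with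
  | zero => exact fun r _ => ⟨W, le_rfl, hxW, fun j => Fin.elim0 j⟩
  | succ k ih =>
    intro r hr
    obtain ⟨W₁, hW₁, hxW₁, h1⟩ := ih (fun j => r j.succ) (fun j => hr j.succ)
    have h0 : F.presheaf.germ W x hxW (r 0) = F.presheaf.germ W x hxW 0 := by
      rw [hr 0, map_zero]
    obtain ⟨W₂, hxW₂, i₁, i₂, h2⟩ := TopCat.Presheaf.germ_eq F.presheaf x hxW hxW _ _ h0
    have h2' : mres F i₁.le (r 0) = 0 := by
      rw [mres_apply]
      have : (homOfLE i₁.le) = i₁ := rfl
      rw [this, h2, map_zero]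
    refine ⟨W₁ ⊓ W₂, inf_le_left.trans hW₁, ⟨hxW₁, hxW₂⟩, ?_⟩
    intro j
    refine Fin.cases ?_ (fun j' => ?_) j
    · have : mres F (inf_le_left.trans hW₁) (r 0) =
          mres F (inf_le_right : W₁ ⊓ W₂ ≤ W₂) (mres F i₁.le (r 0)) := by rw [mres_mres]
      rw [this, h2', map_zero]
    · have : mres F (inf_le_left.trans hW₁) (r j'.succ) =
          mres F (inf_le_left : W₁ ⊓ W₂ ≤ W₁) (mres F hW₁ (r j'.succ)) := by rw [mres_mres]
      rw [this, h1 j', map_zero]

section Main

variable {U : X.Opens} (hU : IsAffineOpen U) (I : X.Modules) (x : U)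

attribute [local instance] stalkModuleSections

theorem smul_stalk_def (c : Γ(X, U)) (y : I.presheaf.stalk (x : X)) :
    c • y = (X.presheaf.germ U x x.2 c) • y := rfl

theorem germ_fres_smul {W : X.Opens} (hWU : W ≤ U) (hxW : (x : X) ∈ W) (c : Γ(X, U))
    (s : Γ(I, W)) :
    I.presheaf.germ W x hxW (fres hWU c • s) = c • I.presheaf.germ W x hxW s := by
  rw [germ_smul, smul_stalk_def]
  congr 1
  exact TopCat.Presheaf.germ_res_apply X.presheaf (homOfLE hWU) x hxW c

include hU in
/-- **Spreading out**: the stalk of an injective `O_X`-module at a point of a Noetherian affine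
open `U` satisfies Baer's criterion over `Γ(X, U)`. -/
theorem baer_stalk [IsNoetherianRing Γ(X, U)] (hI : Injective I) :
    Module.Baer Γ(X, U) (I.presheaf.stalk (x : X)) := by
  classical
  intro 𝔠 g
  obtain ⟨n, a, rfl⟩ :=
    Submodule.fg_iff_exists_fin_generating_family.mp (IsNoetherian.noetherian 𝔠)
  have ham : ∀ i, a i ∈ Submodule.span Γ(X, U) (Set.range a) :=
    fun i => Submodule.subset_span ⟨i, rfl⟩
  let π : (Fin n → Γ(X, U)) →ₗ[Γ(X, U)] Γ(X, U) := Fintype.linearCombination Γ(X, U) a
  obtain ⟨k, κ, hκ⟩ := Submodule.fg_iff_exists_fin_generating_family.mp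
    (IsNoetherian.noetherian (LinearMap.ker π))
  have hκm : ∀ j, π (κ j) = 0 := fun j => by
    have : κ j ∈ LinearMap.ker π := hκ ▸ Submodule.subset_span ⟨j, rfl⟩
    exact this
  obtain ⟨W, hWU, hxW, s, hs⟩ :=
    exists_common_sections I x U x.2 (fun i => g ⟨a i, ham i⟩)
  let r : Fin k → Γ(I, W) := fun j => ∑ i, fres hWU (κ j i) • s i
  have hr : ∀ j, I.presheaf.germ W x hxW (r j) = 0 := by
    intro j
    have h1 : I.presheaf.germ W x hxW (r j) = ∑ i, κ j i • g ⟨a i, ham i⟩ := by
      rw [map_sum]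
      refine Finset.sum_congr rfl fun i _ => ?_
      rw [germ_fres_smul, hs i]
    have h2 : (∑ i, κ j i • (⟨a i, ham i⟩ : Submodule.span Γ(X, U) (Set.range a))) = 0 := by
      apply Subtype.ext
      rw [Submodule.coe_sum]
      exact hκm j
    rw [h1]
    simp_rw [← map_smul]
    rw [← map_sum, h2, map_zero]
  obtain ⟨W', hW'W, hxW', hvan⟩ := exists_common_vanishing I x W hxW r hr
  obtain ⟨f, hfW', hxf⟩ := hU.exists_basicOpen_le ⟨(x : X), hxW'⟩ x.2
  have hV : IsAffineOpen (X.basicOpen f) := hU.basicOpen f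
  have hVW : X.basicOpen f ≤ W := hfW'.trans hW'W
  have hVU : X.basicOpen f ≤ U := X.basicOpen_le f
  let _ : Module Γ(X, U) Γ(I, X.basicOpen f) :=
    Module.compHom _ (algebraMap Γ(X, U) Γ(X, X.basicOpen f))
  have : IsScalarTower Γ(X, U) Γ(X, X.basicOpen f) Γ(I, X.basicOpen f) :=
    IsScalarTower.of_compHom _ _ _
  have hloc : IsLocalization.Away f Γ(X, X.basicOpen f) := hU.isLocalization_basicOpen f
  have hMB : Module.Injective Γ(X, X.basicOpen f) Γ(I, X.basicOpen f) :=
    injective_sections_of_injective hV I hI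
  have hMA : Module.Injective Γ(X, U) Γ(I, X.basicOpen f) :=
    injective_of_isLocalization (.powers f) hMB
  have hsmul : ∀ (c : Γ(X, U)) (m : Γ(I, X.basicOpen f)), c • m = fres hVU c • m :=
    fun c m => rfl
  let s' : Fin n → Γ(I, X.basicOpen f) := fun i => mres I hVW (s i)
  let θ : (Fin n → Γ(X, U)) →ₗ[Γ(X, U)] Γ(I, X.basicOpen f) :=
    Fintype.linearCombination Γ(X, U) s'
  have hθ : ∀ j, θ (κ j) = 0 := by
    intro j
    have h1 : θ (κ j) = mres I hVW (r j) := by
      change ∑ i, κ j i • s' i = _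
      rw [map_sum]
      refine Finset.sum_congr rfl fun i _ => ?_
      rw [hsmul, mres_smul]
      congr 1
      exact (fres_fres hVW hWU (κ j i)).symm
    have h2 : mres I hVW (r j) = mres I hfW' (mres I hW'W (r j)) := by rw [mres_mres]
    rw [h1, h2, hvan j, map_zero]
  have hK : LinearMap.ker π ≤ LinearMap.ker θ := by
    rw [← hκ, Submodule.span_le]
    rintro _ ⟨j, rfl⟩
    exact hθ j
  let f₁ : ((Fin n → Γ(X, U)) ⧸ LinearMap.ker π) →ₗ[Γ(X, U)] Γ(X, U) :=
    (LinearMap.ker π).liftQ π le_rfl
  have hf₁ : Function.Injective f₁ :=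
    LinearMap.ker_eq_bot.mp (Submodule.ker_liftQ_eq_bot' _ π rfl)
  let g₁ : ((Fin n → Γ(X, U)) ⧸ LinearMap.ker π) →ₗ[Γ(X, U)] Γ(I, X.basicOpen f) :=
    (LinearMap.ker π).liftQ θ hK
  obtain ⟨h, hh⟩ := Module.Injective.extension_property Γ(X, U) Γ(I, X.basicOpen f) _ _ f₁ hf₁ g₁
  let σ : Γ(I, X.basicOpen f) := h 1
  have hσ : ∀ i, a i • σ = s' i := by
    intro i
    have e1 : f₁ (Submodule.Quotient.mk (Pi.single i 1)) = a i := by
      change π (Pi.single i 1) = a i
      rw [Fintype.linearCombination_apply_single, one_smul]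
    have e2 : g₁ (Submodule.Quotient.mk (Pi.single i 1)) = s' i := by
      change θ (Pi.single i 1) = s' i
      rw [Fintype.linearCombination_apply_single, one_smul]
    have e3 : h (f₁ (Submodule.Quotient.mk (Pi.single i 1))) =
        g₁ (Submodule.Quotient.mk (Pi.single i 1)) := by
      rw [← hh]
      rfl
    rw [e1, e2] at e3
    rw [← e3, ← map_smul, smul_eq_mul, mul_one]
  let y : I.presheaf.stalk (x : X) := I.presheaf.germ (X.basicOpen f) x hxf σ
  have hgen : ∀ i, a i • y = g ⟨a i, ham i⟩ := by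
    intro i
    rw [← hs i, ← germ_mres I hVW x hxf (s i)]
    change a i • y = I.presheaf.germ (X.basicOpen f) x hxf (s' i)
    rw [← hσ i, hsmul, germ_fres_smul]
  refine ⟨LinearMap.toSpanSingleton Γ(X, U) _ y, ?_⟩
  intro c hc
  rw [LinearMap.toSpanSingleton_apply]
  induction hc using Submodule.span_induction with
  | mem c hc =>
    obtain ⟨i, rfl⟩ := hc
    exact hgen i
  | zero =>
    rw [zero_smul]
    exact (map_zero g).symm
  | add c d hc hd ihc ihd =>
    rw [add_smul, ihc, ihd, ← map_add]
    rfl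
  | smul t c hc ihc =>
    have e1 : (t • c) • y = t • (c • y) := smul_assoc t c y
    rw [e1, ihc, ← map_smul]
    rfl

end Main

section Final

attribute [local instance] stalkModuleSections

variable {U : X.Opens} (hU : IsAffineOpen U) (I : X.Modules) (x : U)

include hU in
theorem injective_stalk_of_injective_aux [IsNoetherianRing Γ(X, U)] (hI : Injective I) :
    Module.Injective (X.presheaf.stalk (x : X)) (I.presheaf.stalk (x : X)) := by
  have hA : Module.Injective Γ(X, U) (I.presheaf.stalk (x : X)) := (baer_stalk hU I x hI).injective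
  have hloc := hU.isLocalization_stalk x
  have hid := isLocalizedModule_id (hU.primeIdealOf x).asIdeal.primeCompl
    (I.presheaf.stalk (x : X)) (X.presheaf.stalk (x : X))
  exact Module.injective_of_isLocalizedModule (hU.primeIdealOf x).asIdeal.primeCompl
    (LinearMap.id : I.presheaf.stalk (x : X) →ₗ[Γ(X, U)] _)

/-- **R&D II.7.12**: the stalks of an injective `O_X`-module on a locally Noetherian scheme are
injective modules over the local rings. -/
theorem injective_stalk_of_injective [IsLocallyNoetherian X] (I : X.Modules) (hI : Injective I)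
    (x : X) : Module.Injective (X.presheaf.stalk x) (I.presheaf.stalk x) := by
  obtain ⟨V, hV, hxV, -⟩ := exists_isAffineOpen_mem_and_subset (U := ⊤) (x := x) (by simp)
  have hN := IsLocallyNoetherian.component_noetherian (X := X) ⟨V, hV⟩
  exact injective_stalk_of_injective_aux hV I ⟨x, hxV⟩ hI

end Final

end Groth.Agent.Helper19.InjStalk
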