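import Mathlib
import Groth.Prelude.Def_W4stkremschemesLRS

/-!
# Closed immersions of locally ringed spaces into an affine scheme
-/

set_option autoImplicit false
universe u

open CategoryTheory TopologicalSpace Opposite AlgebraicGeometry TopCat PrimeSpectrum

namespace Groth.Agent.Helper19.LRSAffine

open AlgebraicGeometry.StructureSheaf

section StructureSheaf

variable (R : Type u) [CommRing R]

/-- sections of the structure sheaf, typed so that the `R`-algebra instance is found. -/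
noncomputable abbrev Sec (U : Opens (PrimeSpectrum R)) : CommRingCat :=
  (Spec.structureSheaf R).obj.obj (op U : (Opens (PrimeSpectrum R))ᵒᵖ)

/-- stalks of the structure sheaf. -/
noncomputable abbrev Stk (q : PrimeSpectrum R) : CommRingCat :=
  (Spec.structureSheaf R).presheaf.stalk q

noncomputable instance (h : R) : IsLocalization.Away h (Sec R (PrimeSpectrum.basicOpen h)) :=
  IsLocalization.to_basicOpen R h

variable {R}

/-- the germ map of the structure sheaf as a ring hom from sections. -/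
noncomputable abbrev gm (U : Opens (PrimeSpectrum R)) (q : PrimeSpectrum R) (hq : q ∈ U) :
    Sec R U →+* Stk R q :=
  ((Spec.structureSheaf R).presheaf.germ U q hq).hom

lemma gm_algebraMap (U : Opens (PrimeSpectrum R)) (q : PrimeSpectrum R) (hq : q ∈ U)
    (a : R) : gm U q hq (algebraMap R _ a) = algebraMap R _ a := by
  have := StructureSheaf.algebraMap_germ (R := R) U q hq
  exact congr_arg (fun φ => φ.hom a) this

lemma gm_comp_algebraMap (U : Opens (PrimeSpectrum R)) (q : PrimeSpectrum R) (hq : q ∈ U) :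
    (gm U q hq).comp (algebraMap R _) = algebraMap R _ := by
  ext a
  exact gm_algebraMap U q hq a

/-- Local claim: if `a` lies stalkwise in the extension of `J ⊆ 𝒪(D(h))` at all points of
`D(h) ∩ D(g)`, then `(g h)^n a ∈ J` for some `n`. -/
lemma exists_pow_mul_mem (h g a : R) (J : Ideal (Sec R (PrimeSpectrum.basicOpen h)))
    (H : ∀ (q : PrimeSpectrum R) (hq : q ∈ PrimeSpectrum.basicOpen h), g ∉ q.asIdeal →
      algebraMap R (Stk R q) a ∈ J.map (gm (PrimeSpectrum.basicOpen h) q hq)) :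
    ∃ n : ℕ, algebraMap R (Sec R (PrimeSpectrum.basicOpen h)) ((g * h) ^ n * a) ∈ J := by
  let J' : Ideal R := J.comap (algebraMap R (Sec R (PrimeSpectrum.basicOpen h)))
  have hJ' : J'.map (algebraMap R (Sec R (PrimeSpectrum.basicOpen h))) = J :=
    IsLocalization.map_under (Submonoid.powers h) _ J
  let N : Ideal R := J'.colon {a}
  have hN : ∀ r, r ∈ N ↔ r * a ∈ J' := fun r => by
    simp [N, Submodule.mem_colon_singleton]
  suffices hrad : g * h ∈ N.radical by
    obtain ⟨n, hn⟩ := hrad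
    exact ⟨n, (hN _).1 hn⟩
  rw [Ideal.radical_eq_sInf, Ideal.mem_sInf]
  rintro Q ⟨hNQ, hQ⟩
  by_contra hgh
  have hg : g ∉ Q := fun hg => hgh (Q.mul_mem_right _ hg)
  have hh : h ∉ Q := fun hh => hgh (Q.mul_mem_left _ hh)
  let q : PrimeSpectrum R := ⟨Q, hQ⟩
  have hq : q ∈ PrimeSpectrum.basicOpen h := hh
  have H1 := H q hq hg
  rw [← hJ', Ideal.map_map, gm_comp_algebraMap] at H1
  have : IsLocalization q.asIdeal.primeCompl (Stk R q) := IsLocalization.to_stalk R q
  obtain ⟨⟨b, r₀⟩, hb⟩ := (IsLocalization.mem_map_algebraMap_iff q.asIdeal.primeCompl _).1 H1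
  dsimp only at hb
  rw [← map_mul] at hb
  obtain ⟨r₁, hr₁⟩ := (IsLocalization.eq_iff_exists q.asIdeal.primeCompl _).1 hb
  have hmem : (r₁ : R) * r₀ ∈ N := by
    rw [hN]
    have : (r₁ : R) * r₀ * a = r₁ * (b : R) := by
      rw [← hr₁]; ring
    rw [this]
    exact J'.mul_mem_left _ b.2
  have := hNQ hmem
  rcases hQ.mem_or_mem this with h1 | h1
  · exact r₁.2 h1
  · exact r₀.2 h1

end StructureSheaf

section LRS

variable {R : Type u} [CommRing R] {Z : LocallyRingedSpace.{u}}
  (i : Z ⟶ Spec.locallyRingedSpaceObj (CommRingCat.of R))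

/-- the pushforward presheaf `i_* 𝒪_Z` on `Spec R`. -/
noncomputable abbrev PF : TopCat.Presheaf CommRingCat (PrimeSpectrum.Top R) :=
  i.base _* Z.presheaf

/-- the map on sections over `U`. -/
noncomputable def cApp (U : Opens (PrimeSpectrum R)) : Sec R U →+* (PF i).obj (op U) :=
  (i.c.app (op U)).hom

lemma cApp_res {U V : Opens (PrimeSpectrum R)} (hVU : V ≤ U) (s : Sec R U) :
    cApp i V ((Spec.structureSheaf R).obj.map (homOfLE hVU).op s) =
      (PF i).map (homOfLE hVU).op (cApp i U s) := by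
  have := i.c.naturality (homOfLE hVU).op
  exact congr_arg (fun φ => φ.hom s) this

lemma res_algebraMap {U V : Opens (PrimeSpectrum R)} (hVU : V ≤ U) (a : R) :
    (Spec.structureSheaf R).obj.map (homOfLE hVU).op (algebraMap R (Sec R U) a) =
      algebraMap R (Sec R V) a := rfl

/-- the ideal of elements of `R` vanishing in `𝒪_Z(i⁻¹ U)`. -/
noncomputable def kap (U : Opens (PrimeSpectrum R)) : Ideal R :=
  RingHom.ker ((cApp i U).comp (algebraMap R (Sec R U)))

lemma mem_kap {U : Opens (PrimeSpectrum R)} {a : R} :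
    a ∈ kap i U ↔ cApp i U (algebraMap R (Sec R U) a) = 0 := Iff.rfl

lemma kap_mono {U V : Opens (PrimeSpectrum R)} (hVU : V ≤ U) : kap i U ≤ kap i V := by
  intro a ha
  rw [mem_kap] at ha ⊢
  rw [← res_algebraMap hVU, cApp_res, ha, map_zero]

/-- the stalk map of `i.c` at `q`. -/
noncomputable def st (q : PrimeSpectrum R) : Stk R q →+* ((PF i).stalk q : CommRingCat) :=
  ((TopCat.Presheaf.stalkFunctor CommRingCat
    (X := (Spec.locallyRingedSpaceObj (CommRingCat.of R)).toTopCat) q).map i.c).hom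

lemma st_gm (U : Opens (PrimeSpectrum R)) (q : PrimeSpectrum R) (hq : q ∈ U) (s : Sec R U) :
    st i q (gm U q hq s) = (PF i).germ U q hq (cApp i U s) :=
  TopCat.Presheaf.stalkFunctor_map_germ_apply
    (X := (Spec.locallyRingedSpaceObj (CommRingCat.of R)).toTopCat) U q hq i.c s

lemma st_algebraMap_of_mem_kap {U : Opens (PrimeSpectrum R)} {a : R} (ha : a ∈ kap i U)
    (q : PrimeSpectrum R) (hq : q ∈ U) : st i q (algebraMap R (Stk R q) a) = 0 := by
  have h1 := st_gm i U q hq (algebraMap R (Sec R U) a)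
  rw [gm_algebraMap] at h1
  rw [h1, (mem_kap i).1 ha, map_zero]

/-- Lemma A: an element of `R` whose germ at `q` dies in `(i_* 𝒪_Z)_q` dies over a basic open
neighbourhood of `q`. -/
lemma exists_mem_kap_basicOpen (a : R) (q : PrimeSpectrum R)
    (ha : st i q (algebraMap R (Stk R q) a) = 0) :
    ∃ g : R, g ∉ q.asIdeal ∧ a ∈ kap i (PrimeSpectrum.basicOpen g) := by
  have h1 := st_gm i (⊤ : Opens (PrimeSpectrum R)) q trivial
    (algebraMap R (Sec R (⊤ : Opens (PrimeSpectrum R))) a)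
  rw [gm_algebraMap (⊤ : Opens (PrimeSpectrum R)) q trivial a] at h1
  rw [h1] at ha
  have h0 : (PF i).germ (⊤ : Opens (PrimeSpectrum R)) q trivial
      (cApp i (⊤ : Opens (PrimeSpectrum R)) (algebraMap R (Sec R (⊤ : Opens (PrimeSpectrum R))) a)) =
      (PF i).germ (⊤ : Opens (PrimeSpectrum R)) q trivial 0 := by rw [ha, map_zero]
  obtain ⟨W, hqW, iU, iV, hW⟩ := TopCat.Presheaf.germ_eq (PF i) (U := (⊤ : Opens (PrimeSpectrum R)))
    (V := (⊤ : Opens (PrimeSpectrum R))) q (by trivial) (by trivial) _ _ h0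
  obtain ⟨_, ⟨g, rfl⟩, hqg, hgW⟩ :=
    PrimeSpectrum.isTopologicalBasis_basic_opens.exists_subset_of_mem_open hqW W.isOpen
  refine ⟨g, hqg, ?_⟩
  rw [mem_kap, ← res_algebraMap (le_top : PrimeSpectrum.basicOpen g ≤ ⊤), cApp_res]
  have hgW' : PrimeSpectrum.basicOpen g ≤ W := hgW
  refine (ConcreteCategory.congr_hom ((PF i).map_comp iU.op (homOfLE hgW').op) _).trans ?_
  show (PF i).map (homOfLE hgW').op ((PF i).map iU.op _) = 0
  exact (congr_arg _ hW).trans ((congr_arg _ (map_zero _)).trans (map_zero _))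

/-- Step B1: locally, `g^n a` vanishes in `𝒪_Z`. -/
lemma exists_basicOpen_pow_mul_mem_kap (hgen : LRSImm.KerLocallyGenerated i) (a g : R)
    (ha : a ∈ kap i (PrimeSpectrum.basicOpen g)) (x : PrimeSpectrum R) :
    ∃ (h : R) (n : ℕ), x ∈ PrimeSpectrum.basicOpen h ∧
      g ^ n * a ∈ kap i (PrimeSpectrum.basicOpen h) := by
  obtain ⟨U₀, hxU, ι, s, hs0, hspan⟩ := hgen x
  let U : Opens (PrimeSpectrum R) := U₀
  obtain ⟨_, ⟨h, rfl⟩, hxh, hhU⟩ :=
    PrimeSpectrum.isTopologicalBasis_basic_opens.exists_subset_of_mem_open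
      (show x ∈ (U : Set (PrimeSpectrum R)) from hxU) U.isOpen
  have hhU' : PrimeSpectrum.basicOpen h ≤ U := hhU
  let s₁ : ι → Sec R U := s
  let s' : ι → Sec R (PrimeSpectrum.basicOpen h) := fun j =>
    (Spec.structureSheaf R).obj.map (homOfLE hhU').op (s₁ j)
  let J : Ideal (Sec R (PrimeSpectrum.basicOpen h)) := Ideal.span (Set.range s')
  have hJ : J ≤ RingHom.ker (cApp i (PrimeSpectrum.basicOpen h)) := by
    rw [Ideal.span_le]
    rintro _ ⟨j, rfl⟩
    show cApp i _ (s' j) = 0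
    have h1 : cApp i U (s₁ j) = 0 := hs0 j
    exact (cApp_res i hhU' (s₁ j)).trans ((congr_arg _ h1).trans (map_zero _))
  obtain ⟨n, hn⟩ := exists_pow_mul_mem h g a J (by
    intro q hq hgq
    have hker : st i q (algebraMap R (Stk R q) a) = 0 :=
      st_algebraMap_of_mem_kap i ha q hgq
    have hmem : algebraMap R (Stk R q) a ∈
        Ideal.span (Set.range fun j => gm U q (hhU hq) (s₁ j)) := by
      have := hspan q (hhU hq)
      exact this.symm ▸ (RingHom.mem_ker.2 hker)
    refine (Ideal.span_le.2 ?_) hmem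
    rintro _ ⟨j, rfl⟩
    have h2 : gm (PrimeSpectrum.basicOpen h) q hq (s' j) = gm U q (hhU hq) (s₁ j) :=
      TopCat.Presheaf.germ_res_apply (Spec.structureSheaf R).presheaf (homOfLE hhU') q hq (s₁ j)
    show gm U q (hhU hq) (s₁ j) ∈ _
    rw [← h2]
    exact Ideal.mem_map_of_mem _ (Ideal.subset_span ⟨j, rfl⟩))
  refine ⟨h, n, hxh, ?_⟩
  have h3 : cApp i (PrimeSpectrum.basicOpen h)
      (algebraMap R (Sec R (PrimeSpectrum.basicOpen h)) ((g * h) ^ n * a)) = 0 := hJ hn
  have h4 : (g * h) ^ n * a = h ^ n * (g ^ n * a) := by ring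
  rw [h4, map_mul, map_mul] at h3
  have hu : IsUnit (cApp i (PrimeSpectrum.basicOpen h)
      (algebraMap R (Sec R (PrimeSpectrum.basicOpen h)) (h ^ n))) := by
    rw [map_pow, map_pow]
    exact ((IsLocalization.Away.algebraMap_isUnit h).map _).pow n
  exact (hu.mul_right_eq_zero).1 h3

/-- Lemma B: if `a` vanishes in `𝒪_Z` over `i⁻¹ D(g)`, then `g^n a` vanishes globally. -/
lemma exists_pow_mul_mem_kap_top (hgen : LRSImm.KerLocallyGenerated i) (a g : R)
    (ha : a ∈ kap i (PrimeSpectrum.basicOpen g)) : ∃ n : ℕ, g ^ n * a ∈ kap i ⊤ := by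
  choose h n hx hmem using exists_basicOpen_pow_mul_mem_kap i hgen a g ha
  obtain ⟨t, ht⟩ := isCompact_univ.elim_finite_subcover
    (fun x => (PrimeSpectrum.basicOpen (h x) : Set (PrimeSpectrum R)))
    (fun x => (PrimeSpectrum.basicOpen (h x)).isOpen) (fun x _ => Set.mem_iUnion.2 ⟨x, hx x⟩)
  refine ⟨t.sup n, ?_⟩
  have hall : ∀ x ∈ t, g ^ (t.sup n) * a ∈ kap i (PrimeSpectrum.basicOpen (h x)) := by
    intro x hxt
    have : g ^ (t.sup n) * a = g ^ (t.sup n - n x) * (g ^ n x * a) := by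
      rw [← mul_assoc, ← pow_add, Nat.sub_add_cancel (Finset.le_sup hxt)]
    rw [this]
    exact Ideal.mul_mem_left _ _ (hmem x)
  generalize g ^ (t.sup n) * a = b at hall
  rw [mem_kap]
  refine TopCat.Sheaf.eq_of_locally_eq' Z.sheaf
    (fun x : t => (Opens.map i.base).obj (PrimeSpectrum.basicOpen (h x.1)))
    ((Opens.map i.base).obj ⊤) (fun x => homOfLE (fun _ _ => trivial)) ?_ _ 0 ?_
  · intro z _
    have hz : i.base z ∈ (Set.univ : Set (PrimeSpectrum R)) := trivial
    obtain ⟨x, hx1⟩ := Set.mem_iUnion.1 (ht hz)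
    obtain ⟨hxt, hx2⟩ := Set.mem_iUnion.1 hx1
    exact Opens.mem_iSup.2 ⟨⟨x, hxt⟩, hx2⟩
  · intro x
    have h1 := cApp_res i (le_top : PrimeSpectrum.basicOpen (h x.1) ≤ ⊤)
      (algebraMap R (Sec R ⊤) b)
    rw [res_algebraMap, (mem_kap i).1 (hall x.1 x.2)] at h1
    exact h1.symm.trans (map_zero _).symm

/-- Step 1: the kernel of the stalk map of `i.c` at `q` is the extension of the global kernel. -/
theorem ker_st (hgen : LRSImm.KerLocallyGenerated i) (q : PrimeSpectrum R) :
    RingHom.ker (st i q) = (kap i ⊤).map (algebraMap R (Stk R q)) := by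
  have : IsLocalization q.asIdeal.primeCompl (Stk R q) := IsLocalization.to_stalk R q
  apply le_antisymm
  · intro t ht
    obtain ⟨⟨a, s⟩, hts⟩ := IsLocalization.surj q.asIdeal.primeCompl t
    dsimp only at hts
    have ha : st i q (algebraMap R _ a) = 0 := by
      rw [← hts, map_mul, RingHom.mem_ker.1 ht, zero_mul]
    obtain ⟨g, hg, hag⟩ := exists_mem_kap_basicOpen i a q ha
    obtain ⟨n, hn⟩ := exists_pow_mul_mem_kap_top i hgen a g hag
    rw [IsLocalization.mem_map_algebraMap_iff q.asIdeal.primeCompl]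
    refine ⟨⟨⟨g ^ n * a, hn⟩, ⟨s * g ^ n, ?_⟩⟩, ?_⟩
    · exact q.asIdeal.primeCompl.mul_mem s.2 (q.asIdeal.primeCompl.pow_mem hg n)
    · dsimp only
      rw [map_mul, ← mul_assoc, hts, ← map_mul]
      congr 1
      ring
  · rw [Ideal.map_le_iff_le_comap]
    intro b hb
    exact st_algebraMap_of_mem_kap i hb q trivial

end LRS

section Iso

variable {R : Type u} [CommRing R] {Z : LocallyRingedSpace.{u}}
  (i : Z ⟶ Spec.locallyRingedSpaceObj (CommRingCat.of R))

/-- the ring map `R ⟶ Γ(Z)`. -/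
noncomputable def phi : CommRingCat.of R ⟶ LocallyRingedSpace.Γ.obj (op Z) :=
  CommRingCat.ofHom (algebraMap R (Sec R ⊤)) ≫ i.c.app (op ⊤)

lemma kap_top_eq : kap i ⊤ = RingHom.ker (phi i).hom := rfl

lemma i_eq : i = Z.toΓSpec ≫ Spec.locallyRingedSpaceMap (phi i) := by
  have h := (ΓSpec.locallyRingedSpaceAdjunction.homEquiv Z (op (CommRingCat.of R))).apply_symm_apply i
  have h2 := ΓSpec.locallyRingedSpaceAdjunction.homEquiv_counit (X := Z)
    (Y := op (CommRingCat.of R)) (g := i)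
  rw [h2] at h
  exact h.symm

variable (I : Ideal R) (hI : I ≤ RingHom.ker (phi i).hom)

/-- the induced map `R ⧸ I ⟶ Γ(Z)`. -/
noncomputable def psi : CommRingCat.of (R ⧸ I) ⟶ LocallyRingedSpace.Γ.obj (op Z) :=
  CommRingCat.ofHom (Ideal.Quotient.lift I (phi i).hom (fun _ ha => hI ha))

lemma psi_mk (a : R) : (psi i I hI).hom (Ideal.Quotient.mk I a) = (phi i).hom a :=
  Ideal.Quotient.lift_mk _ _ _

lemma mk_psi : CommRingCat.ofHom (Ideal.Quotient.mk I) ≫ psi i I hI = phi i := by
  apply CommRingCat.hom_ext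
  apply RingHom.ext
  intro a
  exact psi_mk i I hI a

/-- the morphism `Z ⟶ Spec (R ⧸ I)`. -/
noncomputable def jj : Z ⟶ Spec.locallyRingedSpaceObj (CommRingCat.of (R ⧸ I)) :=
  Z.toΓSpec ≫ Spec.locallyRingedSpaceMap (psi i I hI)

lemma jj_comp :
    jj i I hI ≫ Spec.locallyRingedSpaceMap (CommRingCat.ofHom (Ideal.Quotient.mk I)) = i := by
  rw [jj, Category.assoc, ← Spec.locallyRingedSpaceMap_comp, mk_psi, ← i_eq]

/-- the image point in `Spec R` of `z`. -/
noncomputable def pt (z : Z) : PrimeSpectrum R := i.base z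

/-- the image point in `Spec (R ⧸ I)` of `z`. -/
noncomputable def ptq (z : Z) : PrimeSpectrum (R ⧸ I) := (jj i I hI).base z

lemma comap_ptq (z : Z) :
    PrimeSpectrum.comap (Ideal.Quotient.mk I) (ptq i I hI z) = pt i z := by
  have h := congr_arg (fun f => f.base z) (jj_comp i I hI)
  exact h

lemma mk_mem_ptq_iff (z : Z) (g : R) :
    Ideal.Quotient.mk I g ∈ (ptq i I hI z).asIdeal ↔ g ∈ (pt i z).asIdeal := by
  rw [← comap_ptq i I hI z]
  rfl

/-- `γ b = germ_z (φ b)`. -/
noncomputable def gam (z : Z) : R →+* Z.presheaf.stalk z :=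
  (Z.presheaf.germ ⊤ z trivial).hom.comp (phi i).hom

/-- the stalk pushforward map `(i_* 𝒪_Z)_{i z} ⟶ 𝒪_{Z,z}`. -/
noncomputable def SP (z : Z) : ((PF i).stalk (pt i z) : CommRingCat) ⟶ Z.presheaf.stalk z :=
  Z.presheaf.stalkPushforward CommRingCat i.base z

lemma SP_st (z : Z) (b : R) :
    (SP i z).hom (st i (pt i z) (algebraMap R (Stk R (pt i z)) b)) = gam i z b := by
  have h1 := st_gm i (⊤ : Opens (PrimeSpectrum R)) (pt i z) trivial
    (algebraMap R (Sec R (⊤ : Opens (PrimeSpectrum R))) b)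
  rw [gm_algebraMap (⊤ : Opens (PrimeSpectrum R)) (pt i z) trivial b] at h1
  rw [h1]
  have h2 := TopCat.Presheaf.stalkPushforward_germ CommRingCat i.base Z.presheaf ⊤ z trivial
  exact congr_arg (fun f => f.hom ((phi i).hom b)) h2

/-- the stalk map of `jj` at `z`, typed with the structure sheaf stalk as source. -/
noncomputable def bet (z : Z) : Stk (R ⧸ I) (ptq i I hI z) →+* Z.presheaf.stalk z :=
  ((jj i I hI).stalkMap z).hom

lemma stalkMap_jj_algebraMap (z : Z) (b : R) :
    bet i I hI z (algebraMap (R ⧸ I) (Stk (R ⧸ I) (ptq i I hI z))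
      (Ideal.Quotient.mk I b)) = gam i z b := by
  have h1 := gm_algebraMap (R := R ⧸ I) (⊤ : Opens (PrimeSpectrum (R ⧸ I))) (ptq i I hI z) trivial
    (Ideal.Quotient.mk I b)
  rw [← h1]
  have h2 := LocallyRingedSpace.stalkMap_germ_apply (jj i I hI) ⊤ z trivial
    (algebraMap (R ⧸ I) (Sec (R ⧸ I) (⊤ : Opens (PrimeSpectrum (R ⧸ I)))) (Ideal.Quotient.mk I b))
  refine h2.trans ?_
  have h3 := ΓSpec.toOpen_comp_locallyRingedSpaceAdjunction_homEquiv_app (X := Z) (R := R ⧸ I)
    (psi i I hI).op (op ⊤)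
  have h4 := congr_arg (fun f => f.hom (Ideal.Quotient.mk I b)) h3
  dsimp only at h4
  erw [h4]
  refine (TopCat.Presheaf.germ_res_apply Z.presheaf
    (homOfLE (le_top : (Opens.map (jj i I hI).base).obj ⊤ ≤ ⊤)) z trivial
    ((psi i I hI).hom (Ideal.Quotient.mk I b))).trans ?_
  rw [psi_mk]
  rfl

variable (hi : LRSImm.IsClosedImmersion i) (hIk : kap i ⊤ ≤ I)

include hi in
lemma SP_bijective (z : Z) : Function.Bijective (SP i z).hom := by
  have : IsIso (SP i z) :=
    TopCat.Presheaf.stalkPushforward.stalkPushforward_iso_of_isInducing CommRingCat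
      hi.1.isInducing Z.presheaf z
  exact ConcreteCategory.bijective_of_isIso (SP i z)

include hi hIk in
lemma stalkMap_jj_injective (z : Z) : Function.Injective (bet i I hI z) := by
  have : IsLocalization (ptq i I hI z).asIdeal.primeCompl (Stk (R ⧸ I) (ptq i I hI z)) :=
    IsLocalization.to_stalk (R ⧸ I) _
  rw [injective_iff_map_eq_zero]
  intro y hy
  obtain ⟨⟨a', s'⟩, hys⟩ := IsLocalization.surj (ptq i I hI z).asIdeal.primeCompl y
  dsimp only at hys
  obtain ⟨a, rfl⟩ := Ideal.Quotient.mk_surjective a'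
  have h1 : gam i z a = 0 := by
    rw [← stalkMap_jj_algebraMap i I hI z a, ← hys, map_mul, hy, zero_mul]
  have h2 : st i (pt i z) (algebraMap R _ a) = 0 := by
    apply (SP_bijective i hi z).1
    rw [SP_st, h1, map_zero]
  obtain ⟨g, hg, hag⟩ := exists_mem_kap_basicOpen i a _ h2
  obtain ⟨n, hn⟩ := exists_pow_mul_mem_kap_top i hi.2.2 a g hag
  have h3 : Ideal.Quotient.mk I (g ^ n) * Ideal.Quotient.mk I a = 0 := by
    rw [← map_mul]
    exact Ideal.Quotient.eq_zero_iff_mem.2 (hIk hn)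
  have hgn : Ideal.Quotient.mk I (g ^ n) ∈ (ptq i I hI z).asIdeal.primeCompl := by
    rw [map_pow]
    refine Submonoid.pow_mem _ ?_ n
    exact fun h => hg ((mk_mem_ptq_iff i I hI z g).1 h)
  have h4 : algebraMap (R ⧸ I) (Stk (R ⧸ I) (ptq i I hI z)) (Ideal.Quotient.mk I a) = 0 := by
    rw [IsLocalization.map_eq_zero_iff (ptq i I hI z).asIdeal.primeCompl]
    exact ⟨⟨_, hgn⟩, h3⟩
  rw [h4] at hys
  exact (IsLocalization.map_units _ s').mul_left_eq_zero.1 hys

include hi in
lemma stalkMap_jj_surjective (z : Z) : Function.Surjective (bet i I hI z) := by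
  have : IsLocalization (pt i z).asIdeal.primeCompl (Stk R (pt i z)) :=
    IsLocalization.to_stalk R _
  have : IsLocalization (ptq i I hI z).asIdeal.primeCompl (Stk (R ⧸ I) (ptq i I hI z)) :=
    IsLocalization.to_stalk (R ⧸ I) _
  intro w
  obtain ⟨w', rfl⟩ := (SP_bijective i hi z).2 w
  have hst : Function.Surjective (st i (pt i z)) :=
    (TopCat.Presheaf.locally_surjective_iff_surjective_on_stalks i.c).1 hi.2.1 (pt i z)
  obtain ⟨x, rfl⟩ := hst w'
  obtain ⟨⟨a, s⟩, hxs⟩ := IsLocalization.surj (pt i z).asIdeal.primeCompl x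
  dsimp only at hxs
  have hs : Ideal.Quotient.mk I (s : R) ∈ (ptq i I hI z).asIdeal.primeCompl :=
    fun h => s.2 ((mk_mem_ptq_iff i I hI z s).1 h)
  have hu : IsUnit (algebraMap (R ⧸ I) (Stk (R ⧸ I) (ptq i I hI z)) (Ideal.Quotient.mk I (s : R))) :=
    IsLocalization.map_units _ (⟨_, hs⟩ : (ptq i I hI z).asIdeal.primeCompl)
  obtain ⟨u, hu'⟩ := hu
  refine ⟨algebraMap _ _ (Ideal.Quotient.mk I a) * ↑u⁻¹, ?_⟩
  have h1 : (SP i z).hom (st i (pt i z) x) * gam i z s = gam i z a := by
    rw [← SP_st, ← SP_st, ← map_mul, ← map_mul, hxs]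
  have h2 : bet i I hI z (u : Stk (R ⧸ I) (ptq i I hI z)) = gam i z s := by
    rw [hu']
    exact stalkMap_jj_algebraMap i I hI z s
  have h3 : IsUnit (gam i z s) := by
    rw [← h2]
    exact u.isUnit.map _
  rw [← h3.mul_left_inj, h1, ← h2, ← map_mul, mul_assoc, Units.inv_mul, mul_one]
  exact stalkMap_jj_algebraMap i I hI z a

include hi hIk in
lemma jj_base_surjective : Function.Surjective (jj i I hI).base := by
  intro P'
  let p' : PrimeSpectrum R := PrimeSpectrum.comap (Ideal.Quotient.mk I) P'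
  have hp' : p' ∈ Set.range i.base := by
    by_contra hnot
    let W : Opens (PrimeSpectrum R) := ⟨(Set.range i.base)ᶜ, hi.1.isClosed_range.isOpen_compl⟩
    have hW : (Opens.map i.base).obj W = ⊥ := by
      ext z
      simp only [SetLike.mem_coe, Opens.coe_bot, Set.mem_empty_iff_false, iff_false]
      intro hz
      exact hz ⟨z, rfl⟩
    have h1 : (1 : R) ∈ kap i W := by
      rw [mem_kap]
      have : Subsingleton ((PF i).obj (op W)) :=
        CommRingCat.subsingleton_of_isTerminal (Z.sheaf.isTerminalOfEqEmpty hW)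
      exact Subsingleton.elim _ _
    obtain ⟨_, ⟨g, rfl⟩, hpg, hgW⟩ :=
      PrimeSpectrum.isTopologicalBasis_basic_opens.exists_subset_of_mem_open
        (show p' ∈ (W : Set (PrimeSpectrum R)) from hnot) W.isOpen
    have h2 := kap_mono i (show PrimeSpectrum.basicOpen g ≤ W from hgW) h1
    obtain ⟨n, hn⟩ := exists_pow_mul_mem_kap_top i hi.2.2 1 g h2
    rw [mul_one] at hn
    have h3 : Ideal.Quotient.mk I (g ^ n) = 0 := Ideal.Quotient.eq_zero_iff_mem.2 (hIk hn)
    have h4 : g ∈ p'.asIdeal := by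
      show Ideal.Quotient.mk I g ∈ P'.asIdeal
      apply P'.isPrime.mem_of_pow_mem n
      rw [← map_pow, h3]
      exact zero_mem _
    exact hpg h4
  obtain ⟨z, hz⟩ := hp'
  refine ⟨z, ?_⟩
  apply PrimeSpectrum.comap_injective_of_surjective _ Ideal.Quotient.mk_surjective
  exact (comap_ptq i I hI z).trans hz

include hi hIk in
lemma jj_isOpenEmbedding : Topology.IsOpenEmbedding (jj i I hI).base := by
  have hemb : Topology.IsEmbedding (jj i I hI).base := by
    have h1 : Topology.IsEmbedding (PrimeSpectrum.comap (Ideal.Quotient.mk I)) :=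
      (PrimeSpectrum.isClosedEmbedding_comap_of_surjective _ _
        Ideal.Quotient.mk_surjective).isEmbedding
    have h2 : Topology.IsEmbedding
        ((PrimeSpectrum.comap (Ideal.Quotient.mk I)) ∘ (jj i I hI).base) := by
      have : (PrimeSpectrum.comap (Ideal.Quotient.mk I)) ∘ (jj i I hI).base = i.base :=
        funext (comap_ptq i I hI)
      rw [this]
      exact hi.1.isEmbedding
    exact (h1.of_comp_iff).1 h2
  exact hemb.isOpenEmbedding_of_surjective (jj_base_surjective i I hI hi hIk)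

include hi hIk in
theorem isIso_jj : IsIso (jj i I hI) := by
  have h1 : ∀ z, IsIso ((jj i I hI).stalkMap z) := fun z => by
    rw [ConcreteCategory.isIso_iff_bijective]
    exact ⟨stalkMap_jj_injective i I hI hi hIk z, stalkMap_jj_surjective i I hI hi z⟩
  have h2 : LocallyRingedSpace.IsOpenImmersion (jj i I hI) :=
    LocallyRingedSpace.IsOpenImmersion.of_stalk_iso _ (jj_isOpenEmbedding i I hI hi hIk)
  have h3 : Epi (jj i I hI).base := (TopCat.epi_iff_surjective _).2 (jj_base_surjective i I hI hi hIk)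
  exact LocallyRingedSpace.IsOpenImmersion.to_iso _

/-- A closed immersion of locally ringed spaces into `Spec R` is `Spec (R ⧸ I) ⟶ Spec R`, with
`I` the kernel of `R ⟶ Γ(Z)`. -/
theorem exists_iso_spec_quotient (hi : LRSImm.IsClosedImmersion i) (I : Ideal R)
    (hI : I = RingHom.ker (phi i).hom) :
    ∃ e : Z ≅ Spec.locallyRingedSpaceObj (CommRingCat.of (R ⧸ I)),
      e.hom ≫ Spec.locallyRingedSpaceMap (CommRingCat.ofHom (Ideal.Quotient.mk I)) = i := by
  haveI := isIso_jj i I hI.le hi hI.ge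
  exact ⟨asIso (jj i I hI.le), jj_comp i I hI.le⟩

end Iso

end Groth.Agent.Helper19.LRSAffine
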