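import Mathlib
import Groth.Prelude.Def_W4stkremschemesLRS

/-!
# Closed immersions of locally ringed spaces: base change along open immersions
-/

set_option autoImplicit false
universe u

open CategoryTheory TopologicalSpace Opposite AlgebraicGeometry TopCat

namespace Groth.Agent.Helper19.LRSImmBC

section General

variable {Z X : LocallyRingedSpace.{u}} (f : Z ⟶ X)

/-- the map on stalks at `y` induced by `f.c : 𝒪_X ⟶ f_* 𝒪_Z`. -/
noncomputable abbrev stc (y : X) :
    X.presheaf.stalk y ⟶ (f.base _* Z.presheaf).stalk y :=
  (TopCat.Presheaf.stalkFunctor CommRingCat y).map f.c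

/-- the stalk pushforward map. -/
noncomputable abbrev SPm (z : Z) :
    (f.base _* Z.presheaf).stalk (f.base z) ⟶ Z.presheaf.stalk z :=
  Z.presheaf.stalkPushforward CommRingCat f.base z

lemma stalkMap_eq (z : Z) : f.stalkMap z = stc f (f.base z) ≫ SPm f z := rfl

lemma SPm_bijective (hf : Topology.IsInducing f.base) (z : Z) :
    Function.Bijective (SPm f z).hom := by
  have : IsIso (SPm f z) :=
    TopCat.Presheaf.stalkPushforward.stalkPushforward_iso_of_isInducing CommRingCat hf
      Z.presheaf z
  exact ConcreteCategory.bijective_of_isIso (SPm f z)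

lemma stc_eq_zero_iff (hf : Topology.IsInducing f.base) (z : Z) (t : X.presheaf.stalk (f.base z)) :
    (stc f (f.base z)).hom t = 0 ↔ (f.stalkMap z).hom t = 0 := by
  have h : (f.stalkMap z).hom t = (SPm f z).hom ((stc f (f.base z)).hom t) := rfl
  rw [h]
  constructor
  · intro h0
    rw [h0, map_zero]
  · intro h0
    apply (SPm_bijective f hf z).1
    rw [h0, map_zero]

lemma stc_surjective_iff (hf : Topology.IsInducing f.base) (z : Z) :
    Function.Surjective (stc f (f.base z)).hom ↔ Function.Surjective (f.stalkMap z).hom := by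
  have h : ⇑(f.stalkMap z).hom = ⇑(SPm f z).hom ∘ ⇑(stc f (f.base z)).hom := rfl
  rw [h]
  constructor
  · intro h0
    exact (SPm_bijective f hf z).2.comp h0
  · intro h0
    intro w
    obtain ⟨t, ht⟩ := h0 ((SPm f z).hom w)
    exact ⟨t, (SPm_bijective f hf z).1 ht⟩

lemma subsingleton_stalk (hf : IsClosed (Set.range f.base)) (y : X)
    (hy : y ∉ Set.range f.base) : Subsingleton ((f.base _* Z.presheaf).stalk y : CommRingCat) := by
  let W : Opens X := ⟨(Set.range f.base)ᶜ, hf.isOpen_compl⟩
  have hW : (Opens.map f.base).obj W = ⊥ := by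
    ext z
    simp only [SetLike.mem_coe, Opens.coe_bot, Set.mem_empty_iff_false, iff_false]
    intro hz
    exact hz ⟨z, rfl⟩
  have h1 : Subsingleton ((f.base _* Z.presheaf).obj (op W)) :=
    CommRingCat.subsingleton_of_isTerminal (Z.sheaf.isTerminalOfEqEmpty hW)
  have h2 : (1 : ((f.base _* Z.presheaf).stalk y : CommRingCat)) = 0 := by
    have e1 : (f.base _* Z.presheaf).germ W y hy 1 = 1 := map_one _
    have e0 : (f.base _* Z.presheaf).germ W y hy 0 = 0 := map_zero _
    rw [← e1, ← e0, Subsingleton.elim (1 : (f.base _* Z.presheaf).obj (op W)) 0]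
  exact subsingleton_of_zero_eq_one h2.symm

end General

lemma c_app_eq_zero_of_eq {Z X : LocallyRingedSpace.{u}} {α β : Z ⟶ X} (h : α = β)
    (U : (Opens X)ᵒᵖ) (s : X.presheaf.obj U) (h0 : (β.c.app U).hom s = 0) :
    (α.c.app U).hom s = 0 := by
  subst h
  exact h0

lemma stalkSpecializes_bijective_of_eq {X : TopCat.{u}} (F : X.Presheaf CommRingCat.{u})
    {x y : X} (h : x = y) (h' : x ⤳ y) : Function.Bijective (F.stalkSpecializes h').hom := by
  subst h
  have : F.stalkSpecializes h' = 𝟙 _ := TopCat.Presheaf.stalkSpecializes_refl F x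
  rw [this]
  exact Function.bijective_id

section BaseChange

variable {Z X Z' X' : LocallyRingedSpace.{u}} (i : Z ⟶ X) (j : X' ⟶ X) (j' : Z' ⟶ Z)
  (i' : Z' ⟶ X')
  [Hj : LocallyRingedSpace.IsOpenImmersion j] [Hj' : LocallyRingedSpace.IsOpenImmersion j']
  (hd : i' ≫ j = j' ≫ i) (hr : Set.range j'.base = i.base ⁻¹' Set.range j.base)

omit Hj Hj' in
include hd in
lemma base_comm (z' : Z') : j.base (i'.base z') = i.base (j'.base z') := by
  have := congr_arg (fun f => f.base z') hd
  exact this

omit Hj' in
include hd hr in
lemma range_eq : Set.range i'.base = j.base ⁻¹' Set.range i.base := by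
  have hjinj : Function.Injective j.base := Hj.base_open.injective
  ext x'
  constructor
  · rintro ⟨z', rfl⟩
    exact ⟨j'.base z', (base_comm i j j' i' hd z').symm⟩
  · rintro ⟨z, hz⟩
    have hz' : z ∈ Set.range j'.base := by
      rw [hr]
      exact ⟨x', hz.symm⟩
    obtain ⟨z', rfl⟩ := hz'
    refine ⟨z', hjinj ?_⟩
    rw [base_comm i j j' i' hd z', hz]

include hd hr in
lemma isClosedEmbedding_base (hi : Topology.IsClosedEmbedding i.base) :
    Topology.IsClosedEmbedding i'.base := by
  have hj : Topology.IsOpenEmbedding j.base := Hj.base_open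
  have hj' : Topology.IsOpenEmbedding j'.base := Hj'.base_open
  have hemb : Topology.IsEmbedding i'.base := by
    have h2 : Topology.IsEmbedding (j.base ∘ i'.base) := by
      have : (j.base : X' → X) ∘ i'.base = (i.base : Z → X) ∘ j'.base :=
        funext (base_comm i j j' i' hd)
      rw [this]
      exact hi.isEmbedding.comp hj'.isEmbedding
    exact (hj.isEmbedding.of_comp_iff).1 h2
  refine ⟨hemb, ?_⟩
  rw [range_eq i j j' i' hd hr]
  exact hi.isClosed_range.preimage j.base.hom.continuous

omit Hj Hj' in
include hd in
lemma key (z' : Z') :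
    ∃ h : i.base (j'.base z') ⤳ j.base (i'.base z'),
      j.stalkMap (i'.base z') ≫ i'.stalkMap z' =
        X.presheaf.stalkSpecializes h ≫ i.stalkMap (j'.base z') ≫ j'.stalkMap z' := by
  have := LocallyRingedSpace.stalkMap_congr_hom _ _ hd z'
  rw [LocallyRingedSpace.stalkMap_comp, LocallyRingedSpace.stalkMap_comp] at this
  exact ⟨_, this⟩

include hd hr in
theorem isClosedImmersion_baseChange (hi : LRSImm.IsClosedImmersion i) :
    LRSImm.IsClosedImmersion i' := by
  have hcl := isClosedEmbedding_base i j j' i' hd hr hi.1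
  have hi_surj : ∀ z, Function.Surjective (i.stalkMap z).hom := fun z =>
    (stc_surjective_iff i hi.1.isInducing z).1
      ((TopCat.Presheaf.locally_surjective_iff_surjective_on_stalks i.c).1 hi.2.1 (i.base z))
  -- the comparison on stalks
  have hcomp : ∀ (z' : Z') (t : X.presheaf.stalk (j.base (i'.base z'))),
      (stc i (j.base (i'.base z'))).hom t = 0 ↔
        (stc i' (i'.base z')).hom ((j.stalkMap (i'.base z')).hom t) = 0 := by
    intro z' t
    obtain ⟨h, hk⟩ := key i j j' i' hd z'
    have hk' := congr_arg (fun φ => φ.hom t) hk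
    have e1 : (i'.stalkMap z').hom ((j.stalkMap (i'.base z')).hom t) =
        (j'.stalkMap z').hom ((i.stalkMap (j'.base z')).hom
          ((X.presheaf.stalkSpecializes h).hom t)) := hk'
    rw [stc_eq_zero_iff i' hcl.isInducing z', e1]
    have hj'bij : Function.Bijective (j'.stalkMap z').hom :=
      ConcreteCategory.bijective_of_isIso (j'.stalkMap z')
    rw [map_eq_zero_iff _ hj'bij.1, ← stc_eq_zero_iff i hi.1.isInducing (j'.base z')]
    have e2 := congr_arg (fun φ => φ.hom t)
      (TopCat.Presheaf.stalkSpecializes_stalkFunctor_map (C := CommRingCat) i.c h)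
    have e3 : (stc i (i.base (j'.base z'))).hom ((X.presheaf.stalkSpecializes h).hom t) =
        ((i.base _* Z.presheaf).stalkSpecializes h).hom ((stc i (j.base (i'.base z'))).hom t) := e2
    rw [e3, map_eq_zero_iff _
      (stalkSpecializes_bijective_of_eq _ (base_comm i j j' i' hd z').symm h).1]
  refine ⟨hcl, ?_, ?_⟩
  · rw [TopCat.Presheaf.locally_surjective_iff_surjective_on_stalks]
    intro y'
    by_cases hy : y' ∈ Set.range i'.base
    · obtain ⟨z', rfl⟩ := hy
      refine (stc_surjective_iff i' hcl.isInducing z').2 ?_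
      obtain ⟨h, hk⟩ := key i j j' i' hd z'
      have hs : Function.Surjective ((j.stalkMap (i'.base z') ≫ i'.stalkMap z').hom) := by
        rw [hk]
        have hj'bij : Function.Bijective (j'.stalkMap z').hom :=
          ConcreteCategory.bijective_of_isIso (j'.stalkMap z')
        exact (hj'bij.2.comp (hi_surj (j'.base z'))).comp
          (stalkSpecializes_bijective_of_eq _ (base_comm i j j' i' hd z').symm h).2
      exact Function.Surjective.of_comp hs
    · have := subsingleton_stalk i' hcl.isClosed_range y' hy
      intro w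
      exact ⟨0, this.elim _ _⟩
  · intro x'
    obtain ⟨U, hxU, ι, s, hs0, hspan⟩ := hi.2.2 (j.base x')
    refine ⟨(Opens.map j.base).obj U, hxU, ι, fun k => (j.c.app (op U)).hom (s k), ?_, ?_⟩
    · intro k
      have h1 : ((j' ≫ i).c.app (op U)).hom (s k) = 0 := by
        show (j'.c.app _).hom ((i.c.app (op U)).hom (s k)) = 0
        rw [show (i.c.app (op U)).hom (s k) = 0 from hs0 k, map_zero]
      exact c_app_eq_zero_of_eq hd (op U) (s k) h1
    · intro y' hy'
      have hF : Function.Bijective (j.stalkMap y').hom :=
        ConcreteCategory.bijective_of_isIso (j.stalkMap y')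
      have hgerm : ∀ k, (X'.presheaf.germ ((Opens.map j.base).obj U) y' hy').hom
          ((j.c.app (op U)).hom (s k)) =
          (j.stalkMap y').hom ((X.presheaf.germ U (j.base y') hy').hom (s k)) := fun k =>
        (LocallyRingedSpace.stalkMap_germ_apply j U y' hy' (s k)).symm
      have hrange : (Set.range fun k => (X'.presheaf.germ ((Opens.map j.base).obj U) y' hy').hom
          ((j.c.app (op U)).hom (s k))) =
          (j.stalkMap y').hom '' (Set.range fun k => (X.presheaf.germ U (j.base y') hy').hom (s k)) := by
        rw [← Set.range_comp]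
        exact congr_arg Set.range (funext hgerm)
      have hsp := hspan (j.base y') hy'
      show Ideal.span (Set.range fun k => (X'.presheaf.germ ((Opens.map j.base).obj U) y' hy').hom
          ((j.c.app (op U)).hom (s k))) = RingHom.ker (stc i' y').hom
      rw [hrange, ← Ideal.map_span]
      have hsp' : Ideal.span (Set.range fun k => (X.presheaf.germ U (j.base y') hy').hom (s k)) =
          RingHom.ker (stc i (j.base y')).hom := hsp
      rw [hsp']
      ext t'
      obtain ⟨t, rfl⟩ := hF.2 t'
      rw [Ideal.mem_map_iff_of_surjective _ hF.2, RingHom.mem_ker]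
      have hiff : (stc i (j.base y')).hom t = 0 ↔ (stc i' y').hom ((j.stalkMap y').hom t) = 0 := by
        by_cases hy : y' ∈ Set.range i'.base
        · obtain ⟨z', rfl⟩ := hy
          exact hcomp z' t
        · have hy2 : j.base y' ∉ Set.range i.base := by
            intro h
            apply hy
            rw [range_eq i j j' i' hd hr]
            exact h
          have s1 := subsingleton_stalk i' hcl.isClosed_range y' hy
          have s2 := subsingleton_stalk i hi.1.isClosed_range (j.base y') hy2
          exact ⟨fun _ => Subsingleton.elim _ _, fun _ => Subsingleton.elim _ _⟩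
      constructor
      · rintro ⟨t₀, ht₀, ht⟩
        have : t₀ = t := hF.1 ht
        subst this
        exact hiff.1 (RingHom.mem_ker.1 ht₀)
      · intro h
        exact ⟨t, RingHom.mem_ker.2 (hiff.2 h), rfl⟩

end BaseChange

end Groth.Agent.Helper19.LRSImmBC
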