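import Mathlib
import Groth.Agent.Lib.Helper19.LRSAffine
import Groth.Agent.Lib.Helper19.LRSImmBC

/-!
# A closed immersion of locally ringed spaces into a scheme has a scheme as source
-/

set_option autoImplicit false
universe u

open CategoryTheory TopologicalSpace Opposite AlgebraicGeometry TopCat

namespace Groth.Agent.Helper19.LRSScheme

variable (X : Scheme.{u}) {Z : LocallyRingedSpace.{u}} (i : Z ⟶ X.toLocallyRingedSpace)
  (hi : LRSImm.IsClosedImmersion i)

include hi in
lemma local_affine (z : Z) : ∃ (V : OpenNhds z) (R : CommRingCat),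
    Nonempty (Z.restrict V.isOpenEmbedding ≅ Spec.toLocallyRingedSpace.obj (op R)) := by
  obtain ⟨U, hU, hxU, -⟩ :=
    exists_isAffineOpen_mem_and_subset (X := X) (x := i.base z) (U := ⊤) trivial
  let V : OpenNhds z := ⟨(Opens.map i.base).obj U, hxU⟩
  let j : (Spec Γ(X, U)).toLocallyRingedSpace ⟶ X.toLocallyRingedSpace := hU.fromSpec.toLRSHom
  have : LocallyRingedSpace.IsOpenImmersion j := (inferInstance : IsOpenImmersion hU.fromSpec)
  let j' : Z.restrict V.isOpenEmbedding ⟶ Z := Z.ofRestrict V.isOpenEmbedding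
  have hUr : Set.range j.base = U := hU.range_fromSpec
  have hrange : Set.range (j' ≫ i).base ⊆ Set.range j.base := by
    rintro _ ⟨z', rfl⟩
    rw [hUr]
    exact z'.2
  let i' := LocallyRingedSpace.IsOpenImmersion.lift j (j' ≫ i) hrange
  have hd : i' ≫ j = j' ≫ i := LocallyRingedSpace.IsOpenImmersion.lift_fac j _ hrange
  have hr : Set.range j'.base = i.base ⁻¹' Set.range j.base := by
    rw [hUr]
    ext w
    constructor
    · rintro ⟨z', rfl⟩
      exact z'.2
    · intro hw
      exact ⟨⟨w, hw⟩, rfl⟩
  have hi' := LRSImmBC.isClosedImmersion_baseChange i j j' i' hd hr hi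
  obtain ⟨e, -⟩ := LRSAffine.exists_iso_spec_quotient (R := Γ(X, U)) i' hi' _ rfl
  exact ⟨V, CommRingCat.of (Γ(X, U) ⧸ _), ⟨e⟩⟩

include hi in
/-- the source of a closed immersion of locally ringed spaces into a scheme is a scheme, and the
morphism is a closed immersion of schemes. -/
theorem exists_scheme_iso : ∃ (Z' : Scheme.{u}) (e : Z'.toLocallyRingedSpace ≅ Z),
    IsClosedImmersion (Scheme.Hom.mk (e.hom ≫ i) : Z' ⟶ X) := by
  let Z' : Scheme.{u} := { toLocallyRingedSpace := Z, local_affine := local_affine X i hi }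
  refine ⟨Z', Iso.refl _, ?_⟩
  have hid : (Iso.refl Z'.toLocallyRingedSpace).hom ≫ i = i := Category.id_comp i
  rw [hid]
  have hsurj : ∀ z, Function.Surjective (i.stalkMap z).hom := fun z =>
    (LRSImmBC.stc_surjective_iff i hi.1.isInducing z).1
      ((TopCat.Presheaf.locally_surjective_iff_surjective_on_stalks i.c).1 hi.2.1 (i.base z))
  exact { stalkMap_surjective := hsurj, isClosedEmbedding := hi.1 }

end Groth.Agent.Helper19.LRSScheme
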