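import Mathlib
import Groth.Prelude.Def_W4stkremschemesLRS
import Groth.Agent.Lib.Helper19.LRSImmBC
import Groth.Agent.Lib.Helper38.ShCl

/-!
# The universal property of closed immersions of locally ringed spaces
-/

set_option autoImplicit false
universe u

open CategoryTheory TopologicalSpace Opposite AlgebraicGeometry TopCat

namespace Groth.Agent.Helper19.LRSUniv

open Groth.Agent.Helper19.LRSImmBC

namespace Fac

variable {X : TopCat.{u}} {F G H : X.Presheaf CommRingCat.{u}} (φ : F ⟶ G)

lemma ker_le_comap {U V : (Opens X)ᵒᵖ} (r : U ⟶ V) :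
    RingHom.ker (φ.app U).hom ≤ Ideal.comap (F.map r).hom (RingHom.ker (φ.app V).hom) := by
  intro s hs
  rw [RingHom.mem_ker] at hs
  rw [Ideal.mem_comap, RingHom.mem_ker]
  have := ConcreteCategory.congr_hom (φ.naturality r) s
  refine this.trans ?_
  show (G.map r).hom ((φ.app U).hom s) = 0
  rw [hs, map_zero]

/-- the quotient presheaf `F / ker φ`. -/
noncomputable def Q : X.Presheaf CommRingCat.{u} where
  obj U := CommRingCat.of (F.obj U ⧸ RingHom.ker (φ.app U).hom)
  map {U V} r := CommRingCat.ofHom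
    (Ideal.quotientMap (RingHom.ker (φ.app V).hom) (F.map r).hom (ker_le_comap φ r))
  map_id U := by
    refine CommRingCat.hom_ext (Ideal.Quotient.ringHom_ext (RingHom.ext fun s => ?_))
    simp
  map_comp r r' := by
    refine CommRingCat.hom_ext (Ideal.Quotient.ringHom_ext (RingHom.ext fun s => ?_))
    simp


noncomputable def π : F ⟶ Q φ where
  app U := CommRingCat.ofHom (Ideal.Quotient.mk (RingHom.ker (φ.app U).hom))
  naturality U V r := by
    refine CommRingCat.hom_ext (RingHom.ext fun s => ?_)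
    rfl

noncomputable def φ' : Q φ ⟶ G where
  app U := CommRingCat.ofHom (RingHom.kerLift (φ.app U).hom)
  naturality U V r := by
    refine CommRingCat.hom_ext (Ideal.Quotient.ringHom_ext (RingHom.ext fun s => ?_))
    exact ConcreteCategory.congr_hom (φ.naturality r) s

lemma π_φ' : π φ ≫ φ' φ = φ := by
  refine NatTrans.ext (funext fun U => CommRingCat.hom_ext (RingHom.ext fun s => ?_))
  rfl

noncomputable def ψ' (ψ : F ⟶ H)
    (hker : ∀ U (s : F.obj U), (φ.app U).hom s = 0 → (ψ.app U).hom s = 0) : Q φ ⟶ H where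
  app U := CommRingCat.ofHom (Ideal.Quotient.lift (RingHom.ker (φ.app U).hom) (ψ.app U).hom
    (fun s hs => hker U s hs))
  naturality U V r := by
    refine CommRingCat.hom_ext (Ideal.Quotient.ringHom_ext (RingHom.ext fun s => ?_))
    exact ConcreteCategory.congr_hom (ψ.naturality r) s

lemma π_ψ' (ψ : F ⟶ H)
    (hker : ∀ U (s : F.obj U), (φ.app U).hom s = 0 → (ψ.app U).hom s = 0) :
    π φ ≫ ψ' φ ψ hker = ψ := by
  refine NatTrans.ext (funext fun U => CommRingCat.hom_ext (RingHom.ext fun s => ?_))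
  rfl

theorem exists_fac (hφ : TopCat.Presheaf.IsLocallySurjective φ) (ψ : F ⟶ H) (hH : H.IsSheaf)
    (hker : ∀ U (s : F.obj U), (φ.app U).hom s = 0 → (ψ.app U).hom s = 0) :
    ∃ θ : G ⟶ H, φ ≫ θ = ψ := by
  have hinj : CategoryTheory.Presheaf.IsLocallyInjective (Opens.grothendieckTopology X) (φ' φ) :=
    CategoryTheory.Presheaf.isLocallyInjective_of_injective _ _ fun U =>
      RingHom.kerLift_injective (φ.app U).hom
  have hsurj : CategoryTheory.Presheaf.IsLocallySurjective (Opens.grothendieckTopology X) (φ' φ) := by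
    have : CategoryTheory.Presheaf.IsLocallySurjective (Opens.grothendieckTopology X) φ := hφ
    have : CategoryTheory.Presheaf.IsLocallySurjective (Opens.grothendieckTopology X)
        (π φ ≫ φ' φ) := by rw [π_φ']; exact hφ
    exact CategoryTheory.Presheaf.isLocallySurjective_of_isLocallySurjective_fac _ rfl
      (f₁ := π φ) (f₃ := π φ ≫ φ' φ)
  have hW : (Opens.grothendieckTopology X).W (φ' φ) :=
    ((Opens.grothendieckTopology X).W_iff_isLocallyBijective _).2 ⟨hinj, hsurj⟩
  obtain ⟨θ, hθ⟩ := (hW H hH).2 (ψ' φ ψ hker)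
  refine ⟨θ, ?_⟩
  have hθ' : φ' φ ≫ θ = ψ' φ ψ hker := hθ
  calc φ ≫ θ = (π φ ≫ φ' φ) ≫ θ := by rw [π_φ']
    _ = π φ ≫ ψ' φ ψ hker := by rw [Category.assoc, hθ']
    _ = ψ := π_ψ' φ ψ hker

end Fac

variable {Z X Y : LocallyRingedSpace.{u}} (i : Z ⟶ X)

lemma c_zero_of_fac (f : Y ⟶ X) (g : Y ⟶ Z) (hg : g ≫ i = f) (U : Opens X)
    (s : X.presheaf.obj (op U)) (hs : (i.c.app (op U)).hom s = 0) :
    (f.c.app (op U)).hom s = 0 := by
  subst hg
  show (g.c.app _).hom ((i.c.app (op U)).hom s) = 0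
  rw [hs, map_zero]

lemma stalkMap_surjective_of_isClosedImmersion (hi : LRSImm.IsClosedImmersion i) (z : Z) :
    Function.Surjective (i.stalkMap z).hom :=
  (stc_surjective_iff i hi.1.isInducing z).1
    ((TopCat.Presheaf.locally_surjective_iff_surjective_on_stalks i.c).1 hi.2.1 (i.base z))

/-- uniqueness of factorisations through a closed immersion. -/
theorem hom_ext_of_comp_eq (hi : LRSImm.IsClosedImmersion i) (g g' : Y ⟶ Z)
    (h : g ≫ i = g' ≫ i) : g = g' := by
  have hsurj := stalkMap_surjective_of_isClosedImmersion i hi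
  have hmono : Mono i.base := (TopCat.mono_iff_injective i.base).2 hi.1.injective
  have hb : g.base = g'.base := by
    have h1 : g.base ≫ i.base = g'.base ≫ i.base := by
      have := congr_arg (fun k : Y ⟶ X => k.base) h
      simpa using this
    exact (cancel_mono i.base).1 h1
  -- germs agree
  have key : ∀ (V : Opens Z) (t : Z.presheaf.obj (op V)) (y : Y) (hy : g.base y ∈ V)
      (hy' : g'.base y ∈ V),
      Y.presheaf.germ ((Opens.map g.base).obj V) y hy ((g.c.app (op V)).hom t) =
      Y.presheaf.germ ((Opens.map g'.base).obj V) y hy' ((g'.c.app (op V)).hom t) := by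
    intro V t y hy hy'
    have e1 := LocallyRingedSpace.stalkMap_germ_apply g V y hy t
    have e2 := LocallyRingedSpace.stalkMap_germ_apply g' V y hy' t
    refine e1.symm.trans (Eq.trans ?_ e2)
    have hzz : g'.base y = g.base y := by rw [hb]
    have hsp : g'.base y ⤳ g.base y := specializes_of_eq hzz
    obtain ⟨σ, hσ⟩ := hsurj (g.base y) (Z.presheaf.germ V (g.base y) hy t)
    -- the transported element
    have h1 : (g.stalkMap y).hom ((i.stalkMap (g.base y)).hom σ) =
        ((g ≫ i).stalkMap y).hom σ :=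
      (ConcreteCategory.congr_hom (LocallyRingedSpace.stalkMap_comp g i y) σ).symm
    have h2 := ConcreteCategory.congr_hom
      (LocallyRingedSpace.stalkMap_congr_hom (g ≫ i) (g' ≫ i) h y) σ
    have h3 := ConcreteCategory.congr_hom (LocallyRingedSpace.stalkMap_comp g' i y)
    have h4 := LocallyRingedSpace.stalkSpecializes_stalkMap_apply i _ _ hsp σ
    have h5 := TopCat.Presheaf.germ_stalkSpecializes_apply Z.presheaf (U := V) hy hsp t
    have h6 : (g.stalkMap y).hom (Z.presheaf.germ V (g.base y) hy t) =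
        ((g ≫ i).stalkMap y).hom σ := by
      rw [← h1]; exact congr_arg _ hσ.symm
    have h7 : ((g' ≫ i).stalkMap y).hom
          ((X.presheaf.stalkSpecializes (i.base.hom.map_specializes hsp)).hom σ) =
        (g'.stalkMap y).hom (Z.presheaf.germ V (g'.base y) hy' t) := by
      refine (h3 _).trans ?_
      show (g'.stalkMap y).hom ((i.stalkMap (g'.base y)).hom _) = _
      refine congr_arg _ ?_
      refine h4.trans ?_
      refine Eq.trans ?_ h5
      exact congr_arg _ hσ
    exact h6.trans (h2.trans h7)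
  clear h hsurj hmono
  obtain ⟨⟨gb, gc⟩, hg⟩ := g
  obtain ⟨⟨gb', gc'⟩, hg'⟩ := g'
  change gb = gb' at hb
  subst hb
  have hc : gc = gc' := by
    refine NatTrans.ext (funext fun V => ?_)
    obtain ⟨V⟩ := V
    refine CommRingCat.hom_ext (RingHom.ext fun t => ?_)
    refine TopCat.Presheaf.section_ext Y.sheaf _ _ _ fun y hy => ?_
    exact key V t y hy hy
  subst hc
  rfl

/-- the hypothesis forces `f` to land in the closed subset. -/
lemma base_mem_range (hi : LRSImm.IsClosedImmersion i) (f : Y ⟶ X)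
    (H : ∀ (U : Opens X) (s : X.presheaf.obj (op U)),
      (i.c.app (op U)).hom s = 0 → (f.c.app (op U)).hom s = 0) (y : Y) :
    f.base y ∈ Set.range i.base := by
  by_contra hy
  let W : Opens X := ⟨(Set.range i.base)ᶜ, hi.1.isClosed_range.isOpen_compl⟩
  have hyW : f.base y ∈ W := hy
  have hW : (Opens.map i.base).obj W = ⊥ := by
    ext z
    simp only [SetLike.mem_coe, Opens.coe_bot, Set.mem_empty_iff_false, iff_false]
    intro hz
    exact hz ⟨z, rfl⟩
  have h1 : Subsingleton (Z.presheaf.obj (op ((Opens.map i.base).obj W))) :=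
    CommRingCat.subsingleton_of_isTerminal (Z.sheaf.isTerminalOfEqEmpty hW)
  have h2 : (i.c.app (op W)).hom 1 = 0 := h1.elim _ _
  have h3 := H W 1 h2
  have h4 : (Y.presheaf.germ ((Opens.map f.base).obj W) y hyW).hom
      ((f.c.app (op W)).hom 1) = 0 := by rw [h3, map_zero]
  rw [map_one, map_one] at h4
  exact one_ne_zero h4

lemma exists_base_fac (hi : LRSImm.IsClosedImmersion i) (f : Y ⟶ X)
    (H : ∀ (U : Opens X) (s : X.presheaf.obj (op U)),
      (i.c.app (op U)).hom s = 0 → (f.c.app (op U)).hom s = 0) :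
    ∃ gb : Y.toTopCat ⟶ Z.toTopCat, gb ≫ i.base = f.base := by
  have hr := base_mem_range i hi f H
  choose gfun hgfun using hr
  have hcont : Continuous gfun := by
    rw [hi.1.isEmbedding.continuous_iff]
    have : (i.base : Z → X) ∘ gfun = f.base := funext hgfun
    rw [this]
    exact f.base.hom.continuous
  refine ⟨TopCat.ofHom ⟨gfun, hcont⟩, ?_⟩
  ext y
  exact hgfun y

open Groth.Agent.Lib.Helper38.ShCl in
lemma exists_fac_aux (hi : LRSImm.IsClosedImmersion i) (gb : Y.toTopCat ⟶ Z.toTopCat)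
    (fc : X.presheaf ⟶ (gb ≫ i.base) _* Y.presheaf)
    (hf : ∀ y, IsLocalHom ((PresheafedSpace.Hom.stalkMap
      (⟨gb ≫ i.base, fc⟩ : Y.toPresheafedSpace ⟶ X.toPresheafedSpace) y).hom))
    (H : ∀ (U : Opens X) (s : X.presheaf.obj (op U)),
      (i.c.app (op U)).hom s = 0 → (fc.app (op U)).hom s = 0) :
    ∃ g : Y ⟶ Z, g ≫ i = ⟨⟨gb ≫ i.base, fc⟩, hf⟩ := by
  have hsh : ((gb ≫ i.base) _* Y.presheaf).IsSheaf :=
    TopCat.Sheaf.pushforward_sheaf_of_sheaf _ Y.IsSheaf
  obtain ⟨θ, hθ⟩ := Fac.exists_fac i.c hi.2.1 fc hsh (fun U s => by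
    obtain ⟨U⟩ := U
    exact H U s)
  let θ' : (Opens.map i.base).op ⋙ Z.presheaf ⟶ (Opens.map i.base).op ⋙ (gb _* Y.presheaf) := θ
  let gc : Z.presheaf ⟶ gb _* Y.presheaf := preimageNat i.base hi.1 θ'
  have hgc : Functor.whiskerLeft (Opens.map i.base).op gc = θ' :=
    whiskerLeft_preimageNat i.base hi.1 θ'
  let g0 : Y.toPresheafedSpace ⟶ Z.toPresheafedSpace := ⟨gb, gc⟩
  let f0 : Y.toPresheafedSpace ⟶ X.toPresheafedSpace := ⟨gb ≫ i.base, fc⟩
  have he : g0 ≫ i.toHom = f0 := by
    refine PresheafedSpace.Hom.ext _ _ rfl ?_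
    refine NatTrans.ext (funext fun U => ?_)
    obtain ⟨U⟩ := U
    have hθU : i.c.app (op U) ≫ θ.app (op U) = fc.app (op U) := by
      rw [← hθ]; rfl
    have hgcU : gc.app (op ((Opens.map i.base).obj U)) = θ.app (op U) :=
      congr_arg (fun k => k.app (op U)) hgc
    rw [NatTrans.comp_app, Functor.whiskerRight_app, eqToHom_app]
    have hid : Y.presheaf.map (eqToHom (rfl : (Opens.map (g0 ≫ i.toHom).base).op.obj (op U) =
        (Opens.map f0.base).op.obj (op U))) = 𝟙 _ := by
      rw [eqToHom_refl, Y.presheaf.map_id]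
    refine (congr_arg (fun k => (g0 ≫ i.toHom).c.app (op U) ≫ k) hid).trans ?_
    refine (Category.comp_id _).trans ?_
    refine (PresheafedSpace.comp_c_app g0 i.toHom (op U)).trans ?_
    show i.c.app (op U) ≫ gc.app (op ((Opens.map i.base).obj U)) = fc.app (op U)
    rw [hgcU]
    exact hθU
  have hsurj := stalkMap_surjective_of_isClosedImmersion i hi
  have hf' : ∀ y, IsLocalHom ((g0 ≫ i.toHom).stalkMap y).hom := by
    rw [he]; exact hf
  have hloc : ∀ y, IsLocalHom (g0.stalkMap y).hom := by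
    intro y
    constructor
    intro t ht
    obtain ⟨σ, rfl⟩ := hsurj (gb y) t
    have h1 : ((g0 ≫ i.toHom).stalkMap y).hom σ =
        (g0.stalkMap y).hom ((i.stalkMap (gb y)).hom σ) :=
      ConcreteCategory.congr_hom (PresheafedSpace.stalkMap.comp g0 i.toHom y) σ
    have h2 : IsUnit (((g0 ≫ i.toHom).stalkMap y).hom σ) := by
      rw [h1]; exact ht
    have h3 : IsUnit σ := (hf' y).map_nonunit σ h2
    exact h3.map _
  refine ⟨⟨g0, hloc⟩, ?_⟩
  exact LocallyRingedSpace.Hom.ext' he

theorem exists_fac (hi : LRSImm.IsClosedImmersion i) (f : Y ⟶ X)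
    (H : ∀ (U : Opens X) (s : X.presheaf.obj (op U)),
      (i.c.app (op U)).hom s = 0 → (f.c.app (op U)).hom s = 0) :
    ∃ g : Y ⟶ Z, g ≫ i = f := by
  obtain ⟨gb, hgb⟩ := exists_base_fac i hi f H
  obtain ⟨⟨fb, fc⟩, hf⟩ := f
  change gb ≫ i.base = fb at hgb
  subst hgb
  exact exists_fac_aux i hi gb fc hf H

end Groth.Agent.Helper19.LRSUniv
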