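import Mathlib
import Groth.Prelude.Def_LinTop

/-!
# Units in admissible rings (helper19)

* `Groth.Agent.Helper19.isUnit_one_sub_of_mem` : in an admissible ring, `1 - j` is a unit for `j` in
  an ideal of definition.
* `Groth.Agent.Helper19.le_jacobson_bot` : an ideal of definition of an admissible ring lies in the
  Jacobson radical.
-/

set_option autoImplicit false
universe u

open Filter Topology

namespace Groth.Agent.Helper19

theorem nonarchimedeanRing_of_isLinearTopology (A : Type u) [CommRing A] [TopologicalSpace A]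
    [IsTopologicalRing A] [IsLinearTopology A A] : NonarchimedeanRing A where
  is_nonarchimedean := by
    intro U hU
    obtain ⟨I, hI, hIU⟩ := (IsLinearTopology.hasBasis_open_ideal (R := A)).mem_iff.mp hU
    exact ⟨⟨I.toAddSubgroup, hI⟩, hIU⟩

theorem tendsto_pow_of_mem (A : Type u) [CommRing A] [TopologicalSpace A]
    (J : Ideal A) (hJ : LinTop.IsIdealOfDefinition A J) {j : A} (hj : j ∈ J) :
    Tendsto (fun n : ℕ => j ^ n) atTop (𝓝 0) := by
  rw [tendsto_def]
  intro U hU
  obtain ⟨n, _, hn⟩ := hJ.2 U hU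
  rw [mem_atTop_sets]
  refine ⟨n, fun m hm => ?_⟩
  apply hn
  exact Ideal.pow_le_pow_right hm (Ideal.pow_mem_pow hj m)

theorem isUnit_one_sub_of_mem (A : Type u) [CommRing A] [UniformSpace A] [IsUniformAddGroup A]
    [IsTopologicalRing A] (hA : LinTop.IsAdmissible A) (J : Ideal A)
    (hJ : LinTop.IsIdealOfDefinition A J) {j : A} (hj : j ∈ J) : IsUnit (1 - j) := by
  obtain ⟨⟨hlin, _⟩, hT2, hC⟩ := hA
  haveI := hlin
  haveI := hT2
  haveI := hC
  haveI : NonarchimedeanRing A := nonarchimedeanRing_of_isLinearTopology A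
  have hsum : Summable (fun n : ℕ => j ^ n) := by
    apply NonarchimedeanAddGroup.summable_of_tendsto_cofinite_zero
    rw [Nat.cofinite_eq_atTop]
    exact tendsto_pow_of_mem A J hJ hj
  exact IsUnit.of_mul_eq_one _ hsum.one_sub_mul_tsum_pow

theorem le_jacobson_bot (A : Type u) [CommRing A] [UniformSpace A] [IsUniformAddGroup A]
    [IsTopologicalRing A] (hA : LinTop.IsAdmissible A) (J : Ideal A)
    (hJ : LinTop.IsIdealOfDefinition A J) : J ≤ Ideal.jacobson ⊥ := by
  intro j hj
  rw [Ideal.mem_jacobson_bot]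
  intro y
  have h : -(j * y) ∈ J := J.neg_mem (J.mul_mem_right y hj)
  have := isUnit_one_sub_of_mem A hA J hJ h
  simpa [add_comm] using this

end Groth.Agent.Helper19
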