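import Mathlib.AlgebraicGeometry.Noetherian

set_option autoImplicit false
universe u

namespace Groth.Agent.Lib.Helper19

open TopologicalSpace

/-- A compact subset of a locally Noetherian topological space is a Noetherian space. -/
theorem noetherianSpace_of_isCompact_of_locally {α : Type*} [TopologicalSpace α]
    (h : ∀ x : α, ∃ U : Opens α, x ∈ U ∧ NoetherianSpace U) (K : Set α) (hK : IsCompact K) :
    NoetherianSpace K := by
  choose U hxU hU using h
  obtain ⟨t, ht⟩ := hK.elim_finite_subcover (fun x => (U x : Set α)) (fun x => (U x).isOpen)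
    (fun x _ => Set.mem_iUnion.mpr ⟨x, hxU x⟩)
  have h1 : NoetherianSpace (⋃ i : t, (U i : Set α)) := NoetherianSpace.iUnion _
  refine NoetherianSpace.of_subset (W := ⋃ i : t, (U i : Set α)) ?_
  intro x hx
  obtain ⟨i, hi⟩ := Set.mem_iUnion.mp (ht hx)
  obtain ⟨hit, hxi⟩ := Set.mem_iUnion.mp hi
  exact Set.mem_iUnion.mpr ⟨⟨i, hit⟩, hxi⟩

open AlgebraicGeometry CategoryTheory in
/-- If `f ≫ g` is quasi-compact and the source is a locally Noetherian space then `f` is
quasi-compact. -/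
theorem quasiCompact_of_comp_of_locallyNoetherianSpace {X Y Z : Scheme.{u}} (f : X ⟶ Y) (g : Y ⟶ Z)
    [QuasiCompact (f ≫ g)]
    (hX : ∀ x : X, ∃ U : X.Opens, x ∈ U ∧ TopologicalSpace.NoetherianSpace U) :
    QuasiCompact f := by
  have hcov : (⨆ W : Z.affineOpens, g ⁻¹ᵁ W.1) = ⊤ := by
    rw [← Scheme.Hom.preimage_iSup, iSup_affineOpens_eq_top]
    rfl
  rw [IsZariskiLocalAtTarget.iff_of_iSup_eq_top (P := @QuasiCompact) (f := f)
    (fun W : Z.affineOpens => g ⁻¹ᵁ W.1) hcov]
  intro W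
  have hc : IsCompact ((f ≫ g) ⁻¹ᵁ W.1 : Set X) :=
    QuasiCompact.isCompact_preimage (f := f ≫ g) _ W.1.2 W.2.isCompact
  have : NoetherianSpace ((f ⁻¹ᵁ (g ⁻¹ᵁ W.1) : X.Opens) : Scheme.{u}) :=
    noetherianSpace_of_isCompact_of_locally hX _ hc
  exact quasiCompact_of_noetherianSpace_source _

end Groth.Agent.Lib.Helper19
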