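import Mathlib
import Groth.Prelude.Def_QCohCat
import Groth.Agent.S6840
import Groth.Agent.Lib.Helper18.FPColim
import Groth.Agent.Lib.Helper18.FPQuot

/-!
# Compact objects of `QCoh X` on a qcqs scheme (helper19)

Namespace `Groth.Agent.Helper19.QCohCompact`.
* `hX_of_qcqs`: the covering hypothesis of S6840 (helper42) holds on a qcqs scheme.
* `preservesColimit_coyoneda_of_fp`: on a qcqs scheme, `Hom(G, -)` preserves all small filtered
  colimits of `O_X`-modules when `G` is of finite presentation.
* `preservesColimit_ι`: the inclusion `QCoh X ⥤ X.Modules` preserves small colimits.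
* `isFinitelyPresentable_of_fp`, `fp_of_isFinitelyPresentable`: compact objects of `QCoh X` are
  exactly the finitely presented modules (Stacks 01PJ consequence).
* `finitePresentation_of_retract`: a retract of a finitely presented module is finitely presented.
-/

set_option autoImplicit false
universe u
open CategoryTheory CategoryTheory.Limits AlgebraicGeometry TopologicalSpace Opposite

namespace Groth.Agent.Helper19.QCohCompact

/-- the covering condition of S6840 for a qcqs scheme -/
theorem hX_of_qcqs (X : Scheme.{u}) [CompactSpace X] [QuasiSeparatedSpace X] :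
    ∀ (ι : Type u) (V : ι → Opens X), iSup V = ⊤ →
      ∃ (J : Type u) (_ : Finite J) (U : J → Opens X), iSup U = ⊤ ∧ (∀ j, ∃ i, U j ≤ V i) ∧
        ∀ j j', IsCompact ((U j ⊓ U j' : Opens X) : Set X) := by
  intro ι V hV
  have h1 : ∀ x : X, ∃ (i : ι) (W : X.Opens), IsAffineOpen W ∧ x ∈ W ∧ W ≤ V i := by
    intro x
    have hx : x ∈ (iSup V : Opens X) := by rw [hV]; trivial
    obtain ⟨i, hi⟩ := Opens.mem_iSup.mp hx
    obtain ⟨W, hW, hxW, hWV⟩ := Opens.isBasis_iff_nbhd.mp (X.isBasis_affineOpens) hi
    exact ⟨i, W, hW, hxW, hWV⟩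
  choose i W hW hxW hWV using h1
  obtain ⟨t, ht⟩ := (isCompact_univ (X := X)).elim_nhds_subcover (fun x => (W x : Set X))
    (fun x _ => (W x).2.mem_nhds (hxW x))
  refine ⟨↥t, inferInstance, fun j => W j.1, ?_, fun j => ⟨i j.1, hWV j.1⟩, fun j j' => ?_⟩
  · rw [eq_top_iff]
    intro y _
    have hy : y ∈ ⋃ x ∈ t, (W x : Set X) := ht.2 (Set.mem_univ y)
    simp only [Set.mem_iUnion] at hy
    obtain ⟨x, hx, hyx⟩ := hy
    exact Opens.mem_iSup.mpr ⟨⟨x, hx⟩, hyx⟩
  · exact QuasiSeparatedSpace.inter_isCompact _ _ (W j.1).2 (hW j.1).isCompact (W j'.1).2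
      (hW j'.1).isCompact

theorem preservesColimit_coyoneda_of_fp (X : Scheme.{u}) [CompactSpace X] [QuasiSeparatedSpace X]
    (G : X.Modules) (hG : SheafOfModules.IsFinitePresentation (R := X.ringCatSheaf) G)
    {J : Type u} [SmallCategory J] [IsFiltered J] (D : J ⥤ X.Modules) :
    PreservesColimit D (coyoneda.obj (op G)) := by
  obtain ⟨α, _, _, _, F', hF'⟩ := IsFiltered.exists_directed J
  have h := Groth.Agent.S6840.result (X := X.toPresheafedSpace.carrier) X.sheaf (hX_of_qcqs X)
    (I := α) (F' ⋙ D) G
  have : PreservesColimit (F' ⋙ D) (coyoneda.obj (op G)) := h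
  exact Functor.Final.preservesColimit_of_comp F'

/-- the inclusion of `QCoh X` in `X.Modules` preserves small colimits. -/
theorem preservesColimit_ι (X : Scheme.{u}) {J : Type u} [SmallCategory J]
    (D : J ⥤ QCohCat.QCoh X) : PreservesColimit D (QCohCat.isQCoh X).ι := by
  have h : (QCohCat.isQCoh X) (colimit (D ⋙ (QCohCat.isQCoh X).ι)) :=
    Groth.Agent.Lib.Helper49.isQuasicoherent_colimit (D ⋙ (QCohCat.isQCoh X).ι)
      (fun j => (D.obj j).property)
  let _ : CreatesColimit D (QCohCat.isQCoh X).ι := createsColimitFullSubcategoryInclusion D h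
  exact preservesColimit_of_createsColimit_and_hasColimit D (QCohCat.isQCoh X).ι

/-- `Hom(F, -)` on `QCoh X` as a composite. -/
noncomputable def coyonedaIso (X : Scheme.{u}) (F : QCohCat.QCoh X) :
    coyoneda.obj (op F) ≅ (QCohCat.isQCoh X).ι ⋙ coyoneda.obj (op F.obj) :=
  NatIso.ofComponents (fun G => ((QCohCat.isQCoh X).fullyFaithfulι.homEquiv (X := F) (Y := G)).toIso)
    (by intro G G' f; ext a; rfl)

theorem isFinitelyPresentable_of_fp (X : Scheme.{u}) [CompactSpace X] [QuasiSeparatedSpace X]
    (F : QCohCat.QCoh X)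
    (hF : SheafOfModules.IsFinitePresentation (R := X.ringCatSheaf) F.obj) :
    IsFinitelyPresentable.{u} F := by
  rw [isFinitelyPresentable_iff_preservesFilteredColimits]
  constructor
  intro J _ _
  constructor
  intro D
  have h1 := preservesColimit_ι X D
  have h2 := preservesColimit_coyoneda_of_fp X F.obj hF (D ⋙ (QCohCat.isQCoh X).ι)
  have h3 : PreservesColimit D ((QCohCat.isQCoh X).ι ⋙ coyoneda.obj (op F.obj)) := inferInstance
  exact preservesColimit_of_natIso D (coyonedaIso X F).symm

/-- a retract of a finitely presented module is finitely presented -/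
theorem finitePresentation_of_retract {R : Type u} [CommRing R] {M P : Type u} [AddCommGroup M]
    [Module R M] [AddCommGroup P] [Module R P] [Module.FinitePresentation R P]
    (s : M →ₗ[R] P) (r : P →ₗ[R] M) (h : ∀ m, r (s m) = m) : Module.FinitePresentation R M := by
  have hsurj : Function.Surjective r := fun m => ⟨s m, h m⟩
  refine Module.finitePresentation_of_surjective r hsurj ?_
  have hker : LinearMap.ker r = LinearMap.range (LinearMap.id - s.comp r) := by
    ext x
    constructor
    · intro hx
      refine ⟨x, ?_⟩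
      have : r x = 0 := hx
      simp [this]
    · rintro ⟨y, rfl⟩
      simp [h]
  rw [hker, LinearMap.range_eq_map]
  exact Module.Finite.fg_top.map _

open Groth.Agent.Lib.Helper49 Groth.Agent.Lib.Helper45 Groth.Agent.Lib.Helper18.FPM in
theorem fp_of_isFinitelyPresentable (X : Scheme.{u}) [CompactSpace X] [QuasiSeparatedSpace X]
    (F : QCohCat.QCoh X) (hF : IsFinitelyPresentable.{u} F) :
    SheafOfModules.IsFinitePresentation (R := X.ringCatSheaf) F.obj := by
  obtain ⟨Fo, hFo⟩ := F
  have : Fo.IsQuasicoherent := hFo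
  obtain ⟨J, _, _, _, D, c, ⟨hc⟩, hpt, hfp⟩ := exists_filtered_fp_colimit Fo
  subst hpt
  let D' : J ⥤ QCohCat.QCoh X := (QCohCat.isQCoh X).lift D
    (fun j => isQuasicoherent_of_isFinitePresentation (hfp j))
  let c' : Cocone D' :=
    { pt := ⟨c.pt, hFo⟩
      ι := { app := fun j => (QCohCat.isQCoh X).homMk (c.ι.app j)
             naturality := by
               intro j j' f
               apply (QCohCat.isQCoh X).hom_ext
               exact c.ι.naturality f } }
  have hc' : IsColimit c' := by
    refine isColimitOfReflects (QCohCat.isQCoh X).ι ?_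
    exact hc
  obtain ⟨j, p, hp⟩ := IsFinitelyPresentable.exists_hom_of_isColimit hc' (𝟙 _)
  have hp' : p.hom ≫ c.ι.app j = 𝟙 c.pt := congrArg (fun q => q.hom) hp
  refine isFinitePresentation_of_finitePresentation_sections c.pt fun T => ?_
  have hfpj : Module.FinitePresentation Γ(X, T.1) Γ(D.obj j, T.1) :=
    finitePresentation_sections_of_isFinitePresentation (D.obj j) (hfp j) T.2
  refine @finitePresentation_of_retract Γ(X, T.1) _ Γ(c.pt, T.1) Γ(D.obj j, T.1) _ _ _ _ hfpj
    (Groth.Agent.Lib.Helper45.appₗ (F := c.pt) (G := D.obj j) p.hom T.1)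
    (Groth.Agent.Lib.Helper45.appₗ (F := D.obj j) (G := c.pt) (c.ι.app j) T.1) fun m => ?_
  exact congrArg (fun q => q.app T.1 m) hp'

end Groth.Agent.Helper19.QCohCompact
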