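import Mathlib

/-!
# Ultraproducts of valuation subrings of a field (helper19)

Pure Mathlib. Namespace `Groth.Agent.Helper19.UltraProdVal`.

For an ultrafilter `𝒰` on `I`, a field `κ` and valuation subrings `R i` of `κ`, the germs which are
eventually in `R i` form a valuation subring `ultra 𝒰 R` of the ultrapower `Germ 𝒰 κ`.
-/

set_option autoImplicit false

universe u

open Filter

namespace Groth.Agent.Helper19.UltraProdVal

variable {I : Type u} (𝒰 : Ultrafilter I) {κ : Type u} [Field κ] (R : I → ValuationSubring κ)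

/-- the ultrapower of `κ`. -/
abbrev KK : Type u := Germ (𝒰 : Filter I) κ

/-- the ultraproduct of the valuation subrings `R i`. -/
def ultra : ValuationSubring (KK 𝒰 (κ := κ)) where
  carrier := {x | ∃ φ : I → κ, ((φ : I → κ) : KK 𝒰) = x ∧ ∀ᶠ i in (𝒰 : Filter I), φ i ∈ R i}
  mul_mem' := by
    rintro _ _ ⟨φ, rfl, hφ⟩ ⟨ψ, rfl, hψ⟩
    refine ⟨φ * ψ, rfl, ?_⟩
    filter_upwards [hφ, hψ] with i hi hi'
    exact mul_mem hi hi'
  one_mem' := ⟨1, rfl, Eventually.of_forall fun i => one_mem _⟩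
  add_mem' := by
    rintro _ _ ⟨φ, rfl, hφ⟩ ⟨ψ, rfl, hψ⟩
    refine ⟨φ + ψ, rfl, ?_⟩
    filter_upwards [hφ, hψ] with i hi hi'
    exact add_mem hi hi'
  zero_mem' := ⟨0, rfl, Eventually.of_forall fun i => zero_mem _⟩
  neg_mem' := by
    rintro _ ⟨φ, rfl, hφ⟩
    refine ⟨-φ, rfl, ?_⟩
    filter_upwards [hφ] with i hi
    exact neg_mem hi
  mem_or_inv_mem' := by
    intro x
    induction x using Germ.inductionOn with
    | _ φ =>
      by_cases h : ∀ᶠ i in (𝒰 : Filter I), φ i ∈ R i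
      · exact Or.inl ⟨φ, rfl, h⟩
      · right
        have h' : ∀ᶠ i in (𝒰 : Filter I), ¬ φ i ∈ R i := Ultrafilter.eventually_not.mpr h
        refine ⟨φ⁻¹, rfl, ?_⟩
        filter_upwards [h'] with i hi
        exact ((R i).mem_or_inv_mem (φ i)).resolve_left hi

variable {𝒰 R}

theorem coe_mem_ultra_iff (φ : I → κ) :
    ((φ : I → κ) : KK 𝒰) ∈ ultra 𝒰 R ↔ ∀ᶠ i in (𝒰 : Filter I), φ i ∈ R i := by
  constructor
  · rintro ⟨ψ, hψ, h⟩
    have h1 : ψ =ᶠ[(𝒰 : Filter I)] φ := Germ.coe_eq.mp hψ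
    filter_upwards [h1, h] with i hi hi'
    rw [← hi]
    exact hi'
  · intro h
    exact ⟨φ, rfl, h⟩

variable (𝒰)

/-- the diagonal embedding of `κ` into its ultrapower. -/
def diag : κ →+* KK 𝒰 (κ := κ) where
  toFun c := ((fun _ => c : I → κ) : KK 𝒰)
  map_one' := rfl
  map_mul' _ _ := rfl
  map_zero' := rfl
  map_add' _ _ := rfl

variable {𝒰}

theorem diag_mem_ultra_iff (c : κ) :
    diag 𝒰 c ∈ ultra 𝒰 R ↔ ∀ᶠ i in (𝒰 : Filter I), c ∈ R i :=
  coe_mem_ultra_iff (fun _ => c)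

end Groth.Agent.Helper19.UltraProdVal
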