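import Mathlib
import Groth.Agent.Lib.Helper19.ValuativeClosed
import Groth.Agent.Lib.Helper19.UltraProdVal

/-!
# The valuative criterion and quasi-compactness (helper19)

Pure Mathlib. Namespace `Groth.Agent.Helper19.QCVal`.

A morphism locally of finite type which satisfies the valuative criterion (existence and
uniqueness) and whose source has finitely many irreducible components is quasi-compact.
The proof takes an ultrafilter on `f ⁻¹ V`, forms the ultraproduct of valuation rings centred at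
the points, lifts it, and uses uniqueness to see that the ultrafilter converges.
-/

set_option autoImplicit false

universe u

open AlgebraicGeometry CategoryTheory TopologicalSpace Opposite Topology Limits Filter

namespace Groth.Agent.Helper19.QCVal

open ValClosed UltraProdVal

section Center

variable {X : Scheme.{u}}

/-- a specialization `η ⤳ x` is realized by a valuation subring of `κ(η)` centred at `x`. -/
theorem exists_valuationSubring_of_specializes {η x : X} (h : η ⤳ x) :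
    ∃ (A : ValuationSubring (X.residueField η)) (j : Spec (.of A) ⟶ X),
      Spec.map (CommRingCat.ofHom (algebraMap A (X.residueField η))) ≫ j =
        X.fromSpecResidueField η ∧ j (IsLocalRing.closedPoint A) = x := by
  let ψ : X.presheaf.stalk x ⟶ X.residueField η := X.presheaf.stalkSpecializes h ≫ X.residue η
  obtain ⟨A, hA, hA_local⟩ := IsLocalRing.exists_factor_valuationRing ψ.hom
  let ψA : X.presheaf.stalk x ⟶ .of A := CommRingCat.ofHom (ψ.hom.codRestrict _ hA)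
  refine ⟨A, Spec.map ψA ≫ X.fromSpecStalk x, ?_, ?_⟩
  · rw [Scheme.fromSpecResidueField, ← Scheme.SpecMap_stalkSpecializes_fromSpecStalk h]
    simp_rw [← Spec.map_comp_assoc]
    rfl
  · have h1 : Spec.map ψA (IsLocalRing.closedPoint A) =
        IsLocalRing.closedPoint (X.presheaf.stalk x) :=
      IsLocalRing.comap_closedPoint (S := A) (ψ.hom.codRestrict A.toSubring hA)
    change X.fromSpecStalk x (Spec.map ψA (IsLocalRing.closedPoint A)) = x
    rw [h1, X.fromSpecStalk_closedPoint]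

end Center

section Main

variable {X Y : Scheme.{u}} (f : X ⟶ Y)

/-- the ultraproduct argument. -/
theorem exists_le_nhds_of_valuativeCriterion [LocallyOfFiniteType f]
    (hf : ValuativeCriterion f) (V : Y.Opens) (hV : IsAffineOpen V)
    (𝒰 : Ultrafilter X) (T : Set X) (hT𝒰 : T ∈ 𝒰) (hTV : T ⊆ ((f ⁻¹ᵁ V : X.Opens) : Set X))
    {κ : Type u} [Field κ] (e : Spec (.of κ) ⟶ X)
    (hg₀V : (⊤ : (Spec (.of κ)).Opens) ≤ (e ≫ f) ⁻¹ᵁ V)
    (R : X → ValuationSubring κ)
    (hR : ∀ x ∈ T, ∃ j : Spec (.of (R x)) ⟶ X,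
      Spec.map (CommRingCat.ofHom (algebraMap (R x) κ)) ≫ j = e ∧
        j (IsLocalRing.closedPoint (R x)) = x)
    {K' : Type u} [Field K'] (d : κ →+* K') (Rs : ValuationSubring K')
    (hRs : ∀ c : κ, d c ∈ Rs ↔ ∀ᶠ x in (𝒰 : Filter X), c ∈ R x) :
    ∃ x₀ ∈ ((f ⁻¹ᵁ V : X.Opens) : Set X), (𝒰 : Filter X) ≤ 𝓝 x₀ := by
  classical
  -- the function field point of `Y`
  obtain ⟨g₀, hg₀⟩ : ∃ g₀ : Spec (.of κ) ⟶ Y, g₀ = e ≫ f := ⟨_, rfl⟩
  rw [← hg₀] at hg₀V
  set ρ : Γ(Y, V) ⟶ .of κ :=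
    g₀.appLE V ⊤ hg₀V ≫ (Scheme.ΓSpecIso (.of κ)).hom with hρ
  have hg₀eq : Spec.map ρ ≫ hV.fromSpec = g₀ := SpecMap_appLE_fromSpec_eq _ g₀ hV hg₀V
  -- the centred valuation rings map to `V`
  have hρj : ∀ x ∈ T, ∀ (j : Spec (.of (R x)) ⟶ X),
      Spec.map (CommRingCat.ofHom (algebraMap (R x) κ)) ≫ j = e →
        j (IsLocalRing.closedPoint (R x)) = x →
      ∃ hjV : (⊤ : (Spec (.of (R x))).Opens) ≤ (j ≫ f) ⁻¹ᵁ V,
        ρ = (j ≫ f).appLE V ⊤ hjV ≫ (Scheme.ΓSpecIso (.of (R x))).hom ≫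
          CommRingCat.ofHom (algebraMap (R x) κ) := by
    intro x hx j hj1 hj2
    have hjV : (⊤ : (Spec (.of (R x))).Opens) ≤ (j ≫ f) ⁻¹ᵁ V := by
      have h1 : IsLocalRing.closedPoint (R x) ∈ (j ≫ f) ⁻¹ᵁ V := by
        change f (j (IsLocalRing.closedPoint (R x))) ∈ V
        rw [hj2]
        exact hTV hx
      exact ((IsLocalRing.closedPoint_mem_iff ((j ≫ f) ⁻¹ᵁ V)).mp h1).ge
    refine ⟨hjV, ?_⟩
    have h3 : Spec.map (CommRingCat.ofHom (algebraMap (R x) κ)) ≫ (j ≫ f) = g₀ := by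
      rw [← Category.assoc, hj1, hg₀]
    have h3' : (⊤ : (Spec (.of κ)).Opens) ≤
        (Spec.map (CommRingCat.ofHom (algebraMap (R x) κ)) ≫ (j ≫ f)) ⁻¹ᵁ V := by
      rw [h3]
      exact hg₀V
    have h2 := SpecMap_comp_appLE (CommRingCat.ofHom (algebraMap (R x) κ)) (j ≫ f) V hjV h3'
    rw [appLE_congr h3] at h2
    exact h2
  have hρR : ∀ x ∈ T, ∀ c : Γ(Y, V), ρ c ∈ R x := by
    intro x hx c
    obtain ⟨j, hj1, hj2⟩ := hR x hx
    obtain ⟨hjV, h2⟩ := hρj x hx j hj1 hj2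
    have h4 : ρ c = algebraMap (R x) κ
        (((j ≫ f).appLE V ⊤ hjV ≫ (Scheme.ΓSpecIso (.of (R x))).hom) c) :=
      congrArg (fun m => m.hom c) h2
    rw [h4]
    exact SetLike.coe_mem _
  -- the ultraproduct valuation ring and the valuative square
  have hρs : ∀ c : Γ(Y, V), ((d).comp ρ.hom) c ∈ Rs := fun c =>
    (hRs (ρ c)).mpr (by filter_upwards [hT𝒰] with x hx using hρR x hx c)
  set ρs : Γ(Y, V) →+* Rs := ((d).comp ρ.hom).codRestrict (Rs) hρs with hρsdef
  obtain ⟨i₁, hi₁⟩ : ∃ i₁ : Spec (.of (K')) ⟶ X,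
      i₁ = Spec.map (CommRingCat.ofHom (d)) ≫ e := ⟨_, rfl⟩
  obtain ⟨i₂, hi₂⟩ : ∃ i₂ : Spec (.of (Rs)) ⟶ Y,
      i₂ = Spec.map (CommRingCat.ofHom ρs) ≫ hV.fromSpec := ⟨_, rfl⟩
  have w : i₁ ≫ f = Spec.map (CommRingCat.ofHom
      (algebraMap (Rs) (K'))) ≫ i₂ := by
    rw [hi₁, hi₂, Category.assoc, ← hg₀, ← hg₀eq, ← Category.assoc, ← Spec.map_comp,
      ← Category.assoc, ← Spec.map_comp]
    rfl
  obtain ⟨l, hl1, hl2⟩ : ∃ l : Spec (.of (Rs)) ⟶ X,
      Spec.map (CommRingCat.ofHom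
        (algebraMap (Rs) (K'))) ≫ l = i₁ ∧ l ≫ f = i₂ := by
    obtain ⟨l, hl1, hl2⟩ := ((ValuativeCriterion.iff.mp hf).1
      { R := Rs, K := K', i₁ := i₁, i₂ := i₂,
        commSq := ⟨w⟩ }).exists_lift
    exact ⟨l, hl1, hl2⟩
  -- the limit point
  set x₀ : X := l (IsLocalRing.closedPoint (Rs)) with hx₀
  have hx₀V : x₀ ∈ f ⁻¹ᵁ V := by
    have h1 : f x₀ = i₂ (IsLocalRing.closedPoint (Rs)) := by
      rw [← hl2]
      rfl
    change f x₀ ∈ V
    rw [h1, hi₂]
    exact top_le_preimage_SpecMap_fromSpec hV _ (Opens.mem_top _)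
  refine ⟨x₀, hx₀V, ?_⟩
  rw [le_nhds_iff]
  intro O hxO hO
  obtain ⟨_, ⟨W, hW, rfl⟩, hxW, hWO⟩ := X.isBasis_affineOpens.exists_subset_of_mem_open
    (show x₀ ∈ O ∩ ((f ⁻¹ᵁ V : X.Opens) : Set X) from ⟨hxO, hx₀V⟩) (hO.inter (f ⁻¹ᵁ V).isOpen)
  refine mem_of_superset ?_ (hWO.trans Set.inter_subset_left)
  have hWV : W ≤ f ⁻¹ᵁ V := fun z hz => (hWO hz).2
  have hlW : (⊤ : (Spec (.of (Rs))).Opens) ≤ l ⁻¹ᵁ W :=
    ((IsLocalRing.closedPoint_mem_iff (l ⁻¹ᵁ W)).mp hxW).ge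
  have hi₁W' : (⊤ : (Spec (.of (K'))).Opens) ≤
      (Spec.map (CommRingCat.ofHom
        (algebraMap (Rs) (K'))) ≫ l) ⁻¹ᵁ W := by
    intro z _
    exact hlW (Opens.mem_top _)
  have hi₁W : (⊤ : (Spec (.of (K'))).Opens) ≤ i₁ ⁻¹ᵁ W := by
    rw [← hl1]
    exact hi₁W'
  have hevW : (⊤ : (Spec (.of κ)).Opens) ≤ e ⁻¹ᵁ W := by
    intro z _
    have h1 : i₁ default ∈ W := hi₁W (Opens.mem_top _)
    rw [hi₁, Scheme.Hom.comp_apply] at h1
    rw [Subsingleton.elim z (Spec.map (CommRingCat.ofHom (d)) default)]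
    exact h1
  set ev : Γ(X, W) ⟶ .of κ :=
    e.appLE W ⊤ hevW ≫ (Scheme.ΓSpecIso (.of κ)).hom with hev
  set β : Γ(X, W) ⟶ .of (Rs) :=
    l.appLE W ⊤ hlW ≫ (Scheme.ΓSpecIso (.of (Rs))).hom with hβdef
  have hβ : ∀ b, d (ev b) = ((β b : Rs) : K') := by
    intro b
    have h1 : i₁.appLE W ⊤ hi₁W ≫ (Scheme.ΓSpecIso (.of (K'))).hom =
        β ≫ CommRingCat.ofHom (algebraMap (Rs) (K')) := by
      have := SpecMap_comp_appLE (CommRingCat.ofHom
        (algebraMap (Rs) (K'))) l W hlW hi₁W'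
      rw [appLE_congr hl1] at this
      exact this
    have hcomp : (⊤ : (Spec (.of (K'))).Opens) ≤
        (Spec.map (CommRingCat.ofHom (d)) ≫ e) ⁻¹ᵁ W := by
      intro z _
      exact hevW (Opens.mem_top _)
    have h2 : i₁.appLE W ⊤ hi₁W ≫ (Scheme.ΓSpecIso (.of (K'))).hom =
        ev ≫ CommRingCat.ofHom (d) := by
      have := SpecMap_comp_appLE (CommRingCat.ofHom (d)) e W hevW hcomp
      rw [appLE_congr hi₁.symm] at this
      exact this
    have h4 := h2.symm.trans h1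
    exact congrArg (fun m => m.hom b) h4
  have hevR : ∀ b, ∀ᶠ x in (𝒰 : Filter X), ev b ∈ R x := fun b =>
    (hRs (ev b)).mp (by rw [hβ b]; exact (β b).2)
  -- finite type
  have hft : (f.appLE V W hWV).hom.FiniteType := f.finiteType_appLE hV hW hWV
  have hevρ : f.appLE V W hWV ≫ ev = ρ := by
    rw [hev, hρ, ← Category.assoc, Scheme.Hom.appLE_comp_appLE, appLE_congr hg₀]
  let alg : Algebra Γ(Y, V) Γ(X, W) := (f.appLE V W hWV).hom.toAlgebra
  obtain ⟨G, hG⟩ := hft.out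
  have hgood : ∀ᶠ x in (𝒰 : Filter X), x ∈ T ∧ ∀ b ∈ G, ev b ∈ R x := by
    have h1 : ∀ᶠ x in (𝒰 : Filter X), ∀ b ∈ G, ev b ∈ R x :=
      (Filter.eventually_all_finset G).mpr fun b _ => hevR b
    filter_upwards [hT𝒰, h1] with x hx hx' using ⟨hx, hx'⟩
  filter_upwards [hgood] with x hxg
  obtain ⟨hxT, hxG⟩ := hxg
  have hall : ∀ b : Γ(X, W), ev b ∈ R x := by
    intro b
    have hb : b ∈ Algebra.adjoin Γ(Y, V) (G : Set Γ(X, W)) := by
      rw [hG]
      trivial
    induction hb using Algebra.adjoin_induction with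
    | mem b hb => exact hxG b hb
    | algebraMap c =>
      have h1 : ev (algebraMap Γ(Y, V) Γ(X, W) c) = ρ c := congrArg (fun m => m.hom c) hevρ
      rw [h1]
      exact hρR x hxT c
    | add a b _ _ ha hb =>
      rw [map_add]
      exact add_mem ha hb
    | mul a b _ _ ha hb =>
      rw [map_mul]
      exact mul_mem ha hb
  set βx : Γ(X, W) →+* R x := ev.hom.codRestrict (R x) hall with hβx
  obtain ⟨j, hj1, hj2⟩ := hR x hxT
  obtain ⟨j', hj'⟩ : ∃ j' : Spec (.of (R x)) ⟶ X,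
      j' = Spec.map (CommRingCat.ofHom βx) ≫ hW.fromSpec := ⟨_, rfl⟩
  have hj'1 : Spec.map (CommRingCat.ofHom (algebraMap (R x) κ)) ≫ j' = e := by
    rw [hj', ← Category.assoc, ← Spec.map_comp]
    have h1 : CommRingCat.ofHom βx ≫ CommRingCat.ofHom (algebraMap (R x) κ) = ev := rfl
    rw [h1]
    exact SpecMap_appLE_fromSpec_eq _ _ hW hevW
  obtain ⟨hjV, hρjx⟩ := hρj x hxT j hj1 hj2
  have hj'2 : j' ≫ f = j ≫ f := by
    have e1 : j ≫ f = Spec.map ((j ≫ f).appLE V ⊤ hjV ≫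
        (Scheme.ΓSpecIso (.of (R x))).hom) ≫ hV.fromSpec :=
      (SpecMap_appLE_fromSpec_eq _ (j ≫ f) hV hjV).symm
    have e2 : j' ≫ f = Spec.map (f.appLE V W hWV ≫ CommRingCat.ofHom βx) ≫ hV.fromSpec := by
      rw [hj', Category.assoc, ← IsAffineOpen.SpecMap_appLE_fromSpec f hV hW hWV,
        ← Category.assoc, ← Spec.map_comp]
    rw [e1, e2]
    congr 2
    ext c
    have h1 : ((f.appLE V W hWV ≫ CommRingCat.ofHom βx) c : κ) = ρ c :=
      congrArg (fun m => m.hom c) hevρ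
    have h2 : ρ c = algebraMap (R x) κ
        (((j ≫ f).appLE V ⊤ hjV ≫ (Scheme.ΓSpecIso (.of (R x))).hom) c) :=
      congrArg (fun m => m.hom c) hρjx
    exact h1.trans h2
  -- uniqueness of the lift
  have huniq := (ValuativeCriterion.iff.mp hf).2
    { R := R x, K := κ, i₁ := e, i₂ := j ≫ f,
      commSq := ⟨by rw [← Category.assoc, hj1]⟩ }
  have hjj' : j = j' :=
    congrArg CommSq.LiftStruct.l (huniq.elim ⟨j, hj1, rfl⟩ ⟨j', hj'1, hj'2⟩)
  have hxW' : j' (IsLocalRing.closedPoint (R x)) ∈ W := by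
    rw [hj']
    exact top_le_preimage_SpecMap_fromSpec hW _ (Opens.mem_top _)
  rw [← hjj', hj2] at hxW'
  exact hxW'

set_option backward.isDefEq.respectTransparency.types false in
/-- the key statement: the preimage of an affine open is quasi-compact. -/
theorem isCompact_preimage_of_valuativeCriterion [LocallyOfFiniteType f]
    (hf : ValuativeCriterion f) (hX : (irreducibleComponents ↥X).Finite)
    (V : Y.Opens) (hV : IsAffineOpen V) : IsCompact ((f ⁻¹ᵁ V : X.Opens) : Set X) := by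
  classical
  rw [isCompact_iff_ultrafilter_le_nhds']
  intro 𝒰 h𝒰
  -- an irreducible component which is large for the ultrafilter
  obtain ⟨Z, hZ, hZ𝒰⟩ : ∃ Z ∈ irreducibleComponents ↥X, Z ∈ 𝒰 := by
    have h1 : ⋃₀ irreducibleComponents ↥X ∈ 𝒰 := by
      rw [sUnion_irreducibleComponents]
      exact univ_mem
    exact (Ultrafilter.finite_sUnion_mem_iff hX).mp h1
  have hZc : IsClosed Z := isClosed_of_mem_irreducibleComponents Z hZ
  have hZi : IsIrreducible Z := hZ.1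
  obtain ⟨η, hη⟩ := QuasiSober.sober hZi hZc
  have hspec : ∀ x ∈ Z, η ⤳ x := fun x hx => hη.specializes hx
  set T : Set X := Z ∩ ((f ⁻¹ᵁ V : X.Opens) : Set X) with hT
  have hT𝒰 : T ∈ 𝒰 := inter_mem hZ𝒰 h𝒰
  obtain ⟨x₁, hx₁⟩ : T.Nonempty := Ultrafilter.nonempty_of_mem hT𝒰
  have hηV : η ∈ f ⁻¹ᵁ V := (hspec x₁ hx₁.1).mem_open (f ⁻¹ᵁ V).isOpen hx₁.2
  -- valuation rings centred at the points
  have hex : ∀ x : X, ∃ A : ValuationSubring (X.residueField η), η ⤳ x →
      ∃ j : Spec (.of A) ⟶ X,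
        Spec.map (CommRingCat.ofHom (algebraMap A (X.residueField η))) ≫ j =
          X.fromSpecResidueField η ∧ j (IsLocalRing.closedPoint A) = x := by
    intro x
    by_cases h : η ⤳ x
    · obtain ⟨A, j, h1, h2⟩ := exists_valuationSubring_of_specializes h
      exact ⟨A, fun _ => ⟨j, h1, h2⟩⟩
    · exact ⟨⊤, fun h' => absurd h' h⟩
  choose R hR using hex
  have hg₀V : (⊤ : (Spec (X.residueField η)).Opens) ≤ (X.fromSpecResidueField η ≫ f) ⁻¹ᵁ V := by
    intro z _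
    change f (X.fromSpecResidueField η z) ∈ V
    rw [Scheme.fromSpecResidueField_apply]
    exact hηV
  exact exists_le_nhds_of_valuativeCriterion f hf V hV 𝒰 T hT𝒰 Set.inter_subset_right
    (κ := X.residueField η) (X.fromSpecResidueField η) hg₀V R
    (fun x hx => hR x (hspec x hx.1)) (diag 𝒰) (ultra 𝒰 R) (fun c => diag_mem_ultra_iff c)

/-- a morphism locally of finite type which satisfies the valuative criterion and whose source has
finitely many irreducible components is quasi-compact. -/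
theorem quasiCompact_of_valuativeCriterion [LocallyOfFiniteType f]
    (hf : ValuativeCriterion f) (hX : (irreducibleComponents ↥X).Finite) : QuasiCompact f := by
  rw [quasiCompact_iff_forall_isAffineOpen]
  exact fun V hV => isCompact_preimage_of_valuativeCriterion f hf hX V hV

end Main

end Groth.Agent.Helper19.QCVal
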