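import Mathlib.CategoryTheory.Limits.Types.Limits
import Mathlib.CategoryTheory.Limits.ConcreteCategory.Basic
import Mathlib.Algebra.Category.Ring.Limits

/-!
# Sequential limits of surjections: every projection is surjective
-/

universe u

open CategoryTheory CategoryTheory.Limits Opposite

namespace Groth.Agent.Helper19.SeqLimSurj

variable {F : ℕᵒᵖ ⥤ Type u}
  (hF : ∀ n, Function.Surjective (F.map (homOfLE (Nat.le_succ n)).op))

/-- the chosen compatible lifts of `a : F (i)` to the levels `i + k` -/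
noncomputable def lift (i : ℕ) (a : F.obj ⟨i⟩) : (k : ℕ) → F.obj ⟨i + k⟩
  | 0 => a
  | k + 1 => (hF (i + k) (lift i a k)).choose

theorem lift_succ (i : ℕ) (a : F.obj ⟨i⟩) (k : ℕ) :
    F.map (homOfLE (Nat.le_succ (i + k))).op (lift hF i a (k + 1)) = lift hF i a k :=
  (hF (i + k) (lift hF i a k)).choose_spec

theorem lift_compat (i : ℕ) (a : F.obj ⟨i⟩) (m : ℕ) : ∀ (k : ℕ) (h : i + m ≤ i + (m + k)),
    F.map (homOfLE h).op (lift hF i a (m + k)) = lift hF i a m := by
  intro k
  induction k with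
  | zero =>
    intro h
    have : (homOfLE h).op = 𝟙 (op (i + m) : ℕᵒᵖ) := Subsingleton.elim _ _
    rw [this]
    exact Functor.map_id_apply F (op (i + m)) (lift hF i a m)
  | succ k ih =>
    intro h
    have h1 : i + m ≤ i + (m + k) := by omega
    have : (homOfLE h).op = (homOfLE (Nat.le_succ (i + (m + k)))).op ≫ (homOfLE h1).op :=
      Subsingleton.elim _ _
    rw [this, Functor.map_comp_apply]
    show F.map (homOfLE h1).op (F.map (homOfLE (Nat.le_succ (i + (m + k)))).op
      (lift hF i a (m + k + 1))) = _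
    rw [lift_succ hF i a (m + k)]
    exact ih h1

theorem lift_compat' (i : ℕ) (a : F.obj ⟨i⟩) (m n : ℕ) (hmn : m ≤ n) (h : i + m ≤ i + n) :
    F.map (homOfLE h).op (lift hF i a n) = lift hF i a m := by
  obtain ⟨k, rfl⟩ := Nat.exists_eq_add_of_le hmn
  exact lift_compat hF i a m k h

include hF in
/-- Given surjections `⋯ ⟶ Xₙ₊₁ ⟶ Xₙ ⟶ ⋯ ⟶ X₀` of types, every projection `lim Xₙ ⟶ Xᵢ` is surjective. -/
theorem surjective_π_app_type {c : Cone F} (hc : IsLimit c) (i : ℕ) :
    Function.Surjective (c.π.app ⟨i⟩) := by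
  intro a
  let x : ∀ j : ℕᵒᵖ, F.obj j := fun j =>
    F.map (homOfLE (Nat.le_add_left j.unop i)).op (lift hF i a j.unop)
  have hx : x ∈ F.sections := by
    intro j j' f
    have hle : j'.unop ≤ j.unop := leOfHom f.unop
    show F.map f (F.map (homOfLE (Nat.le_add_left j.unop i)).op (lift hF i a j.unop)) =
      F.map (homOfLE (Nat.le_add_left j'.unop i)).op (lift hF i a j'.unop)
    have h2 : i + j'.unop ≤ i + j.unop := by omega
    rw [← lift_compat' hF i a j'.unop j.unop hle h2]
    rw [← Functor.map_comp_apply, ← Functor.map_comp_apply]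
    congr 1
  refine ⟨(Types.isLimitEquivSections hc).symm ⟨x, hx⟩, ?_⟩
  rw [Types.isLimitEquivSections_symm_apply]
  show F.map (homOfLE (Nat.le_add_left i i)).op (lift hF i a i) = a
  have h3 : i + 0 ≤ i + i := by omega
  exact lift_compat' hF i a 0 i (Nat.zero_le i) h3

/-- Given surjections `⋯ ⟶ Rₙ₊₁ ⟶ Rₙ ⟶ ⋯ ⟶ R₀` of commutative rings, every projection `lim Rₙ ⟶ Rᵢ`
is surjective. -/
theorem surjective_π_app_commRing {G : ℕᵒᵖ ⥤ CommRingCat.{u}} {c : Cone G} (hc : IsLimit c)
    (hG : ∀ n, Function.Surjective (G.map (homOfLE (Nat.le_succ n)).op)) (i : ℕ) :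
    Function.Surjective (c.π.app ⟨i⟩) :=
  surjective_π_app_type (F := G ⋙ forget CommRingCat) hG
    (isLimitOfPreserves (forget CommRingCat) hc) i

end Groth.Agent.Helper19.SeqLimSurj
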